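import Cfsg.Agent.StdSpSix.TR

/-!
# The transfer lemma (TR), counting form

`#Bad * |H| = #{d ∈ H : d ~ t, l d = -1} * |C_G(t)|`, for an arbitrary subgroup `H`.
-/

set_option autoImplicit false

namespace Cfsg.Agent.StdSpSix.TRCount

open Subgroup Cfsg.Agent.StdSpSix.TR

/-- A map with constant fibres. -/
theorem card_of_fibres {α β : Type*} [Finite α] [Finite β] (f : α → β) (k : ℕ)
    (hf : ∀ b : β, Nat.card {x : α // f x = b} = k) : Nat.card α = Nat.card β * k := by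
  classical
  let _ := Fintype.ofFinite β
  rw [← Nat.card_congr (Equiv.sigmaFiberEquiv f), Nat.card_sigma]
  rw [Finset.sum_congr rfl (fun b _ => hf b), Finset.sum_const, Finset.card_univ, smul_eq_mul,
    Nat.card_eq_fintype_card]

variable {G : Type*} [Group G] {H : Subgroup G}

/-- The elements conjugating `t` into the elements of `H` with sign `-1`. -/
def Mov (l : H →* ℤˣ) (t : G) (g : G) : Prop :=
  ∃ h : g⁻¹ * t * g ∈ H, l ⟨g⁻¹ * t * g, h⟩ = -1

/-- The conjugates of `t` in `H` with sign `-1`. -/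
def Neg (l : H →* ℤˣ) (t : G) (d : G) : Prop :=
  IsConj t d ∧ ∃ h : d ∈ H, l ⟨d, h⟩ = -1

theorem Mov.mul (l : H →* ℤˣ) {t g k : G} (hg : Mov l t g) (hk : k ∈ H) : Mov l t (g * k) := by
  obtain ⟨h, hl⟩ := hg
  have e : (g * k)⁻¹ * t * (g * k) = k⁻¹ * (g⁻¹ * t * g) * k := by group
  have h' : (g * k)⁻¹ * t * (g * k) ∈ H := by
    rw [e]; exact H.mul_mem (H.mul_mem (H.inv_mem hk) h) hk
  refine ⟨h', ?_⟩
  have e2 : (⟨(g * k)⁻¹ * t * (g * k), h'⟩ : H) = (⟨k, hk⟩ : H)⁻¹ * ⟨g⁻¹ * t * g, h⟩ * ⟨k, hk⟩ :=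
    Subtype.ext e
  rw [e2, map_mul, map_mul, hl, map_inv, mul_comm, ← mul_assoc, mul_inv_cancel, one_mul]

theorem bad_iff_mov (l : H →* ℤˣ) {t g : G} : Bad l t (g : G ⧸ H) ↔ Mov l t g := by
  constructor
  · rintro ⟨g', hg', h⟩
    have h1 : g'⁻¹ * g ∈ H := QuotientGroup.eq.1 hg'
    have h2 := Mov.mul l (g := g') h h1
    rwa [mul_inv_cancel_left] at h2
  · intro h
    exact ⟨g, rfl, h⟩

variable [Finite G]

theorem card_mov_left (l : H →* ℤˣ) (t : G) :
    Nat.card {g : G // Mov l t g} = Nat.card {q : G ⧸ H // Bad l t q} * Nat.card H := by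
  refine card_of_fibres (fun g : {g : G // Mov l t g} =>
    (⟨((g : G) : G ⧸ H), (bad_iff_mov l).2 g.2⟩ : {q : G ⧸ H // Bad l t q})) _ ?_
  rintro ⟨q, hq⟩
  obtain ⟨g, rfl⟩ := QuotientGroup.mk_surjective q
  have hg := (bad_iff_mov l).1 hq
  symm
  refine Nat.card_congr (Equiv.ofBijective (fun k : H =>
    ⟨⟨g * k, Mov.mul l hg k.2⟩, Subtype.ext ?_⟩) ⟨?_, ?_⟩)
  · change ((g * (k : G) : G) : G ⧸ H) = (g : G ⧸ H)
    rw [eq_comm, QuotientGroup.eq, inv_mul_cancel_left]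
    exact k.2
  · intro k1 k2 h
    have : g * (k1 : G) = g * k2 := congrArg (fun x => ((x.1 : {g : G // Mov l t g}) : G)) h
    exact Subtype.ext (mul_left_cancel this)
  · rintro ⟨⟨x, hx⟩, h⟩
    have h1 : (x : G ⧸ H) = (g : G ⧸ H) := congrArg Subtype.val h
    have h2 : g⁻¹ * x ∈ H := QuotientGroup.eq.1 h1.symm
    refine ⟨⟨g⁻¹ * x, h2⟩, ?_⟩
    apply Subtype.ext
    apply Subtype.ext
    exact mul_inv_cancel_left g x

theorem card_mov_right (l : H →* ℤˣ) (t : G) :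
    Nat.card {g : G // Mov l t g} =
      Nat.card {d : G // Neg l t d} * Nat.card (centralizer ({t} : Set G)) := by
  refine card_of_fibres (fun g : {g : G // Mov l t g} =>
    (⟨(g : G)⁻¹ * t * g, ?_, g.2⟩ : {d : G // Neg l t d})) _ ?_
  · rw [isConj_iff]
    exact ⟨(g : G)⁻¹, by rw [inv_inv]⟩
  rintro ⟨d, hd⟩
  obtain ⟨h1, h2⟩ := hd
  obtain ⟨c, hc⟩ := isConj_iff.1 h1
  have key : ∀ x : G, x * t = t * x → (x * c⁻¹)⁻¹ * t * (x * c⁻¹) = d := by
    intro x hx
    rw [← hc]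
    calc (x * c⁻¹)⁻¹ * t * (x * c⁻¹) = c * (x⁻¹ * (t * x)) * c⁻¹ := by group
      _ = c * t * c⁻¹ := by rw [← hx, inv_mul_cancel_left]
  symm
  refine Nat.card_congr (Equiv.ofBijective (fun x : centralizer ({t} : Set G) =>
    ⟨⟨(x : G) * c⁻¹, ?_⟩, Subtype.ext ?_⟩) ⟨?_, ?_⟩)
  · have := key x (mem_centralizer_singleton_iff.1 x.2)
    obtain ⟨h, hl⟩ := h2
    refine ⟨by rw [this]; exact h, ?_⟩
    rw [← hl]
    congr 1
    exact Subtype.ext this
  · exact key x (mem_centralizer_singleton_iff.1 x.2)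
  · intro k1 k2 h
    have : (k1 : G) * c⁻¹ = k2 * c⁻¹ := congrArg (fun x => ((x.1 : {g : G // Mov l t g}) : G)) h
    exact Subtype.ext (mul_right_cancel this)
  · rintro ⟨⟨x, hx⟩, h⟩
    have h1 : x⁻¹ * t * x = d := congrArg Subtype.val h
    refine ⟨⟨x * c, ?_⟩, ?_⟩
    · rw [mem_centralizer_singleton_iff]
      have : t * x = x * d := by rw [← h1]; group
      calc x * c * t = x * (c * t * c⁻¹) * c := by group
        _ = t * (x * c) := by rw [hc, ← this]; group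
    · apply Subtype.ext
      apply Subtype.ext
      exact mul_inv_cancel_right x c

/-- (TR), counting form. -/
theorem card_bad (l : H →* ℤˣ) (t : G) :
    Nat.card {q : G ⧸ H // Bad l t q} * Nat.card H =
      Nat.card {d : G // Neg l t d} * Nat.card (centralizer ({t} : Set G)) := by
  rw [← card_mov_left, card_mov_right]

/-- If `#{d ∈ H : d ~ t, l d = -1} * |C_G(t)|` is an odd multiple of `|H|`, then `t` has sign `-1`
for some homomorphism to `ℤˣ`. -/
theorem exists_hom_of_count (l : H →* ℤˣ) {t : G} (ht : t * t = 1) {m : ℕ} (hm : Odd m)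
    (h : Nat.card {d : G // Neg l t d} * Nat.card (centralizer ({t} : Set G)) = m * Nat.card H) :
    ∃ f : G →* ℤˣ, f t = -1 := by
  apply exists_hom_of_odd l ht
  rw [← card_bad] at h
  have : 0 < Nat.card H := Nat.card_pos
  rw [Nat.eq_of_mul_eq_mul_right this h]
  exact hm

end Cfsg.Agent.StdSpSix.TRCount
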