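import Cfsg.Agent.StdSpSix.TR

/-!
# The level of `N_G(Q)`, `Q` elementary abelian of order `|A|²`

`C_G(t) = ⟨t⟩ × L`, `A ≤ L` elementary abelian of maximal order (one class), every involution of
`C_G(t)` outside `L` is conjugate to `t` and none in `L` is.  `Q ≥ A` is elementary abelian of order
`|A|²`, `t` normalises `Q` and `C_Q(t) = A`.  Then `X = N_G(Q) / C_G(Q)` has the same shape:
`C_X(t) = ⟨t⟩ × Y`, `Y = N_L(A) / A`, and a sign on `X` with value `-1` at `t` gives one on `G`.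
-/

set_option autoImplicit false

namespace Cfsg.Agent.StdSpSix.QLevel

open Subgroup

structure Data (G : Type*) [Group G] where
  t : G
  L : Subgroup G
  A : Subgroup G
  Q : Subgroup G
  tt : t * t = 1
  cent : ∀ g, Commute g t ↔ g ∈ L ∨ t * g ∈ L
  DL : ∀ g, g * t * g⁻¹ ∉ L
  all : ∀ l ∈ L, l * l = 1 → ∃ g, t * l = g * t * g⁻¹
  AL : A ≤ L
  cardA : 2 < Nat.card A
  sat : ∀ B : Subgroup G, B ≤ L → (∀ x ∈ B, x * x = 1) → Nat.card A ≤ Nat.card B →
    ∃ l ∈ L, ∀ x, x ∈ B ↔ l⁻¹ * x * l ∈ A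
  CA : ∀ l ∈ L, (∀ a ∈ A, l * a = a * l) → l ∈ A
  QQ : ∀ x ∈ Q, x * x = 1
  cardQ : Nat.card Q = Nat.card A * Nat.card A
  tQ : ∀ q ∈ Q, t * q * t ∈ Q
  AQ : A ≤ Q
  QA : ∀ q ∈ Q, q * t = t * q → q ∈ A
  odd : Odd ((normalizer (A : Set G)).relIndex L)
  lift : ∀ n ∈ L, (∀ a, a ∈ A ↔ n * a * n⁻¹ ∈ A) → n * n ∈ A → ∃ a ∈ A, (n * a) * (n * a) = 1

section Elem

variable {G : Type*} [Group G]

theorem inv_of_sq {x : G} (h : x * x = 1) : x⁻¹ = x := inv_eq_of_mul_eq_one_right h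

theorem comm_of_sq {Q : Subgroup G} (hQ : ∀ x ∈ Q, x * x = 1) {x y : G} (hx : x ∈ Q) (hy : y ∈ Q) :
    x * y = y * x := by
  have h1 := hQ _ (mul_mem hx hy)
  have h2 := inv_of_sq h1
  rw [mul_inv_rev, inv_of_sq (hQ x hx), inv_of_sq (hQ y hy)] at h2
  exact h2.symm

/-- `q ↦ (x q x) q` -/
def bra {Q : Subgroup G} (hQ : ∀ x ∈ Q, x * x = 1) {x : G} (xx : x * x = 1) (hx : ∀ q ∈ Q, x * q * x ∈ Q) :
    Q →* Q where
  toFun q := ⟨x * q * x * q, mul_mem (hx q q.2) q.2⟩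
  map_one' := Subtype.ext (by
    change x * 1 * x * 1 = 1
    rw [mul_one, mul_one, xx])
  map_mul' p q := Subtype.ext (by
    change x * (p * q) * x * (p * q) = x * p * x * p * (x * q * x * q)
    have h1 : (p : G) * (x * q * x) = x * q * x * p := comm_of_sq hQ p.2 (hx q q.2)
    calc x * ((p : G) * q) * x * (p * q) = (x * p * 1 * q * x) * p * q := by group
      _ = (x * p * (x * x) * q * x) * p * q := by rw [xx]
      _ = x * p * x * (x * q * x * p) * q := by group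
      _ = x * p * x * (p * (x * q * x)) * q := by rw [h1]
      _ = x * p * x * p * (x * q * x * q) := by group)

theorem bra_coe {Q : Subgroup G} (hQ : ∀ x ∈ Q, x * x = 1) {x : G} (xx : x * x = 1)
    (hx : ∀ q ∈ Q, x * q * x ∈ Q) (q : Q) : (bra hQ xx hx q : G) = x * q * x * q := rfl

theorem mem_inf_cent {Q : Subgroup G} {x q : G} : q ∈ Q ⊓ centralizer ({x} : Set G) ↔ q ∈ Q ∧ q * x = x * q := by
  rw [mem_inf, mem_centralizer_singleton_iff]

theorem bra_comm {Q : Subgroup G} (hQ : ∀ x ∈ Q, x * x = 1) {x : G} (xx : x * x = 1)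
    (hx : ∀ q ∈ Q, x * q * x ∈ Q) {q : G} (hq : q ∈ Q) : x * q * x * q * x = x * (x * q * x * q) := by
  have h1 : (x * q * x) * q = q * (x * q * x) := comm_of_sq hQ (hx q hq) hq
  calc x * q * x * q * x = x * (q * (x * q * x)) := by group
    _ = x * (x * q * x * q) := by rw [← h1]

theorem bra_ker {Q : Subgroup G} (hQ : ∀ x ∈ Q, x * x = 1) {x : G} (xx : x * x = 1)
    (hx : ∀ q ∈ Q, x * q * x ∈ Q) :
    (bra hQ xx hx).ker = (Q ⊓ centralizer ({x} : Set G)).subgroupOf Q := by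
  ext q
  rw [MonoidHom.mem_ker, mem_subgroupOf, mem_inf_cent]
  constructor
  · intro h
    have h1 : x * q * x * q = 1 := congrArg Subtype.val h
    refine ⟨q.2, ?_⟩
    have h2 : x * (q : G) * x = q := by
      have := mul_eq_one_iff_eq_inv.1 h1
      rw [this, inv_of_sq (hQ q q.2)]
    calc (q : G) * x = (x * x) * q * x := by rw [xx, one_mul]
      _ = x * (x * q * x) := by group
      _ = x * q := by rw [h2]
  · rintro ⟨-, h⟩
    apply Subtype.ext
    rw [bra_coe]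
    calc x * (q : G) * x * q = x * (q * x) * q := by group
      _ = (x * x) * (q * q) := by rw [h]; group
      _ = 1 := by rw [xx, hQ q q.2, one_mul]

theorem card_sub_eq {P Q : Subgroup G} (h : P ≤ Q) : Nat.card (P.subgroupOf Q) = Nat.card P :=
  Nat.card_congr (subgroupOfEquivOfLe h).toEquiv

/-- `|Q| ≤ |C_Q(x)|²`, with equality only if `x ^ Q = x C_Q(x)`. -/
theorem card_le_sq [Finite G] {Q : Subgroup G} (hQ : ∀ x ∈ Q, x * x = 1) {x : G} (xx : x * x = 1)
    (hx : ∀ q ∈ Q, x * q * x ∈ Q) :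
    Nat.card Q ≤ Nat.card (Q ⊓ centralizer ({x} : Set G) : Subgroup G) *
      Nat.card (Q ⊓ centralizer ({x} : Set G) : Subgroup G) ∧
    (Nat.card Q = Nat.card (Q ⊓ centralizer ({x} : Set G) : Subgroup G) *
      Nat.card (Q ⊓ centralizer ({x} : Set G) : Subgroup G) →
      ∀ b ∈ Q, b * x = x * b → ∃ q ∈ Q, q * x * q⁻¹ = x * b) := by
  set B : Subgroup G := Q ⊓ centralizer ({x} : Set G) with hB
  set f := bra hQ xx hx with hf
  have hBQ : B ≤ Q := inf_le_left
  have h1 : Nat.card f.range ≤ Nat.card B := by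
    refine Nat.card_le_card_of_injective (fun y : f.range => (⟨((y : Q) : G), ?_⟩ : B)) ?_
    · obtain ⟨y, q, rfl⟩ := y
      rw [hB, mem_inf_cent]
      exact ⟨(f q).2, bra_comm hQ xx hx q.2⟩
    · intro a b h
      have h' := congrArg (Subtype.val : B → G) h
      apply Subtype.ext
      apply Subtype.ext
      exact h'
  have h2 : Nat.card f.ker = Nat.card B := by
    rw [hf, bra_ker hQ xx hx]
    exact card_sub_eq hBQ
  have h3 : Nat.card f.ker * Nat.card f.range = Nat.card Q := by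
    rw [← index_ker, card_mul_index]
  constructor
  · rw [← h3, h2]
    exact Nat.mul_le_mul_left _ h1
  · intro h4 b hb hbx
    have hBpos : 0 < Nat.card B := Nat.card_pos
    have h5 : Nat.card f.range = Nat.card B := by
      rw [h2, h4] at h3
      exact Nat.eq_of_mul_eq_mul_left hBpos h3
    have h6 : f.range = B.subgroupOf Q := by
      apply eq_of_le_of_card_ge
      · rintro _ ⟨q, rfl⟩
        rw [mem_subgroupOf, hB, mem_inf_cent]
        exact ⟨(f q).2, bra_comm hQ xx hx q.2⟩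
      · rw [card_sub_eq hBQ, h5]
    have h7 : (⟨b, hb⟩ : Q) ∈ f.range := by
      rw [h6, mem_subgroupOf, hB, mem_inf_cent]
      exact ⟨hb, hbx⟩
    obtain ⟨q, hq⟩ := h7
    have h8 : x * q * x * q = b := congrArg Subtype.val hq
    refine ⟨q, q.2, ?_⟩
    rw [inv_of_sq (hQ q q.2), ← h8]
    calc (q : G) * x * q = (x * x) * (q * x * q) := by rw [xx, one_mul]
      _ = x * (x * q * x * q) := by group

/-- a subgroup of index at most two -/
theorem card_le_two_mul [Finite G] {P K : Subgroup G} (r : G) (h : ∀ x ∈ P, x ∉ K → r⁻¹ * x ∈ K) :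
    Nat.card P ≤ 2 * Nat.card K := by
  classical
  have h1 : Nat.card P ≤ Nat.card (K × Bool) := by
    refine Nat.card_le_card_of_injective
      (fun x : P => if hx : (x : G) ∈ K then ((⟨x, hx⟩, true) : K × Bool) else (⟨r⁻¹ * x, h x x.2 hx⟩, false)) ?_
    intro x y hxy
    dsimp only at hxy
    split_ifs at hxy with h1 h2 h2
    · apply Subtype.ext
      have := congrArg Prod.fst hxy
      have h3 := congrArg (Subtype.val : K → G) this
      exact h3
    · have := congrArg Prod.snd hxy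
      simp at this
    · have := congrArg Prod.snd hxy
      simp at this
    · apply Subtype.ext
      have := congrArg Prod.fst hxy
      have h3 := congrArg (Subtype.val : K → G) this
      exact mul_left_cancel h3
  rw [Nat.card_prod] at h1
  have h2 : Nat.card Bool = 2 := by simp
  rw [h2] at h1
  omega

end Elem

/-- The properties of `Q`. -/
structure Good {G : Type*} [Group G] (D : Data G) (Q : Subgroup G) : Prop where
  sq : ∀ x ∈ Q, x * x = 1
  card : Nat.card Q = Nat.card D.A * Nat.card D.A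
  inv : ∀ q ∈ Q, D.t * q * D.t ∈ Q
  le : D.A ≤ Q
  cent : ∀ q ∈ Q, q * D.t = D.t * q → q ∈ D.A

namespace Data

variable {G : Type*} [Group G] (D : Data G)

theorem good : Good D D.Q := ⟨D.QQ, D.cardQ, D.tQ, D.AQ, D.QA⟩

theorem t_inv : D.t⁻¹ = D.t := inv_of_sq D.tt

theorem tL : D.t ∉ D.L := by
  have := D.DL 1
  rwa [one_mul, inv_one, mul_one] at this

theorem Lt {l : G} (hl : l ∈ D.L) : l * D.t = D.t * l := (D.cent l).2 (Or.inl hl)

theorem At {a : G} (ha : a ∈ D.A) : a * D.t = D.t * a := D.Lt (D.AL ha)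

variable {D}

theorem _root_.Cfsg.Agent.StdSpSix.QLevel.Good.inf {Q : Subgroup G} (h : Good D Q) :
    Q ⊓ centralizer ({D.t} : Set G) = D.A := by
  ext q
  rw [mem_inf_cent]
  exact ⟨fun h1 => h.cent q h1.1 h1.2, fun h1 => ⟨h.le h1, D.At h1⟩⟩

theorem _root_.Cfsg.Agent.StdSpSix.QLevel.Good.onto [Finite G] {Q : Subgroup G} (h : Good D Q) {a : G} (ha : a ∈ D.A) :
    ∃ q ∈ Q, q * D.t * q⁻¹ = D.t * a := by
  have h1 := (card_le_sq h.sq D.tt h.inv).2
  rw [h.inf] at h1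
  exact h1 h.card a (h.le ha) (D.At ha)

/-- an element commuting with `t` and `A` -/
theorem mem_of_comm {g : G} (h1 : g * D.t = D.t * g) (h2 : ∀ a ∈ D.A, g * a = a * g) :
    g ∈ D.A ∨ D.t * g ∈ D.A := by
  rcases (D.cent g).1 h1 with h | h
  · exact Or.inl (D.CA g h h2)
  · refine Or.inr (D.CA _ h fun a ha => ?_)
    rw [mul_assoc, h2 a ha, ← mul_assoc, ← D.At ha, mul_assoc]

/-- `Q` is unique -/
theorem _root_.Cfsg.Agent.StdSpSix.QLevel.Good.le_of_good [Finite G] {Q P : Subgroup G} (hQ : Good D Q)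
    (hP : Good D P) : P ≤ Q := by
  -- every element of `P` is in `Q ∪ Q t`
  have key : ∀ r ∈ P, r ∈ Q ∨ ∃ q ∈ Q, r = q * D.t := by
    intro r hr
    have h1 : D.t * r * D.t * r ∈ D.A :=
      hP.cent _ (mul_mem (hP.inv r hr) hr) (bra_comm hP.sq D.tt hP.inv hr)
    obtain ⟨q, hq, h2⟩ := hQ.onto h1
    have hr2 : r⁻¹ = r := inv_of_sq (hP.sq r hr)
    have h3 : q * D.t * q⁻¹ = r * D.t * r⁻¹ := by
      rw [h2, hr2]
      calc D.t * (D.t * r * D.t * r) = (D.t * D.t) * (r * D.t * r) := by group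
        _ = r * D.t * r := by rw [D.tt, one_mul]
    have h4 : q⁻¹ * r * D.t = D.t * (q⁻¹ * r) := by
      calc q⁻¹ * r * D.t = q⁻¹ * (r * D.t * r⁻¹) * r := by group
        _ = q⁻¹ * (q * D.t * q⁻¹) * r := by rw [h3]
        _ = D.t * (q⁻¹ * r) := by group
    have h5 : ∀ a ∈ D.A, q⁻¹ * r * a = a * (q⁻¹ * r) := by
      intro a ha
      rw [mul_assoc, comm_of_sq hP.sq hr (hP.le ha), ← mul_assoc,
        comm_of_sq hQ.sq (inv_mem hq) (hQ.le ha), mul_assoc]
    rcases mem_of_comm h4 h5 with h | h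
    · left
      have := mul_mem hq (hQ.le h)
      rwa [mul_inv_cancel_left] at this
    · right
      refine ⟨q * (D.t * (q⁻¹ * r)), mul_mem hq (hQ.le h), ?_⟩
      have h6 := D.At h
      have h7 : r = q * (D.t * (D.t * (q⁻¹ * r))) := by
        rw [← mul_assoc D.t D.t, D.tt, one_mul, mul_inv_cancel_left]
      calc r = q * (D.t * (D.t * (q⁻¹ * r))) := h7
        _ = q * (D.t * (q⁻¹ * r) * D.t) := by rw [h6]
        _ = q * (D.t * (q⁻¹ * r)) * D.t := by group
  by_contra hne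
  rw [SetLike.not_le_iff_exists] at hne
  obtain ⟨r, hr, hrQ⟩ := hne
  obtain ⟨q, hq, hrq⟩ := (key r hr).resolve_left hrQ
  have h1 : Q ⊓ P ≤ D.A := by
    intro s hs
    have hs1 := (mem_inf.1 hs).1
    have hs2 := (mem_inf.1 hs).2
    apply hQ.cent s hs1
    have h2 : s * r = r * s := comm_of_sq hP.sq hs2 hr
    have h3 : s * q = q * s := comm_of_sq hQ.sq hs1 hq
    have h4 : D.t = q⁻¹ * r := by rw [hrq, inv_mul_cancel_left]
    have h5 : s * q⁻¹ = q⁻¹ * s := comm_of_sq hQ.sq hs1 (inv_mem hq)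
    rw [h4, ← mul_assoc, h5, mul_assoc, h2, mul_assoc]
  have h2 : Nat.card P ≤ 2 * Nat.card (Q ⊓ P : Subgroup G) := by
    apply card_le_two_mul r
    intro x hx hxK
    have hxQ : x ∉ Q := fun h => hxK (mem_inf.2 ⟨h, hx⟩)
    obtain ⟨p, hp, hxp⟩ := (key x hx).resolve_left hxQ
    rw [mem_inf]
    refine ⟨?_, mul_mem (inv_mem hr) hx⟩
    rw [hrq, hxp]
    have : (q * D.t)⁻¹ * (p * D.t) = D.t * (q⁻¹ * p) * D.t := by
      rw [mul_inv_rev, D.t_inv]; group
    rw [this]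
    exact hQ.inv _ (mul_mem (inv_mem hq) hp)
  have h3 := Nat.card_le_card_of_injective _ (Subgroup.inclusion_injective h1)
  rw [hP.card] at h2
  have h4 := D.cardA
  nlinarith

theorem _root_.Cfsg.Agent.StdSpSix.QLevel.Good.eq [Finite G] {Q P : Subgroup G} (hQ : Good D Q)
    (hP : Good D P) : P = Q :=
  le_antisymm (hQ.le_of_good hP) (hP.le_of_good hQ)

theorem Lt_comm {l : G} (hl : l ∈ D.L) : Commute l D.t := (D.cent l).2 (Or.inl hl)

theorem card_conj_of_iff [Finite G] {A B : Subgroup G} {l : G} (h : ∀ x, x ∈ B ↔ l⁻¹ * x * l ∈ A) :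
    Nat.card B = Nat.card A := by
  apply Nat.card_congr
  refine ⟨fun x => ⟨l⁻¹ * x * l, (h x).1 x.2⟩, fun y => ⟨l * y * l⁻¹, (h _).2 ?_⟩, fun x => ?_, fun y => ?_⟩
  · have : l⁻¹ * (l * (y : G) * l⁻¹) * l = y := by group
    rw [this]; exact y.2
  · apply Subtype.ext
    change l * (l⁻¹ * (x : G) * l) * l⁻¹ = x
    group
  · apply Subtype.ext
    change l⁻¹ * (l * (y : G) * l⁻¹) * l = y
    group

theorem mem_map_conj {Q : Subgroup G} {g x : G} : x ∈ Q.map (MulAut.conj g).toMonoidHom ↔ g⁻¹ * x * g ∈ Q := by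
  constructor
  · rintro ⟨z, hz, rfl⟩
    have : g⁻¹ * ((MulAut.conj g).toMonoidHom z) * g = z := by
      change g⁻¹ * (g * z * g⁻¹) * g = z
      group
    rw [this]; exact hz
  · intro h
    refine ⟨_, h, ?_⟩
    change g * (g⁻¹ * x * g) * g⁻¹ = x
    group

/-- no conjugate of `t` in `Q` -/
theorem notMem_Q [Finite G] (D : Data G) (g : G) : g * D.t * g⁻¹ ∉ D.Q := by
  intro hg
  set Q' : Subgroup G := D.Q.map (MulAut.conj g⁻¹).toMonoidHom with hQ'
  have hmem : ∀ x, x ∈ Q' ↔ g * x * g⁻¹ ∈ D.Q := by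
    intro x
    rw [hQ', mem_map_conj, inv_inv]
  have htQ : D.t ∈ Q' := (hmem _).2 hg
  have hsq : ∀ x ∈ Q', x * x = 1 := by
    intro x hx
    have h1 := D.QQ _ ((hmem x).1 hx)
    have h2 : g * x * g⁻¹ * (g * x * g⁻¹) = g * (x * x) * g⁻¹ := by group
    rw [h2] at h1
    have h3 : x * x = g⁻¹ * (g * (x * x) * g⁻¹) * g := by group
    rw [h3, h1]; group
  have hcard : Nat.card Q' = Nat.card D.A * Nat.card D.A := by
    rw [← D.cardQ]
    exact card_conj_of_iff (l := g⁻¹) (fun x => by rw [inv_inv]; exact hmem x)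
  have h1 : Nat.card Q' ≤ 2 * Nat.card (Q' ⊓ D.L : Subgroup G) := by
    apply card_le_two_mul D.t
    intro x hx hxL
    have hc : x * D.t = D.t * x := comm_of_sq hsq hx htQ
    rcases (D.cent x).1 hc with h | h
    · exact absurd (mem_inf.2 ⟨hx, h⟩) hxL
    · rw [D.t_inv]
      exact mem_inf.2 ⟨mul_mem htQ hx, h⟩
  have hA := D.cardA
  rw [hcard] at h1
  by_cases h2 : Nat.card D.A ≤ Nat.card (Q' ⊓ D.L : Subgroup G)
  · obtain ⟨l, -, hl⟩ := D.sat (Q' ⊓ D.L) inf_le_right (fun x hx => hsq x (mem_inf.1 hx).1) h2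
    rw [card_conj_of_iff hl] at h1
    nlinarith
  · push Not at h2
    nlinarith

/-- a conjugate of `t` normalising `Q` -/
theorem exists_conj [Finite G] (D : Data G) (g : G) (h : ∀ q ∈ D.Q, (g * D.t * g⁻¹) * q * (g * D.t * g⁻¹) ∈ D.Q) :
    ∃ k : G, k * D.t * k⁻¹ = g * D.t * g⁻¹ ∧ (∀ q, (q ∈ D.Q ∧ q * (g * D.t * g⁻¹) = (g * D.t * g⁻¹) * q) ↔
      k⁻¹ * q * k ∈ D.A) ∧ ∀ q, q ∈ D.Q ↔ k⁻¹ * q * k ∈ D.Q := by
  set x : G := g * D.t * g⁻¹ with hx
  have xx : x * x = 1 := by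
    rw [hx]
    calc g * D.t * g⁻¹ * (g * D.t * g⁻¹) = g * (D.t * D.t) * g⁻¹ := by group
      _ = 1 := by rw [D.tt]; group
  set B : Subgroup G := D.Q ⊓ centralizer ({x} : Set G) with hB
  have hBmem : ∀ q, q ∈ B ↔ q ∈ D.Q ∧ q * x = x * q := fun q => mem_inf_cent
  set B' : Subgroup G := B.map (MulAut.conj g⁻¹).toMonoidHom with hB'
  have hB'mem : ∀ q, q ∈ B' ↔ g * q * g⁻¹ ∈ B := by
    intro q
    rw [hB', mem_map_conj, inv_inv]
  have hcardB : Nat.card B' = Nat.card B := card_conj_of_iff (l := g⁻¹) (fun x => by rw [inv_inv]; exact hB'mem x)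
  have hsq : ∀ q ∈ B', q * q = 1 := by
    intro q hq
    have h1 := D.QQ _ ((hBmem _).1 ((hB'mem q).1 hq)).1
    have h2 : g * q * g⁻¹ * (g * q * g⁻¹) = g * (q * q) * g⁻¹ := by group
    rw [h2] at h1
    have h3 : q * q = g⁻¹ * (g * (q * q) * g⁻¹) * g := by group
    rw [h3, h1]; group
  have hB'L : B' ≤ D.L := by
    intro q hq
    have h1 := (hBmem _).1 ((hB'mem q).1 hq)
    have h2 : q * D.t = D.t * q := by
      have h3 := h1.2
      rw [hx] at h3
      calc q * D.t = g⁻¹ * (g * q * g⁻¹ * (g * D.t * g⁻¹)) * g := by group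
        _ = D.t * q := by rw [h3]; group
    rcases (D.cent q).1 h2 with h3 | h3
    · exact h3
    · exfalso
      have h4 : (D.t * q) * (D.t * q) = 1 := by
        calc (D.t * q) * (D.t * q) = D.t * (q * D.t) * q := by group
          _ = (D.t * D.t) * (q * q) := by rw [h2]; group
          _ = 1 := by rw [D.tt, hsq q hq, one_mul]
      obtain ⟨k, hk⟩ := D.all _ h3 h4
      apply D.notMem_Q (g * k)
      have h5 : g * k * D.t * (g * k)⁻¹ = g * q * g⁻¹ := by
        calc g * k * D.t * (g * k)⁻¹ = g * (k * D.t * k⁻¹) * g⁻¹ := by group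
          _ = g * ((D.t * D.t) * q) * g⁻¹ := by rw [← hk]; group
          _ = g * q * g⁻¹ := by rw [D.tt, one_mul]
      rw [h5]
      exact h1.1
  have h1 := (card_le_sq D.QQ xx h).1
  change Nat.card D.Q ≤ Nat.card B * Nat.card B at h1
  rw [D.cardQ] at h1
  have h2 : Nat.card D.A ≤ Nat.card B' := by
    rw [hcardB]
    by_contra h3
    push Not at h3
    nlinarith [Nat.card_pos (α := B)]
  obtain ⟨l, hl, hlB⟩ := D.sat B' hB'L hsq h2
  have hlt : l * D.t = D.t * l := D.Lt hl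
  set k : G := g * l with hk
  have hkx : k * D.t * k⁻¹ = x := by
    rw [hk, hx]
    calc g * l * D.t * (g * l)⁻¹ = g * (l * D.t) * l⁻¹ * g⁻¹ := by group
      _ = g * D.t * g⁻¹ := by rw [hlt]; group
  have hmem : ∀ q, (q ∈ D.Q ∧ q * x = x * q) ↔ k⁻¹ * q * k ∈ D.A := by
    intro q
    rw [← hBmem]
    have h3 := hlB (g⁻¹ * q * g)
    rw [hB'mem] at h3
    have h4 : g * (g⁻¹ * q * g) * g⁻¹ = q := by group
    have h5 : l⁻¹ * (g⁻¹ * q * g) * l = k⁻¹ * q * k := by rw [hk]; group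
    rw [h4, h5] at h3
    exact h3
  refine ⟨k, hkx, hmem, ?_⟩
  -- the conjugate of `Q` is good
  set P : Subgroup G := D.Q.map (MulAut.conj k⁻¹).toMonoidHom with hP
  have hPmem : ∀ q, q ∈ P ↔ k * q * k⁻¹ ∈ D.Q := by
    intro q
    rw [hP, mem_map_conj, inv_inv]
  have hgood : Good D P := by
    refine ⟨?_, ?_, ?_, ?_, ?_⟩
    · intro q hq
      have h1 := D.QQ _ ((hPmem q).1 hq)
      have h2 : k * q * k⁻¹ * (k * q * k⁻¹) = k * (q * q) * k⁻¹ := by group
      rw [h2] at h1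
      have h3 : q * q = k⁻¹ * (k * (q * q) * k⁻¹) * k := by group
      rw [h3, h1]; group
    · rw [← D.cardQ]
      exact card_conj_of_iff (l := k⁻¹) (fun x => by rw [inv_inv]; exact hPmem x)
    · intro q hq
      rw [hPmem]
      have h1 := h _ ((hPmem q).1 hq)
      rw [← hkx] at h1
      have h2 : k * D.t * k⁻¹ * (k * q * k⁻¹) * (k * D.t * k⁻¹) = k * (D.t * q * D.t) * k⁻¹ := by group
      rwa [h2] at h1
    · intro a ha
      rw [hPmem]
      refine ((hmem _).2 ?_).1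
      have : k⁻¹ * (k * a * k⁻¹) * k = a := by group
      rw [this]; exact ha
    · intro q hq hqt
      have h1 := (hPmem q).1 hq
      have h2 : k * q * k⁻¹ * x = x * (k * q * k⁻¹) := by
        rw [← hkx]
        calc k * q * k⁻¹ * (k * D.t * k⁻¹) = k * (q * D.t) * k⁻¹ := by group
          _ = k * D.t * k⁻¹ * (k * q * k⁻¹) := by rw [hqt]; group
      have h3 := (hmem _).1 ⟨h1, h2⟩
      have h4 : k⁻¹ * (k * q * k⁻¹) * k = q := by group
      rwa [h4] at h3
  have hPQ : P = D.Q := D.good.eq hgood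
  intro q
  have h3 := hPmem (k⁻¹ * q * k)
  rw [hPQ] at h3
  have h4 : k * (k⁻¹ * q * k) * k⁻¹ = q := by group
  rw [h4] at h3
  exact h3.symm

/-- `t` acts nontrivially on `Q` -/
theorem t_notMem [Finite G] (D : Data G) {a : G} (ha : a ∈ D.A) : ∃ q ∈ D.Q, D.t * a * q ≠ q * (D.t * a) := by
  by_contra hcon
  push Not at hcon
  have h1 : D.Q ≤ D.A := by
    intro q hq
    apply D.QA q hq
    have h2 := hcon q hq
    have h3 : a * q = q * a := comm_of_sq D.QQ (D.AQ ha) hq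
    apply mul_right_cancel (b := a)
    calc q * D.t * a = q * (D.t * a) := by group
      _ = D.t * (a * q) := by rw [← h2]; group
      _ = D.t * q * a := by rw [h3]; group
  have h2 := Nat.card_le_card_of_injective _ (Subgroup.inclusion_injective h1)
  rw [D.cardQ] at h2
  have h3 := D.cardA
  nlinarith

/-- elements of `C_G(Q)` commuting with `t` -/
theorem mem_of_cent [Finite G] (D : Data G) {k : G} (hk : ∀ q ∈ D.Q, k * q = q * k) (hkt : k * D.t = D.t * k) :
    k ∈ D.A := by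
  rcases mem_of_comm (D := D) hkt (fun a ha => hk a (D.AQ ha)) with h | h
  · exact h
  · exfalso
    obtain ⟨q, hq, hne⟩ := D.t_notMem h
    apply hne
    rw [← mul_assoc, D.tt, one_mul]
    exact hk q hq

/-- an element of `C_G(Q)` inverted by `t` with square in `Q` is in `Q` -/
theorem mem_of_inverted [Finite G] (D : Data G) {v : G} (hv : ∀ q ∈ D.Q, v * q = q * v)
    (hvt : D.t * v * D.t = v⁻¹) (hv2 : v * v ∈ D.Q) : v ∈ D.Q := by
  have h1 : v * v * D.t = D.t * (v * v) := by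
    have h2 : D.t * (v * v) * D.t = (v * v)⁻¹ := by
      calc D.t * (v * v) * D.t = D.t * v * 1 * v * D.t := by group
        _ = D.t * v * (D.t * D.t) * v * D.t := by rw [D.tt]
        _ = (D.t * v * D.t) * (D.t * v * D.t) := by group
        _ = (v * v)⁻¹ := by rw [hvt, mul_inv_rev]
    rw [inv_of_sq (D.QQ _ hv2)] at h2
    calc v * v * D.t = D.t * (v * v) * D.t * D.t := by rw [h2]
      _ = D.t * (v * v) * (D.t * D.t) := by group
      _ = D.t * (v * v) := by rw [D.tt, mul_one]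
  obtain ⟨q, hq, h3⟩ := D.good.onto (D.QA _ hv2 h1)
  have h4 : v * D.t * v⁻¹ = D.t * (v * v) := by
    rw [← h1]
    calc v * D.t * v⁻¹ = v * (D.t * v⁻¹ * D.t) * D.t⁻¹ := by group
      _ = v * (D.t * (D.t * v * D.t) * D.t) * D.t⁻¹ := by rw [hvt]
      _ = v * ((D.t * D.t) * v * (D.t * D.t)) * D.t⁻¹ := by group
      _ = v * v * D.t := by rw [D.tt, D.t_inv]; group
  have h5 : (q⁻¹ * v) * D.t = D.t * (q⁻¹ * v) := by
    calc (q⁻¹ * v) * D.t = q⁻¹ * (v * D.t * v⁻¹) * v := by group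
      _ = q⁻¹ * (q * D.t * q⁻¹) * v := by rw [h4, h3]
      _ = D.t * (q⁻¹ * v) := by group
  have h6 : q⁻¹ * v ∈ D.A := D.mem_of_cent (fun p hp => by
    rw [mul_assoc, hv p hp, ← mul_assoc, comm_of_sq D.QQ (inv_mem hq) hp, mul_assoc]) h5
  have := mul_mem hq (D.AQ h6)
  rwa [mul_inv_cancel_left] at this

/-- every involution of `t C_G(Q)` is conjugate to `t` under `C_G(Q)` -/
theorem conj_of_cent [Finite G] (D : Data G) {k : G} (hk : ∀ q ∈ D.Q, k * q = q * k) (hkk : D.t * k * (D.t * k) = 1) :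
    ∃ c : G, (∀ q ∈ D.Q, c * q = q * c) ∧ D.t * k = c * D.t * c⁻¹ := by
  have hinv : D.t * k * D.t = k⁻¹ := by
    rw [eq_inv_iff_mul_eq_one, mul_assoc]
    exact hkk
  have hpow : ∀ n : ℕ, D.t * k ^ n * D.t = (k ^ n)⁻¹ := by
    intro n
    have h1 : D.t * k ^ n * D.t⁻¹ = (D.t * k * D.t⁻¹) ^ n := conj_pow.symm
    rw [D.t_inv] at h1
    rw [h1, hinv, inv_pow]
  have hcent : ∀ n : ℕ, ∀ q ∈ D.Q, k ^ n * q = q * k ^ n := by
    intro n q hq
    exact (Commute.pow_left (hk q hq) n)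
  obtain ⟨n, m, hm, hnm⟩ := Nat.exists_eq_two_pow_mul_odd (orderOf_pos k).ne'
  -- descend to the odd power
  have hdesc : ∀ i : ℕ, i ≤ n → k ^ (m * 2 ^ (n - i)) ∈ D.Q := by
    intro i
    induction i with
    | zero =>
      intro _
      rw [Nat.sub_zero, mul_comm, ← hnm, pow_orderOf_eq_one]
      exact one_mem _
    | succ i ih =>
      intro hi
      apply D.mem_of_inverted (hcent _) (hpow _)
      rw [← pow_add]
      have h1 := ih (by omega)
      have h2 : n - i = (n - (i + 1)) + 1 := by omega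
      rw [h2, pow_succ] at h1
      have h3 : m * (2 ^ (n - (i + 1)) * 2) = m * 2 ^ (n - (i + 1)) + m * 2 ^ (n - (i + 1)) := by ring
      rwa [h3] at h1
  have hw : k ^ m ∈ D.Q := by
    have := hdesc n le_rfl
    rwa [Nat.sub_self, pow_zero, mul_one] at this
  set w : G := k ^ m with hwdef
  have hwt : w * D.t = D.t * w := by
    have h1 := hpow m
    rw [← hwdef, inv_of_sq (D.QQ _ hw)] at h1
    calc w * D.t = D.t * w * D.t * D.t := by rw [h1]
      _ = D.t * w * (D.t * D.t) := by group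
      _ = D.t * w := by rw [D.tt, mul_one]
  obtain ⟨q, hq, h3⟩ := D.good.onto (D.QA _ hw hwt)
  obtain ⟨j, hj⟩ := hm
  -- `k = w c⁻²`, `c = k ^ j`
  set c : G := k ^ j with hc
  have hkc : k = w * c⁻¹ * c⁻¹ := by
    rw [hwdef, hc, hj]
    have h1 : k ^ (2 * j + 1) = k * k ^ j * k ^ j := by
      rw [← pow_succ', ← pow_add]; congr 1; omega
    rw [h1]; group
  have hwc : w * c = c * w := by
    rw [hwdef, hc, ← pow_add, ← pow_add, add_comm]
  have hct : D.t * c * D.t = c⁻¹ := hpow j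
  refine ⟨c * q, ?_, ?_⟩
  · intro p hp
    rw [mul_assoc, comm_of_sq D.QQ hq hp, ← mul_assoc, hcent j p hp, mul_assoc]
  · have h5 : c * D.t = D.t * c⁻¹ := by
      calc c * D.t = (D.t * D.t) * c * D.t := by rw [D.tt, one_mul]
        _ = D.t * (D.t * c * D.t) := by group
        _ = D.t * c⁻¹ := by rw [hct]
    calc D.t * k = D.t * (w * c⁻¹ * c⁻¹) := by rw [← hkc]
      _ = D.t * (c⁻¹ * (c * w) * c⁻¹ * c⁻¹) := by group
      _ = D.t * c⁻¹ * w * c⁻¹ := by rw [← hwc]; group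
      _ = c * (D.t * w) * c⁻¹ := by rw [← h5]; group
      _ = c * (q * D.t * q⁻¹) * c⁻¹ := by rw [h3]
      _ = c * q * D.t * (c * q)⁻¹ := by group

theorem card_eq_two_mul [Finite G] (D : Data G) {K : Subgroup G} (ht : D.t ∈ K) (hK : ∀ x ∈ K, x * D.t = D.t * x) :
    Nat.card K = 2 * Nat.card (K ⊓ D.L : Subgroup G) := by
  apply le_antisymm
  · apply card_le_two_mul D.t
    intro x hx hxL
    rcases (D.cent x).1 (hK x hx) with h | h
    · exact absurd (mem_inf.2 ⟨hx, h⟩) hxL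
    · rw [D.t_inv]
      exact mem_inf.2 ⟨mul_mem ht hx, h⟩
  · have h1 : Nat.card ((K ⊓ D.L : Subgroup G) × Bool) ≤ Nat.card K := by
      refine Nat.card_le_card_of_injective
        (fun p : (K ⊓ D.L : Subgroup G) × Bool => (⟨(if p.2 then (p.1 : G) else D.t * p.1), ?_⟩ : K)) ?_
      · split_ifs
        · exact (mem_inf.1 p.1.2).1
        · exact mul_mem ht (mem_inf.1 p.1.2).1
      · rintro ⟨x, b⟩ ⟨y, c⟩ h
        have h2 := congrArg (Subtype.val : K → G) h
        have hx := (mem_inf.1 x.2).2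
        have hy := (mem_inf.1 y.2).2
        cases b <;> cases c <;> simp only [Bool.false_eq_true, if_true, if_false] at h2
        · rw [Subtype.ext (mul_left_cancel h2)]
        · exfalso
          apply D.tL
          have : D.t = y * (x : G)⁻¹ := by rw [← h2, mul_inv_cancel_right]
          rw [this]
          exact mul_mem hy (inv_mem hx)
        · exfalso
          apply D.tL
          have : D.t = x * (y : G)⁻¹ := by rw [h2, mul_inv_cancel_right]
          rw [this]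
          exact mul_mem hx (inv_mem hy)
        · rw [Subtype.ext h2]
    rw [Nat.card_prod] at h1
    have h2 : Nat.card Bool = 2 := by simp
    rw [h2] at h1
    omega

/-- `t` normalises `Q` -/
theorem t_mem_H (D : Data G) : D.t ∈ normalizer (D.Q : Set G) := by
  rw [mem_normalizer_iff]
  intro q
  rw [D.t_inv]
  refine ⟨fun h => D.tQ q h, fun h => ?_⟩
  have h1 := D.tQ _ h
  have h2 : D.t * (D.t * q * D.t) * D.t = (D.t * D.t) * q * (D.t * D.t) := by group
  rwa [h2, D.tt, one_mul, mul_one] at h1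

theorem conj_mem_iff_of_le [Finite G] {A : Subgroup G} {n : G} (h : ∀ a ∈ A, n * a * n⁻¹ ∈ A) (a : G) :
    a ∈ A ↔ n * a * n⁻¹ ∈ A := by
  refine ⟨h a, fun h1 => ?_⟩
  have h2 : A.map (MulAut.conj n).toMonoidHom ≤ A := by
    rintro _ ⟨x, hx, rfl⟩
    exact h x hx
  have h3 : A.map (MulAut.conj n).toMonoidHom = A := by
    apply eq_of_le_of_card_ge h2
    exact (card_conj_of_iff (l := n) (fun x => mem_map_conj)).ge
  rw [← h3, mem_map_conj] at h1
  have h4 : n⁻¹ * (n * a * n⁻¹) * n = a := by group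
  rwa [h4] at h1

/-- `N_L(A) = N_L(Q)` -/
theorem mem_H_iff [Finite G] (D : Data G) {n : G} (hn : n ∈ D.L) :
    n ∈ normalizer (D.Q : Set G) ↔ n ∈ normalizer (D.A : Set G) := by
  have hnt := D.Lt hn
  have hnt' : n⁻¹ * D.t = D.t * n⁻¹ := D.Lt (inv_mem hn)
  constructor
  · intro h
    rw [mem_normalizer_iff]
    apply conj_mem_iff_of_le
    intro a ha
    apply D.QA _ ((mem_normalizer_iff.1 h a).1 (D.AQ ha))
    calc n * a * n⁻¹ * D.t = n * a * (n⁻¹ * D.t) := by group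
      _ = n * (a * D.t) * n⁻¹ := by rw [hnt']; group
      _ = (n * D.t) * a * n⁻¹ := by rw [D.At ha]; group
      _ = D.t * (n * a * n⁻¹) := by rw [hnt]; group
  · intro h
    set P : Subgroup G := D.Q.map (MulAut.conj n).toMonoidHom with hP
    have hPmem : ∀ q, q ∈ P ↔ n⁻¹ * q * n ∈ D.Q := fun q => mem_map_conj
    have hnt2 : n⁻¹ * D.t * n = D.t := by rw [hnt']; group
    have hgood : Good D P := by
      refine ⟨?_, ?_, ?_, ?_, ?_⟩
      · intro q hq
        have h1 := D.QQ _ ((hPmem q).1 hq)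
        have h3 : q * q = n * (n⁻¹ * q * n * (n⁻¹ * q * n)) * n⁻¹ := by group
        rw [h3, h1]; group
      · rw [← D.cardQ]
        exact card_conj_of_iff (l := n) hPmem
      · intro q hq
        rw [hPmem]
        have h1 := D.tQ _ ((hPmem q).1 hq)
        have h2 : n⁻¹ * (D.t * q * D.t) * n = (n⁻¹ * D.t * n) * (n⁻¹ * q * n) * (n⁻¹ * D.t * n) := by group
        rw [h2, hnt2]
        exact h1
      · intro a ha
        rw [hPmem]
        apply D.AQ
        exact (mem_normalizer_iff''.1 h a).1 ha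
      · intro q hq hqt
        have h1 := (hPmem q).1 hq
        rw [mem_normalizer_iff''.1 h q]
        apply D.QA _ h1
        calc n⁻¹ * q * n * D.t = n⁻¹ * q * (n * D.t) := by group
          _ = n⁻¹ * (q * D.t) * n := by rw [hnt]; group
          _ = (n⁻¹ * D.t) * q * n := by rw [hqt]; group
          _ = D.t * (n⁻¹ * q * n) := by rw [hnt']; group
    have hPQ : P = D.Q := D.good.eq hgood
    rw [mem_normalizer_iff'']
    intro q
    rw [← hPmem, hPQ]

theorem odd_relIndex [Finite G] (D : Data G) :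
    Odd ((normalizer (D.Q : Set G)).relIndex (centralizer ({D.t} : Set G))) := by
  set H := normalizer (D.Q : Set G) with hH
  set C := centralizer ({D.t} : Set G) with hC
  have hCm : ∀ x, x ∈ C ↔ x * D.t = D.t * x := fun x => mem_centralizer_singleton_iff
  have hLC : C ⊓ D.L = D.L := inf_eq_right.2 fun x hx => (hCm x).2 (D.Lt hx)
  have h1 := D.card_eq_two_mul (K := C) ((hCm _).2 rfl) (fun x hx => (hCm x).1 hx)
  have h2 := D.card_eq_two_mul (K := H ⊓ C) (mem_inf.2 ⟨D.t_mem_H, (hCm _).2 rfl⟩)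
    (fun x hx => (hCm x).1 (mem_inf.1 hx).2)
  have h3 : H ⊓ C ⊓ D.L = normalizer (D.A : Set G) ⊓ D.L := by
    ext x
    rw [mem_inf, mem_inf, mem_inf]
    constructor
    · rintro ⟨⟨h, -⟩, hx⟩
      exact ⟨(D.mem_H_iff hx).1 h, hx⟩
    · rintro ⟨h, hx⟩
      exact ⟨⟨(D.mem_H_iff hx).2 h, (hCm x).2 (D.Lt hx)⟩, hx⟩
  rw [hLC] at h1
  rw [h3] at h2
  have h4 : Nat.card (H ⊓ C : Subgroup G) * H.relIndex C = Nat.card C := by
    rw [← inf_relIndex_right H C, relIndex, ← card_sub_eq (inf_le_right : H ⊓ C ≤ C), card_mul_index]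
  have h5 : Nat.card (normalizer (D.A : Set G) ⊓ D.L : Subgroup G) * (normalizer (D.A : Set G)).relIndex D.L =
      Nat.card D.L := by
    rw [← inf_relIndex_right (normalizer (D.A : Set G)) D.L, relIndex,
      ← card_sub_eq (inf_le_right : normalizer (D.A : Set G) ⊓ D.L ≤ D.L), card_mul_index]
  rw [h1, h2, ← h5] at h4
  have hpos : 0 < 2 * Nat.card (normalizer (D.A : Set G) ⊓ D.L : Subgroup G) :=
    Nat.mul_pos two_pos Nat.card_pos
  have h6 : H.relIndex C = (normalizer (D.A : Set G)).relIndex D.L := by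
    apply Nat.eq_of_mul_eq_mul_left hpos
    rw [h4]; ring
  rw [h6]
  exact D.odd

/-- conjugates of `t` in `N_G(Q)` -/
theorem exists_conj_H [Finite G] (D : Data G) (g : G) (h : g * D.t * g⁻¹ ∈ normalizer (D.Q : Set G)) :
    ∃ k ∈ normalizer (D.Q : Set G), k * D.t * k⁻¹ = g * D.t * g⁻¹ ∧
      (∀ q, (q ∈ D.Q ∧ q * (g * D.t * g⁻¹) = (g * D.t * g⁻¹) * q) ↔ k⁻¹ * q * k ∈ D.A) := by
  have xx : (g * D.t * g⁻¹)⁻¹ = g * D.t * g⁻¹ := by
    rw [mul_inv_rev, mul_inv_rev, inv_inv, D.t_inv, mul_assoc]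
  obtain ⟨k, h1, h2, h3⟩ := D.exists_conj g (fun q hq => by
    have h4 := (mem_normalizer_iff.1 h q).1 hq
    rwa [xx] at h4)
  refine ⟨k, mem_normalizer_iff''.2 h3, h1, h2⟩

section Quot

variable [Finite G] (D : Data G) {X : Type*} [Group X] (π : normalizer (D.Q : Set G) →* X)
  (hker : ∀ h, π h = 1 ↔ ∀ q ∈ D.Q, (h : G) * q = q * h)

/-- the image of `N_L(A)` -/
def Y : Subgroup X := ((D.L ⊓ normalizer (D.A : Set G)).subgroupOf (normalizer (D.Q : Set G))).map π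

/-- the image of `t` -/
def tb : X := π ⟨D.t, D.t_mem_H⟩

include hker

theorem π_eq_iff {g h : normalizer (D.Q : Set G)} : π g = π h ↔ ∀ q ∈ D.Q, ((g : G)⁻¹ * h) * q = q * ((g : G)⁻¹ * h) := by
  rw [eq_comm, ← inv_mul_eq_one, ← map_inv, ← map_mul, hker]
  constructor
  · intro h1 q hq
    have h2 := h1 q hq
    have h3 : ((h⁻¹ * g : normalizer (D.Q : Set G)) : G) = ((g : G)⁻¹ * h)⁻¹ := by
      rw [mul_inv_rev, inv_inv]; rfl
    rw [h3] at h2
    calc ((g : G)⁻¹ * h) * q = ((g : G)⁻¹ * h) * (q * ((g : G)⁻¹ * h)⁻¹) * ((g : G)⁻¹ * h) := by group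
      _ = q * ((g : G)⁻¹ * h) := by rw [← h2]; group
  · intro h1 q hq
    have h2 := h1 q hq
    have h3 : ((h⁻¹ * g : normalizer (D.Q : Set G)) : G) = ((g : G)⁻¹ * h)⁻¹ := by
      rw [mul_inv_rev, inv_inv]; rfl
    rw [h3]
    calc ((g : G)⁻¹ * h)⁻¹ * q = ((g : G)⁻¹ * h)⁻¹ * (q * ((g : G)⁻¹ * h)) * ((g : G)⁻¹ * h)⁻¹ := by group
      _ = q * ((g : G)⁻¹ * h)⁻¹ := by rw [← h2]; group

theorem tb_sq : tb D π * tb D π = 1 := by
  rw [tb, ← map_mul]
  have : (⟨D.t, D.t_mem_H⟩ * ⟨D.t, D.t_mem_H⟩ : normalizer (D.Q : Set G)) = 1 := Subtype.ext D.tt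
  rw [this, map_one]

theorem conj_of_eq {h : normalizer (D.Q : Set G)} {l : normalizer (D.Q : Set G)} (hl : (l : G) * l = 1)
    (he : π (h * ⟨D.t, D.t_mem_H⟩ * h⁻¹) = π l) : ∃ g : G, (l : G) = g * D.t * g⁻¹ := by
  -- `h⁻¹ l h ∈ t C_G(Q)`
  have h1 : π ⟨D.t, D.t_mem_H⟩ = π (h⁻¹ * l * h) := by
    rw [map_mul, map_mul, ← he, ← map_mul, ← map_mul]
    congr 1
    group
  have h2 := (D.π_eq_iff π hker).1 h1
  have h3 : (((⟨D.t, D.t_mem_H⟩ : normalizer (D.Q : Set G)) : G)⁻¹ * ((h⁻¹ * l * h : normalizer (D.Q : Set G)) : G)) =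
      D.t * ((h : G)⁻¹ * l * h) := by
    change D.t⁻¹ * ((h : G)⁻¹ * l * h) = _
    rw [D.t_inv]
  rw [h3] at h2
  obtain ⟨c, -, hc⟩ := D.conj_of_cent h2 (by
    have : D.t * (D.t * ((h : G)⁻¹ * l * h)) = (h : G)⁻¹ * l * h := by
      rw [← mul_assoc, D.tt, one_mul]
    rw [this]
    calc (h : G)⁻¹ * l * h * ((h : G)⁻¹ * l * h) = (h : G)⁻¹ * (l * l) * h := by group
      _ = 1 := by rw [hl]; group)
  rw [← mul_assoc, D.tt, one_mul] at hc
  refine ⟨h * c, ?_⟩
  calc (l : G) = h * ((h : G)⁻¹ * l * h) * (h : G)⁻¹ := by group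
    _ = h * (c * D.t * c⁻¹) * (h : G)⁻¹ := by rw [hc]
    _ = h * c * D.t * (h * c)⁻¹ := by group

theorem quot_cent (hsurj : Function.Surjective π) (y : X) :
    Commute y (tb D π) ↔ y ∈ Y D π ∨ tb D π * y ∈ Y D π := by
  have htt := D.tb_sq π hker
  constructor
  · intro hy
    obtain ⟨h, rfl⟩ := hsurj y
    -- `h t h⁻¹ = t k`
    have h1 : π ⟨D.t, D.t_mem_H⟩ = π (h * ⟨D.t, D.t_mem_H⟩ * h⁻¹) := by
      rw [map_mul, map_mul, map_inv]
      have : π h * tb D π = tb D π * π h := hy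
      change tb D π = π h * tb D π * (π h)⁻¹
      rw [this]; group
    have h2 := (D.π_eq_iff π hker).1 h1
    have h3 : (((⟨D.t, D.t_mem_H⟩ : normalizer (D.Q : Set G)) : G)⁻¹ *
        ((h * ⟨D.t, D.t_mem_H⟩ * h⁻¹ : normalizer (D.Q : Set G)) : G)) = D.t * ((h : G) * D.t * (h : G)⁻¹) := by
      change D.t⁻¹ * ((h : G) * D.t * (h : G)⁻¹) = _
      rw [D.t_inv]
    rw [h3] at h2
    obtain ⟨c, hc, hct⟩ := D.conj_of_cent h2 (by
      have : D.t * (D.t * ((h : G) * D.t * (h : G)⁻¹)) = (h : G) * D.t * (h : G)⁻¹ := by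
        rw [← mul_assoc, D.tt, one_mul]
      rw [this]
      calc (h : G) * D.t * (h : G)⁻¹ * ((h : G) * D.t * (h : G)⁻¹) = h * (D.t * D.t) * (h : G)⁻¹ := by group
        _ = 1 := by rw [D.tt]; group)
    rw [← mul_assoc, D.tt, one_mul] at hct
    have hcH : c ∈ normalizer (D.Q : Set G) := by
      rw [mem_normalizer_iff]
      apply conj_mem_iff_of_le
      intro q hq
      rw [hc q hq, mul_inv_cancel_right]
      exact hq
    have h5 : (c⁻¹ * h) * D.t = D.t * (c⁻¹ * h) := by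
      calc (c⁻¹ * h) * D.t = c⁻¹ * ((h : G) * D.t * (h : G)⁻¹) * h := by group
        _ = c⁻¹ * (c * D.t * c⁻¹) * h := by rw [hct]
        _ = D.t * (c⁻¹ * h) := by group
    set h' : normalizer (D.Q : Set G) := ⟨c, hcH⟩⁻¹ * h with hh'
    have hh'c : (h' : G) = c⁻¹ * h := rfl
    have hπ : π h' = π h := by
      rw [hh', map_mul, map_inv, (hker ⟨c, hcH⟩).2 hc, inv_one, one_mul]
    rw [← hπ]
    rcases (D.cent _).1 h5 with h6 | h6
    · left
      refine ⟨h', ?_, rfl⟩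
      rw [SetLike.mem_coe, mem_subgroupOf, mem_inf, hh'c]
      refine ⟨h6, (D.mem_H_iff h6).1 ?_⟩
      rw [← hh'c]; exact h'.2
    · right
      refine ⟨⟨D.t, D.t_mem_H⟩ * h', ?_, by rw [map_mul]; rfl⟩
      rw [SetLike.mem_coe, mem_subgroupOf, mem_inf]
      have h7 : ((⟨D.t, D.t_mem_H⟩ * h' : normalizer (D.Q : Set G)) : G) = D.t * (c⁻¹ * h) := rfl
      rw [h7]
      refine ⟨h6, (D.mem_H_iff h6).1 ?_⟩
      rw [← h7]; exact (⟨D.t, D.t_mem_H⟩ * h' : normalizer (D.Q : Set G)).2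
  · have key : ∀ y ∈ Y D π, Commute y (tb D π) := by
      rintro _ ⟨n, hn, rfl⟩
      rw [SetLike.mem_coe, mem_subgroupOf, mem_inf] at hn
      have h1 : n * ⟨D.t, D.t_mem_H⟩ = ⟨D.t, D.t_mem_H⟩ * n := Subtype.ext (D.Lt hn.1)
      change π n * π ⟨D.t, D.t_mem_H⟩ = π ⟨D.t, D.t_mem_H⟩ * π n
      rw [← map_mul, ← map_mul, h1]
    rintro (h | h)
    · exact key y h
    · have h1 := key _ h
      have h2 : tb D π * y * tb D π = tb D π * (tb D π * y) := h1
      have h3 : y * tb D π = tb D π * y := by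
        calc y * tb D π = (tb D π * tb D π) * y * tb D π := by rw [htt, one_mul]
          _ = tb D π * (tb D π * y * tb D π) := by group
          _ = (tb D π * tb D π) * (tb D π * y) := by rw [h2]; group
          _ = tb D π * y := by rw [htt, one_mul]
      exact h3

/-- involutions of `Y` lift -/
theorem lift_Y {y : X} (hy : y ∈ Y D π) (hyy : y * y = 1) :
    ∃ n : normalizer (D.Q : Set G), (n : G) ∈ D.L ∧ (n : G) * n = 1 ∧ π n = y := by
  obtain ⟨n, hn, rfl⟩ := hy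
  rw [SetLike.mem_coe, mem_subgroupOf, mem_inf] at hn
  have h1 : (n : G) * n ∈ D.A := by
    have h2 : π (n * n) = 1 := by rw [map_mul, hyy]
    have h3 := (hker _).1 h2
    apply D.CA _ (mul_mem hn.1 hn.1)
    intro a ha
    exact h3 a (D.AQ ha)
  obtain ⟨a, ha, h2⟩ := D.lift n hn.1 (mem_normalizer_iff.1 hn.2) h1
  have haH : a ∈ normalizer (D.Q : Set G) := (le_normalizer (H := D.Q)) (D.AQ ha)
  refine ⟨n * ⟨a, haH⟩, mul_mem hn.1 (D.AL ha), h2, ?_⟩
  rw [map_mul, (hker ⟨a, haH⟩).2 (fun q hq => comm_of_sq D.QQ (D.AQ ha) hq), mul_one]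

theorem quot_DY (hsurj : Function.Surjective π) (y : X) : y * tb D π * y⁻¹ ∉ Y D π := by
  intro hy
  have h1 : (y * tb D π * y⁻¹) * (y * tb D π * y⁻¹) = 1 := by
    calc (y * tb D π * y⁻¹) * (y * tb D π * y⁻¹) = y * (tb D π * tb D π) * y⁻¹ := by group
      _ = 1 := by rw [D.tb_sq π hker]; group
  obtain ⟨n, hn, hnn, hπ⟩ := D.lift_Y π hker hy h1
  obtain ⟨h, rfl⟩ := hsurj y
  obtain ⟨g, hg⟩ := D.conj_of_eq π hker (h := h) (l := n) hnn (by
    rw [map_mul, map_mul, map_inv, hπ]; rfl)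
  apply D.DL g
  rw [← hg]
  exact hn

theorem quot_all (y : X) (hy : y ∈ Y D π) (hyy : y * y = 1) : ∃ g : X, tb D π * y = g * tb D π * g⁻¹ := by
  obtain ⟨n, hn, hnn, rfl⟩ := D.lift_Y π hker hy hyy
  obtain ⟨g, hg⟩ := D.all n hn hnn
  have hmem : g * D.t * g⁻¹ ∈ normalizer (D.Q : Set G) := by
    rw [← hg]
    exact mul_mem D.t_mem_H n.2
  obtain ⟨k, hk, hk1, -⟩ := D.exists_conj_H g hmem
  refine ⟨π ⟨k, hk⟩, ?_⟩
  rw [← hg] at hk1
  change π ⟨D.t, D.t_mem_H⟩ * π n = π ⟨k, hk⟩ * π ⟨D.t, D.t_mem_H⟩ * (π ⟨k, hk⟩)⁻¹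
  rw [← map_mul, ← map_mul, ← map_inv, ← map_mul]
  congr 1
  exact Subtype.ext hk1.symm

theorem tb_notMem (hsurj : Function.Surjective π) : tb D π ∉ Y D π := by
  have := D.quot_DY π hker hsurj 1
  rwa [one_mul, inv_one, mul_one] at this

/-- `Y ≃ N_L(A) / A` -/
theorem exists_equiv {Γ : Type*} [Group Γ] (θ : (D.L ⊓ normalizer (D.A : Set G) : Subgroup G) →* Γ)
    (hθ : Function.Surjective θ) (hθk : ∀ n, θ n = 1 ↔ (n : G) ∈ D.A) : Nonempty (Y D π ≃* Γ) := by
  have hNH : D.L ⊓ normalizer (D.A : Set G) ≤ normalizer (D.Q : Set G) := by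
    intro n hn
    rw [mem_inf] at hn
    exact (D.mem_H_iff hn.1).2 hn.2
  let ψ : (D.L ⊓ normalizer (D.A : Set G) : Subgroup G) →* X := π.comp (inclusion hNH)
  have hrange : ψ.range = Y D π := by
    ext y
    constructor
    · rintro ⟨n, rfl⟩
      refine ⟨inclusion hNH n, ?_, rfl⟩
      rw [SetLike.mem_coe, mem_subgroupOf]
      exact n.2
    · rintro ⟨n, hn, rfl⟩
      rw [SetLike.mem_coe, mem_subgroupOf] at hn
      exact ⟨⟨n, hn⟩, rfl⟩
  have hker' : ψ.ker = θ.ker := by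
    ext n
    rw [MonoidHom.mem_ker, MonoidHom.mem_ker, hθk]
    change π (inclusion hNH n) = 1 ↔ _
    rw [hker]
    constructor
    · intro h
      exact D.CA _ (mem_inf.1 n.2).1 (fun a ha => h a (D.AQ ha))
    · intro h q hq
      exact comm_of_sq D.QQ (D.AQ h) hq
  exact ⟨(MulEquiv.subgroupCongr hrange.symm).trans ((QuotientGroup.quotientKerEquivRange ψ).symm.trans
    ((QuotientGroup.quotientMulEquivOfEq hker').trans (QuotientGroup.quotientKerEquivOfSurjective θ hθ)))⟩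

omit hker in
/-- a sign on the quotient gives one on `G` -/
theorem exists_hom_of_quot (m : X →* ℤˣ) (hm : m (tb D π) = -1) : ∃ m : G →* ℤˣ, m D.t = -1 := by
  refine TR.exists_hom_of_class (H := normalizer (D.Q : Set G)) (m.comp π) D.tt D.t_mem_H hm ?_ D.odd_relIndex
  intro g h _
  obtain ⟨k, hk, hk1, -⟩ := D.exists_conj_H g⁻¹ (by rw [inv_inv]; exact h)
  rw [inv_inv] at hk1
  exact ⟨k, hk, hk1.symm⟩

end Quot

end Data

/-- The inductive shape: `C_X(t) = ⟨t⟩ × Y`, `Y ≃ Γ`, `t ^ X ∩ C_X(t) = {t} ∪ t I(Y)`, implies a sign on `X`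
which is `-1` at `t`. -/
def Base.{u, v} (Γ : Type v) [Group Γ] : Prop :=
  ∀ (X : Type u) [Group X] [Finite X] (t : X) (Y : Subgroup X) (_ : Y ≃* Γ), t * t = 1 →
    (∀ g, Commute g t ↔ g ∈ Y ∨ t * g ∈ Y) → t ∉ Y → (∀ g, g * t * g⁻¹ ∉ Y) →
    (∀ y ∈ Y, y * y = 1 → ∃ g, t * y = g * t * g⁻¹) → ∃ m : X →* ℤˣ, m t = -1

universe u v

/-- The reduction to `N_G(Q) / C_G(Q)`. -/
theorem Data.main {G : Type u} [Group G] [Finite G] (D : Data G) {Γ : Type v} [Group Γ]
    (θ : (D.L ⊓ normalizer (D.A : Set G) : Subgroup G) →* Γ) (hθ : Function.Surjective θ)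
    (hθk : ∀ n, θ n = 1 ↔ (n : G) ∈ D.A) (base : Base.{u, v} Γ) : ∃ m : G →* ℤˣ, m D.t = -1 := by
  have hker : ∀ h : normalizer (D.Q : Set G), QuotientGroup.mk' (normalizerMonoidHom D.Q).ker h = 1 ↔
      ∀ q ∈ D.Q, (h : G) * q = q * h := by
    intro h
    rw [← MonoidHom.mem_ker, QuotientGroup.ker_mk', normalizerMonoidHom_ker, mem_subgroupOf, mem_centralizer_iff]
    constructor
    · intro h1 q hq
      exact (h1 q hq).symm
    · intro h1 q hq
      exact (h1 q hq).symm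
  have hsurj := QuotientGroup.mk'_surjective (normalizerMonoidHom D.Q).ker
  obtain ⟨e⟩ := D.exists_equiv _ hker θ hθ hθk
  obtain ⟨m, hm⟩ := base _ (Data.tb D _) (Data.Y D _) e (D.tb_sq _ hker) (D.quot_cent _ hker hsurj)
    (D.tb_notMem _ hker hsurj) (D.quot_DY _ hker hsurj) (D.quot_all _ hker)
  exact D.exists_hom_of_quot _ m hm

end Cfsg.Agent.StdSpSix.QLevel
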