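import Mathlib

/-!
# No transitive group on 36 points with subdegrees 1, 7, 28 whose point stabilizer is 2-transitive on the 7
-/

set_option autoImplicit false
set_option linter.unusedSectionVars false

namespace Cfsg.Agent.StdSpSix.EGraph

open Finset

theorem inv_self {β : Type*} (e : Equiv.Perm β) (x : β) : (e⁻¹ : Equiv.Perm β) (e x) = x := e.symm_apply_apply x

theorem self_inv {β : Type*} (e : Equiv.Perm β) (x : β) : e ((e⁻¹ : Equiv.Perm β) x) = x := e.apply_symm_apply x

variable {α : Type*} [Fintype α] [DecidableEq α]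

/-- The data: `H` acts on `Δ`, `A` and `B` are the nontrivial orbits of the stabilizer of `t`. -/
structure Data (H : Subgroup (Equiv.Perm α)) (Δ A B : Finset α) (t : α) : Prop where
  cardΔ : Δ.card = 36
  cardA : A.card = 7
  cardB : B.card = 28
  mem : ∀ x, x ∈ Δ ↔ x = t ∨ x ∈ A ∨ x ∈ B
  tA : t ∉ A
  disj : Disjoint A B
  inv : ∀ π ∈ H, ∀ x ∈ Δ, π x ∈ Δ
  trans : ∀ x ∈ Δ, ∃ π ∈ H, π t = x
  stab : ∀ π ∈ H, π t = t → ∀ x ∈ A, π x ∈ A
  two : ∃ x₀ y₀, ∀ x ∈ A, ∀ y ∈ A, x ≠ y → ∃ π ∈ H, π t = t ∧ π x₀ = x ∧ π y₀ = y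
  one : ∃ b₀, ∀ x ∈ B, ∃ π ∈ H, π t = t ∧ π b₀ = x

variable {H : Subgroup (Equiv.Perm α)} {Δ A B : Finset α} {t : α}

/-- The orbital of `A`. -/
def R (H : Subgroup (Equiv.Perm α)) (A : Finset α) (t d e : α) : Prop := ∃ π ∈ H, π t = d ∧ ∃ a ∈ A, π a = e

theorem R_map {σ : Equiv.Perm α} (hσ : σ ∈ H) {d e : α} (h : R H A t d e) : R H A t (σ d) (σ e) := by
  obtain ⟨π, hπ, rfl, a, ha, rfl⟩ := h
  exact ⟨σ * π, mul_mem hσ hπ, rfl, a, ha, rfl⟩

theorem R_iff {σ : Equiv.Perm α} (hσ : σ ∈ H) {d e : α} : R H A t (σ d) (σ e) ↔ R H A t d e := by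
  refine ⟨fun h => ?_, R_map hσ⟩
  have := R_map (inv_mem hσ) h
  rwa [inv_self, inv_self] at this

open Classical in
theorem card_image {P Q : α → Prop} {σ : Equiv.Perm α} (S T : Finset α) (hS : ∀ x ∈ S, σ x ∈ T)
    (hT : ∀ x ∈ T, σ⁻¹ x ∈ S) (h : ∀ x, Q (σ x) ↔ P x) : (T.filter Q).card = (S.filter P).card := by
  symm
  refine Finset.card_nbij' σ (σ⁻¹ : Equiv.Perm α) ?_ ?_ ?_ ?_
  · intro x hx
    rw [Finset.mem_coe, Finset.mem_filter] at hx ⊢
    exact ⟨hS x hx.1, (h x).2 hx.2⟩
  · intro x hx
    rw [Finset.mem_coe, Finset.mem_filter] at hx ⊢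
    refine ⟨hT x hx.1, ?_⟩
    rw [← h, self_inv]
    exact hx.2
  · intro x _
    exact inv_self _ _
  · intro x _
    exact self_inv _ _

open Classical in
theorem Data.false (h : Data H Δ A B t) : False := by
  have hΔinv : ∀ π ∈ H, ∀ x ∈ Δ, (π⁻¹ : Equiv.Perm α) x ∈ Δ := fun π hπ x hx => h.inv _ (inv_mem hπ) x hx
  have htΔ : t ∈ Δ := (h.mem t).2 (Or.inl rfl)
  have hAΔ : ∀ x ∈ A, x ∈ Δ := fun x hx => (h.mem x).2 (Or.inr (Or.inl hx))
  have hBΔ : ∀ x ∈ B, x ∈ Δ := fun x hx => (h.mem x).2 (Or.inr (Or.inr hx))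
  -- neighbours of `t`
  have hRt : ∀ e, R H A t t e ↔ e ∈ A := by
    intro e
    constructor
    · rintro ⟨π, hπ, hπt, a, ha, rfl⟩
      exact h.stab π hπ hπt a ha
    · intro he
      exact ⟨1, one_mem _, rfl, e, he, rfl⟩
  have hRtt : ¬ R H A t t t := fun h' => h.tA ((hRt t).1 h')
  have hirr : ∀ d ∈ Δ, ¬ R H A t d d := by
    intro d hd h'
    obtain ⟨π, hπ, rfl⟩ := h.trans d hd
    exact hRtt ((R_iff hπ).1 h')
  have h7 : ∀ d ∈ Δ, (Δ.filter fun e => R H A t d e).card = 7 := by
    intro d hd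
    obtain ⟨π, hπ, rfl⟩ := h.trans d hd
    rw [card_image (σ := π) (P := fun e => R H A t t e) Δ Δ (h.inv π hπ) (hΔinv π hπ) (fun x => R_iff hπ)]
    have : (Δ.filter fun e => R H A t t e) = A := by
      ext e
      rw [Finset.mem_filter, hRt]
      exact ⟨fun h' => h'.2, fun h' => ⟨hAΔ e h', h'⟩⟩
    rw [this, h.cardA]
  have h7' : ∀ e ∈ Δ, (Δ.filter fun d => R H A t d e).card = (Δ.filter fun d => R H A t d t).card := by
    intro e he
    obtain ⟨π, hπ, rfl⟩ := h.trans e he
    exact card_image (σ := π) (P := fun d => R H A t d t) Δ Δ (h.inv π hπ) (hΔinv π hπ) (fun x => R_iff hπ)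
  -- double counting
  have hdc := Finset.sum_card_bipartiteAbove_eq_sum_card_bipartiteBelow (s := Δ) (t := Δ) (R H A t)
  unfold Finset.bipartiteAbove Finset.bipartiteBelow at hdc
  rw [Finset.sum_congr rfl h7, Finset.sum_congr rfl h7', Finset.sum_const, Finset.sum_const, h.cardΔ,
    smul_eq_mul, smul_eq_mul] at hdc
  have hc : (Δ.filter fun d => R H A t d t).card = 7 := by omega
  -- the inverse neighbours of `t`
  have hS : (Δ.filter fun d => R H A t d t) ⊆ A := by
    intro d hd
    rw [Finset.mem_filter] at hd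
    rcases (h.mem d).1 hd.1 with rfl | h1 | h1
    · exact (hRtt hd.2).elim
    · exact h1
    · exfalso
      have hB : B ⊆ Δ.filter fun d => R H A t d t := by
        intro b hb
        rw [Finset.mem_filter]
        refine ⟨hBΔ b hb, ?_⟩
        obtain ⟨b₀, hb₀⟩ := h.one
        obtain ⟨π, hπ, hπt, hπb⟩ := hb₀ d h1
        obtain ⟨σ, hσ, hσt, hσb⟩ := hb₀ b hb
        have h2 : R H A t b₀ t := by
          rw [← R_iff hπ, hπb, hπt]
          exact hd.2
        rw [← R_iff hσ, hσb, hσt] at h2
        exact h2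
      have := Finset.card_le_card hB
      rw [hc, h.cardB] at this
      omega
  have hSA := Finset.eq_of_subset_of_card_le hS (by rw [hc, h.cardA])
  have hAt : ∀ a ∈ A, R H A t a t := by
    intro a ha
    rw [← hSA, Finset.mem_filter] at ha
    exact ha.2
  have hsymm : ∀ d e, R H A t d e → R H A t e d := by
    rintro _ _ ⟨π, hπ, rfl, a, ha, rfl⟩
    exact R_map hπ (hAt a ha)
  obtain ⟨x₀, y₀, h2⟩ := h.two
  by_cases hxy : R H A t x₀ y₀
  · -- blocks of size 8
    have hall : ∀ x ∈ A, ∀ y ∈ A, x ≠ y → R H A t x y := by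
      intro x hx y hy hne
      obtain ⟨π, hπ, -, rfl, rfl⟩ := h2 x hx y hy hne
      exact (R_iff hπ).2 hxy
    set K : Finset α := insert t A with hK
    have hKc : K.card = 8 := by rw [hK, Finset.card_insert_of_notMem h.tA, h.cardA]
    have hKΔ : K ⊆ Δ := by
      intro x hx
      rw [hK, Finset.mem_insert] at hx
      rcases hx with rfl | hx
      · exact htΔ
      · exact hAΔ x hx
    set N : α → Finset α := fun d => Δ.filter fun e => e = d ∨ R H A t d e with hN
    have hNc : ∀ d ∈ Δ, (N d).card = 8 := by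
      intro d hd
      have e1 : N d = insert d (Δ.filter fun e => R H A t d e) := by
        ext e
        rw [hN, Finset.mem_filter, Finset.mem_insert, Finset.mem_filter]
        constructor
        · rintro ⟨h1, h3 | h3⟩
          · exact Or.inl h3
          · exact Or.inr ⟨h1, h3⟩
        · rintro (h1 | h1)
          · rw [h1]
            exact ⟨hd, Or.inl rfl⟩
          · exact ⟨h1.1, Or.inr h1.2⟩
      rw [e1, Finset.card_insert_of_notMem, h7 d hd]
      rw [Finset.mem_filter]
      exact fun h' => hirr d hd h'.2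
    have hNK : ∀ x ∈ K, N x = K := by
      intro x hx
      have h3 : K ⊆ N x := by
        intro y hy
        rw [hN, Finset.mem_filter]
        refine ⟨hKΔ hy, ?_⟩
        by_cases hyx : y = x
        · exact Or.inl hyx
        right
        rw [hK, Finset.mem_insert] at hx hy
        rcases hx with rfl | hx
        · rcases hy with rfl | hy
          · exact (hyx rfl).elim
          · exact (hRt y).2 hy
        · rcases hy with rfl | hy
          · exact hAt x hx
          · exact hall x hx y hy (Ne.symm hyx)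
      exact (Finset.eq_of_subset_of_card_le h3 (by rw [hKc, hNc x (hKΔ hx)])).symm
    have hNeq : ∀ d ∈ Δ, ∀ e ∈ Δ, e ∈ N d → N e = N d := by
      intro d hd e he hed
      obtain ⟨π, hπ, rfl⟩ := h.trans d hd
      have hNπ : ∀ x y, y ∈ N (π x) ↔ (π⁻¹ : Equiv.Perm α) y ∈ N x := by
        intro x y
        rw [hN, Finset.mem_filter, Finset.mem_filter]
        obtain ⟨z, rfl⟩ := π.surjective y
        rw [inv_self, R_iff hπ, π.injective.eq_iff]
        constructor
        · rintro ⟨h1, h3⟩
          refine ⟨?_, h3⟩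
          have := hΔinv π hπ _ h1
          rwa [inv_self] at this
        · rintro ⟨h1, h3⟩
          exact ⟨h.inv π hπ z h1, h3⟩
      rw [hNπ, hNK t (Finset.mem_insert_self _ _)] at hed
      obtain ⟨z, rfl⟩ := π.surjective e
      rw [inv_self] at hed
      ext y
      rw [hNπ, hNπ, hNK z hed, hNK t (Finset.mem_insert_self _ _)]
    have hself : ∀ d ∈ Δ, d ∈ N d := by
      intro d hd
      rw [hN, Finset.mem_filter]
      exact ⟨hd, Or.inl rfl⟩
    have hcount := Finset.card_eq_sum_card_image N Δ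
    have hfib : ∀ b ∈ Δ.image N, (Δ.filter fun a => N a = b).card = 8 := by
      intro b hb
      obtain ⟨d, hd, rfl⟩ := Finset.mem_image.1 hb
      have : (Δ.filter fun a => N a = N d) = N d := by
        ext a
        rw [Finset.mem_filter]
        constructor
        · rintro ⟨h1, h3⟩
          rw [← h3]
          exact hself a h1
        · intro h1
          have h3 : a ∈ Δ := by
            rw [hN, Finset.mem_filter] at h1
            exact h1.1
          exact ⟨h3, hNeq d hd a h3 h1⟩
      rw [this, hNc d hd]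
    rw [Finset.sum_congr rfl hfib, Finset.sum_const, h.cardΔ, smul_eq_mul] at hcount
    omega
  · have hall : ∀ x ∈ A, ∀ y ∈ A, ¬ R H A t x y := by
      intro x hx y hy
      by_cases hne : x = y
      · rw [hne]
        exact hirr y (hAΔ y hy)
      obtain ⟨π, hπ, -, rfl, rfl⟩ := h2 x hx y hy hne
      exact fun h' => hxy ((R_iff hπ).1 h')
    have h6 : ∀ x ∈ A, (B.filter fun e => R H A t x e).card = 6 := by
      intro x hx
      have e1 : (Δ.filter fun e => R H A t x e) = insert t (B.filter fun e => R H A t x e) := by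
        ext e
        rw [Finset.mem_filter, Finset.mem_insert, Finset.mem_filter]
        constructor
        · rintro ⟨h1, h3⟩
          rcases (h.mem e).1 h1 with h4 | h4 | h4
          · exact Or.inl h4
          · exact (hall x hx e h4 h3).elim
          · exact Or.inr ⟨h4, h3⟩
        · rintro (h1 | h1)
          · rw [h1]
            exact ⟨htΔ, hAt x hx⟩
          · exact ⟨hBΔ e h1.1, h1.2⟩
      have htB : t ∉ B.filter fun e => R H A t x e := by
        rw [Finset.mem_filter]
        rintro ⟨h1, -⟩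
        have h3 := h.cardΔ
        have h4 : Δ ⊆ A ∪ B := by
          intro y hy
          rw [Finset.mem_union]
          rcases (h.mem y).1 hy with h5 | h5 | h5
          · rw [h5]; exact Or.inr h1
          · exact Or.inl h5
          · exact Or.inr h5
        have h5 := Finset.card_le_card h4
        have h6 := Finset.card_union_le A B
        rw [h.cardA, h.cardB] at h6
        omega
      have := h7 x (hAΔ x hx)
      rw [e1, Finset.card_insert_of_notMem htB] at this
      omega
    obtain ⟨b₀, hb₀⟩ := h.one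
    have hμ : ∀ e ∈ B, (A.filter fun x => R H A t x e).card = (A.filter fun x => R H A t x b₀).card := by
      intro e he
      obtain ⟨π, hπ, hπt, rfl⟩ := hb₀ e he
      refine card_image (σ := π) (P := fun d => R H A t d b₀) A A (h.stab π hπ hπt) ?_ (fun x => R_iff hπ)
      refine h.stab _ (inv_mem hπ) ?_
      rw [Equiv.Perm.inv_eq_iff_eq, hπt]
    have hdc2 := Finset.sum_card_bipartiteAbove_eq_sum_card_bipartiteBelow (s := A) (t := B) (R H A t)
    unfold Finset.bipartiteAbove Finset.bipartiteBelow at hdc2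
    rw [Finset.sum_congr rfl h6, Finset.sum_congr rfl hμ, Finset.sum_const, Finset.sum_const, h.cardA, h.cardB,
      smul_eq_mul, smul_eq_mul] at hdc2
    omega

end Cfsg.Agent.StdSpSix.EGraph
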