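import Cfsg.Agent.StdSpSix.Model
import Cfsg.Agent.SporRec.TwoSp6.Invol

/-!
# Words in coded transvections

`W ks` = product of the transvections with codes `ks` in the concrete `Sp₆(2)`; two words are equal as soon as they
act in the same way on the 64 codes (`W_eq`, by `decide`).  Codes: `1,2,4` span a t.i. plane, `8,16,32` are dual.
Normal forms: `b1 = W [1]`, `c2 = W [1,2]`, `a2 = W [1,2,3]`, `b3 = W [1,2,4]`.
-/

set_option autoImplicit false

namespace Cfsg.Agent.StdSpSix.Words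

open Cfsg.Agent.StandardComponent.SpTwo
open Cfsg.Agent.SporRec.TwoSp6

/-- The transvection with code `k` on codes. -/
def tc (k c : ℕ) : ℕ := if Sp.fN c k then c ^^^ k else c

theorem act_tc (k c : ℕ) : Sp.act (Sp.tr (Sp.enc k)) (Sp.enc c) = Sp.enc (tc k c) := by
  rw [Sp.act_tr, Sp.om_enc]
  unfold tc
  by_cases h : Sp.fN c k
  · rw [if_pos h, if_pos h, one_smul, Sp.enc_xor]
  · rw [if_neg h, if_neg h, zero_smul, add_zero]

/-- A word on codes. -/
def wc (ks : List ℕ) (c : ℕ) : ℕ := ks.foldr tc c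

/-- A word in the concrete group. -/
noncomputable def W (ks : List ℕ) : Sp.S := (ks.map fun k => Sp.tr (Sp.enc k)).prod

theorem W_nil : W [] = 1 := rfl

theorem W_cons (k : ℕ) (ks : List ℕ) : W (k :: ks) = Sp.tr (Sp.enc k) * W ks := by
  unfold W; rw [List.map_cons, List.prod_cons]

theorem W_append (ks ls : List ℕ) : W (ks ++ ls) = W ks * W ls := by
  unfold W; rw [List.map_append, List.prod_append]

theorem act_W (ks : List ℕ) (c : ℕ) : Sp.act (W ks) (Sp.enc c) = Sp.enc (wc ks c) := by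
  induction ks with
  | nil => rw [W_nil, Sp.act_one]; rfl
  | cons k ks ih =>
    rw [W_cons, Sp.act_mul, ih, act_tc]; rfl

theorem W_eq {ks ls : List ℕ} (h : ∀ c < 64, wc ks c = wc ls c) : W ks = W ls := by
  apply Sp.act_ext
  intro x
  obtain ⟨c, hc, rfl⟩ := Sp.exists_enc x
  rw [act_W, act_W, h c hc]

theorem W_inv (ks : List ℕ) : (W ks)⁻¹ = W ks.reverse := by
  rw [inv_eq_iff_mul_eq_one]
  induction ks with
  | nil => rw [W_nil, one_mul]; rfl
  | cons k ks ih =>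
    rw [List.reverse_cons, W_append, W_cons, W_cons, W_nil, mul_one]
    calc Sp.tr (Sp.enc k) * W ks * (W ks.reverse * Sp.tr (Sp.enc k))
        = Sp.tr (Sp.enc k) * (W ks * W ks.reverse) * Sp.tr (Sp.enc k) := by group
      _ = 1 := by rw [ih, mul_one, Sp.tr_sq]

theorem W_commute {ks ls : List ℕ} (h : ∀ c < 64, wc (ks ++ ls) c = wc (ls ++ ks) c) : Commute (W ks) (W ls) := by
  change W ks * W ls = W ls * W ks
  rw [← W_append, ← W_append]
  exact W_eq h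

theorem W_mul_eq {ks ls ms : List ℕ} (h : ∀ c < 64, wc (ks ++ ls) c = wc ms c) : W ks * W ls = W ms := by
  rw [← W_append]
  exact W_eq h

/-! ### the four classes of involutions -/

variable {X V : Type*} [Group X] [AddCommGroup V] [Module (ZMod 2) V] (D : SpData X V)

/-- transvections -/
def IsB1 (x : X) : Prop := ∃ u, u ≠ 0 ∧ x = D.τ u

/-- products of two commuting transvections -/
def IsC2 (x : X) : Prop := ∃ u w, u ≠ 0 ∧ w ≠ 0 ∧ w ≠ u ∧ D.B u w = 0 ∧ x = D.τ u * D.τ w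

/-- products of the three transvections of a t.i. line -/
def IsA2 (x : X) : Prop := ∃ u w, u ≠ 0 ∧ w ≠ 0 ∧ w ≠ u ∧ D.B u w = 0 ∧ x = D.τ u * D.τ w * D.τ (u + w)

/-- products of three independent commuting transvections -/
def IsB3 (x : X) : Prop := ∃ u w t, (u ≠ 0 ∧ w ≠ 0 ∧ w ≠ u ∧ t ≠ 0 ∧ t ≠ u ∧ t ≠ w ∧ t ≠ u + w) ∧
  (D.B u w = 0 ∧ D.B u t = 0 ∧ D.B w t = 0) ∧ x = D.τ u * D.τ w * D.τ t

theorem ne_of_enc {c d : ℕ} (hc : c < 64) (hd : d < 64) (h : c ≠ d) : Sp.enc c ≠ Sp.enc d := by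
  have key : ∀ c d : Fin 64, Sp.enc c = Sp.enc d → c = d := by decide +kernel
  intro h'
  exact h (congrArg Fin.val (key ⟨c, hc⟩ ⟨d, hd⟩ h'))

theorem enc_zero : Sp.enc 0 = 0 := by decide

section
variable {D} (K : Model.Coord D)

/-- a word in `X` -/
noncomputable def w (ks : List ℕ) : X := K.e (W ks)

theorem e_tr (u : Sp.V) : K.e (Sp.tr u) = D.τ (K.f u) := K.tr u

theorem B_f (u v : Sp.V) : D.B (K.f u) (K.f v) = Sp.om u v := K.om u v

theorem f_ne {u v : Sp.V} : K.f u ≠ K.f v ↔ u ≠ v := K.f.injective.ne_iff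

/-- Every involution is conjugate to one of the four normal forms. -/
theorem exists_conj {x : X} (hx : x * x = 1) (h1 : x ≠ 1) :
    (IsB1 D x ∧ ∃ g, g * x * g⁻¹ = w K [1]) ∨ (IsC2 D x ∧ ∃ g, g * x * g⁻¹ = w K [1, 2]) ∨
    (IsA2 D x ∧ ∃ g, g * x * g⁻¹ = w K [1, 2, 3]) ∨ (IsB3 D x ∧ ∃ g, g * x * g⁻¹ = w K [1, 2, 4]) := by
  obtain ⟨y, rfl⟩ := K.e.surjective x
  have hy : y * y = 1 := by
    apply K.e.injective
    rw [map_mul, hx, map_one]
  have hy1 : y ≠ 1 := by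
    rintro rfl
    exact h1 (map_one _)
  have key : ∀ {z : Sp.S} {g : Sp.S}, g * y * g⁻¹ = z → ∃ g : X, g * K.e y * g⁻¹ = K.e z := by
    intro z g hg
    exact ⟨K.e g, by rw [← hg, map_mul, map_mul, map_inv]⟩
  have c1 : Sp.enc 1 ≠ 0 := by decide
  have c2 : Sp.enc 2 ≠ 0 := by decide
  have c21 : Sp.enc 2 ≠ Sp.enc 1 := by decide
  have c12 : Sp.om (Sp.enc 1) (Sp.enc 2) = 0 := by decide
  rcases Invol.classify hy hy1 with ⟨u, hu, rfl⟩ | ⟨u, v, hu, hv, hvu, huv, rfl⟩ | ⟨u, v, hu, hv, hvu, huv, rfl⟩ |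
    ⟨u, v, t, hI, hO, rfl⟩
  · left
    refine ⟨⟨K.f u, by rw [← map_zero K.f]; exact (f_ne K).2 hu, e_tr K u⟩, ?_⟩
    obtain ⟨g, hg⟩ := Sp.exists_act hu c1
    apply key (g := g)
    rw [Sp.conj_tr, hg, W_cons, W_nil, mul_one]
  · right; left
    refine ⟨⟨K.f u, K.f v, by rw [← map_zero K.f]; exact (f_ne K).2 hu, by rw [← map_zero K.f]; exact (f_ne K).2 hv,
      (f_ne K).2 hvu, by rw [B_f]; exact huv, by rw [map_mul, e_tr, e_tr]⟩, ?_⟩
    obtain ⟨g, hg1, hg2⟩ := Sp.exists_pair hu hv hvu huv c1 c2 c21 c12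
    apply key (g := g)
    have : g * (Sp.tr u * Sp.tr v) * g⁻¹ = (g * Sp.tr u * g⁻¹) * (g * Sp.tr v * g⁻¹) := by group
    rw [this, Sp.conj_tr, Sp.conj_tr, hg1, hg2, W_cons, W_cons, W_nil, mul_one]
  · right; right; left
    refine ⟨⟨K.f u, K.f v, by rw [← map_zero K.f]; exact (f_ne K).2 hu, by rw [← map_zero K.f]; exact (f_ne K).2 hv,
      (f_ne K).2 hvu, by rw [B_f]; exact huv, by rw [map_mul, map_mul, e_tr, e_tr, e_tr, map_add]⟩, ?_⟩
    obtain ⟨g, hg1, hg2⟩ := Sp.exists_pair hu hv hvu huv c1 c2 c21 c12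
    apply key (g := g)
    have : g * (Sp.tr u * Sp.tr v * Sp.tr (u + v)) * g⁻¹ =
        (g * Sp.tr u * g⁻¹) * (g * Sp.tr v * g⁻¹) * (g * Sp.tr (u + v) * g⁻¹) := by group
    rw [this, Sp.conj_tr, Sp.conj_tr, Sp.conj_tr, Sp.act_add, hg1, hg2, W_cons, W_cons, W_cons, W_nil, mul_one,
      ← Sp.enc_xor, mul_assoc]
    rfl
  · right; right; right
    refine ⟨⟨K.f u, K.f v, K.f t, ⟨?_, ?_, ?_, ?_, ?_, ?_, ?_⟩, ⟨?_, ?_, ?_⟩, by rw [map_mul, map_mul, e_tr, e_tr, e_tr]⟩, ?_⟩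
    · rw [← map_zero K.f]; exact (f_ne K).2 hI.1
    · rw [← map_zero K.f]; exact (f_ne K).2 hI.2.1
    · exact (f_ne K).2 hI.2.2.1
    · rw [← map_zero K.f]; exact (f_ne K).2 hI.2.2.2.1
    · exact (f_ne K).2 hI.2.2.2.2.1
    · exact (f_ne K).2 hI.2.2.2.2.2.1
    · rw [← map_add]; exact (f_ne K).2 hI.2.2.2.2.2.2
    · rw [B_f]; exact hO.1
    · rw [B_f]; exact hO.2.1
    · rw [B_f]; exact hO.2.2
    · obtain ⟨g, hg1, hg2, hg3⟩ := Invol.exists_triple hI hO (u' := Sp.enc 1) (w' := Sp.enc 2) (t' := Sp.enc 4)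
        (by decide) (by unfold Invol.Orth; decide)
      apply key (g := g)
      have : g * (Sp.tr u * Sp.tr v * Sp.tr t) * g⁻¹ =
          (g * Sp.tr u * g⁻¹) * (g * Sp.tr v * g⁻¹) * (g * Sp.tr t * g⁻¹) := by group
      rw [this, Sp.conj_tr, Sp.conj_tr, Sp.conj_tr, hg1, hg2, hg3, W_cons, W_cons, W_cons, W_nil, mul_one, mul_assoc]

end

end Cfsg.Agent.StdSpSix.Words
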