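import Cfsg.Agent.StdSpSix.EType
import Cfsg.Agent.StdSpSix.Words
import Cfsg.Agent.StdSpSix.EGraph

/-!
# The group `E = ⟨t⟩ × A_W` of order `2⁷`

Codes `e < 128` for the elements of `E`; `N_G(E)` is transitive on `D ∩ E`; the permutations of the codes induced by
`N_G(E)`.
-/

set_option autoImplicit false

namespace Cfsg.Agent.StdSpSix.ELevel

open Subgroup
open Cfsg.Agent.StandardComponent.SpTwo
open Cfsg.Agent.SporRec.TwoSp6
open Cfsg.Agent.StdSpSix.EMask Cfsg.Agent.StdSpSix.EA Cfsg.Agent.StdSpSix.EType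

section ctx
variable {G V : Type*} [Group G] [AddCommGroup V] [Module (ZMod 2) V] (C : Ctx G V) (K : Model.Coord C.S)

/-- `a m` in the group `G`. -/
noncomputable def ga (m : ℕ) : G := ((K.e (a m) : C.L) : G)

theorem ga_xor (m n : ℕ) : ga C K (m ^^^ n) = ga C K m * ga C K n := by
  unfold ga
  rw [a_xor, map_mul]
  rfl

theorem ga_zero : ga C K 0 = 1 := by
  unfold ga
  rw [a_zero, map_one]
  rfl

theorem ga_mem (m : ℕ) : ga C K m ∈ C.L := (K.e (a m)).2

theorem ga_t (m : ℕ) : ga C K m * C.t = C.t * ga C K m := C.commute_of_mem (ga_mem C K m)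

theorem eq_zero_of_ga {m : ℕ} (hm : m < 64) (h : ga C K m = 1) : m = 0 := by
  have h1 : K.e (a m) = 1 := Subtype.ext h
  exact eq_zero_of_a hm (K.e.injective (h1.trans (map_one K.e).symm))

/-- `1` or `t`. -/
def tp (b : Bool) : G := bif b then C.t else 1

theorem tp_mul (b c : Bool) : tp C b * tp C c = tp C (b ^^ c) := by
  cases b <;> cases c
  · exact one_mul 1
  · exact one_mul C.t
  · exact mul_one C.t
  · exact C.tt

theorem tp_comm (b : Bool) (m : ℕ) : ga C K m * tp C b = tp C b * ga C K m := by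
  cases b
  · exact (mul_one _).trans (one_mul _).symm
  · exact ga_t C K m

/-- The element with a given code. -/
noncomputable def el (e : ℕ) : G := tp C (e.testBit 6) * ga C K (e % 64)

theorem nm_lt : ∀ m < 128, nm m < 64 := by decide +kernel

theorem qm_lt {T : ℕ} (hT : T < 512) (hg : good T = true) (m : ℕ) : qm T m < 64 := by
  refine nm_lt _ ?_
  have h : ∀ c i, 1 ≤ c → c < 8 → bt m i (2 ^ (lin T c - 1)) < 2 ^ 7 := by
    intro c i h1 h2
    unfold bt
    split_ifs
    · have h3 := good_lt T hT c h2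
      exact Nat.pow_lt_pow_right (by norm_num) (by omega)
    · norm_num
  exact Nat.xor_lt_two_pow (n := 7) (h 1 0 (by omega) (by omega)) (Nat.xor_lt_two_pow (h 2 1 (by omega) (by omega))
    (Nat.xor_lt_two_pow (h 3 2 (by omega) (by omega)) (Nat.xor_lt_two_pow (h 4 3 (by omega) (by omega))
    (Nat.xor_lt_two_pow (h 5 4 (by omega) (by omega)) (Nat.xor_lt_two_pow (h 6 5 (by omega) (by omega))
    (h 7 6 (by omega) (by omega)))))))

theorem el_xor (e f : ℕ) : el C K (e ^^^ f) = el C K e * el C K f := by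
  unfold el
  have h : (e ^^^ f) % 64 = (e % 64) ^^^ (f % 64) := Nat.xor_mod_two_pow (n := 6)
  rw [Nat.testBit_xor, h, ga_xor, ← tp_mul]
  calc tp C (e.testBit 6) * tp C (f.testBit 6) * (ga C K (e % 64) * ga C K (f % 64))
      = tp C (e.testBit 6) * (tp C (f.testBit 6) * ga C K (e % 64)) * ga C K (f % 64) := by group
    _ = tp C (e.testBit 6) * (ga C K (e % 64) * tp C (f.testBit 6)) * ga C K (f % 64) := by rw [tp_comm]
    _ = tp C (e.testBit 6) * ga C K (e % 64) * (tp C (f.testBit 6) * ga C K (f % 64)) := by group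

theorem el_zero : el C K 0 = 1 := by
  unfold el
  rw [Nat.zero_testBit, Nat.zero_mod, ga_zero]
  exact one_mul 1

theorem el_sq (e : ℕ) : el C K e * el C K e = 1 := by
  rw [← el_xor, Nat.xor_self, el_zero]

theorem el_comm (e f : ℕ) : el C K e * el C K f = el C K f * el C K e := by
  rw [← el_xor, ← el_xor, Nat.xor_comm]

theorem el_inv (e : ℕ) : (el C K e)⁻¹ = el C K e := inv_eq_of_mul_eq_one_right (el_sq C K e)

theorem el_lo {m : ℕ} (hm : m < 64) : el C K m = ga C K m := by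
  unfold el
  have h : ∀ m < 64, Nat.testBit m 6 = false := by decide +kernel
  rw [h m hm, Nat.mod_eq_of_lt hm]
  exact one_mul _

theorem el_hi {m : ℕ} (hm : m < 64) : el C K (m + 64) = C.t * ga C K m := by
  unfold el
  have h : ∀ m < 64, Nat.testBit (m + 64) 6 = true := by decide +kernel
  rw [h m hm, Nat.add_mod_right, Nat.mod_eq_of_lt hm]
  rfl

theorem el_t : el C K 64 = C.t := by
  have := el_hi C K (m := 0) (by norm_num)
  rw [zero_add, ga_zero, mul_one] at this
  exact this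

theorem eq_zero_of_el {e : ℕ} (he : e < 128) (h : el C K e = 1) : e = 0 := by
  by_cases h1 : e < 64
  · rw [el_lo C K h1] at h
    exact eq_zero_of_ga C K h1 h
  · obtain ⟨m, rfl⟩ := Nat.exists_eq_add_of_le' (not_lt.1 h1)
    exfalso
    rw [el_hi C K (by omega)] at h
    apply C.tL
    rw [eq_inv_of_mul_eq_one_left h]
    exact inv_mem (ga_mem C K m)

theorem el_inj {e f : ℕ} (he : e < 128) (hf : f < 128) (h : el C K e = el C K f) : e = f := by
  have h1 : el C K (e ^^^ f) = 1 := by rw [el_xor, h, el_sq]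
  exact Nat.xor_eq_zero_iff.1 (eq_zero_of_el C K (Nat.xor_lt_two_pow (n := 7) he hf) h1)

/-- The group `⟨t⟩ × A`. -/
def E : Subgroup G where
  carrier := {x | ∃ e < 128, x = el C K e}
  one_mem' := ⟨0, by norm_num, (el_zero C K).symm⟩
  mul_mem' := by
    rintro _ _ ⟨e, he, rfl⟩ ⟨f, hf, rfl⟩
    exact ⟨e ^^^ f, Nat.xor_lt_two_pow (n := 7) he hf, (el_xor C K e f).symm⟩
  inv_mem' := by
    rintro _ ⟨e, he, rfl⟩
    exact ⟨e, he, el_inv C K e⟩

theorem mem_E {x : G} : x ∈ E C K ↔ ∃ e < 128, x = el C K e := Iff.rfl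

theorem el_mem {e : ℕ} (he : e < 128) : el C K e ∈ E C K := ⟨e, he, rfl⟩

theorem t_mem_E : C.t ∈ E C K := by
  rw [← el_t C K]
  exact el_mem C K (by norm_num)

theorem card_E : Nat.card (E C K) = 128 := by
  have hb : Function.Bijective (fun e : Fin 128 => (⟨el C K e.val, el_mem C K e.2⟩ : E C K)) := by
    constructor
    · intro e f h
      exact Fin.ext (el_inj C K e.2 f.2 (congrArg Subtype.val h))
    · rintro ⟨_, e, he, rfl⟩
      exact ⟨⟨e, he⟩, rfl⟩
  rw [← Nat.card_congr (Equiv.ofBijective _ hb), Nat.card_eq_fintype_card, Fintype.card_fin]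

theorem E_comm {x y : G} (hx : x ∈ E C K) (hy : y ∈ E C K) : x * y = y * x := by
  obtain ⟨e, -, rfl⟩ := hx
  obtain ⟨f, -, rfl⟩ := hy
  exact el_comm C K e f

theorem E_sq {x : G} (hx : x ∈ E C K) : x * x = 1 := by
  obtain ⟨e, -, rfl⟩ := hx
  exact el_sq C K e

/-- `A` inside `C.L`. -/
def AL : Subgroup C.L := A.map K.e.toMonoidHom

theorem facts_AL : QLevelModel.Facts (AL C K) := by
  refine QLevelSp.facts_equiv K.e (A := A) (fun x => ?_) facts_A
  exact (mem_map_iff_mem (f := K.e.toMonoidHom) K.e.injective).symm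

theorem mem_AL {x : C.L} : x ∈ AL C K ↔ (x : G) ∈ E C K := by
  constructor
  · rintro ⟨y, hy, rfl⟩
    obtain ⟨m, hm, rfl⟩ := mem_A.1 hy
    exact ⟨m, by omega, (el_lo C K hm).symm⟩
  · rintro ⟨e, he, h⟩
    by_cases h1 : e < 64
    · rw [el_lo C K h1] at h
      exact ⟨a e, a_mem e, Subtype.ext h.symm⟩
    · exfalso
      obtain ⟨m, rfl⟩ := Nat.exists_eq_add_of_le' (not_lt.1 h1)
      rw [el_hi C K (by omega)] at h
      apply C.tL
      have h2 : C.t = (x : G) * (ga C K m)⁻¹ := by rw [h]; group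
      rw [h2]
      exact mul_mem x.2 (inv_mem (ga_mem C K m))

/-- **Transitivity**: `N_G(E)` is transitive on `D ∩ E`. -/
theorem exists_norm [Finite G] {s : G} (hs : s ∈ C.D) (hE : s ∈ E C K) :
    ∃ n : G, (∀ x, n * x * n⁻¹ ∈ E C K ↔ x ∈ E C K) ∧ n * C.t * n⁻¹ = s := by
  obtain ⟨g, rfl⟩ := hs
  set E' : Subgroup G := (E C K).comap (MulAut.conj g).toMonoidHom with hE'
  have hm : ∀ x, x ∈ E' ↔ g * x * g⁻¹ ∈ E C K := fun x => Iff.rfl
  have htE' : C.t ∈ E' := (hm _).2 hE
  have hcomm : ∀ x ∈ E', Commute x C.t := by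
    intro x hx
    have h1 := E_comm C K ((hm x).1 hx) hE
    change x * C.t = C.t * x
    have h2 : g * (x * C.t) * g⁻¹ = g * (C.t * x) * g⁻¹ := by
      calc g * (x * C.t) * g⁻¹ = g * x * g⁻¹ * (g * C.t * g⁻¹) := by group
        _ = g * C.t * g⁻¹ * (g * x * g⁻¹) := h1
        _ = g * (C.t * x) * g⁻¹ := by group
    exact mul_left_cancel (mul_right_cancel h2)
  have hor : ∀ x ∈ E', x ∈ C.L ∨ C.t * x ∈ C.L := fun x hx => (C.cent x).1 (hcomm x hx)
  have hsq : ∀ x ∈ E', x * x = 1 := by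
    intro x hx
    have h1 := E_sq C K ((hm x).1 hx)
    calc x * x = g⁻¹ * (g * x * g⁻¹ * (g * x * g⁻¹)) * g := by group
      _ = 1 := by rw [h1]; group
  have hcE' : Nat.card E' = 128 := by
    rw [← card_E C K]
    refine Nat.card_congr
      { toFun := fun x => ⟨g * x * g⁻¹, (hm x).1 x.2⟩
        invFun := fun y => ⟨g⁻¹ * y * g, (hm _).2 (by
          have : g * (g⁻¹ * (y : G) * g) * g⁻¹ = y := by group
          rw [this]; exact y.2)⟩
        left_inv := fun x => Subtype.ext (by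
          change g⁻¹ * (g * (x : G) * g⁻¹) * g = x
          group)
        right_inv := fun y => Subtype.ext (by
          change g * (g⁻¹ * (y : G) * g) * g⁻¹ = y
          group) }
  set B : Subgroup C.L := E'.subgroupOf C.L with hB
  have hmB : ∀ x : C.L, x ∈ B ↔ (x : G) ∈ E' := fun x => Iff.rfl
  have hBc : 64 ≤ Nat.card B := by
    classical
    have hinj : Nat.card E' ≤ Nat.card (B × Bool) := by
      refine Nat.card_le_card_of_injective (fun x : E' => if h : (x : G) ∈ C.L then ((⟨⟨x, h⟩, x.2⟩ : B), true)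
        else ((⟨⟨C.t * x, (hor x x.2).resolve_left h⟩, mul_mem htE' x.2⟩ : B), false)) ?_
      intro x y hxy
      dsimp only at hxy
      by_cases hx : (x : G) ∈ C.L <;> by_cases hy : (y : G) ∈ C.L
      · rw [dif_pos hx, dif_pos hy] at hxy
        have h1 := congrArg (fun p => ((p.1 : C.L) : G)) hxy
        exact Subtype.ext h1
      · rw [dif_pos hx, dif_neg hy] at hxy
        have h1 : true = false := congrArg Prod.snd hxy
        exact Bool.noConfusion h1
      · rw [dif_neg hx, dif_pos hy] at hxy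
        have h1 : false = true := congrArg Prod.snd hxy
        exact Bool.noConfusion h1
      · rw [dif_neg hx, dif_neg hy] at hxy
        have h1 : C.t * (x : G) = C.t * y := congrArg (fun p => ((p.1 : C.L) : G)) hxy
        exact Subtype.ext (mul_left_cancel h1)
    rw [hcE', Nat.card_prod, Nat.card_eq_fintype_card (α := Bool), Fintype.card_bool] at hinj
    omega
  obtain ⟨l, hl⟩ := (facts_AL C K).sat B (fun x hx => Subtype.ext (hsq x hx)) hBc
  have hlt : (l : G) * C.t = C.t * l := C.commute_of_mem l.2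
  have hlt' : (l : G)⁻¹ * C.t = C.t * (l : G)⁻¹ := C.commute_of_mem (inv_mem l.2)
  have hltl : (l : G)⁻¹ * C.t * l = C.t := by rw [hlt', mul_assoc, inv_mul_cancel, mul_one]
  have htE : C.t ∈ E C K := t_mem_E C K
  -- `E' = l E l⁻¹`
  have key : ∀ y : G, y ∈ E' ↔ (l : G)⁻¹ * y * l ∈ E C K := by
    intro y
    have hL : ∀ y : G, y ∈ C.L → (y ∈ E' ↔ (l : G)⁻¹ * y * l ∈ E C K) := by
      intro y hy
      have h1 := hl ⟨y, hy⟩
      rw [hmB, mem_AL] at h1
      exact h1
    have htl : (l : G)⁻¹ * (C.t * y) * l = C.t * ((l : G)⁻¹ * y * l) := by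
      calc (l : G)⁻¹ * (C.t * y) * l = ((l : G)⁻¹ * C.t * l) * ((l : G)⁻¹ * y * l) := by group
        _ = C.t * ((l : G)⁻¹ * y * l) := by rw [hltl]
    have hcan : ∀ (S : Subgroup G) (z : G), C.t ∈ S → (C.t * z ∈ S ↔ z ∈ S) := fun S z h =>
      Subgroup.mul_mem_cancel_left S h
    constructor
    · intro hy
      rcases hor y hy with h1 | h1
      · exact (hL y h1).1 hy
      · have h2 := (hL _ h1).1 (mul_mem htE' hy)
        rw [htl, hcan _ _ htE] at h2
        exact h2
    · intro hy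
      have hc : (l : G)⁻¹ * y * l ∈ C.L ∨ C.t * ((l : G)⁻¹ * y * l) ∈ C.L :=
        (C.cent _).1 (E_comm C K hy htE)
      have hLL : ∀ y : G, (l : G)⁻¹ * y * l ∈ C.L → y ∈ C.L := by
        intro y hy
        have h1 := mul_mem (mul_mem l.2 hy) (inv_mem l.2)
        have h2 : (l : G) * ((l : G)⁻¹ * y * l) * (l : G)⁻¹ = y := by group
        rwa [h2] at h1
      rcases hc with h1 | h1
      · exact (hL y (hLL y h1)).2 hy
      · rw [← htl] at h1
        have h2 := (hL _ (hLL _ h1)).2 (by rw [htl]; exact mul_mem htE hy)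
        exact (hcan _ _ htE').1 h2
  refine ⟨g * l, fun x => ?_, ?_⟩
  · have h1 : g * l * x * (g * (l : G))⁻¹ = g * ((l : G) * x * (l : G)⁻¹) * g⁻¹ := by group
    rw [h1, ← hm, key]
    have h2 : (l : G)⁻¹ * ((l : G) * x * (l : G)⁻¹) * l = x := by group
    rw [h2]
  · calc g * l * C.t * (g * (l : G))⁻¹ = g * ((l : G) * C.t * (l : G)⁻¹) * g⁻¹ := by group
      _ = g * C.t * g⁻¹ := by rw [hlt]; group

/-! ### permutations of the codes -/

/-- The permutations of the codes induced by `N_G(E)`. -/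
def HH : Subgroup (Equiv.Perm (Fin 128)) where
  carrier := {π | ∃ n : G, ∀ e : Fin 128, n * el C K e * n⁻¹ = el C K (π e)}
  one_mem' := ⟨1, fun e => by rw [one_mul, inv_one, mul_one]; rfl⟩
  mul_mem' := by
    rintro π σ ⟨n, hn⟩ ⟨m, hm⟩
    refine ⟨n * m, fun e => ?_⟩
    calc n * m * el C K e * (n * m)⁻¹ = n * (m * el C K e * m⁻¹) * n⁻¹ := by group
      _ = el C K (π (σ e)) := by rw [hm, hn]
  inv_mem' := by
    rintro π ⟨n, hn⟩
    refine ⟨n⁻¹, fun e => ?_⟩
    have h1 := hn ((π⁻¹ : Equiv.Perm (Fin 128)) e)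
    rw [EGraph.self_inv] at h1
    rw [← h1]
    group

theorem mem_HH {π : Equiv.Perm (Fin 128)} :
    π ∈ HH C K ↔ ∃ n : G, ∀ e : Fin 128, n * el C K e * n⁻¹ = el C K (π e) := Iff.rfl

theorem exists_perm {n : G} (hn : ∀ e < 128, n * el C K e * n⁻¹ ∈ E C K) :
    ∃ π ∈ HH C K, ∀ e : Fin 128, n * el C K e * n⁻¹ = el C K (π e) := by
  have h1 : ∀ e : Fin 128, ∃ f : Fin 128, n * el C K e * n⁻¹ = el C K f := by
    intro e
    obtain ⟨f, hf, h⟩ := hn e e.2
    exact ⟨⟨f, hf⟩, h⟩
  choose f hf using h1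
  have hinj : Function.Injective f := by
    intro x y hxy
    have h2 : n * el C K x * n⁻¹ = n * el C K y * n⁻¹ := by rw [hf, hf, hxy]
    exact Fin.ext (el_inj C K x.2 y.2 (mul_left_cancel (mul_right_cancel h2)))
  refine ⟨Equiv.ofBijective f (Finite.injective_iff_bijective.1 hinj), ⟨n, hf⟩, hf⟩

theorem lin_of_mem {π : Equiv.Perm (Fin 128)} (h : π ∈ HH C K) : Lin π := by
  obtain ⟨n, hn⟩ := h
  intro x y
  apply Fin.ext
  refine el_inj C K (π (xr x y)).2 (xr (π x) (π y)).2 ?_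
  have e1 : ∀ u v : Fin 128, el C K (xr u v).val = el C K u * el C K v := fun u v => el_xor C K u v
  rw [← hn, e1, e1, ← hn, ← hn]
  group

/-- Indicator of `D` on the codes. -/
def Ind (M : ℕ) : Prop := ∀ e < 128, el C K e ∈ C.D ↔ M.testBit e = true

variable {M : ℕ} (hM : Ind C K M)

include hM in
theorem pres_of_mem {π : Equiv.Perm (Fin 128)} (h : π ∈ HH C K) : Pres M π := by
  obtain ⟨n, hn⟩ := h
  intro x
  rw [Bool.eq_iff_iff, ← hM _ (π x).2, ← hM _ x.2, ← hn]
  exact C.D_conj_iff n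

include hM in
theorem trans_of_ind [Finite G] {d : Fin 128} (hd : M.testBit d = true) :
    ∃ π ∈ HH C K, π 64 = d := by
  obtain ⟨n, hn1, hn2⟩ := exists_norm C K ((hM _ d.2).2 hd) (el_mem C K d.2)
  obtain ⟨π, hπ, h⟩ := exists_perm C K (n := n) (fun e he => (hn1 _).2 (el_mem C K he))
  refine ⟨π, hπ, ?_⟩
  apply Fin.ext
  refine el_inj C K (π 64).2 d.2 ?_
  rw [← h, ← hn2]
  exact congrArg (fun x => n * x * n⁻¹) (el_t C K)

include hM in
theorem inv1_const [Finite G] {d : ℕ} (hd : d < 128) (h : M.testBit d = true) : inv1 M d = inv1 M 64 := by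
  obtain ⟨π, hπ, h1⟩ := trans_of_ind C K hM (d := ⟨d, hd⟩) h
  have := inv1_map (lin_of_mem C K hπ) (pres_of_mem C K hM hπ) 64
  rw [h1] at this
  exact this

include hM in
theorem inv2_const [Finite G] {d : ℕ} (hd : d < 128) (h : M.testBit d = true) : inv2 M d = inv2 M 64 := by
  obtain ⟨π, hπ, h1⟩ := trans_of_ind C K hM (d := ⟨d, hd⟩) h
  have := inv2_map (lin_of_mem C K hπ) (pres_of_mem C K hM hπ) 64
  rw [h1] at this
  exact this

include hM in
theorem inv3_const [Finite G] {d : ℕ} (hd : d < 128) (h : M.testBit d = true) : inv3 M d = inv3 M 64 := by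
  obtain ⟨π, hπ, h1⟩ := trans_of_ind C K hM (d := ⟨d, hd⟩) h
  have := inv3_map (lin_of_mem C K hπ) (pres_of_mem C K hM hπ) 64
  rw [h1] at this
  exact this

/-- The permutation of the codes given by a linear map. -/
theorem exists_perm_lin {T : ℕ} (hT : T < 512) (hg : good T = true) :
    ∃ π ∈ HH C K, π 64 = 64 ∧ ∀ m, (hm : m < 64) → (π ⟨m + 64, by omega⟩).val = qm T m + 64 := by
  obtain ⟨g, h⟩ := exists_conj_lin hT hg
  have hga : ∀ m, ((K.e g : C.L) : G) * ga C K m * ((K.e g : C.L) : G)⁻¹ = ga C K (qm T m) := by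
    intro m
    unfold ga
    rw [← h m, map_mul, map_mul, map_inv]
    rfl
  have hgt : ((K.e g : C.L) : G) * C.t = C.t * ((K.e g : C.L) : G) := C.commute_of_mem (K.e g).2
  have hqm : ∀ m, ga C K (qm T m) ∈ E C K := by
    intro m
    have h1 : a (qm T m) ∈ A := a_mem _
    have h2 : K.e (a (qm T m)) ∈ AL C K := ⟨_, h1, rfl⟩
    exact (mem_AL C K).1 h2
  have hhi : ∀ m, ((K.e g : C.L) : G) * (C.t * ga C K m) * ((K.e g : C.L) : G)⁻¹ = C.t * ga C K (qm T m) := by
    intro m
    rw [← hga]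
    calc ((K.e g : C.L) : G) * (C.t * ga C K m) * ((K.e g : C.L) : G)⁻¹
        = ((K.e g : C.L) : G) * C.t * ga C K m * ((K.e g : C.L) : G)⁻¹ := by group
      _ = C.t * (((K.e g : C.L) : G) * ga C K m * ((K.e g : C.L) : G)⁻¹) := by rw [hgt]; group
  obtain ⟨π, hπ, h1⟩ := exists_perm C K (n := ((K.e g : C.L) : G)) (by
    intro e he
    by_cases he6 : e < 64
    · rw [el_lo C K he6, hga]
      exact hqm e
    · obtain ⟨m, rfl⟩ := Nat.exists_eq_add_of_le' (not_lt.1 he6)
      rw [el_hi C K (by omega), hhi]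
      exact mul_mem (t_mem_E C K) (hqm m))
  refine ⟨π, hπ, ?_, ?_⟩
  · apply Fin.ext
    refine el_inj C K (π 64).2 (by norm_num) ?_
    rw [← h1]
    have e1 : el C K ((64 : Fin 128) : ℕ) = C.t := el_t C K
    rw [e1, hgt]
    group
  · intro m hm
    have hq : qm T m < 64 := qm_lt hT hg m
    refine el_inj C K (π _).2 (by omega) ?_
    rw [← h1, el_hi C K hq]
    have e1 : el C K ((⟨m + 64, by omega⟩ : Fin 128) : ℕ) = C.t * ga C K m := el_hi C K hm
    rw [e1, hhi]

end ctx

end Cfsg.Agent.StdSpSix.ELevel
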