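import Cfsg.Agent.StdSpSix.SwDefs
import Cfsg.Agent.StdSpSix.ELevel

/-!
# Pattern ALL, the elements `y_u` commute (`ε = 0`): a sign on `G`
-/

set_option autoImplicit false

namespace Cfsg.Agent.StdSpSix.SwZero

open Subgroup
open Cfsg.Agent.StandardComponent.SpTwo
open Cfsg.Agent.SporRec.TwoSp6
open Cfsg.Agent.StdSpSix.EMask Cfsg.Agent.StdSpSix.EA Cfsg.Agent.StdSpSix.EType Cfsg.Agent.StdSpSix.ELevel

section plane
variable {X V : Type*} [Group X] [AddCommGroup V] [Module (ZMod 2) V] {S : SpData X V} (K : Model.Coord S)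

/-- The totally isotropic subspace with codes `< 8`. -/
def WW : Submodule (ZMod 2) V where
  carrier := {v | ∃ c < 8, v = K.f (Sp.enc c)}
  zero_mem' := ⟨0, by norm_num, by rw [Words.enc_zero, map_zero]⟩
  add_mem' := by
    rintro _ _ ⟨c, hc, rfl⟩ ⟨d, hd, rfl⟩
    exact ⟨c ^^^ d, Nat.xor_lt_two_pow (n := 3) hc hd, by rw [Sp.enc_xor, map_add]⟩
  smul_mem' := by
    rintro r _ ⟨c, hc, rfl⟩
    rcases (show ∀ a : ZMod 2, a = 0 ∨ a = 1 by decide) r with rfl | rfl
    · exact ⟨0, by norm_num, by rw [zero_smul, Words.enc_zero, map_zero]⟩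
    · exact ⟨c, hc, by rw [one_smul]⟩

theorem mem_WW {v : V} : v ∈ WW K ↔ ∃ c < 8, v = K.f (Sp.enc c) := Iff.rfl

theorem card_WW : Nat.card (WW K) = 8 := by
  have hb : Function.Bijective (fun c : Fin 8 => (⟨K.f (Sp.enc c.val), c.val, c.2, rfl⟩ : WW K)) := by
    constructor
    · intro c d h
      have h1 : K.f (Sp.enc c.val) = K.f (Sp.enc d.val) := congrArg Subtype.val h
      have hc := c.2
      have hd := d.2
      exact Fin.ext (enc_inj (by omega) (by omega) (K.f.injective h1))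
    · rintro ⟨_, c, hc, rfl⟩
      exact ⟨⟨c, hc⟩, rfl⟩
  rw [← Nat.card_congr (Equiv.ofBijective _ hb), Nat.card_eq_fintype_card, Fintype.card_fin]

theorem ti_WW : ∀ u ∈ WW K, ∀ v ∈ WW K, S.B u v = 0 := by
  rintro _ ⟨c, hc, rfl⟩ _ ⟨d, hd, rfl⟩
  rw [K.om]
  exact om_small c hc d hd

theorem mem_AW_iff {x : X} : x ∈ QLevelSp.AW S (WW K : Set V) ↔ ∃ m < 64, x = K.e (a m) := by
  obtain ⟨g, rfl⟩ := K.e.surjective x
  have hact : ∀ c, S.ρ (K.e g) (K.f (Sp.enc c)) = K.f (Sp.enc c) ↔ Sp.act g (Sp.enc c) = Sp.enc c := by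
    intro c
    rw [K.act, K.f.injective.eq_iff]
  have h1 : K.e g ∈ QLevelSp.AW S (WW K : Set V) ↔ g ∈ A := by
    rw [QLevelSp.mem_AW]
    constructor
    · intro h
      exact ⟨(hact 1).1 (h _ ⟨1, by norm_num, rfl⟩), (hact 2).1 (h _ ⟨2, by norm_num, rfl⟩),
        (hact 4).1 (h _ ⟨4, by norm_num, rfl⟩)⟩
    · intro h w hw
      obtain ⟨c, hc, rfl⟩ := hw
      rw [hact]
      obtain ⟨m, -, rfl⟩ := mem_A.1 h
      rw [act_a]
      have : sg (dis (Sp.enc c)) m = 0 := by
        unfold sg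
        refine Finset.sum_eq_zero fun i hi => ?_
        rw [Finset.mem_range] at hi
        unfold dis
        rw [om_small c hc (i + 1) (by omega), zero_smul, ite_self]
      rw [this, add_zero]
  rw [h1, mem_A]
  constructor
  · rintro ⟨m, hm, rfl⟩
    exact ⟨m, hm, rfl⟩
  · rintro ⟨m, hm, h⟩
    exact ⟨m, hm, K.e.injective h⟩

end plane

section ctx
variable {G V : Type*} [Group G] [AddCommGroup V] [Module (ZMod 2) V] (C : Ctx G V)

theorem mem_AG_iff (K : Model.Coord C.S) {x : G} :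
    x ∈ QLevelSp.AG C (WW K : Set V) ↔ ∃ m < 64, x = ga C K m := by
  constructor
  · rintro ⟨y, hy, rfl⟩
    obtain ⟨m, hm, rfl⟩ := (mem_AW_iff K).1 hy
    exact ⟨m, hm, rfl⟩
  · rintro ⟨m, hm, rfl⟩
    exact ⟨K.e (a m), (mem_AW_iff K).2 ⟨m, hm, rfl⟩, rfl⟩

/-- a subgroup containing the transvections of the plane contains `A` -/
theorem ga_mem_of (K : Model.Coord C.S) (P : Subgroup G) (hP : ∀ c, 1 ≤ c → c < 8 → C.b (K.f (Sp.enc c)) ∈ P) (m : ℕ) :
    ga C K m ∈ P := by
  have hf : ∀ i < 7, K.e (fac m i) ∈ P.subgroupOf C.L := by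
    intro i hi
    unfold fac
    split_ifs
    · rw [mem_subgroupOf, K.tr]
      exact hP (i + 1) (by omega) (by omega)
    · rw [map_one]
      exact one_mem _
  have h1 : K.e (a m) ∈ P.subgroupOf C.L := by
    unfold a
    rw [map_mul, map_mul, map_mul, map_mul, map_mul, map_mul]
    exact mul_mem (hf 0 (by omega)) (mul_mem (hf 1 (by omega)) (mul_mem (hf 2 (by omega)) (mul_mem (hf 3 (by omega))
      (mul_mem (hf 4 (by omega)) (mul_mem (hf 5 (by omega)) (hf 6 (by omega)))))))
  exact h1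

variable {C}

theorem IsY.t_conj {u : V} {g : G} (h : IsY C u g) : C.t * g * C.t = C.b u * g := by
  have h1 : g * C.t = C.t * C.b u * g := by
    rw [← h.conj, mul_assoc, mul_assoc, h.sq, mul_one]
  calc C.t * g * C.t = C.t * (g * C.t) := by group
    _ = C.t * (C.t * C.b u * g) := by rw [h1]
    _ = (C.t * C.t) * (C.b u * g) := by group
    _ = C.b u * g := by rw [C.tt, one_mul]

variable (C)

theorem exists_hom [Finite G] (hL : ∀ x ∈ C.L, x ∉ C.D) (hall : ∀ x ∈ C.L, x * x = 1 → x ≠ 1 → C.t * x ∈ C.D)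
    (y : V → G) (hy : ∀ u, u ≠ 0 → IsY C u (y u))
    (h0 : ∀ u v, u ≠ 0 → v ≠ 0 → C.S.B u v = 0 → y u * y v = y v * y u) : ∃ m : G →* ℤˣ, m C.t = -1 := by
  obtain ⟨K⟩ := Model.exists_coord C.S C.cardV
  have F := QLevelSp.facts_AW C.S C.cardV (WW K) (card_WW K) (ti_WW K)
  set W : Submodule (ZMod 2) V := WW K with hW
  set AA : Subgroup G := QLevelSp.AG C (W : Set V) with hAA
  have hAL : ∀ x ∈ AA, x ∈ C.L := fun x hx => QLevelSp.AG_le C _ hx
  have hAsq : ∀ x ∈ AA, x * x = 1 := by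
    rintro _ ⟨x, hx, rfl⟩
    exact congrArg Subtype.val (F.sq x hx)
  have hAcard : Nat.card AA = 64 := by
    have h1 : Nat.card AA = Nat.card (QLevelSp.AW C.S (W : Set V)) :=
      card_map_of_injective C.L.subtype_injective
    rw [h1]
    exact F.card
  have hAt : ∀ x ∈ AA, x * C.t = C.t * x := fun x hx => C.commute_of_mem (hAL x hx)
  have hAb : ∀ u ∈ W, ∀ x ∈ AA, Commute x (C.b u) := by
    intro u hu x hx
    obtain ⟨hxL, hxf⟩ := (QLevelSp.mem_AG C).1 hx
    have h1 := C.b_conj ⟨x, hxL⟩ u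
    rw [hxf u hu] at h1
    exact mul_inv_eq_iff_eq_mul.1 h1
  have hbA : ∀ u ∈ W, C.b u ∈ AA := by
    intro u hu
    refine (QLevelSp.mem_AG C).2 ⟨C.b_mem u, fun v hv => ?_⟩
    have h1 : C.S.ρ (C.S.τ u) v = v := by
      rw [C.S.hτ, ti_WW K v hv u hu, zero_smul, add_zero]
    exact h1
  have hAy : ∀ u ∈ W, u ≠ 0 → ∀ x ∈ AA, x * y u = y u * x := fun u hu hu0 x hx =>
    (hy u hu0).comm x (hAL x hx) (hAb u hu x hx)
  have hAA : ∀ x ∈ AA, ∀ z ∈ AA, x * z = z * x := by
    intro x hx z hz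
    have h1 : x * z = (x * z)⁻¹ := eq_inv_of_mul_eq_one_left (hAsq _ (mul_mem hx hz))
    have h2 : x⁻¹ = x := (eq_inv_of_mul_eq_one_left (hAsq x hx)).symm
    have h3 : z⁻¹ = z := (eq_inv_of_mul_eq_one_left (hAsq z hz)).symm
    rw [h1, mul_inv_rev, h2, h3]
  -- the group `R`
  set Gens : Set G := (AA : Set G) ∪ {g | ∃ u ∈ W, u ≠ 0 ∧ g = y u} with hGens
  have hgc : ∀ g ∈ Gens, ∀ h ∈ Gens, g * h = h * g := by
    rintro g (hg | ⟨u, hu, hu0, rfl⟩) h (hh | ⟨v, hv, hv0, rfl⟩)
    · exact hAA g hg h hh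
    · exact hAy v hv hv0 g hg
    · exact (hAy u hu hu0 h hh).symm
    · exact h0 u v hu0 hv0 (ti_WW K u hu v hv)
  set R : Subgroup G := closure Gens with hR
  have hRc : ∀ x ∈ R, ∀ z ∈ R, x * z = z * x := by
    intro x hx z hz
    have h1 : R ≤ centralizer Gens := by
      rw [hR, closure_le]
      intro g hg
      exact mem_centralizer_iff.2 fun h hh => hgc h hh g hg
    have h2 : R ≤ centralizer ({x} : Set G) := by
      rw [hR, closure_le]
      intro g hg
      refine mem_centralizer_iff.2 fun h hh => ?_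
      rw [Set.mem_singleton_iff.1 hh]
      exact (mem_centralizer_iff.1 (h1 hx) g hg).symm
    exact mem_centralizer_iff.1 (h2 hz) x rfl
  have hRsq : ∀ x ∈ R, x * x = 1 := by
    intro x hx
    refine closure_induction (p := fun x _ => x * x = 1) ?_ (one_mul 1) ?_ ?_ hx
    · rintro g (hg | ⟨u, hu, hu0, rfl⟩)
      · exact hAsq g hg
      · exact (hy u hu0).sq
    · intro x z hx hz px pz
      calc x * z * (x * z) = x * (z * x) * z := by group
        _ = x * (x * z) * z := by rw [hRc x hx z hz]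
        _ = (x * x) * (z * z) := by group
        _ = 1 := by rw [px, pz, one_mul]
    · intro x _ px
      rw [← mul_inv_rev, px, inv_one]
  have hAR : AA ≤ R := fun x hx => subset_closure (Or.inl hx)
  have hyR : ∀ u ∈ W, u ≠ 0 → y u ∈ R := fun u hu hu0 => subset_closure (Or.inr ⟨u, hu, hu0, rfl⟩)
  have htR : ∀ x ∈ R, C.t * x * C.t ∈ R := by
    intro x hx
    refine closure_induction (p := fun x _ => C.t * x * C.t ∈ R) ?_ ?_ ?_ ?_ hx
    · rintro g (hg | ⟨u, hu, hu0, rfl⟩)
      · have h1 : C.t * g * C.t = g := by rw [← hAt g hg, mul_assoc, C.tt, mul_one]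
        rw [h1]
        exact hAR hg
      · rw [IsY.t_conj (hy u hu0)]
        exact mul_mem (hAR (hbA u hu)) (hyR u hu hu0)
    · rw [mul_one, C.tt]
      exact one_mem _
    · intro x z _ _ px pz
      have h1 : C.t * (x * z) * C.t = C.t * x * C.t * (C.t * z * C.t) := by
        calc C.t * (x * z) * C.t = C.t * x * 1 * z * C.t := by group
          _ = C.t * x * (C.t * C.t) * z * C.t := by rw [C.tt]
          _ = C.t * x * C.t * (C.t * z * C.t) := by group
      rw [h1]
      exact mul_mem px pz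
    · intro x _ px
      have h1 : C.t * x⁻¹ * C.t = (C.t * x * C.t)⁻¹ := by
        rw [mul_inv_rev, mul_inv_rev, C.t_inv, mul_assoc]
      rw [h1]
      exact inv_mem px
  -- `C_R(t) = A`
  have hCA : ∀ l ∈ C.L, (∀ x ∈ AA, l * x = x * l) → l ∈ AA := by
    intro l hl h
    have h1 := F.CA ⟨l, hl⟩ (fun x hx => Subtype.ext (h _ ((QLevelSp.mem_AG_coe C).2 hx)))
    exact (QLevelSp.mem_AG_coe C).2 h1
  have hw0 : ∃ u ∈ W, u ≠ 0 := by
    refine ⟨K.f (Sp.enc 1), ⟨1, by norm_num, rfl⟩, ?_⟩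
    intro h
    have h1 : Sp.enc 1 = 0 := K.f.injective (h.trans (map_zero K.f).symm)
    exact absurd h1 (by decide)
  have htnR : C.t ∉ R := by
    intro ht
    obtain ⟨u, hu, hu0⟩ := hw0
    have h1 := hRc _ (hyR u hu hu0) _ ht
    have h2 := (hy u hu0).conj
    rw [h1, mul_assoc, (hy u hu0).sq] at h2
    have h3 : C.b u = C.b 0 := by
      rw [C.b_zero]
      exact (mul_left_cancel h2).symm
    exact hu0 (C.b_inj h3)
  have hRA : ∀ x ∈ R, x * C.t = C.t * x → x ∈ AA := by
    intro x hx hxt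
    rcases (C.cent x).1 hxt with h1 | h1
    · exact hCA x h1 fun z hz => hRc x hx z (hAR hz)
    · exfalso
      have h2 : C.t * x ∈ AA := by
        refine hCA _ h1 fun z hz => ?_
        calc C.t * x * z = C.t * (x * z) := by group
          _ = C.t * (z * x) := by rw [hRc x hx z (hAR hz)]
          _ = C.t * z * x := by group
          _ = z * C.t * x := by rw [hAt z hz]
          _ = z * (C.t * x) := by group
      apply htnR
      have h3 : C.t = C.t * x * x⁻¹ := by group
      rw [h3]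
      exact mul_mem (hAR h2) (inv_mem hx)
  -- the commutator map
  let φ : R →* G := MonoidHom.mk' (fun r => C.t * r * C.t * r) (by
    intro r s
    have h1 := hRc _ (htR s s.2) _ r.2
    change C.t * (r * s : G) * C.t * (r * s) = C.t * r * C.t * r * (C.t * s * C.t * s)
    calc C.t * (r * s : G) * C.t * (r * s) = C.t * r * 1 * s * C.t * (r * s) := by group
      _ = C.t * r * (C.t * C.t) * s * C.t * (r * s) := by rw [C.tt]
      _ = C.t * r * C.t * ((C.t * s * C.t) * r) * s := by group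
      _ = C.t * r * C.t * (r * (C.t * s * C.t)) * s := by rw [h1]
      _ = C.t * r * C.t * r * (C.t * s * C.t * s) := by group)
  have hφ : ∀ r : R, φ r = C.t * r * C.t * r := fun _ => rfl
  have hrange : φ.range = AA := by
    apply le_antisymm
    · rintro _ ⟨r, rfl⟩
      rw [hφ]
      refine hRA _ (mul_mem (htR r r.2) r.2) ?_
      have h1 := hRc _ (htR r r.2) _ r.2
      calc C.t * (r : G) * C.t * r * C.t = r * (C.t * (r : G) * C.t) * C.t := by rw [h1]
        _ = r * C.t * r * (C.t * C.t) := by group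
        _ = 1 * (r * C.t * r) := by rw [C.tt]; group
        _ = C.t * C.t * (r * C.t * r) := by rw [C.tt]
        _ = C.t * (C.t * (r : G) * C.t * r) := by group
    · intro x hx
      obtain ⟨m, -, rfl⟩ := (mem_AG_iff C K).1 hx
      refine ga_mem_of C K _ (fun c h1 h2 => ?_) m
      have hu : K.f (Sp.enc c) ∈ W := ⟨c, h2, rfl⟩
      have hu0 : K.f (Sp.enc c) ≠ 0 := by
        intro h
        have h3 : Sp.enc c = Sp.enc 0 := by
          rw [Words.enc_zero]
          exact K.f.injective (h.trans (map_zero K.f).symm)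
        have := enc_inj (by omega) (by omega) h3
        omega
      refine ⟨⟨_, hyR _ hu hu0⟩, ?_⟩
      rw [hφ]
      change C.t * y _ * C.t * y _ = _
      rw [IsY.t_conj (hy _ hu0), mul_assoc, (hy _ hu0).sq, mul_one]
  have hker : Nat.card φ.ker = 64 := by
    rw [← hAcard]
    refine Nat.card_congr
      { toFun := fun r => ⟨r.1.1, hRA _ r.1.2 (by
          have h1 : C.t * (r.1 : G) * C.t * r.1 = 1 := r.2
          have h2 := hRsq _ r.1.2
          have h3 : C.t * (r.1 : G) * C.t = r.1 := by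
            calc C.t * (r.1 : G) * C.t = C.t * (r.1 : G) * C.t * (r.1 * r.1) := by rw [h2, mul_one]
              _ = (C.t * (r.1 : G) * C.t * r.1) * r.1 := by group
              _ = r.1 := by rw [h1, one_mul]
          calc (r.1 : G) * C.t = (C.t * C.t) * (r.1 : G) * C.t := by rw [C.tt, one_mul]
            _ = C.t * (C.t * (r.1 : G) * C.t) := by group
            _ = C.t * r.1 := by rw [h3])⟩
        invFun := fun x => ⟨⟨x.1, hAR x.2⟩, by
          rw [MonoidHom.mem_ker, hφ]
          change C.t * (x : G) * C.t * x = 1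
          rw [← hAt _ x.2, mul_assoc (x : G), C.tt, mul_one]
          exact hAsq _ x.2⟩
        left_inv := fun r => rfl
        right_inv := fun x => rfl }
  have hcard : Nat.card R = 4096 := by
    rw [← card_mul_index φ.ker, index_ker, hker, hrange, hAcard]
  exact QLevelSp.exists_hom C hL hall W (card_WW K) (ti_WW K) R hRsq hcard htR hAR hRA

end ctx

end Cfsg.Agent.StdSpSix.SwZero
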