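import Cfsg.Agent.StdSpSix.EpsFin
import Cfsg.Agent.StdSpSix.SwZero

/-!
# Pattern ALL: the end, given the elements `y_u` and the dichotomy
-/

set_option autoImplicit false

namespace Cfsg.Agent.StdSpSix.AllMain

variable {G V : Type*} [Group G] [Finite G] [AddCommGroup V] [Module (ZMod 2) V]

/-- The pattern ALL, from the existence of the `y_u` and the dichotomy `eps ∈ {0, 1}`. -/
theorem exists_hom_of {C : Ctx G V} (hL : ∀ x ∈ C.L, x ∉ C.D)
    (hall : ∀ x ∈ C.L, x * x = 1 → C.t * x ∈ C.D)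
    (hsw : ∀ u, u ≠ 0 → ∃ g, IsY C u g)
    (hdich : (∀ u v g h, u ≠ 0 → v ≠ 0 → u ≠ v → C.S.B u v = 0 → IsY C u g → IsY C v h → g * h * g * h = 1) ∨
      (∀ u v g h, u ≠ 0 → v ≠ 0 → u ≠ v → C.S.B u v = 0 → IsY C u g → IsY C v h → g * h * g * h = C.b (u + v))) :
    ∃ m : G →* ℤˣ, m C.t = -1 := by
  classical
  have hy' : ∀ u : V, ∃ g : G, u ≠ 0 → IsY C u g := by
    intro u
    by_cases hu : u = 0
    · exact ⟨1, fun h => absurd hu h⟩
    · obtain ⟨g, hg⟩ := hsw u hu
      exact ⟨g, fun _ => hg⟩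
  choose y hy using hy'
  rcases hdich with h0 | h1
  · refine SwZero.exists_hom C hL (fun x hx hxx _ => hall x hx hxx) y hy ?_
    intro u v hu hv hB
    by_cases huv : u = v
    · rw [huv]
    · have h2 := h0 u v (y u) (y v) hu hv huv hB (hy u hu) (hy v hv)
      have h3 : (y u * y v) * (y u * y v) = 1 := by rw [← mul_assoc]; exact h2
      have h4 : y u * y v = (y u * y v)⁻¹ := eq_inv_of_mul_eq_one_left h3
      rw [mul_inv_rev] at h4
      rw [h4, (eq_inv_of_mul_eq_one_left (hy u hu).sq).symm, (eq_inv_of_mul_eq_one_left (hy v hv).sq).symm]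
  · refine EpsFin.exists_hom hL hall y hy ?_
    intro u v hu hv huv hB
    rw [← mul_assoc]
    exact h1 u v (y u) (y v) hu hv huv hB (hy u hu) (hy v hv)

end Cfsg.Agent.StdSpSix.AllMain
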