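import Cfsg.Agent.StdSpSix.AllXDef

/-!
# Pattern `ALL`, `ε = 1`: the involutions `x_m` do not exist

`P(m, n) = x_m x_n x_{m+n}` centralises `t` and `U`, so it is `t^j z` with `z ∈ U`; conjugation by `y` gives
`j(m, n) = a m + a n + a (m + n)`.  Modulo `b` one has `(x_2 x_n)² = λ_{2+n}^{j(2, n)}`, and the action of `x_2` on
`P(16, 4)` in two ways gives `λ_18^{j(2,16)} λ_6^{j(2,4)} λ_22^{j(2,20)} = λ_2^{j(16,4)}` modulo `b`.
-/

set_option autoImplicit false
set_option maxHeartbeats 400000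

namespace Cfsg.Agent.StdSpSix.AllXKill

open Cfsg.Agent.StandardComponent.SpTwo
open Cfsg.Agent.SporRec.TwoSp6
open Cfsg.Agent.StdSpSix.Words Cfsg.Agent.StdSpSix.Model Cfsg.Agent.StdSpSix.AllCode Cfsg.Agent.StdSpSix.AllFacts
open Cfsg.Agent.StdSpSix.AllFactsTwo Cfsg.Agent.StdSpSix.AllBase Cfsg.Agent.StdSpSix.AllSwapA
open Cfsg.Agent.StdSpSix.AllSwapB Cfsg.Agent.StdSpSix.AllXDef

def EL : List ℕ := [0, 2, 4, 6, 16, 18, 20, 22, 32, 34, 36, 38, 48, 50, 52, 54]

def pre (β : Bool) : List ℕ := if β then [1] else []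

def lam (k : ℕ) : List ℕ := [1, k, k ^^^ 1]

/-- comparison of words on the basis codes -/
def e6 (ks ls : List ℕ) : Bool := [1, 2, 4, 8, 16, 32].all fun c => wc ks c == wc ls c

variable {G V : Type*} [Group G] [AddCommGroup V] [Module (ZMod 2) V] {C : Ctx G V}

section Words

variable (K : Coord C.S)

theorem ww_eq6 {ks ls : List ℕ} (hks : ∀ k ∈ ks, k < 64) (hls : ∀ k ∈ ls, k < 64) (h : e6 ks ls = true) :
    ww K ks = ww K ls := by
  unfold e6 at h
  rw [List.all_eq_true] at h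
  have q : ∀ c ∈ [1, 2, 4, 8, 16, 32], c < 64 := by decide
  have r : ∀ c ∈ [1, 2, 4, 8, 16, 32], cd K (w K ks) c = wc ls c := by
    intro c hc
    rw [cd_word K hks (q c hc)]
    exact beq_iff_eq.1 (h c hc)
  have : w K ks = w K ls := eq_word K hls (r 1 (by simp)) (r 2 (by simp)) (r 4 (by simp)) (r 8 (by simp))
    (r 16 (by simp)) (r 32 (by simp))
  exact congrArg Subtype.val this

theorem bb : ww K [1] * ww K [1] = 1 := ww_sq K (by decide +kernel)

theorem b_ne : ww K [1] ≠ 1 := by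
  rw [← ww_nil K]
  exact ww_ne K (by decide) (by decide) ⟨8, by norm_num, by decide⟩

theorem pre_mul (β γ : Bool) : ww K (pre β) * ww K (pre γ) = ww K (pre (β ^^ γ)) := by
  cases β <;> cases γ <;> simp only [pre, Bool.false_eq_true, if_false, if_true, Bool.xor_self, Bool.xor_false,
    Bool.xor_true, Bool.not_false, ww_nil, one_mul, mul_one]
  exact bb K

theorem pre_inj {β γ : Bool} (h : ww K (pre β) = ww K (pre γ)) : β = γ := by
  cases β <;> cases γ
  · rfl
  · simp only [pre, Bool.false_eq_true, if_false, if_true, ww_nil] at h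
    exact (b_ne K h.symm).elim
  · simp only [pre, Bool.false_eq_true, if_false, if_true, ww_nil] at h
    exact (b_ne K h).elim
  · rfl

theorem pre_comm {g : G} (hg : Commute (ww K [1]) g) (β : Bool) : Commute (ww K (pre β)) g := by
  cases β
  · simp only [pre, Bool.false_eq_true, if_false, ww_nil]; exact Commute.one_left _
  · exact hg

theorem lam_lt : ∀ k ∈ EL, ∀ c ∈ lam k, c < 64 := by decide +kernel
theorem EL_xor : ∀ k ∈ EL, ∀ l ∈ EL, k ^^^ l ∈ EL := by decide +kernel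
theorem pre_lt : ∀ β, ∀ c ∈ pre β, c < 64 := by decide

theorem d_mul : ∀ k ∈ EL, ∀ l ∈ EL, e6 (lam k ++ lam l) (pre (Sp.fN k l) ++ lam (k ^^^ l)) = true := by
  decide +kernel

theorem d_b : ∀ k ∈ EL, e6 ([1] ++ lam k) (lam k ++ [1]) = true := by decide +kernel

theorem app_lt {ks ls : List ℕ} (hks : ∀ k ∈ ks, k < 64) (hls : ∀ k ∈ ls, k < 64) : ∀ k ∈ ks ++ ls, k < 64 := by
  intro k hk
  rcases List.mem_append.1 hk with h | h
  · exact hks k h
  · exact hls k h

theorem lam_mul {k l : ℕ} (hk : k ∈ EL) (hl : l ∈ EL) :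
    ww K (lam k) * ww K (lam l) = ww K (pre (Sp.fN k l)) * ww K (lam (k ^^^ l)) := by
  rw [ww_mul, ww_mul]
  exact ww_eq6 K (app_lt (lam_lt k hk) (lam_lt l hl)) (app_lt (pre_lt _) (lam_lt _ (EL_xor k hk l hl))) (d_mul k hk l hl)

theorem b_lam {k : ℕ} (hk : k ∈ EL) : Commute (ww K [1]) (ww K (lam k)) := by
  change ww K [1] * ww K (lam k) = ww K (lam k) * ww K [1]
  rw [ww_mul, ww_mul]
  exact ww_eq6 K (app_lt (by decide) (lam_lt k hk)) (app_lt (lam_lt k hk) (by decide)) (d_b k hk)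

theorem lam_comm {k l : ℕ} (hk : k ∈ EL) (hl : l ∈ EL) : Commute (ww K (lam k)) (ww K (lam l)) := by
  have e : Sp.fN k l = Sp.fN l k := by
    have := (by decide +kernel : ∀ k ∈ EL, ∀ l ∈ EL, Sp.fN k l = Sp.fN l k)
    exact this k hk l hl
  change ww K (lam k) * ww K (lam l) = ww K (lam l) * ww K (lam k)
  rw [lam_mul K hk hl, lam_mul K hl hk, e, Nat.xor_comm]

/-- `lam (k ^^^ l)` in terms of `lam k`, `lam l` -/
theorem lam_xor {k l : ℕ} (hk : k ∈ EL) (hl : l ∈ EL) :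
    ww K (lam (k ^^^ l)) = ww K (pre (Sp.fN k l)) * (ww K (lam k) * ww K (lam l)) := by
  rw [lam_mul K hk hl, ← mul_assoc, pre_mul, Bool.xor_self]
  simp only [pre, Bool.false_eq_true, if_false, ww_nil, one_mul]

theorem lam_inj {k l : ℕ} (hk : k ∈ EL) (hl : l ∈ EL) {β γ : Bool}
    (h : ww K (pre β) * ww K (lam k) = ww K (pre γ) * ww K (lam l)) : k = l := by
  by_contra hne
  rw [ww_mul, ww_mul] at h
  have := (by decide +kernel : ∀ β γ : Bool, ∀ k ∈ EL, ∀ l ∈ EL, k ≠ l → ∃ c < 64, wc (pre β ++ lam k) c ≠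
    wc (pre γ ++ lam l) c) β γ k hk l hl hne
  exact ww_ne K (app_lt (pre_lt β) (lam_lt k hk)) (app_lt (pre_lt γ) (lam_lt l hl)) this h

theorem dUL : ∀ ks ∈ UL, ∃ β : Bool, ∃ k ∈ EL, e6 ks (pre β ++ lam k) = true := by decide +kernel

theorem of_UL {ks : List ℕ} (h : ks ∈ UL) : ∃ β : Bool, ∃ k ∈ EL, ww K ks = ww K (pre β) * ww K (lam k) := by
  obtain ⟨β, k, hk, e⟩ := dUL ks h
  refine ⟨β, k, hk, ?_⟩
  rw [ww_mul]
  exact ww_eq6 K (UL_lt ks h) (app_lt (pre_lt β) (lam_lt k hk)) e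

end Words

variable {K : Coord C.S} {y : G} {x : ℕ → G} {a : ℕ → Bool}

/-! ### the action of `x_m` -/

theorem x_b (h : XD K y x a) {m : ℕ} (hm : m ∈ ML) : Commute (ww K [1]) (x m) := (cj_eq_iff.1 (h.xb m hm)).symm

theorem fN_add : ∀ k ∈ EL, ∀ l ∈ EL, ∀ m ∈ ML, Sp.fN (k ^^^ l) m = (Sp.fN k m ^^ Sp.fN l m) := by decide +kernel

theorem cj_lam (h : XD K y x a) {m : ℕ} (hm : m ∈ ML) :
    ∀ k ∈ EL, cj (x m) (ww K (lam k)) = ww K (pre (Sp.fN k m)) * ww K (lam k) := by
  have hb := x_b h hm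
  have hp : ∀ β, cj (x m) (ww K (pre β)) = ww K (pre β) := fun β => cj_eq_iff.2 (pre_comm K hb β).symm
  have step : ∀ k ∈ EL, ∀ l ∈ EL, cj (x m) (ww K (lam k)) = ww K (pre (Sp.fN k m)) * ww K (lam k) →
      cj (x m) (ww K (lam l)) = ww K (pre (Sp.fN l m)) * ww K (lam l) →
      cj (x m) (ww K (lam (k ^^^ l))) = ww K (pre (Sp.fN (k ^^^ l) m)) * ww K (lam (k ^^^ l)) := by
    intro k hk l hl h1 h2
    rw [lam_xor K hk hl, cj_mul, cj_mul, hp, h1, h2, fN_add k hk l hl m hm, ← pre_mul]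
    have c1 : Commute (ww K (pre (Sp.fN l m))) (ww K (lam k)) := pre_comm K (b_lam K hk) _
    have c2 : Commute (ww K (pre (Sp.fN k l))) (ww K (pre (Sp.fN k m)) * ww K (pre (Sp.fN l m))) := by
      rw [pre_mul]
      change _ * _ = _ * _
      rw [pre_mul, pre_mul, Bool.xor_comm]
    calc ww K (pre (Sp.fN k l)) * (ww K (pre (Sp.fN k m)) * ww K (lam k) * (ww K (pre (Sp.fN l m)) * ww K (lam l)))
        = ww K (pre (Sp.fN k l)) * (ww K (pre (Sp.fN k m)) * (ww K (lam k) * ww K (pre (Sp.fN l m))) * ww K (lam l)) := by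
          group
      _ = (ww K (pre (Sp.fN k l)) * (ww K (pre (Sp.fN k m)) * ww K (pre (Sp.fN l m)))) * (ww K (lam k) * ww K (lam l)) := by
          rw [← c1.eq]; group
      _ = _ := by rw [c2.eq]; group
  have g : ∀ n ∈ [2, 4, 16, 32], cj (x m) (ww K (lam n)) = ww K (pre (Sp.fN n m)) * ww K (lam n) := by
    intro n hn
    have h1 := h.xU m hm n hn
    have hnE : n ∈ EL := (by decide : ∀ n ∈ [2, 4, 16, 32], n ∈ EL) n hn
    have h2 : ww K ([1, n, n ^^^ 1] ++ (if Sp.fN n m then [1] else [])) = ww K (lam n) * ww K (pre (Sp.fN n m)) := by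
      rw [ww_mul]; rfl
    change cj (x m) (ww K [1, n, n ^^^ 1]) = _
    rw [h1, h2, (pre_comm K (b_lam K hnE) _).eq]
  have g2 := g 2 (by simp)
  have g4 := g 4 (by simp)
  have g16 := g 16 (by simp)
  have g32 := g 32 (by simp)
  have e : ∀ k ∈ [0, 2, 4, 16, 32], k ∈ EL := by decide
  have g0 := step 2 (by decide) 2 (by decide) g2 g2
  have g6 := step 2 (by decide) 4 (by decide) g2 g4
  have g18 := step 2 (by decide) 16 (by decide) g2 g16
  have g20 := step 4 (by decide) 16 (by decide) g4 g16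
  have g22 := step 6 (by decide) 16 (by decide) g6 g16
  have g34 := step 2 (by decide) 32 (by decide) g2 g32
  have g36 := step 4 (by decide) 32 (by decide) g4 g32
  have g38 := step 6 (by decide) 32 (by decide) g6 g32
  have g48 := step 16 (by decide) 32 (by decide) g16 g32
  have g50 := step 18 (by decide) 32 (by decide) g18 g32
  have g52 := step 20 (by decide) 32 (by decide) g20 g32
  have g54 := step 22 (by decide) 32 (by decide) g22 g32
  intro k hk
  simp only [EL, List.mem_cons, List.not_mem_nil, or_false] at hk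
  rcases hk with rfl | rfl | rfl | rfl | rfl | rfl | rfl | rfl | rfl | rfl | rfl | rfl | rfl | rfl | rfl | rfl
  · exact g0
  · exact g2
  · exact g4
  · exact g6
  · exact g16
  · exact g18
  · exact g20
  · exact g22
  · exact g32
  · exact g34
  · exact g36
  · exact g38
  · exact g48
  · exact g50
  · exact g52
  · exact g54

theorem cj_pre (h : XD K y x a) {m : ℕ} (hm : m ∈ ML) (β : Bool) : cj (x m) (ww K (pre β)) = ww K (pre β) :=
  cj_eq_iff.2 (pre_comm K (x_b h hm) β).symm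

/-! ### elements `t^i λ_k`, modulo `b` -/

/-- `t` or `1` -/
def tp (C : Ctx G V) (i : Bool) : G := if i then C.t else 1

theorem tp_mul (i j : Bool) : tp C i * tp C j = tp C (i ^^ j) := by
  cases i <;> cases j <;> simp [tp, C.tt]

theorem tp_comm (i : Bool) (ks : List ℕ) : Commute (tp C i) (ww K ks) := by
  cases i
  · exact Commute.one_left _
  · exact (ww_t K ks).symm

/-- `X = t^i λ_k` modulo `b` -/
def Is (K : Coord C.S) (i : Bool) (k : ℕ) (X : G) : Prop :=
  k ∈ EL ∧ ∃ β : Bool, X = tp C i * (ww K (pre β) * ww K (lam k))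

theorem Is.mul {i j : Bool} {k l : ℕ} {X Y : G} (hX : Is K i k X) (hY : Is K j l Y) :
    Is K (i ^^ j) (k ^^^ l) (X * Y) := by
  obtain ⟨hk, β, rfl⟩ := hX
  obtain ⟨hl, γ, rfl⟩ := hY
  refine ⟨EL_xor k hk l hl, (β ^^ γ) ^^ Sp.fN k l, ?_⟩
  have c1 : Commute (tp C j) (ww K (pre β) * ww K (lam k)) := (tp_comm j _).mul_right (tp_comm j _)
  have c2 : Commute (ww K (pre γ)) (ww K (lam k)) := pre_comm K (b_lam K hk) _
  calc tp C i * (ww K (pre β) * ww K (lam k)) * (tp C j * (ww K (pre γ) * ww K (lam l)))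
      = tp C i * ((ww K (pre β) * ww K (lam k)) * tp C j) * (ww K (pre γ) * ww K (lam l)) := by group
    _ = (tp C i * tp C j) * (ww K (pre β) * (ww K (lam k) * ww K (pre γ)) * ww K (lam l)) := by
        rw [← c1.eq]; group
    _ = (tp C i * tp C j) * ((ww K (pre β) * ww K (pre γ)) * (ww K (lam k) * ww K (lam l))) := by
        rw [← c2.eq]; group
    _ = _ := by rw [tp_mul, pre_mul, lam_mul K hk hl, ← mul_assoc (ww K (pre (β ^^ γ))), pre_mul]

theorem Is.cj (h : XD K y x a) {m : ℕ} (hm : m ∈ ML) {i : Bool} {k : ℕ} {X : G} (hX : Is K i k X) :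
    Is K i (if i then m ^^^ k else k) (cj (x m) X) := by
  obtain ⟨hk, β, rfl⟩ := hX
  have hmE : m ∈ EL := (by decide : ∀ m ∈ ML, m ∈ EL) m hm
  have h1 : Is K false k (AllSwapA.cj (x m) (ww K (pre β) * ww K (lam k))) := by
    refine ⟨hk, β ^^ Sp.fN k m, ?_⟩
    rw [cj_mul, cj_pre h hm, cj_lam h hm k hk, ← mul_assoc, pre_mul]
    exact (one_mul _).symm
  rw [cj_mul]
  cases i
  · have e : AllSwapA.cj (x m) (tp C false) = 1 := cj_one _
    rw [e, one_mul]
    exact h1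
  · have e : Is K true m (AllSwapA.cj (x m) (tp C true)) := by
      refine ⟨hmE, false, ?_⟩
      have : AllSwapA.cj (x m) (tp C true) = C.t * ww K [1, m, m ^^^ 1] := h.xt m hm
      rw [this]
      simp only [pre, Bool.false_eq_true, if_false, ww_nil, one_mul]
      rfl
    exact e.mul h1

theorem d_sq : ∀ k ∈ EL, e6 (lam k ++ lam k) [] = true := by decide +kernel

theorem Is.inv {i : Bool} {k : ℕ} {X : G} (hX : Is K i k X) : X⁻¹ = X := by
  obtain ⟨hk, β, rfl⟩ := hX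
  apply inv_of_sq
  have c1 : Commute (tp C i) (ww K (pre β) * ww K (lam k)) := (tp_comm i _).mul_right (tp_comm i _)
  have c2 : Commute (ww K (pre β)) (ww K (lam k)) := pre_comm K (b_lam K hk) _
  have l2 : ww K (lam k) * ww K (lam k) = 1 := by
    rw [ww_mul, ww_eq6 K (app_lt (lam_lt k hk) (lam_lt k hk)) (by simp) (d_sq k hk), ww_nil]
  calc tp C i * (ww K (pre β) * ww K (lam k)) * (tp C i * (ww K (pre β) * ww K (lam k)))
      = tp C i * ((ww K (pre β) * ww K (lam k)) * tp C i) * (ww K (pre β) * ww K (lam k)) := by group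
    _ = (tp C i * tp C i) * (ww K (pre β) * (ww K (lam k) * ww K (pre β)) * ww K (lam k)) := by
        rw [← c1.eq]; group
    _ = (tp C i * tp C i) * ((ww K (pre β) * ww K (pre β)) * (ww K (lam k) * ww K (lam k))) := by
        rw [← c2.eq]; group
    _ = 1 := by
        rw [tp_mul, pre_mul, l2, Bool.xor_self, Bool.xor_self]
        simp [tp, pre, ww_nil]

theorem Is.inj {k l : ℕ} {X : G} (hX : Is K false k X) (hY : Is K false l X) : k = l := by
  obtain ⟨hk, β, e1⟩ := hX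
  obtain ⟨hl, γ, e2⟩ := hY
  exact lam_inj K hk hl (mul_left_cancel (e1.symm.trans e2))

/-! ### the elements `P(m, n)` -/

/-- the triples used -/
def TL : List (ℕ × ℕ × ℕ) := [(2, 16, 18), (2, 4, 6), (16, 4, 20), (2, 20, 22)]

theorem dTL : ∀ T ∈ TL, T.1 ∈ ML ∧ T.2.1 ∈ ML ∧ T.2.2 ∈ ML ∧ e6 ((lam T.1 ++ (pre (Sp.fN T.2.1 T.1) ++ lam T.2.1)) ++
    (pre (Sp.fN T.2.2 T.2.1) ++ (pre (Sp.fN T.2.2 T.1) ++ lam T.2.2))) [] = true ∧
    ∀ k ∈ [2, 4, 16, 32], ((Sp.fN k T.2.2 ^^ Sp.fN k T.2.1) ^^ Sp.fN k T.1) = false := by decide +kernel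

theorem P_spec (h : XD K y x a) {m n q : ℕ} (hT : (m, n, q) ∈ TL) :
    ∃ j k, Is K j k (x m * x n * x q) ∧ j = ((a m ^^ a n) ^^ a q) := by
  obtain ⟨hm, hn, hq, ht, hk⟩ := dTL _ hT
  dsimp only at hm hn hq ht hk
  have hE : ∀ m ∈ ML, m ∈ EL := by decide
  set P := x m * x n * x q with hP
  have cjP : ∀ z, AllSwapA.cj P z = AllSwapA.cj (x m) (AllSwapA.cj (x n) (AllSwapA.cj (x q) z)) := by
    intro z; rw [cj_cj, cj_cj, hP, mul_assoc]
  have hPt : AllSwapA.cj P C.t = C.t := by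
    have e1 : AllSwapA.cj (x q) C.t = C.t * ww K (lam q) := h.xt q hq
    have e2 : AllSwapA.cj (x n) C.t = C.t * ww K (lam n) := h.xt n hn
    have e3 : AllSwapA.cj (x m) C.t = C.t * ww K (lam m) := h.xt m hm
    rw [cjP, e1, cj_mul, e2, cj_lam h hn q (hE q hq), cj_mul, cj_mul, cj_mul, e3, cj_lam h hm n (hE n hn), cj_pre h hm,
      cj_lam h hm q (hE q hq)]
    have e4 : C.t * ww K (lam m) * (ww K (pre (Sp.fN n m)) * ww K (lam n)) * (ww K (pre (Sp.fN q n)) *
        (ww K (pre (Sp.fN q m)) * ww K (lam q))) = C.t * ww K ((lam m ++ (pre (Sp.fN n m) ++ lam n)) ++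
        (pre (Sp.fN q n) ++ (pre (Sp.fN q m) ++ lam q))) := by
      simp only [← ww_mul]
      group
    rw [e4, ww_eq6 K (ls := []) ?_ (by simp) ht, ww_nil, mul_one]
    exact app_lt (app_lt (lam_lt m (hE m hm)) (app_lt (pre_lt _) (lam_lt n (hE n hn))))
      (app_lt (pre_lt _) (app_lt (pre_lt _) (lam_lt q (hE q hq))))
  have hPb : Commute P (ww K [1]) := ((x_b h hm).symm.mul_left (x_b h hn).symm).mul_left (x_b h hq).symm
  have hPl : ∀ k ∈ [2, 4, 16, 32], Commute P (ww K (lam k)) := by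
    intro k hk'
    have hkE : k ∈ EL := (by decide : ∀ n ∈ [2, 4, 16, 32], n ∈ EL) k hk'
    rw [← cj_eq_iff, cjP, cj_lam h hq k hkE, cj_mul, cj_pre h hn, cj_lam h hn k hkE, cj_mul, cj_mul, cj_pre h hm,
      cj_pre h hm, cj_lam h hm k hkE, ← mul_assoc (ww K (pre (Sp.fN k n))), pre_mul, ← mul_assoc, pre_mul,
      ← Bool.xor_assoc, hk k hk']
    simp only [pre, Bool.false_eq_true, if_false, ww_nil, one_mul]
  obtain ⟨z, hz, hPz⟩ := exists_L (C := C) (cj_eq_iff.1 hPt)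
  have hzz : ∀ s ∈ C.L, Commute P s → Commute (z : G) s := fun s hs hc => by
    rw [← cj_eq_iff, ← hz s hs, cj_eq_iff]; exact hc
  have hc1 : cd K z 1 = 1 := fix_of_commute K (by norm_num) (hzz _ (ww_mem K _) hPb)
  have hcl : ∀ k ∈ [2, 4, 16, 32], Commute z (w K [1, k, k ^^^ 1]) := fun k hk' =>
    coe_commute.1 (hzz _ (ww_mem K _) (hPl k hk'))
  obtain ⟨ks, hks, e⟩ := fixU K hc1 (hcl 2 (by simp)) (hcl 4 (by simp)) (hcl 16 (by simp)) (hcl 32 (by simp))
  have e' : (z : G) = ww K ks := congrArg Subtype.val e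
  obtain ⟨β, k, hkE, ek⟩ := of_UL K hks
  have hPj : ∃ j, P = tp C j * ww K ks := by
    rcases hPz with h1 | h1
    · exact ⟨false, by rw [h1, e']; exact (one_mul _).symm⟩
    · exact ⟨true, by rw [h1, e']; rfl⟩
  obtain ⟨j, hj⟩ := hPj
  refine ⟨j, k, ⟨hkE, β, by rw [hj, ek]⟩, ?_⟩
  -- conjugation by `y`
  have y1 : AllSwapA.cj y P = ww K (pre ((a m ^^ a n) ^^ a q)) * P := by
    rw [hP, cj_mul, cj_mul, h.yx m hm, h.yx n hn, h.yx q hq]
    change ww K (pre (a m)) * x m * (ww K (pre (a n)) * x n) * (ww K (pre (a q)) * x q) = _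
    have c1 : Commute (ww K (pre (a n))) (x m) := pre_comm K (x_b h hm) _
    have c2 : Commute (ww K (pre (a q))) (x m * x n) := (pre_comm K (x_b h hm) _).mul_right (pre_comm K (x_b h hn) _)
    calc ww K (pre (a m)) * x m * (ww K (pre (a n)) * x n) * (ww K (pre (a q)) * x q)
        = ww K (pre (a m)) * (x m * ww K (pre (a n))) * x n * ww K (pre (a q)) * x q := by group
      _ = ww K (pre (a m)) * ww K (pre (a n)) * ((x m * x n) * ww K (pre (a q))) * x q := by
          rw [← c1.eq]; group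
      _ = ww K (pre (a m)) * ww K (pre (a n)) * ww K (pre (a q)) * (x m * x n * x q) := by
          rw [← c2.eq]; group
      _ = _ := by rw [pre_mul, pre_mul]
  have y2 : AllSwapA.cj y P = ww K (pre j) * P := by
    rw [hj, cj_mul, h.yU ks hks]
    have : AllSwapA.cj y (tp C j) = ww K (pre j) * tp C j := by
      cases j
      · simp only [tp, pre, Bool.false_eq_true, if_false, ww_nil, one_mul]
        exact cj_one y
      · change AllSwapA.cj y C.t = ww K [1] * C.t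
        rw [h.yt, (ww_t K [1]).eq]
    rw [this, mul_assoc]
  exact pre_inj K (mul_right_cancel (y2.symm.trans y1))

theorem s_spec (h : XD K y x a) {n q : ℕ} (hT : (2, n, q) ∈ TL) :
    Is K false (if ((a 2 ^^ a n) ^^ a q) then q else 0) (x 2 * x n * x 2 * x n) := by
  obtain ⟨hm, hn, hq, -, -⟩ := dTL _ hT
  dsimp only at hm hn hq
  obtain ⟨j, k, hP, hj⟩ := P_spec h hT
  have h1 := hP.mul (hP.cj h hq)
  have sq := h.sq q hq
  have inv : (x q)⁻¹ = x q := inv_of_sq sq
  have e : x 2 * x n * x q * AllSwapA.cj (x q) (x 2 * x n * x q) = x 2 * x n * x 2 * x n := by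
    unfold AllSwapA.cj
    rw [inv]
    calc x 2 * x n * x q * (x q * (x 2 * x n * x q) * x q) = x 2 * x n * (x q * x q) * x 2 * x n * (x q * x q) := by group
      _ = _ := by rw [sq, mul_one, mul_one]
  rw [e] at h1
  rw [← hj]
  cases j
  · simpa using h1
  · have e2 : k ^^^ (q ^^^ k) = q := by rw [Nat.xor_comm q k, ← Nat.xor_assoc, Nat.xor_self, Nat.zero_xor]
    simpa [e2] using h1

theorem d_fin : ∀ j1 j2 j3 j4 : Bool, ((if j1 then 18 else 0) ^^^ (if j2 then 6 else 0)) ^^^ (if j3 then 22 else 0) =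
    (if j4 then 2 else 0) → j1 = j2 := by decide

theorem false_of_xd (K : Coord C.S) {y : G} {x : ℕ → G} {a : ℕ → Bool} (h : XD K y x a) : False := by
  have s16 := s_spec h (n := 16) (q := 18) (by decide)
  have s4 := s_spec h (n := 4) (q := 6) (by decide)
  have s20 := s_spec h (n := 20) (q := 22) (by decide)
  obtain ⟨j, k, hP, -⟩ := P_spec h (m := 16) (n := 4) (q := 20) (by decide)
  have m2 : 2 ∈ ML := by decide
  have m16 : 16 ∈ ML := by decide
  have m4 : 4 ∈ ML := by decide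
  have m20 : 20 ∈ ML := by decide
  have c2 := hP.cj h m2
  -- `x_2 x_n x_2 = s(n) x_n`
  have hs : ∀ n ∈ ML, AllSwapA.cj (x 2) (x n) = x 2 * x n * x 2 * x n * x n := by
    intro n hn
    unfold AllSwapA.cj
    rw [inv_of_sq (h.sq 2 m2), mul_assoc (x 2 * x n * x 2), h.sq n hn, mul_one]
  set S16 := x 2 * x 16 * x 2 * x 16 with hS16
  set S4 := x 2 * x 4 * x 2 * x 4 with hS4
  set S20 := x 2 * x 20 * x 2 * x 20 with hS20
  have t1 := s4.cj h m16
  have t2 := (s20.cj h m4).cj h m16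
  have key : AllSwapA.cj (x 2) (x 16 * x 4 * x 20) =
      (S16 * AllSwapA.cj (x 16) S4 * AllSwapA.cj (x 16) (AllSwapA.cj (x 4) S20)) * (x 16 * x 4 * x 20) := by
    rw [cj_mul, cj_mul, hs 16 m16, hs 4 m4, hs 20 m20, ← hS16, ← hS4, ← hS20]
    unfold AllSwapA.cj
    group
  have u1 := (s16.mul t1).mul t2
  have u2 : Is K false (if j then 2 else 0) (AllSwapA.cj (x 2) (x 16 * x 4 * x 20) * (x 16 * x 4 * x 20)⁻¹) := by
    rw [hP.inv]
    have h1 := c2.mul hP
    cases j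
    · simpa using h1
    · have e2 : (2 ^^^ k) ^^^ k = 2 := by rw [Nat.xor_assoc, Nat.xor_self, Nat.xor_zero]
      simpa [e2] using h1
  rw [key, mul_inv_cancel_right] at u2
  have u3 := u1.inj u2
  have := d_fin _ _ _ _ u3
  rw [h.a16, h.a18, h.a4, h.a6] at this
  revert this
  cases a 2 <;> decide

end Cfsg.Agent.StdSpSix.AllXKill
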