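import Cfsg.Agent.StdSpSix.AllXFin
import Cfsg.Agent.StdSpSix.AllXKill

/-!
# Pattern `ALL`, `ε = 1`: the bad normal form is impossible
-/

set_option autoImplicit false

namespace Cfsg.Agent.StdSpSix.AllEps

open Cfsg.Agent.StdSpSix.Words Cfsg.Agent.StdSpSix.Model Cfsg.Agent.StdSpSix.AllBase
open Cfsg.Agent.StdSpSix.AllSwapD Cfsg.Agent.StdSpSix.AllNf

variable {G V : Type*} [Group G] [AddCommGroup V] [Module (ZMod 2) V] {C : Ctx G V} {y : G} (K : Coord C.S)

theorem false_of_two (h1 : ∀ K' : Coord C.S, ∃ h, IsH K' [1, 2, 3] h) (hy : Nf K true true y) : False := by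
  obtain ⟨h, hh⟩ := h1 K
  obtain ⟨y', x, a, hx⟩ := AllXFin.exists_xd K hh hy
  exact AllXKill.false_of_xd K hx

end Cfsg.Agent.StdSpSix.AllEps
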