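import Cfsg.Agent.StdSpSix.Defs

/-!
# The elements `y_u`

`IsY C u g`: `g` is an involution with `t^g = t b_u` commuting with `C_L(b_u)`.
-/

set_option autoImplicit false

namespace Cfsg.Agent.StdSpSix

variable {G V : Type*} [Group G] [AddCommGroup V] [Module (ZMod 2) V]

/-- `g² = 1`, `g t g = t b_u`, and `g` commutes with every element of `L` commuting with `b_u`. -/
structure IsY (C : Ctx G V) (u : V) (g : G) : Prop where
  sq : g * g = 1
  conj : g * C.t * g = C.t * C.b u
  comm : ∀ x ∈ C.L, Commute x (C.b u) → Commute x g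

end Cfsg.Agent.StdSpSix
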