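import Cfsg.Agent.StdSpSix.AllNf
import Cfsg.Agent.StdSpSix.SwDefs

/-!
# Pattern `ALL`: from the good normal form to the involution `y_u`
-/

set_option autoImplicit false
set_option maxHeartbeats 400000

namespace Cfsg.Agent.StdSpSix.AllFin

open Cfsg.Agent.StandardComponent.SpTwo
open Cfsg.Agent.SporRec.TwoSp6
open Cfsg.Agent.StdSpSix.Words Cfsg.Agent.StdSpSix.Model Cfsg.Agent.StdSpSix.AllCode Cfsg.Agent.StdSpSix.AllFacts
open Cfsg.Agent.StdSpSix.AllFactsTwo Cfsg.Agent.StdSpSix.AllBase Cfsg.Agent.StdSpSix.AllSwapA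
open Cfsg.Agent.StdSpSix.AllSwapB Cfsg.Agent.StdSpSix.AllSwapC Cfsg.Agent.StdSpSix.AllSwapD
open Cfsg.Agent.StdSpSix.AllNf

variable {G V : Type*} [Group G] [AddCommGroup V] [Module (ZMod 2) V] {C : Ctx G V} (K : Coord C.S) {y : G}

/-- the codes fixed at the start -/
def S0 : List ℕ := [0, 1, 2, 3, 16, 17, 4, 5, 32, 33, 6, 7]

/-- the codes orthogonal to `1` -/
def SP : List ℕ := (List.range 64).filter fun k => !Sp.fN k 1

/-- one step -/
def S1' : List ℕ := (List.range 64).filter fun k => stepB S0 k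

/-- two steps -/
def S2' : List ℕ := (List.range 64).filter fun k => stepB S1' k

theorem d1 : (S1'.all fun k => stepB S0 k) = true := by decide +kernel
theorem d2 : (S2'.all fun k => stepB S1' k) = true := by decide +kernel
theorem d3 : (SP.all fun k => stepB S2' k) = true := by decide +kernel

theorem fix_all (hy : Nf K false false y) {k : ℕ} (hk : k < 64) (h : Sp.fN k 1 = false) :
    cj y (ww K [k]) = ww K [k] := by
  have h0 : ∀ a ∈ S0, a < 64 ∧ cj y (ww K [a]) = ww K [a] := by
    intro a ha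
    simp only [S0, List.mem_cons, List.not_mem_nil, or_false] at ha
    rcases ha with rfl | rfl | rfl | rfl | rfl | rfl | rfl | rfl | rfl | rfl | rfl | rfl
    · exact ⟨by norm_num, fix_zero K y⟩
    · exact ⟨by norm_num, hy.b⟩
    · exact ⟨by norm_num, hy.v 2 (by decide)⟩
    · exact ⟨by norm_num, hy.v 3 (by decide)⟩
    · exact ⟨by norm_num, hy.v 16 (by decide)⟩
    · exact ⟨by norm_num, hy.v 17 (by decide)⟩
    · exact ⟨by norm_num, hy.v 4 (by decide)⟩
    · exact ⟨by norm_num, hy.v 5 (by decide)⟩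
    · exact ⟨by norm_num, hy.v 32 (by decide)⟩
    · exact ⟨by norm_num, hy.v 33 (by decide)⟩
    · exact ⟨by norm_num, hy.six⟩
    · exact ⟨by norm_num, hy.seven⟩
  have h1 := step_closure (Q := fun a => cj y (ww K [a]) = ww K [a]) (fix_closure K y) h0 d1
  have h2 := step_closure (Q := fun a => cj y (ww K [a]) = ww K [a]) (fix_closure K y) h1 d2
  have h3 := step_closure (Q := fun a => cj y (ww K [a]) = ww K [a]) (fix_closure K y) h2 d3
  refine (h3 k ?_).2
  unfold SP
  rw [List.mem_filter]
  exact ⟨List.mem_range.2 hk, by rw [h]; rfl⟩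

theorem comm_all (hy : Nf K false false y) {x : G} (hx : x ∈ C.L) (hc : Commute x (C.b (vec K 1))) :
    Commute x y := by
  let P : Subgroup C.L := (Subgroup.centralizer {y}).comap C.L.subtype
  have hP : ∀ x : C.L, x ∈ P ↔ Commute (x : G) y := by
    intro x
    change (x : G) ∈ Subgroup.centralizer {y} ↔ _
    rw [Subgroup.mem_centralizer_singleton_iff]
    exact Iff.rfl
  have h1 : cd K (⟨x, hx⟩ : C.L) 1 = 1 := by
    rw [← fix_iff K (by norm_num)]
    exact Subtype.ext hc
  have h2 : (⟨x, hx⟩ : C.L) ∈ P := by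
    apply genU K _ h1
    intro k hk hf
    rw [hP]
    have := (cj_eq_iff.1 (fix_all K hy hk hf)).symm
    rw [← b_eq] at this
    exact this
  exact (hP _).1 h2

/-- an element of `L` commuting with all `b_k`, `k ⊥ 1`, is `1` or `b_1` -/
theorem one_or_b {x : G} (hx : x ∈ C.L) (h : ∀ k < 64, Sp.fN k 1 = false → Commute x (ww K [k])) :
    x = 1 ∨ x = ww K [1] := by
  have hk : ∀ k, k < 64 → Sp.fN k 1 = false → cd K (⟨x, hx⟩ : C.L) k = k := by
    intro k hk hf
    exact fix_of_commute K hk (h k hk hf)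
  rcases fixB K (hk 1 (by norm_num) (by decide +kernel)) (hk 2 (by norm_num) (by decide +kernel))
    (hk 4 (by norm_num) (by decide +kernel)) (hk 16 (by norm_num) (by decide +kernel))
    (hk 32 (by norm_num) (by decide +kernel)) with h1 | h1
  · exact Or.inl (congrArg Subtype.val h1)
  · exact Or.inr (congrArg Subtype.val h1)

/-- **From the good normal form to `y_u`.** -/
theorem exists_isY (hy : Nf K false false y) : ∃ g, IsY C (vec K 1) g := by
  have eb : C.b (vec K 1) = ww K [1] := b_eq K 1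
  have hbb : ww K [1] * ww K [1] = 1 := ww_sq K (by decide +kernel)
  have hb1 : ww K [1] ≠ 1 := by
    intro h
    rw [← eb] at h
    exact vec_ne_zero K (by norm_num) (by norm_num) (C.b_inj (h.trans C.b_zero.symm))
  have htb : Commute (ww K [1]) C.t := ww_t K [1]
  have hyt : y * C.t * y⁻¹ = C.t * ww K [1] := hy.t
  have hyb : y * ww K [1] * y⁻¹ = ww K [1] := hy.b
  -- `y²` commutes with `t`
  have h1 : cj y (cj y C.t) = C.t := by
    rw [hy.t, cj_mul, hy.t, hy.b, mul_assoc, hbb, mul_one]
  have h2 : Commute (y * y) C.t := by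
    rw [← cj_eq_iff, ← cj_cj]
    exact h1
  have h3 : ∀ k < 64, Sp.fN k 1 = false → Commute y (ww K [k]) := fun k hk hf => cj_eq_iff.1 (fix_all K hy hk hf)
  have h4 : y * y = 1 ∨ y * y = ww K [1] := by
    rcases (C.cent _).1 h2 with h | h
    · exact one_or_b K h fun k hk hf => (h3 k hk hf).mul_left (h3 k hk hf)
    · have h5 : y * y = C.t * (C.t * (y * y)) := by rw [← mul_assoc, C.tt, one_mul]
      have h6 : y * (y * y) * y⁻¹ = y * y := by group
      rcases one_or_b K h fun k hk hf => ((ww_t K [k]).symm).mul_left ((h3 k hk hf).mul_left (h3 k hk hf)) with h7 | h7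
      · exfalso
        rw [h7, mul_one] at h5
        rw [h5, hyt] at h6
        exact hb1 (mul_left_cancel (h6.trans (mul_one _).symm))
      · exfalso
        rw [h7] at h5
        have h8 : y * (C.t * ww K [1]) * y⁻¹ = C.t := by
          calc y * (C.t * ww K [1]) * y⁻¹ = (y * C.t * y⁻¹) * (y * ww K [1] * y⁻¹) := by group
            _ = C.t := by rw [hyt, hyb, mul_assoc, hbb, mul_one]
        rw [h5, h8] at h6
        exact hb1 (mul_left_cancel ((mul_one _).trans h6)).symm
  rcases h4 with h5 | h5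
  · refine ⟨y, h5, ?_, fun x hx hc => comm_all K hy hx hc⟩
    have h6 : y⁻¹ = y := inv_eq_of_mul_eq_one_right h5
    rw [h6] at hyt
    rw [eb]
    exact hyt
  · refine ⟨y * C.t, ?_, ?_, fun x hx hc => (comm_all K hy hx hc).mul_right (C.commute_of_mem hx)⟩
    · calc y * C.t * (y * C.t) = (y * C.t * y⁻¹) * (y * y) * C.t := by group
        _ = C.t * (ww K [1] * ww K [1]) * C.t := by rw [hyt, h5]; group
        _ = 1 := by rw [hbb, mul_one, C.tt]
    · calc y * C.t * C.t * (y * C.t) = y * (C.t * C.t) * y * C.t := by group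
        _ = ww K [1] * C.t := by rw [C.tt, mul_one, h5]
        _ = C.t * C.b (vec K 1) := by rw [htb.eq, eb]

end Cfsg.Agent.StdSpSix.AllFin
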