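import Cfsg.Agent.StdSpSix.AllNf

/-!
# Pattern `ALL`: the types `X ≠ d` of the swaps of `t` and `t b_u` are impossible

`λ = ww K [2, 4, 6]`; `λ^y = b_u μ` with `μ` of type `a2`; `h_μ y h_λ` commutes with `t` and sends `λ` to `b_u μ`, which
has a nonzero canonical vector.
-/

set_option autoImplicit false
set_option maxHeartbeats 400000

namespace Cfsg.Agent.StdSpSix.AllLK

open Cfsg.Agent.StandardComponent.SpTwo
open Cfsg.Agent.SporRec.TwoSp6
open Cfsg.Agent.StdSpSix.Words Cfsg.Agent.StdSpSix.Model Cfsg.Agent.StdSpSix.AllCode Cfsg.Agent.StdSpSix.AllFacts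
open Cfsg.Agent.StdSpSix.AllFactsTwo Cfsg.Agent.StdSpSix.AllBase Cfsg.Agent.StdSpSix.AllSwapA
open Cfsg.Agent.StdSpSix.AllSwapB Cfsg.Agent.StdSpSix.AllSwapC Cfsg.Agent.StdSpSix.AllSwapD
open Cfsg.Agent.StdSpSix.AllNf

variable {G V : Type*} [Group G] [AddCommGroup V] [Module (ZMod 2) V] {C : Ctx G V} (K : Coord C.S)

/-- the involution `h_λ` for the line spanned by the codes `p`, `q` -/
structure Hm (K : Coord C.S) (p q : ℕ) (h : G) : Prop where
  sq : h * h = 1
  t : cj h C.t = C.t * ww K [p, q, p ^^^ q]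
  fix : ∀ k < 64, Sp.fN k p = false → Sp.fN k q = false → cj h (ww K [k]) = ww K [k]
  lsq : ww K [p, q, p ^^^ q] * ww K [p, q, p ^^^ q] = 1

/-- a frame starting with the codes `p`, `q` -/
theorem exists_line {p q : ℕ} (hp : p < 64) (hq : q < 64) (hp0 : p ≠ 0) (hq0 : q ≠ 0) (hqp : q ≠ p)
    (hf : Sp.fN p q = false) : ∃ K' : Coord C.S, vec K' 1 = vec K p ∧ vec K' 2 = vec K q ∧
      ww K' [1, 2, 3] = ww K [p, q, p ^^^ q] := by
  obtain ⟨K', h1, h2⟩ := exists_frame_two K (vec_ne_zero K hp hp0) (vec_ne_zero K hq hq0) (vec_ne K hq hp hqp)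
    (B_vec_zero K hf)
  exact ⟨K', h1, h2, ww_line K h1 h2⟩

theorem hm_of {K' : Coord C.S} {ks : List ℕ} {p q : ℕ} {h : G} (h1 : vec K' 1 = vec K p) (h2 : vec K' 2 = vec K q)
    (hh : IsH K' ks h) : Hm K p q h := by
  refine ⟨hh.sq, ?_, ?_, by rw [← ww_line K h1 h2]; exact lam_sq K'⟩
  · rw [hh.t, ww_line K h1 h2]
  · intro k hk k1 k2
    obtain ⟨c, hc, hcv⟩ := exists_vec K' (vec K k)
    have c1 : Sp.fN c 1 = false := by
      apply fN_of_zero K'
      rw [← hcv, h1]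
      exact B_vec_zero K k1
    have c2 : Sp.fN c 2 = false := by
      apply fN_of_zero K'
      rw [← hcv, h2]
      exact B_vec_zero K k2
    have := hh.fix c hc c1 c2
    rwa [ww_single K hcv.symm] at this

theorem exists_hm (hh : ∀ K' : Coord C.S, ∃ ks h, IsH K' ks h) {p q : ℕ} (hp : p < 64) (hq : q < 64) (hp0 : p ≠ 0)
    (hq0 : q ≠ 0) (hqp : q ≠ p) (hf : Sp.fN p q = false) : ∃ h, Hm K p q h := by
  obtain ⟨K', h1, h2, _⟩ := exists_line K hp hq hp0 hq0 hqp hf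
  obtain ⟨ks, h, hi⟩ := hh K'
  exact ⟨h, hm_of K h1 h2 hi⟩

theorem Hm.lam {p q : ℕ} {h : G} (hh : Hm K p q h) : cj h (ww K [p, q, p ^^^ q]) = ww K [p, q, p ^^^ q] := by
  have h1 : cj h (cj h C.t) = C.t := by rw [cj_cj, hh.sq, one_cj]
  rw [hh.t, cj_mul, hh.t, mul_assoc] at h1
  have h2 : ww K [p, q, p ^^^ q] * cj h (ww K [p, q, p ^^^ q]) = 1 := by
    have := congrArg (fun x => C.t⁻¹ * x) h1
    simpa only [inv_mul_cancel_left, inv_mul_cancel] using this
  rw [eq_inv_of_mul_eq_one_right h2]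
  exact inv_eq_of_mul_eq_one_right hh.lsq

/-- the kill: `λ^y = b_u μ` -/
theorem kill {y : G} (hh : ∀ K' : Coord C.S, ∃ ks h, IsH K' ks h) (ht : cj y C.t = C.t * ww K [1]) {p q : ℕ}
    (hp : p < 64) (hq : q < 64) (hp0 : p ≠ 0) (hq0 : q ≠ 0) (hqp : q ≠ p) (hf : Sp.fN p q = false)
    (h1p : Sp.fN 1 p = false) (h1q : Sp.fN 1 q = false)
    (hl : cj y (ww K [2, 4, 6]) = ww K [1] * ww K [p, q, p ^^^ q])
    (hr : ∀ c < 64, Sp.fN c (wc [1, p, q, p ^^^ q] c) = Sp.fN c 1) : False := by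
  obtain ⟨g, hg⟩ := exists_hm K hh (p := 2) (q := 4) (by norm_num) (by norm_num) (by norm_num) (by norm_num)
    (by norm_num) (by decide)
  obtain ⟨h, hm⟩ := exists_hm K hh hp hq hp0 hq0 hqp hf
  have gt : cj g C.t = C.t * ww K [2, 4, 6] := hg.t
  have gl : cj g (ww K [2, 4, 6]) = ww K [2, 4, 6] := hg.lam
  have hb : cj h (ww K [1]) = ww K [1] := hm.fix 1 (by norm_num) h1p h1q
  have b2 : ww K [1] * ww K [1] = 1 := ww_sq K (by decide +kernel)
  have kt : cj (h * y * g) C.t = C.t := by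
    rw [← cj_cj, ← cj_cj, gt, cj_mul, ht, hl]
    have e : C.t * ww K [1] * (ww K [1] * ww K [p, q, p ^^^ q]) = C.t * ww K [p, q, p ^^^ q] := by
      calc C.t * ww K [1] * (ww K [1] * ww K [p, q, p ^^^ q]) = C.t * (ww K [1] * ww K [1]) * ww K [p, q, p ^^^ q] := by
            group
        _ = _ := by rw [b2, mul_one]
    rw [e, cj_mul, hm.t, hm.lam, mul_assoc, hm.lsq, mul_one]
  have kl : cj (h * y * g) (ww K [2, 4, 6]) = ww K [1] * ww K [p, q, p ^^^ q] := by
    rw [← cj_cj, ← cj_cj, gl, hl, cj_mul, hb, hm.lam]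
  obtain ⟨x, hx, _⟩ := exists_L (cj_eq_iff.1 kt)
  rw [hx _ (ww_mem K _), ww_mul] at kl
  have e1 : x * w K [2, 4, 6] * x⁻¹ = w K [1, p, q, p ^^^ q] := Subtype.ext kl
  have r1 : Rv C.S (w K [2, 4, 6]) (vec K 0) := Rv_word K (by decide) (by decide +kernel)
  have r2 := r1.conj x
  rw [e1] at r2
  have r3 : Rv C.S (w K [1, p, q, p ^^^ q]) (vec K 1) := by
    refine Rv_word K ?_ hr
    intro k hk
    simp only [List.mem_cons, List.not_mem_nil, or_false] at hk
    rcases hk with rfl | rfl | rfl | rfl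
    · norm_num
    · exact hp
    · exact hq
    · exact xor_lt hp hq
  have r4 := r2.unique r3
  rw [vec_zero, map_zero] at r4
  exact vec_ne_zero K (by norm_num) (by norm_num) r4.symm

theorem false_of_ne (_H : All C) (hh : ∀ K' : Coord C.S, ∃ ks h, IsH K' ks h) {X d : Bool} {y : G} (hy : Nf K X d y)
    (hXd : X ≠ d) : False := by
  have h2 := hy.v 2 (by decide)
  have h4 := hy.v 4 (by decide)
  have h6 := hy.six
  have e : ww K [2, 4, 6] = ww K [2] * (ww K [4] * ww K [6]) := by rw [ww_mul, ww_mul]; rfl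
  have key : cj y (ww K [2, 4, 6]) = ww K (nfw X 2 ++ (nfw X 4 ++ nfw X (if d then 7 else 6))) := by
    rw [e, cj_mul, cj_mul, h2, h4, h6, ww_mul, ww_mul]
  cases X <;> cases d
  · exact hXd rfl
  · refine kill K hh hy.t (p := 3) (q := 5) (by norm_num) (by norm_num) (by norm_num) (by norm_num) (by norm_num)
      (by decide) (by decide) (by decide) ?_ (by decide +kernel)
    rw [key, ww_mul]
    exact ww_eq K (by decide +kernel)
  · refine kill K hh hy.t (p := 2) (q := 4) (by norm_num) (by norm_num) (by norm_num) (by norm_num) (by norm_num)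
      (by decide) (by decide) (by decide) ?_ (by decide +kernel)
    rw [key, ww_mul]
    exact ww_eq K (by decide +kernel)
  · exact hXd rfl

end Cfsg.Agent.StdSpSix.AllLK
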