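import Cfsg.Agent.StdSpSix.AllLK

/-!
# Pattern `ALL`: type II (`X = d = true`) is impossible if the sign is trivial

`y' = h_2 h_16 h_18` is a swap of `t` and `t b_u` commuting with `b_1` and `b_4`; `x = y'⁻¹ y` acts on `L` as an element
of `L`, so `b_4` is the image under `y` of a transvection, but `y` sends every transvection of `u^⊥` to some `b_u b_a`.
-/

set_option autoImplicit false
set_option maxHeartbeats 400000

namespace Cfsg.Agent.StdSpSix.AllZero

open Cfsg.Agent.StandardComponent.SpTwo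
open Cfsg.Agent.SporRec.TwoSp6
open Cfsg.Agent.StdSpSix.Words Cfsg.Agent.StdSpSix.Model Cfsg.Agent.StdSpSix.AllCode Cfsg.Agent.StdSpSix.AllFacts
open Cfsg.Agent.StdSpSix.AllFactsTwo Cfsg.Agent.StdSpSix.AllBase Cfsg.Agent.StdSpSix.AllSwapA
open Cfsg.Agent.StdSpSix.AllSwapB Cfsg.Agent.StdSpSix.AllSwapC Cfsg.Agent.StdSpSix.AllSwapD
open Cfsg.Agent.StdSpSix.AllNf Cfsg.Agent.StdSpSix.AllLK

variable {G V : Type*} [Group G] [AddCommGroup V] [Module (ZMod 2) V] {C : Ctx G V} (K : Coord C.S)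

/-! ### the swap `y'` -/

theorem exists_zero (h0 : ∀ K' : Coord C.S, ∃ h, IsH K' [] h) {p q : ℕ} (hp : p < 64) (hq : q < 64) (hp0 : p ≠ 0)
    (hq0 : q ≠ 0) (hqp : q ≠ p) (hf : Sp.fN p q = false) : ∃ h, cj h C.t = C.t * ww K [p, q, p ^^^ q] ∧
      ∀ ks : List ℕ, eqB (ks ++ [p, q, p ^^^ q]) ([p, q, p ^^^ q] ++ ks) = true → cj h (ww K ks) = ww K ks := by
  obtain ⟨K', h1, h2, hl⟩ := exists_line K hp hq hp0 hq0 hqp hf
  obtain ⟨h, hh⟩ := h0 K'
  refine ⟨h, by rw [hh.t, hl], fun ks hks => ?_⟩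
  rw [cj_eq_iff]
  have hc : Commute (ww K ks) (ww K' [1, 2, 3]) := by rw [hl]; exact ww_commute K hks
  exact (hh.comm K' (x := w K ks) (coe_commute.1 hc)).symm

theorem exists_y' (h0 : ∀ K' : Coord C.S, ∃ h, IsH K' [] h) : ∃ h, cj h C.t = C.t * ww K [1] ∧
    cj h (ww K [1]) = ww K [1] ∧ cj h (ww K [4]) = ww K [4] := by
  obtain ⟨a, at', ac⟩ := exists_zero K h0 (p := 1) (q := 2) (by norm_num) (by norm_num) (by norm_num) (by norm_num)
    (by norm_num) (by decide)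
  obtain ⟨b, bt, bc⟩ := exists_zero K h0 (p := 1) (q := 16) (by norm_num) (by norm_num) (by norm_num) (by norm_num)
    (by norm_num) (by decide)
  obtain ⟨c, ct, cc⟩ := exists_zero K h0 (p := 1) (q := 18) (by norm_num) (by norm_num) (by norm_num) (by norm_num)
    (by norm_num) (by decide)
  refine ⟨a * b * c, ?_, ?_, ?_⟩
  · rw [← cj_cj, ← cj_cj, ct, cj_mul, bt, bc _ (by decide +kernel), cj_mul, cj_mul, at', ac _ (by decide +kernel),
      ac _ (by decide +kernel), mul_assoc, mul_assoc, ww_mul, ww_mul]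
    have e : eqB ([1, 2, 1 ^^^ 2] ++ ([1, 16, 1 ^^^ 16] ++ [1, 18, 1 ^^^ 18])) [1] = true := by decide +kernel
    rw [ww_eq K e]
  · rw [← cj_cj, ← cj_cj, cc _ (by decide +kernel), bc _ (by decide +kernel), ac _ (by decide +kernel)]
  · rw [← cj_cj, ← cj_cj, cc _ (by decide +kernel), bc _ (by decide +kernel), ac _ (by decide +kernel)]

/-! ### the images of the transvections of `u^⊥` -/

/-- the image of `b_k` is `b_u b_a` -/
def Q (K : Coord C.S) (y : G) (k : ℕ) : Prop :=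
  ∃ a < 64, Sp.fN a 1 = false ∧ a ≠ 0 ∧ a ≠ 1 ∧ cj y (ww K [k]) = ww K [1, a]

theorem tQ1 : ∀ a < 64, Sp.fN a 1 = false → wc [1, a] 1 = 1 := by decide +kernel

theorem tQ2 : (allB fun a => impB (!Sp.fN a 1) (allB fun b => impB (!Sp.fN b 1 && (b != 0) && (b != 1))
    (decide (wc [1, a] b < 64) && (!Sp.fN (wc [1, a] b) 1) && (wc [1, a] b != 0) && (wc [1, a] b != 1)))) = true := by
  decide +kernel

theorem Q_closure (y : G) : ∀ a < 64, ∀ b < 64, Q K y a → Q K y b → Q K y (tc a b) := by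
  rintro a ha b hb ⟨a', a64, a1, a0, an1, ea⟩ ⟨b', b64, b1, b0, bn1, eb⟩
  have w1 := tQ1 a' a64 a1
  have w2 := impB_spec (allB_spec (impB_spec (allB_spec tQ2 a64) (by rw [a1]; rfl)) b64) (by
    simp only [Bool.and_eq_true, bne_iff_ne]
    exact ⟨⟨by rw [b1]; rfl, b0⟩, bn1⟩)
  simp only [Bool.and_eq_true, bne_iff_ne, decide_eq_true_eq, Bool.not_eq_true'] at w2
  obtain ⟨⟨⟨wl, wf⟩, w0⟩, wn1⟩ := w2
  have hl : ∀ k ∈ [1, a'], k < 64 := by
    intro k hk
    simp only [List.mem_cons, List.not_mem_nil, or_false] at hk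
    rcases hk with rfl | rfl
    · norm_num
    · exact a64
  refine ⟨wc [1, a'] b', wl, wf, w0, wn1, ?_⟩
  have e : ww K [1, b'] = ww K [1] * ww K [b'] := by rw [ww_mul]; rfl
  rw [← cj_single K ha hb, ← cj_comp, ea, eb, e, cj_mul, cj_ww K hl (by norm_num), cj_ww K hl b64, w1, ww_mul]
  rfl

theorem tB : ∀ a < 64, Sp.fN a 1 = false → a ≠ 0 → a ≠ 1 → ∃ c < 64, wc [4] c ≠ wc [1, a] c := by decide +kernel

theorem Q_all {y : G} (hy : Nf K true true y) : ∀ k < 64, Sp.fN k 1 = false → k ≠ 0 → k ≠ 1 → Q K y k := by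
  have s0 : ∀ a ∈ [2, 3, 16, 17, 4, 5, 32, 33, 6, 7], a < 64 ∧ Q K y a := by
    intro a ha
    have hv : ∀ k ∈ [2, 3, 16, 17, 4, 5, 32, 33], k < 64 ∧ Q K y k := by
      intro k hk
      have t : ∀ k ∈ [2, 3, 16, 17, 4, 5, 32, 33], k < 64 ∧ Sp.fN k 1 = false ∧ k ≠ 0 ∧ k ≠ 1 := by decide +kernel
      obtain ⟨t1, t2, t3, t4⟩ := t k hk
      exact ⟨t1, k, t1, t2, t3, t4, hy.v k hk⟩
    simp only [List.mem_cons, List.not_mem_nil, or_false] at ha
    rcases ha with rfl | rfl | rfl | rfl | rfl | rfl | rfl | rfl | rfl | rfl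
    · exact hv _ (by decide)
    · exact hv _ (by decide)
    · exact hv _ (by decide)
    · exact hv _ (by decide)
    · exact hv _ (by decide)
    · exact hv _ (by decide)
    · exact hv _ (by decide)
    · exact hv _ (by decide)
    · exact ⟨by norm_num, 7, by norm_num, by decide, by norm_num, by norm_num, hy.six⟩
    · exact ⟨by norm_num, 6, by norm_num, by decide, by norm_num, by norm_num, hy.seven⟩
  have s1 := step_closure (Q_closure K y) (T := [2, 3, 16, 17, 4, 5, 32, 33, 6, 7, 18, 19, 36, 37, 22, 23, 38, 39]) s0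
    (by decide +kernel)
  have s2 := step_closure (Q_closure K y) (T := [2, 3, 16, 17, 4, 5, 32, 33, 6, 7, 18, 19, 36, 37, 22, 23, 38, 39, 20,
    21, 34, 35, 54, 55, 52, 53, 50, 51]) s1 (by decide +kernel)
  have s3 := step_closure (Q_closure K y) (T := [2, 3, 4, 5, 6, 7, 16, 17, 18, 19, 20, 21, 22, 23, 32, 33, 34, 35, 36,
    37, 38, 39, 48, 49, 50, 51, 52, 53, 54, 55]) s2 (by decide +kernel)
  intro k hk k1 k0 kn1
  have t : ∀ k < 64, (Sp.fN k 1 = false ∧ k ≠ 0 ∧ k ≠ 1) → k ∈ [2, 3, 4, 5, 6, 7, 16, 17, 18, 19, 20, 21, 22, 23, 32,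
    33, 34, 35, 36, 37, 38, 39, 48, 49, 50, 51, 52, 53, 54, 55] := by decide +kernel
  exact (s3 k (t k hk ⟨k1, k0, kn1⟩)).2

/-- type II is impossible if the sign is trivial -/
theorem false_of_zero (_H : All C) (h0 : ∀ K' : Coord C.S, ∃ h, IsH K' [] h) {y : G} (hy : Nf K true true y) :
    False := by
  obtain ⟨g, gt, g1, g4⟩ := exists_y' K h0
  have kt : cj (g⁻¹ * y) C.t = C.t := by rw [← cj_cj, hy.t, ← gt, cj_inv_cj]
  obtain ⟨x, hx, _⟩ := exists_L (cj_eq_iff.1 kt)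
  have hxg : ∀ s ∈ C.L, cj y s = cj g (cj (x : G) s) := by
    intro s hs
    rw [← hx s hs, ← cj_cj, cj_cj_inv]
  have x1 : cd K x 1 = 1 := by
    apply cd_of_cj K (by norm_num)
    apply cj_inj (g := g)
    rw [← hxg _ (ww_mem K _), hy.b, g1]
  have i1 : cd K x⁻¹ 1 = 1 := by
    have h := cd_mul K x⁻¹ x 1
    rw [inv_mul_cancel, cd_one K (by norm_num), x1] at h
    exact h.symm
  have hxx : cd K x (cd K x⁻¹ 4) = 4 := by
    have h := cd_mul K x x⁻¹ 4
    rw [mul_inv_cancel, cd_one K (by norm_num)] at h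
    exact h.symm
  have f : Sp.fN (cd K x⁻¹ 4) 1 = false := by
    have := cd_fN K x⁻¹ 4 1
    rw [i1] at this
    rw [this]
    decide
  have n0 := cd_ne K (x := x⁻¹) (c := 4) (d := 0) (by norm_num) (by norm_num) (by norm_num)
  have n1 := cd_ne K (x := x⁻¹) (c := 4) (d := 1) (by norm_num) (by norm_num) (by norm_num)
  rw [cd_zero] at n0
  rw [i1] at n1
  obtain ⟨a, ha, a1, a0, an1, e⟩ := Q_all K hy _ (cd_lt K x⁻¹ 4) f n0 n1
  have e2 : cj y (ww K [cd K x⁻¹ 4]) = ww K [4] := by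
    rw [hxg _ (ww_mem K _), conj_code, hxx, g4]
  rw [e2] at e
  refine ww_ne K (by decide) ?_ (tB a ha a1 a0 an1) e
  intro k hk
  simp only [List.mem_cons, List.not_mem_nil, or_false] at hk
  rcases hk with rfl | rfl
  · norm_num
  · exact ha

end Cfsg.Agent.StdSpSix.AllZero
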