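import Cfsg.Agent.StdSpSix.AllNfFin
import Cfsg.Agent.StdSpSix.AllLK
import Cfsg.Agent.StdSpSix.AllZero
import Cfsg.Agent.StdSpSix.AllEps
import Cfsg.Agent.StdSpSix.AllFin

/-!
# Pattern `ALL`: the involutions `y_u`

`exists_sw`: if no element of `L` and every `t x`, `x ∈ L`, `x² = 1`, is conjugate to `t`, then for every `u ≠ 0` there
is an involution `g` with `t^g = t b_u` commuting with `C_L(b_u)`.
-/

set_option autoImplicit false

namespace Cfsg.Agent.StdSpSix.AllSwap

open Cfsg.Agent.StdSpSix.Words Cfsg.Agent.StdSpSix.Model Cfsg.Agent.StdSpSix.AllCode Cfsg.Agent.StdSpSix.AllBase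
open Cfsg.Agent.StdSpSix.AllSwapD Cfsg.Agent.StdSpSix.AllNf

variable {G V : Type*} [Group G] [AddCommGroup V] [Module (ZMod 2) V] {C : Ctx G V}

theorem exists_frame (H : All C) (K : Coord C.S) : ∃ g, IsY C (vec K 1) g := by
  obtain ⟨X, d, y, hy⟩ := AllNfFin.exists_nf K H
  have hall := exists_all H K
  have hh : ∀ K' : Coord C.S, ∃ ks h, IsH K' ks h := by
    intro K'
    rcases hall with h | h
    · obtain ⟨x, hx⟩ := h K'
      exact ⟨_, x, hx⟩
    · obtain ⟨x, hx⟩ := h K'
      exact ⟨_, x, hx⟩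
  by_cases hXd : X = d
  · subst hXd
    cases X
    · exact AllFin.exists_isY K hy
    · exfalso
      rcases hall with h | h
      · exact AllZero.false_of_zero K H h hy
      · exact AllEps.false_of_two K h hy
  · exact (AllLK.false_of_ne K H hh hy hXd).elim

/-- **The involutions `y_u` exist.** -/
theorem exists_sw (H : All C) : ∀ u : V, u ≠ 0 → ∃ g, IsY C u g := by
  intro u hu
  obtain ⟨K⟩ := Model.exists_coord C.S C.cardV
  obtain ⟨K', hK'⟩ := exists_frame_one K hu
  obtain ⟨g, hg⟩ := exists_frame H K'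
  exact ⟨g, by rwa [hK'] at hg⟩

end Cfsg.Agent.StdSpSix.AllSwap
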