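import Cfsg.Agent.StdSpSix.PatOneForm

/-!
# Pattern `{b₁}`, part 2: counting cliques

`cl r k A` is the set of the `k`-element subsets of `A` on which the (reflexive) relation `r` holds.
In the symplectic space with 64 elements there are 4095 sets of three pairwise perpendicular nonzero vectors
and 8820 sets of four pairwise perpendicular vectors.
-/

set_option autoImplicit false

namespace Cfsg.Agent.StdSpSix.PatOneClique

open Cfsg.Agent.StandardComponent.SpTwo
open Cfsg.Agent.StdSpSix.PatOneForm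

section General

variable {α β : Type*}

open scoped Classical in
/-- the `k`-element subsets of `A` on which `r` holds -/
noncomputable def cl (r : α → α → Prop) (k : ℕ) (A : Finset α) : Finset (Finset α) :=
  (A.powersetCard k).filter (fun S => ∀ x ∈ S, ∀ y ∈ S, r x y)

open scoped Classical in
/-- the neighbours of `v` in `A` -/
noncomputable def nb (r : α → α → Prop) (A : Finset α) (v : α) : Finset α :=
  A.filter (fun x => r x v ∧ x ≠ v)

theorem mem_cl {r : α → α → Prop} {k : ℕ} {A S : Finset α} :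
    S ∈ cl r k A ↔ (S ⊆ A ∧ S.card = k) ∧ ∀ x ∈ S, ∀ y ∈ S, r x y := by
  classical
  simp [cl, Finset.mem_powersetCard]

theorem mem_nb {r : α → α → Prop} {A : Finset α} {v x : α} :
    x ∈ nb r A v ↔ x ∈ A ∧ r x v ∧ x ≠ v := by
  classical
  simp [nb]

theorem card_cl_zero (r : α → α → Prop) (A : Finset α) : (cl r 0 A).card = 1 := by
  classical
  rw [Finset.card_eq_one]
  refine ⟨∅, ?_⟩
  ext S
  rw [mem_cl, Finset.mem_singleton]
  constructor
  · rintro ⟨⟨-, h⟩, -⟩
    exact Finset.card_eq_zero.1 h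
  · rintro rfl
    simp

theorem card_cl_succ {r : α → α → Prop} (hsym : ∀ x y, r x y → r y x) (hrefl : ∀ x, r x x)
    (k : ℕ) (A : Finset α) :
    (k + 1) * (cl r (k + 1) A).card = ∑ v ∈ A, (cl r k (nb r A v)).card := by
  classical
  have h1 : ∑ S ∈ cl r (k + 1) A, (A.filter (fun v => v ∈ S)).card =
      ∑ v ∈ A, ((cl r (k + 1) A).filter (fun S => v ∈ S)).card :=
    Finset.sum_card_bipartiteAbove_eq_sum_card_bipartiteBelow (fun (S : Finset α) (v : α) => v ∈ S)
  have h2 : ∑ S ∈ cl r (k + 1) A, (A.filter (fun v => v ∈ S)).card = (k + 1) * (cl r (k + 1) A).card := by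
    rw [mul_comm, ← smul_eq_mul, ← Finset.sum_const]
    apply Finset.sum_congr rfl
    intro S hS
    rw [mem_cl] at hS
    rw [← hS.1.2]
    congr 1
    ext v
    simp only [Finset.mem_filter]
    exact ⟨fun h => h.2, fun h => ⟨hS.1.1 h, h⟩⟩
  rw [← h2, h1]
  apply Finset.sum_congr rfl
  intro v hv
  refine Finset.card_bij' (fun S _ => S.erase v) (fun S _ => insert v S) ?_ ?_ ?_ ?_
  · intro S hS
    rw [Finset.mem_filter, mem_cl] at hS
    obtain ⟨⟨⟨hSA, hSk⟩, hSr⟩, hvS⟩ := hS
    rw [mem_cl]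
    refine ⟨⟨?_, ?_⟩, ?_⟩
    · intro x hx
      rw [Finset.mem_erase] at hx
      rw [mem_nb]
      exact ⟨hSA hx.2, hSr x hx.2 v hvS, hx.1⟩
    · rw [Finset.card_erase_of_mem hvS, hSk]
      rfl
    · intro x hx y hy
      rw [Finset.mem_erase] at hx hy
      exact hSr x hx.2 y hy.2
  · intro S hS
    rw [mem_cl] at hS
    obtain ⟨⟨hSA, hSk⟩, hSr⟩ := hS
    have hvS : v ∉ S := fun h => (mem_nb.1 (hSA h)).2.2 rfl
    rw [Finset.mem_filter, mem_cl]
    refine ⟨⟨⟨?_, ?_⟩, ?_⟩, Finset.mem_insert_self _ _⟩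
    · intro x hx
      rw [Finset.mem_insert] at hx
      rcases hx with rfl | hx
      · exact hv
      · exact (mem_nb.1 (hSA hx)).1
    · rw [Finset.card_insert_of_notMem hvS, hSk]
    · intro x hx y hy
      rw [Finset.mem_insert] at hx hy
      rcases hx with rfl | hx <;> rcases hy with rfl | hy
      · exact hrefl _
      · exact hsym _ _ (mem_nb.1 (hSA hy)).2.1
      · exact (mem_nb.1 (hSA hx)).2.1
      · exact hSr x hx y hy
  · intro S hS
    rw [Finset.mem_filter] at hS
    exact Finset.insert_erase hS.2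
  · intro S hS
    rw [mem_cl] at hS
    have hvS : v ∉ S := fun h => (mem_nb.1 (hS.1.1 h)).2.2 rfl
    exact Finset.erase_insert hvS

theorem card_cl_one {r : α → α → Prop} (hsym : ∀ x y, r x y → r y x) (hrefl : ∀ x, r x x)
    (A : Finset α) : (cl r 1 A).card = A.card := by
  have := card_cl_succ hsym hrefl 0 A
  rw [zero_add, one_mul] at this
  rw [this, Finset.card_eq_sum_ones]
  apply Finset.sum_congr rfl
  intro v _
  exact card_cl_zero r _

theorem card_cl_map {r : α → α → Prop} {r' : β → β → Prop} (f : α ↪ β)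
    (h : ∀ x y, r' (f x) (f y) ↔ r x y) (k : ℕ) (A : Finset α) :
    (cl r' k (A.map f)).card = (cl r k A).card := by
  classical
  symm
  apply Finset.card_bij (fun S _ => S.map f)
  · intro S hS
    rw [mem_cl] at hS ⊢
    refine ⟨⟨Finset.map_subset_map.2 hS.1.1, by rw [Finset.card_map, hS.1.2]⟩, ?_⟩
    intro x hx y hy
    rw [Finset.mem_map] at hx hy
    obtain ⟨x, hx, rfl⟩ := hx
    obtain ⟨y, hy, rfl⟩ := hy
    rw [h]
    exact hS.2 x hx y hy
  · intro S _ T _ e
    exact Finset.map_injective f e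
  · intro T hT
    rw [mem_cl] at hT
    obtain ⟨⟨hTA, hTk⟩, hTr⟩ := hT
    obtain ⟨S, hS, rfl⟩ := Finset.subset_map_iff.1 hTA
    refine ⟨S, ?_, rfl⟩
    rw [mem_cl]
    refine ⟨⟨hS, by rw [← hTk, Finset.card_map]⟩, ?_⟩
    intro x hx y hy
    rw [← h]
    exact hTr _ (Finset.mem_map_of_mem f hx) _ (Finset.mem_map_of_mem f hy)

end General

variable {X V : Type*} [Group X] [AddCommGroup V] [Module (ZMod 2) V] (D : SpData X V)

/-- perpendicularity -/
def pr (u v : V) : Prop := D.B u v = 0

theorem pr_symm : ∀ x y, pr D x y → pr D y x := fun x y h => (D.symm y x).trans h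

theorem pr_refl : ∀ x, pr D x x := fun x => D.alt x

variable [Fintype V]

theorem mem_nb1 {u x : V} : x ∈ nb (pr D) Finset.univ u ↔ D.B x u = 0 ∧ x ≠ u := by
  rw [mem_nb]
  simp [pr]

theorem card_nb1 (hV : Fintype.card V = 64) {u : V} (hu : u ≠ 0) :
    (nb (pr D) Finset.univ u).card = 31 := by
  classical
  have h1 := card_perp1 D hV hu
  have h2 : nb (pr D) Finset.univ u = (Finset.univ.filter (fun x => D.B x u = 0)).erase u := by
    ext x
    rw [mem_nb1, Finset.mem_erase, Finset.mem_filter]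
    simp [and_comm]
  rw [h2, Finset.card_erase_of_mem (by simp [D.alt]), h1]

theorem card_nb1_zero (hV : Fintype.card V = 64) : (nb (pr D) Finset.univ (0 : V)).card = 63 := by
  classical
  have h2 : nb (pr D) Finset.univ (0 : V) = Finset.univ.erase 0 := by
    ext x
    rw [mem_nb1, Finset.mem_erase]
    simp
  rw [h2, Finset.card_erase_of_mem (by simp), Finset.card_univ, hV]

theorem mem_nb2 {u v x : V} : x ∈ nb (pr D) (nb (pr D) Finset.univ u) v ↔
    (D.B x u = 0 ∧ x ≠ u) ∧ D.B x v = 0 ∧ x ≠ v := by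
  rw [mem_nb, mem_nb1]
  simp [pr]

theorem card_nb2 {u v : V} {n : ℕ} (huv : D.B u v = 0) (hne : u ≠ v)
    (h : (Finset.univ.filter (fun x => D.B x u = 0 ∧ D.B x v = 0)).card = n) :
    (nb (pr D) (nb (pr D) Finset.univ u) v).card + 2 = n := by
  classical
  have h2 : nb (pr D) (nb (pr D) Finset.univ u) v =
      (Finset.univ.filter (fun x => D.B x u = 0 ∧ D.B x v = 0)) \ {u, v} := by
    ext x
    rw [mem_nb2, Finset.mem_sdiff, Finset.mem_filter]
    simp only [Finset.mem_univ, true_and, Finset.mem_insert, Finset.mem_singleton]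
    tauto
  have h3 : ({u, v} : Finset V) ⊆ Finset.univ.filter (fun x => D.B x u = 0 ∧ D.B x v = 0) := by
    intro x hx
    simp only [Finset.mem_insert, Finset.mem_singleton] at hx
    simp only [Finset.mem_filter, Finset.mem_univ, true_and]
    rcases hx with rfl | rfl
    · exact ⟨D.alt _, huv⟩
    · exact ⟨(D.symm _ _).trans huv, D.alt _⟩
  rw [h2, ← h, ← Finset.card_sdiff_add_card_eq_card h3, Finset.card_pair hne]

theorem mem_nb3 {u v w x : V} : x ∈ nb (pr D) (nb (pr D) (nb (pr D) Finset.univ u) v) w ↔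
    ((D.B x u = 0 ∧ x ≠ u) ∧ D.B x v = 0 ∧ x ≠ v) ∧ D.B x w = 0 ∧ x ≠ w := by
  rw [mem_nb, mem_nb2]
  simp [pr]

theorem card_nb3 {u v w : V} {n : ℕ} (huv : D.B u v = 0) (huw : D.B u w = 0) (hvw : D.B v w = 0)
    (h1 : u ≠ v) (h2 : u ≠ w) (h3 : v ≠ w)
    (h : (Finset.univ.filter (fun x => (D.B x u = 0 ∧ D.B x v = 0) ∧ D.B x w = 0)).card = n) :
    (nb (pr D) (nb (pr D) (nb (pr D) Finset.univ u) v) w).card + 3 = n := by
  classical
  have e2 : nb (pr D) (nb (pr D) (nb (pr D) Finset.univ u) v) w =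
      (Finset.univ.filter (fun x => (D.B x u = 0 ∧ D.B x v = 0) ∧ D.B x w = 0)) \ {u, v, w} := by
    ext x
    rw [mem_nb3, Finset.mem_sdiff, Finset.mem_filter]
    simp only [Finset.mem_univ, true_and, Finset.mem_insert, Finset.mem_singleton]
    tauto
  have e3 : ({u, v, w} : Finset V) ⊆
      Finset.univ.filter (fun x => (D.B x u = 0 ∧ D.B x v = 0) ∧ D.B x w = 0) := by
    intro x hx
    simp only [Finset.mem_insert, Finset.mem_singleton] at hx
    simp only [Finset.mem_filter, Finset.mem_univ, true_and]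
    rcases hx with rfl | rfl | rfl
    · exact ⟨⟨D.alt _, huv⟩, huw⟩
    · exact ⟨⟨(D.symm _ _).trans huv, D.alt _⟩, hvw⟩
    · exact ⟨⟨(D.symm _ _).trans huw, (D.symm _ _).trans hvw⟩, D.alt _⟩
  have e4 : ({u, v, w} : Finset V).card = 3 := Finset.card_eq_three.2 ⟨u, v, w, h1, h2, h3, rfl⟩
  rw [e2, ← h, ← Finset.card_sdiff_add_card_eq_card e3, e4]

/-- number of pairs in `u^⊥ \ {0, u}` -/
theorem card_cl2_zero (hV : Fintype.card V = 64) {u : V} (hu : u ≠ 0) :
    (cl (pr D) 2 (nb (pr D) (nb (pr D) Finset.univ (0 : V)) u)).card = 195 := by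
  have h := card_cl_succ (pr_symm D) (pr_refl D) 1 (nb (pr D) (nb (pr D) Finset.univ (0 : V)) u)
  rw [show (1 + 1 : ℕ) = 2 from rfl] at h
  have h1 : ∀ w ∈ nb (pr D) (nb (pr D) Finset.univ (0 : V)) u,
      (cl (pr D) 1 (nb (pr D) (nb (pr D) (nb (pr D) Finset.univ (0 : V)) u) w)).card = 13 := by
    intro w hw
    rw [mem_nb2] at hw
    rw [card_cl_one (pr_symm D) (pr_refl D)]
    have h16 := card_perp2 D hV hu hw.1.2 (Ne.symm hw.2.2)
    have := card_nb3 D (u := 0) (v := u) (w := w) (n := 16) (by simp) (by simp)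
      ((D.symm _ _).trans hw.2.1) (Ne.symm hu) (Ne.symm hw.1.2) (Ne.symm hw.2.2)
      (by simpa using h16)
    omega
  rw [Finset.sum_congr rfl h1, Finset.sum_const, smul_eq_mul] at h
  have h2 := card_nb2 D (u := 0) (v := u) (n := 32) (by simp) (Ne.symm hu)
    (by simpa using card_perp1 D hV hu)
  omega

/-- number of pairs in `⟨u, v⟩^⊥ \ {u, v}` -/
theorem card_cl2 (hV : Fintype.card V = 64) {u v : V} (hu : u ≠ 0) (hv : v ≠ 0) (huv : D.B u v = 0)
    (hne : u ≠ v) : (cl (pr D) 2 (nb (pr D) (nb (pr D) Finset.univ u) v)).card = 43 := by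
  classical
  have h := card_cl_succ (pr_symm D) (pr_refl D) 1 (nb (pr D) (nb (pr D) Finset.univ u) v)
  rw [show (1 + 1 : ℕ) = 2 from rfl] at h
  have huv0 : u + v ≠ 0 := fun h => hne (eq_of_add _ _ h)
  have h1 : ∀ w ∈ nb (pr D) (nb (pr D) Finset.univ u) v,
      (cl (pr D) 1 (nb (pr D) (nb (pr D) (nb (pr D) Finset.univ u) v) w)).card =
        5 + (if w = 0 then 8 else 0) + (if w = u + v then 8 else 0) := by
    intro w hw
    rw [mem_nb2] at hw
    obtain ⟨⟨a1, a2⟩, a3, a4⟩ := hw
    rw [card_cl_one (pr_symm D) (pr_refl D)]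
    have h16 := card_perp2 D hV hu hv hne
    by_cases hw0 : w = 0
    · subst hw0
      have := card_nb3 D (u := u) (v := v) (w := 0) (n := 16) huv (by simp) (by simp) hne hu hv
        (by simpa using h16)
      rw [if_pos rfl, if_neg (Ne.symm huv0)]
      omega
    · by_cases hwuv : w = u + v
      · subst hwuv
        have e : (Finset.univ.filter (fun x => (D.B x u = 0 ∧ D.B x v = 0) ∧ D.B x (u + v) = 0)) =
            Finset.univ.filter (fun x => D.B x u = 0 ∧ D.B x v = 0) := by
          apply Finset.filter_congr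
          intro x _
          rw [map_add]
          constructor
          · exact fun h => h.1
          · intro h
            exact ⟨h, by rw [h.1, h.2, add_zero]⟩
        have := card_nb3 D (u := u) (v := v) (w := u + v) (n := 16) huv ((D.symm _ _).trans a1)
          ((D.symm _ _).trans a3) hne (Ne.symm a2) (Ne.symm a4) (by rw [e]; exact h16)
        rw [if_neg hw0, if_pos rfl]
        omega
      · have h8 := card_perp3 D hV hu hv hne hw0 a2 a4 hwuv
        have := card_nb3 D (u := u) (v := v) (w := w) (n := 8) huv ((D.symm _ _).trans a1)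
          ((D.symm _ _).trans a3) hne (Ne.symm a2) (Ne.symm a4) h8
        rw [if_neg hw0, if_neg hwuv]
        omega
  have hm0 : (0 : V) ∈ nb (pr D) (nb (pr D) Finset.univ u) v := by
    rw [mem_nb2]
    simp [Ne.symm hu, Ne.symm hv]
  have hm1 : u + v ∈ nb (pr D) (nb (pr D) Finset.univ u) v := by
    rw [mem_nb2]
    refine ⟨⟨?_, ?_⟩, ?_, ?_⟩
    · rw [map_add, LinearMap.add_apply, D.alt, D.symm v u, huv, add_zero]
    · intro h; exact hv (by simpa using h)
    · rw [map_add, LinearMap.add_apply, D.alt, huv, add_zero]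
    · intro h; exact hu (by simpa using h)
  rw [Finset.sum_congr rfl h1, Finset.sum_add_distrib, Finset.sum_add_distrib, Finset.sum_const,
    smul_eq_mul, Finset.sum_ite_eq', Finset.sum_ite_eq', if_pos hm0, if_pos hm1] at h
  have h2 := card_nb2 D (u := u) (v := v) (n := 16) huv hne (card_perp2 D hV hu hv hne)
  omega

/-- number of triples of nonzero pairwise perpendicular vectors -/
theorem card_cl3_zero (hV : Fintype.card V = 64) :
    (cl (pr D) 3 (nb (pr D) Finset.univ (0 : V))).card = 4095 := by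
  have h := card_cl_succ (pr_symm D) (pr_refl D) 2 (nb (pr D) Finset.univ (0 : V))
  rw [show (2 + 1 : ℕ) = 3 from rfl] at h
  have h1 : ∀ u ∈ nb (pr D) Finset.univ (0 : V),
      (cl (pr D) 2 (nb (pr D) (nb (pr D) Finset.univ (0 : V)) u)).card = 195 := by
    intro u hu
    rw [mem_nb1] at hu
    exact card_cl2_zero D hV hu.2
  rw [Finset.sum_congr rfl h1, Finset.sum_const, smul_eq_mul, card_nb1_zero D hV] at h
  omega

theorem card_cl3 (hV : Fintype.card V = 64) {u : V} (hu : u ≠ 0) :
    (cl (pr D) 3 (nb (pr D) Finset.univ u)).card = 495 := by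
  classical
  have h := card_cl_succ (pr_symm D) (pr_refl D) 2 (nb (pr D) Finset.univ u)
  rw [show (2 + 1 : ℕ) = 3 from rfl] at h
  have h1 : ∀ v ∈ nb (pr D) Finset.univ u,
      (cl (pr D) 2 (nb (pr D) (nb (pr D) Finset.univ u) v)).card =
        43 + (if v = 0 then 152 else 0) := by
    intro v hv
    rw [mem_nb1] at hv
    by_cases hv0 : v = 0
    · subst hv0
      have e : nb (pr D) (nb (pr D) Finset.univ u) 0 = nb (pr D) (nb (pr D) Finset.univ (0 : V)) u := by
        ext x
        rw [mem_nb2, mem_nb2]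
        tauto
      rw [e, card_cl2_zero D hV hu, if_pos rfl]
    · rw [card_cl2 D hV hu hv0 ((D.symm _ _).trans hv.1) (Ne.symm hv.2), if_neg hv0]
  have hm0 : (0 : V) ∈ nb (pr D) Finset.univ u := by
    rw [mem_nb1]
    simp [Ne.symm hu]
  rw [Finset.sum_congr rfl h1, Finset.sum_add_distrib, Finset.sum_const,
    smul_eq_mul, Finset.sum_ite_eq', if_pos hm0, card_nb1 D hV hu] at h
  omega

/-- number of sets of four pairwise perpendicular vectors -/
theorem card_cl4 (hV : Fintype.card V = 64) : (cl (pr D) 4 (Finset.univ : Finset V)).card = 8820 := by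
  classical
  have h := card_cl_succ (pr_symm D) (pr_refl D) 3 (Finset.univ : Finset V)
  rw [show (3 + 1 : ℕ) = 4 from rfl] at h
  have h1 : ∀ v ∈ (Finset.univ : Finset V),
      (cl (pr D) 3 (nb (pr D) Finset.univ v)).card = 495 + (if v = 0 then 3600 else 0) := by
    intro v _
    by_cases hv0 : v = 0
    · subst hv0
      rw [card_cl3_zero D hV, if_pos rfl]
    · rw [card_cl3 D hV hv0, if_neg hv0]
  rw [Finset.sum_congr rfl h1, Finset.sum_add_distrib, Finset.sum_const,
    smul_eq_mul, Finset.sum_ite_eq', if_pos (Finset.mem_univ _), Finset.card_univ, hV] at h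
  omega

end Cfsg.Agent.StdSpSix.PatOneClique
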