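import Cfsg.Agent.StdSpSix.PatOneAlien
import Cfsg.Agent.StdSpSix.PatOneClique

/-!
# Pattern `{b₁}`, part 5: `t` acts as an odd permutation on the 4-cliques of the commuting graph on `D`
-/

set_option autoImplicit false

namespace Cfsg.Agent.StdSpSix.PatOneSign

open Cfsg.Agent.StandardComponent.SpTwo
open Cfsg.Agent.StdSpSix.PatOneForm
open Cfsg.Agent.StdSpSix.PatOneClique
open Cfsg.Agent.StdSpSix.PatOneRel
open Cfsg.Agent.StdSpSix.PatOneAlien

/-- an involution with exactly one fixed point acts on a set of odd order -/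
theorem odd_card_of_invol {α : Type*} (K : Finset α) (g : α → α) (hg : ∀ a ∈ K, g a ∈ K)
    (hgg : ∀ a ∈ K, g (g a) = a) (a0 : α) (h0 : a0 ∈ K) (hg0 : g a0 = a0)
    (huniq : ∀ a ∈ K, g a = a → a = a0) : K.card % 2 = 1 := by
  classical
  have h1 : ∑ _x ∈ K.erase a0, (1 : ZMod 2) = 0 := by
    refine Finset.sum_involution (fun a _ => g a) ?_ ?_ ?_ ?_
    · intro a _; decide
    · intro a ha _ e
      rw [Finset.mem_erase] at ha
      exact ha.1 (huniq a ha.2 e)
    · intro a ha
      rw [Finset.mem_erase] at ha ⊢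
      refine ⟨?_, hg a ha.2⟩
      intro e
      apply ha.1
      rw [← hgg a ha.2, e, hg0]
    · intro a ha
      exact hgg a (Finset.mem_of_mem_erase ha)
  rw [Finset.sum_const, nsmul_eq_mul, mul_one, ZMod.natCast_eq_zero_iff,
    Finset.card_erase_of_mem h0] at h1
  have h2 : 0 < K.card := Finset.card_pos.2 ⟨a0, h0⟩
  omega

variable {G V : Type*} [Group G] [AddCommGroup V] [Module (ZMod 2) V]

/-- the conjugate of a finite set -/
def cmap (g : G) (S : Finset G) : Finset G := S.map (MulAut.conj g).toEquiv.toEmbedding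

theorem mem_cmap {g x : G} {S : Finset G} : x ∈ cmap g S ↔ g⁻¹ * x * g ∈ S := by
  unfold cmap
  rw [Finset.mem_map]
  constructor
  · rintro ⟨y, hy, rfl⟩
    have : g⁻¹ * ((MulAut.conj g).toEquiv.toEmbedding y) * g = y := by
      change g⁻¹ * (g * y * g⁻¹) * g = y
      group
    rw [this]
    exact hy
  · intro h
    refine ⟨_, h, ?_⟩
    change g * (g⁻¹ * x * g) * g⁻¹ = x
    group

theorem cmap_one (S : Finset G) : cmap 1 S = S := by
  ext x
  rw [mem_cmap]
  simp

theorem cmap_mul (g h : G) (S : Finset G) : cmap (g * h) S = cmap g (cmap h S) := by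
  ext x
  rw [mem_cmap, mem_cmap, mem_cmap]
  have : (g * h)⁻¹ * x * (g * h) = h⁻¹ * (g⁻¹ * x * g) * h := by group
  rw [this]

theorem conj_mem_cmap {g x : G} {S : Finset G} : g * x * g⁻¹ ∈ cmap g S ↔ x ∈ S := by
  rw [mem_cmap]
  have : g⁻¹ * (g * x * g⁻¹) * g = x := by group
  rw [this]

section

variable (C : Ctx G V) [Fintype G]

open scoped Classical in
/-- `D` as a finite set -/
noncomputable def Dn : Finset G := Finset.univ.filter (fun x => x ∈ C.D)

theorem mem_Dn {x : G} : x ∈ Dn C ↔ x ∈ C.D := by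
  simp [Dn]

theorem cmap_cl {S : Finset G} {k : ℕ} (g : G) (hS : S ∈ cl Commute k (Dn C)) :
    cmap g S ∈ cl Commute k (Dn C) := by
  rw [mem_cl] at hS ⊢
  obtain ⟨⟨h1, h2⟩, h3⟩ := hS
  refine ⟨⟨?_, ?_⟩, ?_⟩
  · intro x hx
    rw [mem_cmap] at hx
    have h4 := C.D_conj ((mem_Dn C).1 (h1 hx)) g
    have e : g * (g⁻¹ * x * g) * g⁻¹ = x := by group
    rw [e] at h4
    exact (mem_Dn C).2 h4
  · rw [cmap, Finset.card_map, h2]
  · intro x hx y hy
    rw [mem_cmap] at hx hy
    have h4 : g⁻¹ * x * g * (g⁻¹ * y * g) = g⁻¹ * y * g * (g⁻¹ * x * g) := h3 _ hx _ hy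
    change x * y = y * x
    calc x * y = g * (g⁻¹ * x * g * (g⁻¹ * y * g)) * g⁻¹ := by group
      _ = y * x := by rw [h4]; group

/-- the 4-cliques -/
abbrev Om : Type _ := {S : Finset G // S ∈ cl Commute 4 (Dn C)}

/-- the action on 4-cliques -/
def act : G →* Equiv.Perm (Om C) where
  toFun g :=
    { toFun := fun S => ⟨cmap g S.1, cmap_cl C g S.2⟩
      invFun := fun S => ⟨cmap g⁻¹ S.1, cmap_cl C g⁻¹ S.2⟩
      left_inv := fun S => Subtype.ext (by
        change cmap g⁻¹ (cmap g S.1) = S.1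
        rw [← cmap_mul, inv_mul_cancel, cmap_one])
      right_inv := fun S => Subtype.ext (by
        change cmap g (cmap g⁻¹ S.1) = S.1
        rw [← cmap_mul, mul_inv_cancel, cmap_one]) }
  map_one' := by
    ext1 S
    exact Subtype.ext (cmap_one _)
  map_mul' g h := by
    ext1 S
    exact Subtype.ext (cmap_mul _ _ _)

theorem act_apply (g : G) (S : Om C) : (act C g S).1 = cmap g S.1 := rfl

end

variable {C : Ctx G V} [Fintype G] [Fintype V]

omit [Fintype G] in
theorem commute_symm' : ∀ x y : G, Commute x y → Commute y x := fun _ _ h => h.symm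

omit [Fintype G] in
theorem commute_refl' : ∀ x : G, Commute x x := fun x => Commute.refl x

/-- the embedding `u ↦ s u` -/
def sEmb (C : Ctx G V) : V ↪ G := ⟨s C, fun _ _ h => s_inj h⟩

omit [Fintype G] [Fintype V] in
theorem sEmb_rel (C : Ctx G V) (x y : V) : Commute (sEmb C x) (sEmb C y) ↔ pr C.S x y := s_commute_iff

theorem card_Om (P : Pat C) (hV : Fintype.card V = 64) :
    4 * (cl Commute 4 (Dn C)).card = (Dn C).card * 4095 := by
  have h := card_cl_succ (commute_symm' (G := G)) commute_refl' 3 (Dn C)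
  rw [show (3 + 1 : ℕ) = 4 from rfl] at h
  rw [h, ← smul_eq_mul, ← Finset.sum_const]
  apply Finset.sum_congr rfl
  intro x hx
  obtain ⟨C', P', rfl, hD⟩ := P.exists_ctx ((mem_Dn C).1 hx)
  have e : nb Commute (Dn C) C'.t = (nb (pr C'.S) Finset.univ (0 : V)).map (sEmb C') := by
    ext y
    rw [mem_nb, Finset.mem_map, mem_Dn, ← hD]
    constructor
    · rintro ⟨h1, h2, h3⟩
      obtain ⟨u, rfl⟩ := P'.exists_s h1 h2
      refine ⟨u, ?_, rfl⟩
      rw [mem_nb1]
      refine ⟨map_zero _, ?_⟩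
      rintro rfl
      exact h3 s_zero
    · rintro ⟨u, hu, rfl⟩
      rw [mem_nb1] at hu
      refine ⟨P'.s_mem u, s_comm_t u, ?_⟩
      intro h3
      rw [← s_zero (C := C')] at h3
      exact hu.2 (s_inj h3)
  rw [e, card_cl_map (sEmb C') (sEmb_rel C'), card_cl3_zero C'.S hV]

section Comp

open scoped Classical

/-- the component of `x` -/
noncomputable def comp (C : Ctx G V) (x : G) : Finset G := (Dn C).filter (fun y => Rel C.D x y)

omit [Fintype V] in
theorem mem_comp {x y : G} : y ∈ comp C x ↔ y ∈ C.D ∧ Rel C.D x y := by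
  rw [comp, Finset.mem_filter, mem_Dn]

theorem comp_eq_iff (P : Pat C) (hV : Fintype.card V = 64) {x y : G} (hx : x ∈ C.D) (hy : y ∈ C.D) :
    comp C x = comp C y ↔ Rel C.D x y := by
  constructor
  · intro h
    have h1 : y ∈ comp C y := mem_comp.2 ⟨hy, rel_of_commute hy (Commute.refl y)⟩
    rw [← h] at h1
    exact (mem_comp.1 h1).2
  · intro h
    ext z
    rw [mem_comp, mem_comp]
    constructor
    · rintro ⟨hz, h1⟩
      exact ⟨hz, P.trans hV hy hx hz (rel_symm h) h1⟩
    · rintro ⟨hz, h1⟩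
      exact ⟨hz, P.trans hV hx hy hz h h1⟩

theorem card_comp (P : Pat C) (hV : Fintype.card V = 64) {x : G} (hx : x ∈ C.D) :
    (comp C x).card = 136 ∨ (comp C x).card = 120 := by
  obtain ⟨C', P', rfl, hD⟩ := P.exists_ctx hx
  have e : comp C C'.t = Gam C' := by
    ext y
    rw [mem_comp, mem_Gam, hD]
  rw [e]
  exact card_Gam P' hV

omit [Fintype V] in
theorem cmap_comp (g x : G) : cmap g (comp C x) = comp C (g * x * g⁻¹) := by
  ext y
  rw [mem_cmap, mem_comp, mem_comp]
  constructor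
  · rintro ⟨h1, h2⟩
    have e : g * (g⁻¹ * y * g) * g⁻¹ = y := by group
    have h3 := C.D_conj h1 g
    have h4 := conj_rel (g := g) h2
    rw [e] at h3 h4
    exact ⟨h3, h4⟩
  · rintro ⟨h1, h2⟩
    have h3 := C.D_conj h1 g⁻¹
    have h4 := conj_rel (g := g⁻¹) h2
    have e1 : g⁻¹ * (g * x * g⁻¹) * g⁻¹⁻¹ = x := by group
    have e2 : g⁻¹ * y * g⁻¹⁻¹ = g⁻¹ * y * g := by group
    rw [e1, e2] at h4
    rw [e2] at h3
    exact ⟨h3, h4⟩

/-- `|D|` is 8 times an odd number -/
theorem card_Dn (P : Pat C) (hV : Fintype.card V = 64) : (Dn C).card % 16 = 8 := by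
  set K := (Dn C).image (comp C) with hK
  have hodd : K.card % 2 = 1 := by
    refine odd_card_of_invol K (cmap C.t) ?_ ?_ (comp C C.t) ?_ ?_ ?_
    · intro A hA
      rw [hK, Finset.mem_image] at hA ⊢
      obtain ⟨x, hx, rfl⟩ := hA
      exact ⟨C.t * x * C.t⁻¹, (mem_Dn C).2 (C.D_conj ((mem_Dn C).1 hx) _), (cmap_comp _ _).symm⟩
    · intro A _
      rw [← cmap_mul, C.tt, cmap_one]
    · exact Finset.mem_image_of_mem _ ((mem_Dn C).2 C.t_mem_D)
    · rw [cmap_comp]
      congr 1
      group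
    · intro A hA h
      rw [hK, Finset.mem_image] at hA
      obtain ⟨x, hx, rfl⟩ := hA
      rw [mem_Dn] at hx
      rw [cmap_comp, eq_comm, comp_eq_iff P hV hx (C.D_conj hx _)] at h
      rw [comp_eq_iff P hV hx C.t_mem_D]
      exact no_alien P hV hx C.t_mem_D h
  have h1 := Finset.card_eq_sum_card_image (comp C) (Dn C)
  have h2 : ∀ A ∈ K, ((Dn C).filter (fun a => comp C a = A)).card =
      8 + 16 * (((Dn C).filter (fun a => comp C a = A)).card / 16) := by
    intro A hA
    rw [hK, Finset.mem_image] at hA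
    obtain ⟨x, hx, rfl⟩ := hA
    rw [mem_Dn] at hx
    have e : (Dn C).filter (fun a => comp C a = comp C x) = comp C x := by
      ext y
      rw [Finset.mem_filter, mem_Dn, mem_comp]
      constructor
      · rintro ⟨h3, h4⟩
        exact ⟨h3, (comp_eq_iff P hV hx h3).1 h4.symm⟩
      · rintro ⟨h3, h4⟩
        exact ⟨h3, ((comp_eq_iff P hV hx h3).2 h4).symm⟩
    rw [e]
    rcases card_comp P hV hx with h | h <;> rw [h]
  rw [Finset.sum_congr rfl h2, Finset.sum_add_distrib, Finset.sum_const, ← Finset.mul_sum,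
    smul_eq_mul] at h1
  omega

/-- the 4-cliques fixed by `t` -/
theorem fix_iff (P : Pat C) (hV : Fintype.card V = 64) {S : Finset G} (hS : S ∈ cl Commute 4 (Dn C)) :
    cmap C.t S = S ↔ S ⊆ Finset.univ.map (sEmb C) := by
  obtain ⟨⟨h1, -⟩, h3⟩ := mem_cl.1 hS
  constructor
  · intro h x hx
    have hxD := (mem_Dn C).1 (h1 hx)
    have hx' : C.t * x * C.t⁻¹ ∈ S := by
      have := (conj_mem_cmap (g := C.t)).2 hx
      rwa [h] at this
    have hc := h3 x hx _ hx'
    have hrel := no_alien P hV hxD C.t_mem_D (rel_of_commute hxD hc)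
    have hxt : Commute x C.t := by
      by_contra hn
      apply hn
      have hb := P.braid hxD C.t_mem_D hrel hn
      rw [C.t_inv, ← hb] at hc
      have hxx := C.D_sq hxD
      have hc' : x * (x * C.t * x) = x * C.t * x * x := hc
      change x * C.t = C.t * x
      calc x * C.t = x * C.t * (x * x) := by rw [hxx, mul_one]
        _ = x * (x * C.t * x) := by rw [hc']; simp only [mul_assoc]
        _ = (x * x) * (C.t * x) := by simp only [mul_assoc]
        _ = C.t * x := by rw [hxx, one_mul]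
    obtain ⟨u, rfl⟩ := P.exists_s hxD hxt
    exact Finset.mem_map.2 ⟨u, Finset.mem_univ _, rfl⟩
  · intro h
    have key : ∀ u : V, C.t⁻¹ * s C u * C.t = s C u := by
      intro u
      rw [mul_assoc, (s_comm_t u).eq]; group
    ext x
    rw [mem_cmap]
    constructor
    · intro hx
      obtain ⟨u, -, hu⟩ := Finset.mem_map.1 (h hx)
      have hu' : s C u = C.t⁻¹ * x * C.t := hu
      have e : x = s C u := by
        rw [← key u, hu']
        have hk : C.t⁻¹ * (C.t⁻¹ * x * C.t) * C.t = C.t⁻¹ * C.t⁻¹ * x * (C.t * C.t) := by group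
        have hk2 : C.t⁻¹ * C.t⁻¹ = 1 := by rw [C.t_inv, C.tt]
        rw [hk, hk2, C.tt, one_mul, mul_one]
      rw [e, hu']
      exact hx
    · intro hx
      obtain ⟨u, -, rfl⟩ := Finset.mem_map.1 (h hx)
      have : C.t⁻¹ * sEmb C u * C.t = sEmb C u := key u
      rw [this]
      exact hx

theorem card_fix (P : Pat C) (hV : Fintype.card V = 64) :
    Fintype.card (Function.fixedPoints (act C C.t)) = 8820 := by
  rw [← card_cl4 C.S hV, ← card_cl_map (sEmb C) (sEmb_rel C) 4 Finset.univ, ← Fintype.card_coe]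
  have hle : Finset.univ.map (sEmb C) ⊆ Dn C := by
    intro x hx
    obtain ⟨u, -, rfl⟩ := Finset.mem_map.1 hx
    exact (mem_Dn C).2 (P.s_mem u)
  have hm : ∀ S ∈ cl Commute 4 (Finset.univ.map (sEmb C)), S ∈ cl Commute 4 (Dn C) := by
    intro S hS
    have h := mem_cl.1 hS
    exact mem_cl.2 ⟨⟨h.1.1.trans hle, h.1.2⟩, h.2⟩
  refine Fintype.card_congr
    { toFun := fun S => ⟨S.1.1, ?_⟩
      invFun := fun S => ⟨⟨S.1, hm S.1 S.2⟩,
        Subtype.ext ((fix_iff P hV (hm S.1 S.2)).2 (mem_cl.1 S.2).1.1)⟩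
      left_inv := fun S => rfl
      right_inv := fun S => rfl }
  have h := mem_cl.1 S.1.2
  exact mem_cl.2 ⟨⟨(fix_iff P hV S.1.2).1 (congrArg Subtype.val S.2), h.1.2⟩, h.2⟩

theorem sign_act (P : Pat C) (hV : Fintype.card V = 64) : Equiv.Perm.sign (act C C.t) = -1 := by
  have h2 : act C C.t ^ 2 = 1 := by
    rw [← map_pow, pow_two, C.tt, map_one]
  rw [Equiv.Perm.sign_of_pow_two_eq_one h2]
  have h3 := card_fix P hV
  have h4 := card_Om P hV
  have h5 := card_Dn P hV
  have h6 : Fintype.card (Om C) = (cl Commute 4 (Dn C)).card := Fintype.card_coe _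
  have h9 : 8820 ≤ (cl Commute 4 (Dn C)).card := by
    rw [← h6, ← h3]
    exact Fintype.card_subtype_le _
  have h7 : ∀ N d : ℕ, 4 * N = d * 4095 → d % 16 = 8 → 8820 ≤ N → (N - 8820) / 2 % 2 = 1 := by
    intro N d a b c
    omega
  apply Odd.neg_one_pow
  rw [Nat.odd_iff]
  have h10 := h7 _ _ h4 h5 h9
  rw [← h6] at h10
  convert h10

end Comp

omit [Fintype G] [Fintype V] in
/-- **Pattern `{b₁}`** (shadows `O₈^±(2)`). -/
theorem pattern_b1 [Finite G] (C : Ctx G V)
    (hpat : ∀ x ∈ C.D, Commute x C.t → x = C.t ∨ ∃ u, u ≠ 0 ∧ x = C.t * C.b u)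
    (hmem : ∀ u, u ≠ 0 → C.t * C.b u ∈ C.D) : ∃ m : G →* ℤˣ, m C.t = -1 := by
  classical
  let _ := Fintype.ofFinite G
  have hfin : Finite V := Nat.finite_of_card_ne_zero (by rw [C.cardV]; decide)
  let _ := Fintype.ofFinite V
  have hV : Fintype.card V = 64 := by
    rw [← Nat.card_eq_fintype_card]; exact C.cardV
  exact ⟨Equiv.Perm.sign.comp (act C), sign_act ⟨hpat, hmem⟩ hV⟩

end Cfsg.Agent.StdSpSix.PatOneSign
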