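import Cfsg.Agent.StdSpSix.Defs
import Cfsg.Agent.StandardComponent.SpTwoModel
import Cfsg.Agent.ClassicalGeometry.SympIso

/-!
# Every `SpData` with 64 vectors is isomorphic to the concrete one

So all facts proved for `S = symplecticGroup (Fin 3) (ZMod 2)` (`SporRec/TwoSp6/{Sp,Invol}`) transfer.
-/

set_option autoImplicit false

namespace Cfsg.Agent.StdSpSix.Model

open Cfsg.Agent.StandardComponent.SpTwo
open Cfsg.Agent.SporRec.TwoSp6
open Cfsg.Agent.ClassicalGeometry.SympBasic

variable {X V : Type*} [Group X] [AddCommGroup V] [Module (ZMod 2) V]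

/-- A coordinate system of a `SpData`: an isomorphism `e` from the concrete group and an isometry `f`. -/
structure Coord (D : SpData X V) where
  e : Sp.S ≃* X
  f : Sp.V ≃ₗ[ZMod 2] V
  act : ∀ g v, D.ρ (e g) (f v) = f (Sp.act g v)
  om : ∀ u v, D.B (f u) (f v) = Sp.om u v
  tr : ∀ u, e (Sp.tr u) = D.τ (f u)

theorem exists_iso (D : SpData X V) (hV : Nat.card V = 64) :
    ∃ f : Sp.V ≃ₗ[ZMod 2] V, ∀ u v, D.B (f u) (f v) = Sp.om u v := by
  have : Finite V := Nat.finite_of_card_ne_zero (by rw [hV]; norm_num)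
  have hfin : Module.Finite (ZMod 2) V := Module.Finite.of_finite
  have hr : Module.finrank (ZMod 2) V = 2 * 3 := by
    have := Fintype.ofFinite V
    have h := Module.card_eq_pow_finrank (K := ZMod 2) (V := V)
    rw [← Nat.card_eq_fintype_card, hV, ZMod.card] at h
    have h2 : (2 : ℕ) ^ Module.finrank (ZMod 2) V = 2 ^ 6 := by rw [← h]; norm_num
    exact Nat.pow_right_injective le_rfl h2
  exact Cfsg.Agent.ClassicalGeometry.SympIso.exists_linearEquiv_sympForm (D.B : LinearMap.BilinForm (ZMod 2) V) D.alt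
    D.nondeg hr

/-- Every isometry of the concrete space is given by an element of the concrete group. -/
theorem exists_of_isometry (φ : Sp.V →ₗ[ZMod 2] Sp.V) (h : ∀ u v, Sp.om (φ u) (φ v) = Sp.om u v) :
    ∃ g : Sp.S, ∀ v, Sp.act g v = φ v := by
  refine ⟨⟨LinearMap.toMatrix' φ, mem_symplecticGroup_iff.2 fun u v => ?_⟩, fun v => ?_⟩
  · rw [LinearMap.toMatrix'_mulVec, LinearMap.toMatrix'_mulVec]
    exact h u v
  · change Matrix.mulVec (LinearMap.toMatrix' φ) v = φ v
    rw [LinearMap.toMatrix'_mulVec]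

theorem exists_coord (D : SpData X V) (hV : Nat.card V = 64) : Nonempty (Coord D) := by
  classical
  obtain ⟨f, hf⟩ := exists_iso D hV
  -- an element of the concrete group acts as an element of `X`
  have h1 : ∀ g : Sp.S, ∃ x : X, ∀ v, D.ρ x (f v) = f (Sp.act g v) := by
    intro g
    have hg : g ∈ Subgroup.closure (Set.range fun i => Sp.tr (Sp.v i)) := by
      rw [Sp.closure_v]; exact Subgroup.mem_top g
    induction hg using Subgroup.closure_induction with
    | mem g hg =>
      obtain ⟨i, rfl⟩ := hg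
      refine ⟨D.τ (f (Sp.v i)), fun v => ?_⟩
      rw [D.hτ, hf, Sp.act_tr, map_add, map_smul, Sp.om_symm]
    | one => exact ⟨1, fun v => by rw [D.ρ_one, Sp.act_one]⟩
    | mul g h _ _ hg hh =>
      obtain ⟨x, hx⟩ := hg
      obtain ⟨y, hy⟩ := hh
      exact ⟨x * y, fun v => by rw [D.ρ_mul, hy, hx, Sp.act_mul]⟩
    | inv g _ hg =>
      obtain ⟨x, hx⟩ := hg
      refine ⟨x⁻¹, fun v => ?_⟩
      have h2 : f v = D.ρ x (f (Sp.act g⁻¹ v)) := by
        rw [hx, ← Sp.act_mul, mul_inv_cancel, Sp.act_one]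
      rw [h2, D.ρ_inv_apply]
  choose φ hφ using h1
  have hmul : ∀ g h, φ (g * h) = φ g * φ h := by
    intro g h
    apply D.ext_iff
    intro v
    obtain ⟨w, rfl⟩ := f.surjective v
    rw [hφ, D.ρ_mul, hφ, hφ, Sp.act_mul]
  have hinj : Function.Injective φ := by
    intro g h hgh
    apply Sp.act_ext
    intro v
    apply f.injective
    rw [← hφ, ← hφ, hgh]
  have hsurj : Function.Surjective φ := by
    intro x
    obtain ⟨g, hg⟩ := exists_of_isometry (f.symm.toLinearMap ∘ₗ D.ρ x ∘ₗ f.toLinearMap) (by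
      intro u v
      rw [← hf]
      change D.B (f (f.symm (D.ρ x (f u)))) (f (f.symm (D.ρ x (f v)))) = _
      rw [f.apply_symm_apply, f.apply_symm_apply, D.inv, hf])
    refine ⟨g, ?_⟩
    apply D.ext_iff
    intro v
    obtain ⟨w, rfl⟩ := f.surjective v
    rw [hφ, hg]
    change f (f.symm (D.ρ x (f w))) = _
    rw [f.apply_symm_apply]
  refine ⟨{ e := MulEquiv.ofBijective (⟨⟨φ, ?_⟩, hmul⟩ : Sp.S →* X) ⟨hinj, hsurj⟩, f := f, act := hφ, om := hf, tr := ?_ }⟩
  · have h2 : φ 1 * φ 1 = φ 1 := by rw [← hmul, one_mul]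
    exact mul_eq_left.1 h2
  · intro u
    apply D.ext_iff
    intro v
    obtain ⟨w, rfl⟩ := f.surjective v
    change D.ρ (φ (Sp.tr u)) (f w) = _
    rw [hφ, Sp.act_tr, D.hτ, hf, map_add, map_smul, Sp.om_symm]

end Cfsg.Agent.StdSpSix.Model
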