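import Cfsg.Agent.StdSpSix.PatTwoIdx
import Cfsg.Agent.StdSpSix.Model

/-!
Pattern `{a2}`: the theorem for a context.
-/

set_option autoImplicit false

namespace Cfsg.Agent.StdSpSix.PatTwo

open Cfsg.Agent.StandardComponent.SpTwo
open Cfsg.Agent.SporRec.TwoSp6

theorem form_fN : ∀ x y : V, Sp.fN x.num y.num = V.form x y := by decide +kernel

theorem om_code (x y : V) : Sp.om (Sp.enc x.num) (Sp.enc y.num) = bif V.form x y then 1 else 0 := by
  rw [Sp.om_enc, form_fN]
  cases V.form x y <;> rfl

/-- Codes as vectors. -/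
noncomputable def code : V ≃ Sp.V := Equiv.ofBijective (fun x => Sp.enc x.num) (by
  rw [Fintype.bijective_iff_injective_and_card]
  refine ⟨fun x y h => ?_, ?_⟩
  · by_contra hne
    obtain ⟨v, hv⟩ := Six.exists_form x y hne
    apply hv
    have h1 := om_code v x
    have h2 := om_code v y
    change Sp.enc x.num = Sp.enc y.num at h
    rw [h, h2] at h1
    cases h3 : V.form v x <;> cases h4 : V.form v y <;> rw [h3, h4] at h1
    · exact absurd h1 (by decide)
    · exact absurd h1 (by decide)
  · rw [Fintype.card_fun, Fintype.card_sum, Fintype.card_fin, ZMod.card]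
    decide)

theorem code_add (x y : V) : code (x + y) = code x + code y := by
  change Sp.enc (x + y).num = Sp.enc x.num + Sp.enc y.num
  rw [V.num_add, Sp.enc_xor]

theorem code_om (x y : V) : Sp.om (code x) (code y) = bif V.form x y then 1 else 0 := om_code x y

section

variable {G W : Type*} [Group G] [AddCommGroup W] [Module (ZMod 2) W] (C : Ctx G W)
  (f : Sp.V ≃ₗ[ZMod 2] W) (hf : ∀ u v, C.S.B (f u) (f v) = Sp.om u v)

/-- Codes as vectors of the context. -/
noncomputable def psi : V ≃ W := code.trans f.toEquiv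

theorem psi_add (x y : V) : psi f (x + y) = psi f x + psi f y := by
  change f (code (x + y)) = f (code x) + f (code y)
  rw [code_add, map_add]

theorem psi_zero : psi f 0 = 0 := by
  have := psi_add f 0 0
  rw [V.aa] at this
  exact left_eq_add.1 this

include hf in
theorem psi_B (x y : V) : C.S.B (psi f x) (psi f y) = bif V.form x y then 1 else 0 := by
  change C.S.B (f (code x)) (f (code y)) = _
  rw [hf, code_om]

include hf in
theorem psi_B_zero {x y : V} : C.S.B (psi f x) (psi f y) = 0 ↔ V.form x y = false := by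
  rw [psi_B C f hf]
  cases V.form x y
  · exact ⟨fun _ => rfl, fun _ => rfl⟩
  · exact ⟨fun h => absurd h (by decide), fun h => absurd h (by decide)⟩

include hf in
theorem form_eq_of {x y x' y' : V} (h : C.S.B (psi f x) (psi f y) = C.S.B (psi f x') (psi f y')) :
    V.form x y = V.form x' y' := by
  rw [psi_B C f hf, psi_B C f hf] at h
  cases h1 : V.form x y <;> cases h2 : V.form x' y' <;> rw [h1, h2] at h
  · exact absurd h (by decide)
  · exact absurd h (by decide)

open Classical in
/-- The structure `Six` of a context. -/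
noncomputable def sixOf : Six G where
  L := C.L
  act g x := if h : g ∈ C.L then (psi f).symm (C.S.ρ ⟨g, h⟩ (psi f x)) else x
  act_one x := by
    rw [dif_pos C.L.one_mem]
    have : (⟨1, C.L.one_mem⟩ : C.L) = 1 := rfl
    rw [this, C.S.ρ_one, Equiv.symm_apply_apply]
  act_mul g hg h hh x := by
    rw [dif_pos (C.L.mul_mem hg hh), dif_pos hg, dif_pos hh, Equiv.apply_symm_apply]
    have : (⟨g * h, C.L.mul_mem hg hh⟩ : C.L) = ⟨g, hg⟩ * ⟨h, hh⟩ := rfl
    rw [this, C.S.ρ_mul]
  act_add g hg x y := by
    rw [dif_pos hg, dif_pos hg, dif_pos hg, psi_add, map_add]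
    apply (psi f).injective
    rw [psi_add, Equiv.apply_symm_apply, Equiv.apply_symm_apply, Equiv.apply_symm_apply]
  act_form g hg x y := by
    rw [dif_pos hg, dif_pos hg]
    apply form_eq_of C f hf
    rw [Equiv.apply_symm_apply, Equiv.apply_symm_apply, C.S.inv]
  act_inj g hg h hh H := by
    have : (⟨g, hg⟩ : C.L) = ⟨h, hh⟩ := by
      apply C.S.ext_iff
      intro v
      obtain ⟨x, rfl⟩ := (psi f).surjective v
      have := H x
      rw [dif_pos hg, dif_pos hh] at this
      exact (psi f).symm.injective this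
    exact congrArg Subtype.val this
  T v := C.b (psi f v)
  T_mem v := C.b_mem _
  act_T v x := by
    rw [dif_pos (C.b_mem _)]
    apply (psi f).injective
    rw [Equiv.apply_symm_apply]
    change C.S.ρ (C.S.τ (psi f v)) (psi f x) = _
    rw [C.S.hτ, psi_B C f hf]
    unfold V.trf
    cases V.form x v
    · change psi f x + (0 : ZMod 2) • psi f v = psi f x
      rw [zero_smul, add_zero]
    · change psi f x + (1 : ZMod 2) • psi f v = psi f (x + v)
      rw [one_smul, psi_add]

end

/-- Main theorem for pattern `{a2}`. -/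
theorem main {G W : Type*} [Group G] [Finite G] [AddCommGroup W] [Module (ZMod 2) W] (C : Ctx G W)
    (h1 : ∀ a c : W, a ≠ 0 → c ≠ 0 → a ≠ c → C.S.B a c = 0 →
      C.t * (C.b a * C.b c * C.b (a + c)) ∈ C.D)
    (h2 : ∀ x ∈ C.D, Commute x C.t → x = C.t ∨ ∃ a c, a ≠ 0 ∧ c ≠ 0 ∧ a ≠ c ∧ C.S.B a c = 0 ∧
      x = C.t * (C.b a * C.b c * C.b (a + c))) : ∃ m : G →* ℤˣ, m C.t = -1 := by
  obtain ⟨f, hf⟩ := Model.exists_iso C.S C.cardV
  have hZ : ∀ a c, (sixOf C f hf).Z a c = C.b (psi f a) * C.b (psi f c) * C.b (psi f a + psi f c) := by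
    intro a c
    change C.b (psi f a) * C.b (psi f c) * C.b (psi f (a + c)) = _
    rw [psi_add]
  have hne : ∀ {a : V}, a ≠ 0 → psi f a ≠ 0 := fun {a} ha h =>
    ha ((psi f).injective (h.trans (psi_zero f).symm))
  let S : Std G :=
    { sixOf C f hf with
      t := C.t
      tt := C.tt
      tL := C.tL
      cent := fun g hg => (C.cent g).1 hg
      comm := fun g hg => C.commute_of_mem hg
      D1 := by
        rintro a c ⟨h3, h4, h5, h6⟩
        obtain ⟨g, hg⟩ := h1 (psi f a) (psi f c) (hne h4) (hne h5)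
          (fun h => h6 ((psi f).injective h)) ((psi_B_zero C f hf).2 h3)
        refine ⟨g, ?_⟩
        rw [← hg, ← hZ]
      D2 := by
        intro g hg
        rcases h2 _ ⟨g, rfl⟩ hg with h | ⟨a', c', ha, hc, hac, hB, hx⟩
        · exact Or.inl h
        · right
          obtain ⟨a, rfl⟩ := (psi f).surjective a'
          obtain ⟨c, rfl⟩ := (psi f).surjective c'
          refine ⟨_, ⟨a, c, ⟨(psi_B_zero C f hf).1 hB, ?_, ?_, ?_⟩, rfl⟩, ?_⟩
          · rintro rfl; exact ha (psi_zero f)
          · rintro rfl; exact hc (psi_zero f)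
          · rintro rfl; exact hac rfl
          · rw [hx, ← hZ] }
  exact S.main

end Cfsg.Agent.StdSpSix.PatTwo
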