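import Cfsg.Agent.StdSpSix.ELevelEnd
import Cfsg.Agent.StdSpSix.PatOneSign
import Cfsg.Agent.StdSpSix.PatTwoMain

/-!
# The sign theorem for `C_G(t) = ⟨t⟩ × Sp₆(2)`, modulo the pattern ALL
-/

set_option autoImplicit false

namespace Cfsg.Agent.StdSpSix.Main6

open Subgroup
open Cfsg.Agent.StandardComponent.SpTwo
open Cfsg.Agent.SporRec.TwoSp6
open Cfsg.Agent.StdSpSix.Words Cfsg.Agent.StdSpSix.Counts Cfsg.Agent.StdSpSix.Facts

section
variable {X V : Type*} [Group X] [AddCommGroup V] [Module (ZMod 2) V] {S : SpData X V} (K : Model.Coord S)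

theorem conj_b1 {u : V} (hu : u ≠ 0) : ∃ g, g * S.τ u * g⁻¹ = w K [1] := by
  obtain ⟨u, rfl⟩ := K.f.surjective u
  have hu' : u ≠ 0 := by rintro rfl; exact hu (map_zero _)
  obtain ⟨g, hg⟩ := Sp.exists_act hu' (w := Sp.enc 1) (by decide)
  refine ⟨K.e g, ?_⟩
  rw [← K.tr, ← map_inv, ← map_mul, ← map_mul, Sp.conj_tr, hg]
  unfold w
  rw [W1]

theorem conj_a2 {a c : V} (ha : a ≠ 0) (hc : c ≠ 0) (hac : a ≠ c) (hB : S.B a c = 0) :
    ∃ g, g * (S.τ a * S.τ c * S.τ (a + c)) * g⁻¹ = w K [1, 2, 3] := by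
  obtain ⟨a, rfl⟩ := K.f.surjective a
  obtain ⟨c, rfl⟩ := K.f.surjective c
  have h1 : P2 (a, c) := by
    refine ⟨?_, ?_, ?_, ?_⟩
    · rintro rfl; exact ha (map_zero _)
    · rintro rfl; exact hc (map_zero _)
    · rintro h; exact hac (by rw [show c = a from h])
    · rw [← K.om]; exact hB
  obtain ⟨g, g1, g2⟩ := exists_std h1
  refine ⟨K.e g, ?_⟩
  rw [← map_add, ← K.tr, ← K.tr, ← K.tr, ← map_inv, ← map_mul, ← map_mul, ← map_mul, ← map_mul, conj_prod3, Sp.conj_tr,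
    Sp.conj_tr, Sp.conj_tr, Sp.act_add, g1, g2, ← Sp.enc_xor]
  unfold w
  rw [W3]
  rfl

end

variable {G V : Type*} [Group G] [Finite G] [AddCommGroup V] [Module (ZMod 2) V]

/-- **The sign theorem for `C_G(t) = ⟨t⟩ × Sp₆(2)`, modulo the pattern ALL.** -/
theorem main (C : Ctx G V)
    (hALL : (∀ x ∈ C.L, x ∉ C.D) → (∀ x ∈ C.L, x * x = 1 → C.t * x ∈ C.D) → ∃ m : G →* ℤˣ, m C.t = -1) :
    ∃ m : G →* ℤˣ, m C.t = -1 := by
  obtain ⟨K⟩ := Model.exists_coord C.S C.cardV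
  rcases ELevelEnd.main C K with h | ⟨hno, h⟩
  · exact h
  -- every member of `D` commuting with `t` is `t l`
  have hl : ∀ x ∈ C.D, Commute x C.t → ∃ l : C.L, l * l = 1 ∧ x = C.t * (l : G) := by
    intro x hx hc
    have h1 : C.t * x ∈ C.L := ((C.cent x).1 hc).resolve_left (fun h' => hno x h' hx)
    refine ⟨⟨C.t * x, h1⟩, Subtype.ext ?_, ?_⟩
    · change C.t * x * (C.t * x) = 1
      calc C.t * x * (C.t * x) = C.t * (x * C.t) * x := by group
        _ = C.t * (C.t * x) * x := by rw [hc.eq]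
        _ = (C.t * C.t) * (x * x) := by group
        _ = 1 := by rw [C.tt, C.D_sq hx, one_mul]
    · change x = C.t * (C.t * x)
      rw [← mul_assoc, C.tt, one_mul]
  rcases h with ⟨h1, h2, h3, h4⟩ | ⟨h1, h2, h3, h4⟩ | ⟨h1, h2, h3, h4⟩
  · -- pattern b1
    refine PatOneSign.pattern_b1 C ?_ ?_
    · intro x hx hc
      obtain ⟨l, hl1, rfl⟩ := hl x hx hc
      by_cases h0 : l = 1
      · left; rw [h0, Subgroup.coe_one, mul_one]
      right
      rcases exists_conj K hl1 h0 with ⟨⟨u, hu, h5⟩, _⟩ | ⟨_, h5⟩ | ⟨_, h5⟩ | ⟨_, h5⟩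
      · exact ⟨u, hu, by rw [h5]; rfl⟩
      · exact (h2 ((T_iff C K h5).1 hx)).elim
      · exact (h3 ((T_iff C K h5).1 hx)).elim
      · exact (h4 ((T_iff C K h5).1 hx)).elim
    · intro u hu
      exact (T_iff C K (x := C.S.τ u) (conj_b1 K hu)).2 h1
  · -- pattern a2
    refine PatTwo.main C ?_ ?_
    · intro a c ha hc hac hB
      exact (T_iff C K (x := C.S.τ a * C.S.τ c * C.S.τ (a + c)) (conj_a2 K ha hc hac hB)).2 h3
    · intro x hx hc
      obtain ⟨l, hl1, rfl⟩ := hl x hx hc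
      by_cases h0 : l = 1
      · left; rw [h0, Subgroup.coe_one, mul_one]
      right
      rcases exists_conj K hl1 h0 with ⟨_, h5⟩ | ⟨_, h5⟩ | ⟨⟨a, c, ha, hc, hac, hB, h6⟩, h5⟩ | ⟨_, h5⟩
      · exact (h1 ((T_iff C K h5).1 hx)).elim
      · exact (h2 ((T_iff C K h5).1 hx)).elim
      · exact ⟨a, c, ha, hc, fun h => hac h.symm, hB, by rw [h6]; rfl⟩
      · exact (h4 ((T_iff C K h5).1 hx)).elim
  · -- pattern ALL
    refine hALL hno ?_
    intro x hx hxx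
    by_cases h0 : x = 1
    · rw [h0, mul_one]; exact C.t_mem_D
    have hl1 : (⟨x, hx⟩ : C.L) * ⟨x, hx⟩ = 1 := Subtype.ext hxx
    have hl0 : (⟨x, hx⟩ : C.L) ≠ 1 := fun h => h0 (congrArg Subtype.val h)
    rcases exists_conj K hl1 hl0 with ⟨_, h5⟩ | ⟨_, h5⟩ | ⟨_, h5⟩ | ⟨_, h5⟩
    · exact (T_iff C K h5).2 h1
    · exact (T_iff C K h5).2 h2
    · exact (T_iff C K h5).2 h3
    · exact (T_iff C K h5).2 h4

end Cfsg.Agent.StdSpSix.Main6
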