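import Cfsg.Agent.StdSpSix.Bridge
import Cfsg.Agent.StdSpSix.TR
import Cfsg.Agent.StandardComponent.FiRedSix

/-!
# `PSp₆(2)` is not a standard component of a simple group, given the sign theorem
-/

set_option autoImplicit false

namespace Cfsg.Agent.StdSpSix.Reduction

open Cfsg.Agent.StandardComponent

/-- Reduction of the `PSp₆(2)` part of S1734 to `∃ m : G →* ℤˣ, m C.t = -1` for every context. -/
theorem false_of_standard {G : Type*} [Group G] [Finite G] [IsSimpleGroup G] (hG : ¬ IsMulCommutative G)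
    (hcomm : Cfsg.oddCore G = ⊥ → StdAlt.First.CommHalf G)
    (hbal : ∀ t : G, orderOf t = 2 → Cfsg.centralizerPPrimeCore 2 t = ⊥)
    (L : Subgroup G) (hL : Cfsg.IsStandardSubgroup L) {F : Type*} [Field F] [Fintype F] (hF : Fintype.card F = 2)
    (e : L ≃* Cfsg.PSp 3 F)
    (hmain : ∀ C : Ctx G (Fin 3 ⊕ Fin 3 → ZMod 2), ∃ m : G →* ℤˣ, m C.t = -1) : False := by
  obtain ⟨t, ht, htL, _, hc⟩ := FiRedSix.exists_involution hG hcomm hbal L hL hF e
  have ht2 : t * t = 1 := by rw [← pow_two, ← ht, pow_orderOf_eq_one]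
  obtain ⟨C, _, _⟩ := exists_ctx_of_psp L ht2 htL hc hF e
  obtain ⟨m, hm⟩ := hmain C
  exact TR.false_of_simple hG m hm

end Cfsg.Agent.StdSpSix.Reduction
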