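import Cfsg.Agent.StdSpSix.SwKill

/-!
# The dichotomy: `[y_u, y_v] = 1` for all orthogonal pairs, or `[y_u, y_v] = b_{u+v}` for all orthogonal pairs
-/

set_option autoImplicit false

namespace Cfsg.Agent.StdSpSix.SwMain

open Cfsg.Agent.StandardComponent.SpTwo
open Cfsg.Agent.SporRec.TwoSp6
open Cfsg.Agent.StdSpSix.Words
open Cfsg.Agent.StdSpSix.Sw

variable {G V : Type*} [Group G] [AddCommGroup V] [Module (ZMod 2) V]

/-- the data of a context with coordinates -/
def dat (C : Ctx G V) (K : Model.Coord C.S) : Dat G where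
  t := C.t
  φ := C.L.subtype.comp K.e.toMonoidHom
  tt := C.tt
  inj := C.L.subtype_injective.comp K.e.injective
  comm s := C.commute_of_mem (K.e s).2
  cent g hg := by
    rcases (C.cent g).1 hg with h | h
    · refine ⟨K.e.symm ⟨g, h⟩, Or.inl ?_⟩
      change g = ((K.e (K.e.symm ⟨g, h⟩) : C.L) : G)
      rw [K.e.apply_symm_apply]
    · refine ⟨K.e.symm ⟨C.t * g, h⟩, Or.inr ?_⟩
      change g = C.t * ((K.e (K.e.symm ⟨C.t * g, h⟩) : C.L) : G)
      rw [K.e.apply_symm_apply, ← mul_assoc, C.tt, one_mul]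
  tφ s h := C.tL (by rw [← h]; exact (K.e s).2)

theorem φ_tr (C : Ctx G V) (K : Model.Coord C.S) (u : V) : (dat C K).φ (Sp.tr (K.f.symm u)) = C.b u := by
  change ((K.e (Sp.tr (K.f.symm u)) : C.L) : G) = C.b u
  rw [K.tr, K.f.apply_symm_apply]
  rfl

theorem isY_iff (C : Ctx G V) (K : Model.Coord C.S) {u : V} {g : G} :
    IsY C u g ↔ Y (dat C K) (K.f.symm u) g := by
  have hc : ∀ s : Sp.S, Commute ((dat C K).φ s) (C.b u) ↔ Sp.act s (K.f.symm u) = K.f.symm u := by
    intro s
    rw [← φ_tr C K, ← comm_iff]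
    constructor
    · intro h
      apply (dat C K).inj
      rw [map_mul, map_mul]
      exact h
    · intro h
      change (dat C K).φ s * (dat C K).φ (Sp.tr (K.f.symm u)) = (dat C K).φ (Sp.tr (K.f.symm u)) * (dat C K).φ s
      rw [← map_mul, ← map_mul, h]
  constructor
  · intro h
    refine ⟨h.sq, ?_, fun s hs => ?_⟩
    · rw [φ_tr]; exact h.conj
    · exact h.comm _ (K.e s).2 ((hc s).2 hs)
  · intro h
    refine ⟨h.sq, ?_, fun x hx hxb => ?_⟩
    · have := h.conj
      rw [φ_tr] at this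
      exact this
    · have e : (dat C K).φ (K.e.symm ⟨x, hx⟩) = x := by
        change ((K.e (K.e.symm ⟨x, hx⟩) : C.L) : G) = x
        rw [K.e.apply_symm_apply]
      have h1 := h.comm (K.e.symm ⟨x, hx⟩) ((hc _).1 (by rw [e]; exact hxb))
      rw [e] at h1
      exact h1

/-- **(E1)** -/
theorem dichotomy (C : Ctx G V) (hex : ∀ u : V, u ≠ 0 → ∃ g, IsY C u g) :
    (∀ u v g h, u ≠ 0 → v ≠ 0 → u ≠ v → C.S.B u v = 0 → IsY C u g → IsY C v h → g * h * g * h = 1) ∨
    (∀ u v g h, u ≠ 0 → v ≠ 0 → u ≠ v → C.S.B u v = 0 → IsY C u g → IsY C v h → g * h * g * h = C.b (u + v)) := by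
  obtain ⟨K⟩ := Model.exists_coord C.S C.cardV
  have hex' : ∀ u : Sp.V, u ≠ 0 → ∃ g, Y (dat C K) u g := by
    intro u hu
    obtain ⟨g, hg⟩ := hex (K.f u) (by
      intro h
      exact hu ((map_eq_zero_iff K.f K.f.injective).1 h))
    rw [isY_iff C K, K.f.symm_apply_apply] at hg
    exact ⟨g, hg⟩
  have n0 : ∀ u : V, u ≠ 0 → K.f.symm u ≠ 0 := fun u hu h => hu ((map_eq_zero_iff K.f.symm K.f.symm.injective).1 h)
  have om0 : ∀ u v : V, C.S.B u v = 0 → Sp.om (K.f.symm u) (K.f.symm v) = 0 := by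
    intro u v h
    rw [← K.om, K.f.apply_symm_apply, K.f.apply_symm_apply]
    exact h
  rcases types hex' with h | h | h | h
  · left
    intro u v g g' hu hv huv h0 hg hg'
    rw [isY_iff C K] at hg hg'
    have := h _ _ g g' (n0 u hu) (n0 v hv) (fun e => huv (K.f.symm.injective e).symm) (om0 u v h0) hg hg'
    rw [this, map_one]
  · right
    intro u v g g' hu hv huv h0 hg hg'
    rw [isY_iff C K] at hg hg'
    have := h _ _ g g' (n0 u hu) (n0 v hv) (fun e => huv (K.f.symm.injective e).symm) (om0 u v h0) hg hg'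
    refine this.trans ?_
    change (dat C K).φ (Sp.tr (K.f.symm u + K.f.symm v)) = C.b (u + v)
    rw [← map_add, φ_tr]
  · exfalso
    refine kill (δ := false) (D := dat C K) ?_ hex'
    intro u w g g' hu hw hne h0 hg hg'
    refine (h u w g g' hu hw hne h0 hg hg').trans ?_
    have e : Sp.tr u * Sp.tr w * dl false (u + w) = Sp.tr u * Sp.tr w := mul_one _
    exact (congrArg (dat C K).φ e).symm
  · exfalso
    refine kill (δ := true) (D := dat C K) ?_ hex'
    intro u w g g' hu hw hne h0 hg hg'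
    refine (h u w g g' hu hw hne h0 hg hg').trans ?_
    have e : dl true (u + w) = Sp.tr (u + w) := rfl
    exact (congrArg (fun x => (dat C K).φ (Sp.tr u * Sp.tr w * x)) e).symm

end Cfsg.Agent.StdSpSix.SwMain
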