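import Cfsg.Agent.StdSpSix.QLevelCheck

/-!
# Kernel checks on elements of order 4 of `GL₃(2)`
-/

set_option autoImplicit false

namespace Cfsg.Agent.StdSpSix.AbelRank

open Matrix
open Cfsg.Agent.StdSpSix.QLevelModel

/-- order dividing 4 -/
def Four (M : M3) : Prop := M * M * (M * M) = 1

instance (M : M3) : Decidable (Four M) := by unfold Four; infer_instance

set_option maxRecDepth 100000 in
theorem q1 : ∀ M : M3, (Four M ∧ M * M ≠ 1) →
    (Finset.univ.filter fun x : Fin 6 → ZMod 2 => M * sy x * Mᵀ = sy x).card ≤ 8 := by decide +kernel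

/-- the centraliser condition -/
def Cen (M : M3) : Prop := ∀ N : M3, (Four N ∧ M * N = N * M) → N = 1 ∨ N = M ∨ N = M * M ∨ N = M * M * M

instance (M : M3) : Decidable (Cen M) := by unfold Cen; infer_instance

set_option maxRecDepth 100000 in
theorem q2 : ∀ M : M3, (Four M ∧ M * M ≠ 1) → Cen M := by decide +kernel

end Cfsg.Agent.StdSpSix.AbelRank
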