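import Cfsg.Agent.StdSpSix.QLevelSp
import Cfsg.Agent.StdSpSix.AbelCheck

/-!
# Abelian `2`-subgroups of order at least 64 of `Sp₆(2)` are elementary abelian

In particular an element of order 4 does not centralise an elementary abelian group of order 32.
-/

set_option autoImplicit false

namespace Cfsg.Agent.StdSpSix.AbelRank

open Subgroup Matrix Cfsg.Agent.SporRec.TwoSp6
open Cfsg.Agent.StandardComponent.SpTwo
open Cfsg.Agent.StdSpSix.QLevelModel

/-- abelian subgroups of `P0` of exponent dividing 4 -/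
theorem le_A0 {B : Subgroup Sp.S} (hB : B ≤ P0) (hcomm : ∀ x ∈ B, ∀ y ∈ B, x * y = y * x)
    (h4 : ∀ x ∈ B, x * x * (x * x) = 1) (hcard : 64 ≤ Nat.card B) : B ≤ A0 := by
  classical
  by_contra hle
  rw [SetLike.not_le_iff_exists] at hle
  obtain ⟨b, hb, hbA⟩ := hle
  have hmulM : ∀ x ∈ B, ∀ y ∈ B, ((x * y : Sp.S) : M6).toBlocks₁₁ = (x : M6).toBlocks₁₁ * (y : M6).toBlocks₁₁ := by
    intro x hx y hy
    change ((x : M6) * (y : M6)).toBlocks₁₁ = _
    rw [mul11, mem_P0.1 (hB hy), Matrix.mul_zero, add_zero]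
  have hcommM : ∀ x ∈ B, ∀ y ∈ B, (x : M6).toBlocks₁₁ * (y : M6).toBlocks₁₁ =
      (y : M6).toBlocks₁₁ * (x : M6).toBlocks₁₁ := by
    intro x hx y hy
    rw [← hmulM x hx y hy, ← hmulM y hy x hx, hcomm x hx y hy]
  have hfour : ∀ x ∈ B, Four ((x : M6).toBlocks₁₁) := by
    intro x hx
    unfold Four
    rw [← hmulM x hx x hx, ← hmulM _ (mul_mem hx hx) _ (mul_mem hx hx), h4 x hx]
    exact one11
  -- elements of `A` commuting with `c`
  have hfixM : ∀ c ∈ B, ∀ x, ua x ∈ B → (c : M6).toBlocks₁₁ * sy x * (c : M6).toBlocks₁₁ᵀ = sy x := by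
    intro c hc x hx
    have h1 : (c : M6) * (ua x : M6) = (ua x : M6) * (c : M6) := congrArg Subtype.val (hcomm c hc _ hx)
    have h2 := congrArg Matrix.toBlocks₁₂ h1
    rw [mul12, mul12, ua12, ua22, ua11, Matrix.mul_one, Matrix.one_mul, add_comm ((c : M6).toBlocks₁₂)] at h2
    have h3 := add_right_cancel h2
    have h5 := blk22 (hB hc)
    have h6 : (c : M6).toBlocks₂₂ * (c : M6).toBlocks₁₁ᵀ = 1 := mul_eq_one_comm.1 h5
    rw [h3, Matrix.mul_assoc, h6, Matrix.mul_one]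
  -- the number of elements of `B ∩ A`
  have hcount : ∀ F : Finset (Fin 6 → ZMod 2), (∀ x, ua x ∈ B → x ∈ F) → Nat.card (B ⊓ A0 : Subgroup Sp.S) ≤ F.card := by
    intro F hF
    have h1 : ∀ g : (B ⊓ A0 : Subgroup Sp.S), ∃ x, (g : Sp.S) = ua x := fun g => exists_ua (mem_inf.1 g.2).2
    choose f hf using h1
    have h2 : Nat.card (B ⊓ A0 : Subgroup Sp.S) ≤ Nat.card F := by
      refine Nat.card_le_card_of_injective (fun g => (⟨f g, hF _ ?_⟩ : F)) ?_
      · rw [← hf]; exact (mem_inf.1 g.2).1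
      · intro g g' h
        have h3 := congrArg (Subtype.val : F → _) h
        apply Subtype.ext
        rw [hf, hf]
        exact congrArg ua h3
    have h5 : Nat.card F = F.card := by rw [Nat.card_eq_fintype_card, Fintype.card_coe]
    rwa [h5] at h2
  -- the image of `B` in `GL₃(2)`
  let ψ : B →* K3 := th.comp (inclusion hB)
  have hker : Nat.card ψ.ker = Nat.card (B ⊓ A0 : Subgroup Sp.S) := by
    refine Nat.card_congr ⟨fun g => ⟨(g : B), mem_inf.2 ⟨(g : B).2, (th_eq_one _).1 g.2⟩⟩,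
      fun a => ⟨⟨a, (mem_inf.1 a.2).1⟩, (th_eq_one _).2 (mem_inf.1 a.2).2⟩, fun g => rfl, fun a => rfl⟩
  have hB2 : Nat.card B = Nat.card (B ⊓ A0 : Subgroup Sp.S) * Nat.card ψ.range := by
    rw [← hker, ← index_ker, card_mul_index]
  have hrange : ∀ F : Finset K3, (∀ c : B, ψ c ∈ F) → Nat.card ψ.range ≤ F.card := by
    intro F hF
    have h2 : Nat.card ψ.range ≤ Nat.card F := by
      refine Nat.card_le_card_of_injective (fun g => (⟨g, ?_⟩ : F)) ?_
      · obtain ⟨g, c, rfl⟩ := g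
        exact hF c
      · intro g g' h
        exact Subtype.ext (congrArg (Subtype.val : F → _) h)
    have h5 : Nat.card F = F.card := by rw [Nat.card_eq_fintype_card, Fintype.card_coe]
    rwa [h5] at h2
  have hψ : ∀ c : B, ((ψ c : K3) : M3) = ((c : Sp.S) : M6).toBlocks₁₁ := fun c => rfl
  by_cases hord : ∃ d ∈ B, (d : M6).toBlocks₁₁ * (d : M6).toBlocks₁₁ ≠ 1
  · obtain ⟨d, hd, hdM⟩ := hord
    have h3 := hrange {1, ψ ⟨d, hd⟩, ψ ⟨d, hd⟩ * ψ ⟨d, hd⟩, ψ ⟨d, hd⟩ * ψ ⟨d, hd⟩ * ψ ⟨d, hd⟩} (by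
      intro c
      rw [Finset.mem_insert, Finset.mem_insert, Finset.mem_insert, Finset.mem_singleton]
      rcases q2 _ ⟨hfour d hd, hdM⟩ _ ⟨hfour c c.2, hcommM d hd c c.2⟩ with h | h | h | h
      · exact Or.inl (Units.ext (by rw [hψ, h]; rfl))
      · exact Or.inr (Or.inl (Units.ext (by rw [hψ, hψ, h])))
      · exact Or.inr (Or.inr (Or.inl (Units.ext (by rw [Units.val_mul, hψ, hψ, h]))))
      · exact Or.inr (Or.inr (Or.inr (Units.ext (by rw [Units.val_mul, Units.val_mul, hψ, hψ, h])))))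
    have h4 := hcount _ (fun x hx => Finset.mem_filter.2 ⟨Finset.mem_univ x, hfixM d hd x hx⟩)
    have h5 := h4.trans (q1 _ ⟨hfour d hd, hdM⟩)
    have h6 : ({1, ψ ⟨d, hd⟩, ψ ⟨d, hd⟩ * ψ ⟨d, hd⟩, ψ ⟨d, hd⟩ * ψ ⟨d, hd⟩ * ψ ⟨d, hd⟩} : Finset K3).card ≤ 4 :=
      Finset.card_le_four
    nlinarith
  push Not at hord
  -- the matrix of `b`
  have hform : ∀ c ∈ B, (c : M6).toBlocks₁₁ ≠ 1 → ∃ w φ, Inv w φ ∧ (c : M6).toBlocks₁₁ = 1 + vecMulVec w φ := by
    intro c hc hc1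
    rcases r1 _ (hord c hc) with h2 | ⟨w, φ, h2, h3⟩
    · exact absurd h2 hc1
    · exact ⟨w, φ, h2, h3⟩
  have hb1 : (b : M6).toBlocks₁₁ ≠ 1 := fun h => hbA (mem_A0.2 ⟨hB hb, h⟩)
  obtain ⟨w, φ, hwφ, hbM⟩ := hform b hb hb1
  have hfix : ∀ c ∈ B, ∀ w φ, Inv w φ → (c : M6).toBlocks₁₁ = 1 + vecMulVec w φ → ∀ x, ua x ∈ B →
      sy x *ᵥ φ = 0 ∨ sy x *ᵥ φ = w := by
    intro c hc w φ hi hM x hx
    have h1 : (c : M6) * (ua x : M6) = (ua x : M6) * (c : M6) := congrArg Subtype.val (hcomm c hc _ hx)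
    have h2 := congrArg Matrix.toBlocks₁₂ h1
    rw [mul12, mul12, ua12, ua22, ua11, Matrix.mul_one, Matrix.one_mul, add_comm ((c : M6).toBlocks₁₂)] at h2
    have h3 := add_right_cancel h2
    have h4 : (c : M6).toBlocks₂₂ = (c : M6).toBlocks₁₁ᵀ := by
      have h5 := blk22 (hB hc)
      have h6 : (c : M6).toBlocks₁₁ᵀ * (c : M6).toBlocks₁₁ᵀ = 1 := by
        rw [← transpose_mul, hord c hc, transpose_one]
      calc (c : M6).toBlocks₂₂ = ((c : M6).toBlocks₁₁ᵀ * (c : M6).toBlocks₁₁ᵀ) * (c : M6).toBlocks₂₂ := by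
            rw [h6, Matrix.one_mul]
        _ = (c : M6).toBlocks₁₁ᵀ := by rw [Matrix.mul_assoc, h5, Matrix.mul_one]
    rw [h4, hM, transpose_add, transpose_one, transpose_vecMulVec, Matrix.add_mul, Matrix.mul_add, Matrix.one_mul,
      Matrix.mul_one, vecMulVec_mul, mul_vecMulVec] at h3
    have h5 := add_left_cancel h3
    have h6 : φ ᵥ* sy x = sy x *ᵥ φ := by
      rw [← sy_symm x, vecMul_transpose, sy_symm]
    rw [h6] at h5
    rcases r2 _ _ h5 with h7 | h7 | h7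
    · exact absurd h7 hi.1
    · exact Or.inl h7
    · exact Or.inr h7
  by_cases h2 : ∀ c ∈ B, (c : M6).toBlocks₁₁ = 1 ∨ (c : M6).toBlocks₁₁ = (b : M6).toBlocks₁₁
  · have h3 := hrange {1, ψ ⟨b, hb⟩} (by
      intro c
      rw [Finset.mem_insert, Finset.mem_singleton]
      rcases h2 c c.2 with h | h
      · exact Or.inl (Units.ext (by rw [hψ, h]; rfl))
      · exact Or.inr (Units.ext (by rw [hψ, hψ, h])))
    have h4 := hcount _ (fun x hx => Finset.mem_filter.2 ⟨Finset.mem_univ x, hfix b hb w φ hwφ hbM x hx⟩)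
    have h5 := h4.trans (r4 w φ hwφ)
    have h6 : ({1, ψ ⟨b, hb⟩} : Finset K3).card ≤ 2 := Finset.card_le_two
    nlinarith
  · push Not at h2
    obtain ⟨c, hc, hc1, hcb⟩ := h2
    obtain ⟨w', φ', hi', hcM⟩ := hform c hc hc1
    have hcom : ∀ x ∈ B, ∀ y ∈ B, ∀ u ψ v χ, Inv u ψ → Inv v χ → (x : M6).toBlocks₁₁ = 1 + vecMulVec u ψ →
        (y : M6).toBlocks₁₁ = 1 + vecMulVec v χ → Com u ψ v χ := by
      intro x hx y hy u ψ v χ h1 h2 h3 h4
      apply r3 u ψ h1 v χ h2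
      rw [← h3, ← h4]
      exact hcommM x hx y hy
    have hD : ComD w φ w' φ' := by
      refine ⟨hi', hcom b hb c hc _ _ _ _ hwφ hi' hbM hcM, ?_⟩
      by_contra hne
      push Not at hne
      apply hcb
      rw [hbM, hcM, hne.1, hne.2]
    have h3 := hrange {1, ψ ⟨b, hb⟩, ψ ⟨c, hc⟩, ψ ⟨b, hb⟩ * ψ ⟨c, hc⟩} (by
      intro d
      rw [Finset.mem_insert, Finset.mem_insert, Finset.mem_insert, Finset.mem_singleton]
      by_cases hd1 : ((d : Sp.S) : M6).toBlocks₁₁ = 1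
      · exact Or.inl (Units.ext (by rw [hψ, hd1]; rfl))
      · right
        obtain ⟨u, χ, hi, hdM⟩ := hform d d.2 hd1
        have h4 := r6 w φ hwφ w' φ' hD u χ ⟨hi, hcom b hb d d.2 _ _ _ _ hwφ hi hbM hdM,
          hcom c hc d d.2 _ _ _ _ hi' hi hcM hdM⟩
        rw [← hbM, ← hcM, ← hdM] at h4
        rcases h4 with h4 | h4 | h4
        · exact Or.inl (Units.ext (by rw [hψ, hψ, h4]))
        · exact Or.inr (Or.inl (Units.ext (by rw [hψ, hψ, h4])))
        · exact Or.inr (Or.inr (Units.ext (by rw [Units.val_mul, hψ, hψ, hψ, h4]))))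
    have h4 := hcount (Finset.univ.filter fun x : Fin 6 → ZMod 2 => (sy x *ᵥ φ = 0 ∨ sy x *ᵥ φ = w) ∧
      (sy x *ᵥ φ' = 0 ∨ sy x *ᵥ φ' = w')) (fun x hx => Finset.mem_filter.2 ⟨Finset.mem_univ x,
      hfix b hb w φ hwφ hbM x hx, hfix c hc w' φ' hi' hcM x hx⟩)
    have h5 := h4.trans (r5 w φ hwφ w' φ' hD)
    have h6 : ({1, ψ ⟨b, hb⟩, ψ ⟨c, hc⟩, ψ ⟨b, hb⟩ * ψ ⟨c, hc⟩} : Finset K3).card ≤ 4 := Finset.card_le_four
    nlinarith

/-- Abelian subgroups of exponent dividing 4 and order at least 64 are elementary abelian. -/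
theorem sq_of_abelian_S (B : Subgroup Sp.S) (hcomm : ∀ x ∈ B, ∀ y ∈ B, x * y = y * x)
    (h4 : ∀ x ∈ B, x * x * (x * x) = 1) (hcard : 64 ≤ Nat.card B) : ∀ x ∈ B, x * x = 1 := by
  have hp : IsPGroup 2 B := by
    intro x
    refine ⟨2, Subtype.ext ?_⟩
    have h := h4 x x.2
    change ((x : Sp.S)) ^ (2 ^ 2) = 1
    rw [← h]
    norm_num [pow_succ, mul_assoc]
  obtain ⟨l, hl⟩ := exists_conj_le P0 B (by rw [index_P0]; decide) hp
  set B' : Subgroup Sp.S := B.map (MulAut.conj l⁻¹).toMonoidHom with hB'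
  have hmem : ∀ x, x ∈ B' ↔ l * x * l⁻¹ ∈ B := by
    intro x
    rw [hB', QLevel.Data.mem_map_conj, inv_inv]
  have hB'P : B' ≤ P0 := by
    intro x hx
    have := hl _ ((hmem x).1 hx)
    have h2 : l⁻¹ * (l * x * l⁻¹) * l = x := by group
    rwa [h2] at this
  have hcomm' : ∀ x ∈ B', ∀ y ∈ B', x * y = y * x := by
    intro x hx y hy
    have h1 := hcomm _ ((hmem x).1 hx) _ ((hmem y).1 hy)
    calc x * y = l⁻¹ * (l * x * l⁻¹ * (l * y * l⁻¹)) * l := by group
      _ = y * x := by rw [h1]; group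
  have h4' : ∀ x ∈ B', x * x * (x * x) = 1 := by
    intro x hx
    have h1 := h4 _ ((hmem x).1 hx)
    calc x * x * (x * x) = l⁻¹ * (l * x * l⁻¹ * (l * x * l⁻¹) * (l * x * l⁻¹ * (l * x * l⁻¹))) * l := by group
      _ = 1 := by rw [h1]; group
  have hcard' : 64 ≤ Nat.card B' := by
    rw [QLevel.Data.card_conj_of_iff (l := l⁻¹) (A := B) (fun x => by rw [inv_inv]; exact hmem x)]
    exact hcard
  have h := le_A0 hB'P hcomm' h4' hcard'
  intro x hx
  have h1 : l⁻¹ * x * l ∈ B' := by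
    rw [hmem]
    have h2 : l * (l⁻¹ * x * l) * l⁻¹ = x := by group
    rwa [h2]
  have h2 := A0_sq (h h1)
  calc x * x = l * (l⁻¹ * x * l * (l⁻¹ * x * l)) * l⁻¹ := by group
    _ = 1 := by rw [h2]; group

variable {X V : Type*} [Group X] [AddCommGroup V] [Module (ZMod 2) V]

theorem sq_of_abelian (S : SpData X V) (hV : Nat.card V = 64) (B : Subgroup X)
    (hcomm : ∀ x ∈ B, ∀ y ∈ B, x * y = y * x) (h4 : ∀ x ∈ B, x * x * (x * x) = 1) (hcard : 64 ≤ Nat.card B) :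
    ∀ x ∈ B, x * x = 1 := by
  obtain ⟨c⟩ := Model.exists_coord S hV
  have hm : ∀ x, x ∈ B.comap c.e.toMonoidHom ↔ c.e x ∈ B := fun x => Iff.rfl
  have hc : Nat.card (B.comap c.e.toMonoidHom) = Nat.card B :=
    Nat.card_congr (Equiv.subtypeEquiv c.e.toEquiv hm)
  have h := sq_of_abelian_S (B.comap c.e.toMonoidHom) (fun x hx y hy => by
      apply c.e.injective
      rw [map_mul, map_mul]
      exact hcomm _ hx _ hy) (fun x hx => by
      apply c.e.injective
      rw [map_mul, map_mul, map_one]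
      exact h4 _ hx) (by rw [hc]; exact hcard)
  intro x hx
  obtain ⟨y, rfl⟩ := c.e.surjective x
  rw [← map_mul, h y hx, map_one]

/-- **(F3)** No element of order 4 of `Sp₆(2)` centralises an elementary abelian subgroup of order 32. -/
theorem sq_of_commute (S : SpData X V) (hV : Nat.card V = 64) (B : Subgroup X) (hsq : ∀ x ∈ B, x * x = 1)
    (hcard : 32 ≤ Nat.card B) {c : X} (hc : ∀ x ∈ B, c * x = x * c) (h4 : c * c * (c * c) = 1) : c * c = 1 := by
  by_cases hcB : c ∈ B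
  · exact hsq c hcB
  have hBc : ∀ x ∈ B, ∀ y ∈ B, x * y = y * x := fun x hx y hy => QLevel.comm_of_sq hsq hx hy
  have hcz : ∀ x ∈ B, ∀ i : ℤ, c ^ i * x = x * c ^ i := fun x hx i => (Commute.zpow_left (hc x hx) i : _)
  let T : Subgroup X :=
    { carrier := {x | ∃ b ∈ B, ∃ i : ℤ, x = b * c ^ i}
      one_mem' := ⟨1, one_mem _, 0, by group⟩
      mul_mem' := by
        rintro _ _ ⟨b, hb, i, rfl⟩ ⟨b', hb', j, rfl⟩
        refine ⟨b * b', mul_mem hb hb', i + j, ?_⟩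
        calc b * c ^ i * (b' * c ^ j) = b * (c ^ i * b') * c ^ j := by group
          _ = b * b' * c ^ (i + j) := by rw [hcz b' hb' i]; group
      inv_mem' := by
        rintro _ ⟨b, hb, i, rfl⟩
        refine ⟨b⁻¹, inv_mem hb, -i, ?_⟩
        rw [_root_.mul_inv_rev, ← _root_.zpow_neg]
        exact hcz _ (inv_mem hb) (-i) }
  have hBT : B ≤ T := fun b hb => ⟨b, hb, 0, by group⟩
  have hcT : c ∈ T := ⟨1, one_mem _, 1, by group⟩
  have hfin : Finite X := by
    obtain ⟨k⟩ := Model.exists_coord S hV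
    exact Finite.of_equiv _ k.e.toEquiv
  have h64 : 64 ≤ Nat.card T := by
    have h1 : Nat.card B * B.relIndex T = Nat.card T := by
      rw [mul_comm, ← Subgroup.relIndex_bot_left, ← Subgroup.relIndex_bot_left, mul_comm]
      exact relIndex_mul_relIndex _ _ _ bot_le hBT
    have h2 : B.relIndex T ≠ 1 := by
      rw [Ne, relIndex_eq_one]
      exact fun h => hcB (h hcT)
    have h3 : B.relIndex T ≠ 0 := by
      rw [relIndex]
      exact index_ne_zero_of_finite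
    have h4 : 2 ≤ B.relIndex T := by omega
    nlinarith
  refine sq_of_abelian S hV T ?_ ?_ h64 c hcT
  · rintro _ ⟨b, hb, i, rfl⟩ _ ⟨b', hb', j, rfl⟩
    calc b * c ^ i * (b' * c ^ j) = b * (c ^ i * b') * c ^ j := by group
      _ = b * b' * c ^ (i + j) := by rw [hcz b' hb' i]; group
      _ = b' * b * c ^ (j + i) := by rw [hBc b hb b' hb', add_comm]
      _ = b' * (b * c ^ j) * c ^ i := by group
      _ = b' * c ^ j * (b * c ^ i) := by rw [← hcz b hb j]; group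
  · rintro _ ⟨b, hb, i, rfl⟩
    have e1 : b * c ^ i * (b * c ^ i) = c ^ (i + i) := by
      calc b * c ^ i * (b * c ^ i) = b * (c ^ i * b) * c ^ i := by group
        _ = b * b * c ^ (i + i) := by rw [hcz b hb i]; group
        _ = c ^ (i + i) := by rw [hsq b hb, one_mul]
    have e2 : c ^ (4 : ℤ) = 1 := by
      calc c ^ (4 : ℤ) = c ^ 4 := by norm_cast
        _ = c * c * (c * c) := by rw [pow_succ, pow_succ, pow_two, mul_assoc]
        _ = 1 := h4
    rw [e1]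
    calc c ^ (i + i) * c ^ (i + i) = (c ^ (4 : ℤ)) ^ i := by rw [← _root_.zpow_add, ← _root_.zpow_mul]; congr 1; ring
      _ = 1 := by rw [e2, _root_.one_zpow]

end Cfsg.Agent.StdSpSix.AbelRank
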