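import Cfsg.Agent.StdSpSix.AllFactsTwo
import Cfsg.Agent.StdSpSix.SwDefs

/-!
# Pattern `ALL`: swaps of `t` and `t z`

`All C`: no element of `L` is conjugate to `t`, every `t x`, `x ∈ L`, `x² = 1`, is.  If `g t g⁻¹ = t z` then conjugation
by `g` identifies the involutions of `L` commuting with `g⁻¹ z g` and with `z` (`down`, `up`).  Output: for `z = b_u` and
`z = λ` one can choose `g` with `g z g⁻¹ = z`.
-/

set_option autoImplicit false
set_option maxHeartbeats 400000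

namespace Cfsg.Agent.StdSpSix.AllBase

open Cfsg.Agent.StandardComponent.SpTwo
open Cfsg.Agent.SporRec.TwoSp6
open Cfsg.Agent.StdSpSix.Words Cfsg.Agent.StdSpSix.Model Cfsg.Agent.StdSpSix.AllCode Cfsg.Agent.StdSpSix.AllFacts
open Cfsg.Agent.StdSpSix.AllFactsTwo

variable {G V : Type*} [Group G] [AddCommGroup V] [Module (ZMod 2) V] {C : Ctx G V}

/-- the pattern `ALL` -/
structure All (C : Ctx G V) : Prop where
  none : ∀ x ∈ C.L, x ∉ C.D
  all : ∀ x ∈ C.L, x * x = 1 → C.t * x ∈ C.D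

/-- a word, as an element of `G` -/
noncomputable def ww (K : Coord C.S) (ks : List ℕ) : G := ((w K ks : C.L) : G)

variable (K : Coord C.S)

theorem ww_mem (ks : List ℕ) : ww K ks ∈ C.L := (w K ks).2

theorem ww_mul (ks ls : List ℕ) : ww K ks * ww K ls = ww K (ks ++ ls) := by
  unfold ww; rw [w_append]; rfl

theorem ww_eq {ks ls : List ℕ} (h : eqB ks ls = true) : ww K ks = ww K ls := by
  unfold ww; rw [w_eq K h]

theorem ww_nil : ww K [] = 1 := by unfold ww; rw [w_nil]; rfl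

theorem ww_one {ks : List ℕ} (h : eqB ks [] = true) : ww K ks = 1 := by rw [ww_eq K h, ww_nil]

theorem ww_cons (k : ℕ) (ks : List ℕ) : ww K (k :: ks) = C.b (vec K k) * ww K ks := by
  unfold ww; rw [w_cons]; rfl

theorem b_eq (k : ℕ) : C.b (vec K k) = ww K [k] := by rw [ww_cons, ww_nil, mul_one]

theorem ww_commute {ks ls : List ℕ} (h : eqB (ks ++ ls) (ls ++ ks) = true) : Commute (ww K ks) (ww K ls) := by
  change ww K ks * ww K ls = ww K ls * ww K ks
  rw [ww_mul, ww_mul, ww_eq K h]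

theorem ww_sq {ks : List ℕ} (h : eqB (ks ++ ks) [] = true) : ww K ks * ww K ks = 1 := by
  rw [ww_mul, ww_one K h]

theorem coe_commute {x y : C.L} : Commute (x : G) (y : G) ↔ Commute x y :=
  ⟨fun h => Subtype.ext h, fun h => congrArg Subtype.val h⟩

theorem ww_t (ks : List ℕ) : Commute (ww K ks) C.t := C.commute_of_mem (ww_mem K ks)

theorem inv_of_sq {x : G} (h : x * x = 1) : x⁻¹ = x := inv_eq_of_mul_eq_one_right h

theorem ww_ne {ks ls : List ℕ} (hks : ∀ k ∈ ks, k < 64) (hls : ∀ k ∈ ls, k < 64)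
    (h : ∃ c < 64, wc ks c ≠ wc ls c) : ww K ks ≠ ww K ls := by
  obtain ⟨c, hc, hne⟩ := h
  intro h'
  apply hne
  have h2 : w K ks = w K ls := Subtype.ext h'
  rw [← cd_word K hks hc, ← cd_word K hls hc, h2]

/-! ### frames -/

/-- a coordinate system with a prescribed nonzero vector -/
theorem exists_frame_one {X : Type*} [Group X] {D : SpData X V} (K : Coord D) {a : V} (ha : a ≠ 0) :
    ∃ K' : Coord D, vec K' 1 = a := by
  obtain ⟨a, rfl⟩ := K.f.surjective a
  obtain ⟨g, hg⟩ := Sp.exists_act (u := Sp.enc 1) (w := a) (by decide) fun h => ha (by rw [h, map_zero])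
  exact ⟨twist K g, by rw [vec_twist, hg]⟩

/-- the frame moved by an element of the group -/
theorem exists_frame_conj {X : Type*} [Group X] {D : SpData X V} (K : Coord D) (l : X) :
    ∃ K' : Coord D, ∀ c, D.ρ l (vec K c) = vec K' c := by
  obtain ⟨g, rfl⟩ := K.e.surjective l
  exact ⟨twist K g, fun c => by rw [vec_twist]; unfold vec; rw [K.act]⟩

/-- moving words -/
theorem ww_move {K' : Coord C.S} {l : C.L} (hl : ∀ c, C.S.ρ l (vec K c) = vec K' c) (ks : List ℕ) :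
    (l : G) * ww K ks * (l : G)⁻¹ = ww K' ks :=
  congrArg Subtype.val (w_move K hl ks)

/-! ### transport of involutions -/

variable {z g : G}

theorem down (H : All C) (hz : z ∈ C.L) (hz2 : z * z = 1) (hg : g * C.t * g⁻¹ = C.t * z) {s : G} (hs : s ∈ C.L)
    (hs2 : s * s = 1) (hc : Commute s z) : g⁻¹ * s * g ∈ C.L := by
  have hst : Commute s C.t := C.commute_of_mem hs
  have hstz : s * (C.t * z) = C.t * z * s := (hst.mul_right hc).eq
  have h1 : Commute (g⁻¹ * s * g) C.t := by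
    change g⁻¹ * s * g * C.t = C.t * (g⁻¹ * s * g)
    calc g⁻¹ * s * g * C.t = g⁻¹ * (s * (g * C.t * g⁻¹)) * g := by group
      _ = g⁻¹ * (g * C.t * g⁻¹ * s) * g := by rw [hg, hstz]
      _ = C.t * (g⁻¹ * s * g) := by group
  rcases (C.cent _).1 h1 with h | h
  · exact h
  · exfalso
    have hx : z * s ∈ C.L := mul_mem hz hs
    have hx2 : z * s * (z * s) = 1 := by
      calc z * s * (z * s) = z * (s * z) * s := by group
        _ = z * (z * s) * s := by rw [hc.eq]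
        _ = (z * z) * (s * s) := by group
        _ = 1 := by rw [hz2, hs2, one_mul]
    have hD := C.D_conj (H.all _ hx hx2) g⁻¹
    have e : g⁻¹ * (C.t * (z * s)) * g⁻¹⁻¹ = C.t * (g⁻¹ * s * g) := by
      calc g⁻¹ * (C.t * (z * s)) * g⁻¹⁻¹ = g⁻¹ * (C.t * z) * s * g := by group
        _ = g⁻¹ * (g * C.t * g⁻¹) * s * g := by rw [hg]
        _ = C.t * (g⁻¹ * s * g) := by group
    rw [e] at hD
    exact H.none _ h hD

theorem up (H : All C) (hg : g * C.t * g⁻¹ = C.t * z) {s : G} (hs : g⁻¹ * s * g ∈ C.L)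
    (hs2 : s * s = 1) (hc : Commute s z) : s ∈ C.L := by
  have h0 := C.commute_of_mem hs
  have h1 : s * (C.t * z) = C.t * z * s := by
    rw [← hg]
    calc s * (g * C.t * g⁻¹) = g * (g⁻¹ * s * g * C.t) * g⁻¹ := by group
      _ = g * (C.t * (g⁻¹ * s * g)) * g⁻¹ := by rw [h0.eq]
      _ = g * C.t * g⁻¹ * s := by group
  have h2 : Commute s C.t := by
    change s * C.t = C.t * s
    have : s * C.t * z = C.t * s * z := by
      rw [mul_assoc, h1, mul_assoc, mul_assoc, hc.eq]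
    exact mul_right_cancel this
  rcases (C.cent s).1 h2 with h | h
  · exact h
  · exfalso
    have hx2 : C.t * s * (C.t * s) = 1 := by
      calc C.t * s * (C.t * s) = C.t * (s * C.t) * s := by group
        _ = C.t * (C.t * s) * s := by rw [h2.eq]
        _ = (C.t * C.t) * (s * s) := by group
        _ = 1 := by rw [C.tt, hs2, one_mul]
    have hD := H.all _ h hx2
    have e : C.t * (C.t * s) = s := by rw [← mul_assoc, C.tt, one_mul]
    rw [e] at hD
    have hD' := C.D_conj hD g⁻¹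
    have e2 : g⁻¹ * s * g⁻¹⁻¹ = g⁻¹ * s * g := by group
    rw [e2] at hD'
    exact H.none _ hs hD'

theorem conj_sq {s : G} (hs : s * s = 1) (g : G) : g * s * g⁻¹ * (g * s * g⁻¹) = 1 := by
  calc g * s * g⁻¹ * (g * s * g⁻¹) = g * (s * s) * g⁻¹ := by group
    _ = 1 := by rw [hs]; group

theorem conj_sq' {s : G} (hs : s * s = 1) (g : G) : g⁻¹ * s * g * (g⁻¹ * s * g) = 1 := by
  calc g⁻¹ * s * g * (g⁻¹ * s * g) = g⁻¹ * (s * s) * g := by group
    _ = 1 := by rw [hs]; group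

theorem conj_comm {x y : G} (h : Commute x y) (g : G) : Commute (g * x * g⁻¹) (g * y * g⁻¹) := by
  change g * x * g⁻¹ * (g * y * g⁻¹) = g * y * g⁻¹ * (g * x * g⁻¹)
  calc g * x * g⁻¹ * (g * y * g⁻¹) = g * (x * y) * g⁻¹ := by group
    _ = g * (y * x) * g⁻¹ := by rw [h.eq]
    _ = g * y * g⁻¹ * (g * x * g⁻¹) := by group

theorem conj_comm' {x y : G} (h : Commute x y) (g : G) : Commute (g⁻¹ * x * g) (g⁻¹ * y * g) := by
  have := conj_comm h g⁻¹
  rwa [inv_inv] at this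

/-- double centraliser property of an involution: what commutes with all involutions commuting with `z` is `1` or `z` -/
def ZC (C : Ctx G V) (z : G) : Prop :=
  ∀ x ∈ C.L, (∀ s ∈ C.L, s * s = 1 → Commute s z → Commute x s) → x = 1 ∨ x = z

theorem fix_of_commute {x : C.L} {k : ℕ} (hk : k < 64) (h : Commute (x : G) (ww K [k])) : cd K x k = k := by
  rw [← fix_iff K hk]
  rw [← b_eq] at h
  exact Subtype.ext h

theorem ZC_b : ZC C (ww K [1]) := by
  intro x hx h
  have hk : ∀ k, k < 64 → Sp.fN k 1 = false → cd K (⟨x, hx⟩ : C.L) k = k := by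
    intro k hk hf
    apply fix_of_commute K hk
    apply h _ (ww_mem K [k])
    · rw [← b_eq]; exact C.b_sq _
    · rw [← b_eq, ← b_eq, C.b_commute_iff]; exact B_vec_zero K hf
  rcases fixB K (hk 1 (by norm_num) (by decide)) (hk 2 (by norm_num) (by decide)) (hk 4 (by norm_num) (by decide))
    (hk 16 (by norm_num) (by decide)) (hk 32 (by norm_num) (by decide)) with e | e
  · exact Or.inl (congrArg Subtype.val e)
  · exact Or.inr (congrArg Subtype.val e)

theorem ZC_lam : ZC C (ww K [1, 2, 3]) := by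
  intro x hx h
  have hk : ∀ k, k < 64 → eqB [k, k] [] = true → eqB ([k] ++ [1, 2, 3]) ([1, 2, 3] ++ [k]) = true →
      cd K (⟨x, hx⟩ : C.L) k = k := by
    intro k hk h1 h2
    exact fix_of_commute K hk (h _ (ww_mem K [k]) (ww_sq K h1) (ww_commute K h2))
  have c1 : Commute (⟨x, hx⟩ : C.L) (w K [1, 16, 17]) :=
    Subtype.ext (h _ (ww_mem K _) (ww_sq K (by decide +kernel)) (ww_commute K (by decide +kernel)))
  have c2 : Commute (⟨x, hx⟩ : C.L) (w K [2, 8, 10]) :=
    Subtype.ext (h _ (ww_mem K _) (ww_sq K (by decide +kernel)) (ww_commute K (by decide +kernel)))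
  rcases Zlam K (hk 1 (by norm_num) (by decide +kernel) (by decide +kernel))
    (hk 2 (by norm_num) (by decide +kernel) (by decide +kernel))
    (hk 4 (by norm_num) (by decide +kernel) (by decide +kernel))
    (hk 32 (by norm_num) (by decide +kernel) (by decide +kernel)) c1 c2 with e | e
  · exact Or.inl (congrArg Subtype.val e)
  · exact Or.inr (congrArg Subtype.val e)

/-- transport of the canonical vector -/
theorem rv_transport (H : All C) (hz : z ∈ C.L) (hz2 : z * z = 1) (hZ : ZC C z) (hg : g * C.t * g⁻¹ = C.t * z)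
    (hz' : g⁻¹ * z * g ∈ C.L) {r : V} (hr : r ≠ 0) (hrv : Rv C.S (⟨g⁻¹ * z * g, hz'⟩ : C.L) r) :
    g⁻¹ * z * g = C.b r := by
  have c0 : Commute (C.S.τ r) (⟨g⁻¹ * z * g, hz'⟩ : C.L) :=
    C.S.τ_commute_of_fix (hrv.fix (Commute.refl _))
  have c0' : Commute (C.b r) (g⁻¹ * z * g) := coe_commute.2 c0
  set y := g * C.b r * g⁻¹ with hy
  have hyz : Commute y z := by
    have := conj_comm c0' g
    have e : g * (g⁻¹ * z * g) * g⁻¹ = z := by group
    rwa [e] at this
  have hgy : g⁻¹ * y * g = C.b r := by rw [hy]; group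
  have hyL : y ∈ C.L := up H hg (by rw [hgy]; exact C.b_mem r) (conj_sq (C.b_sq r) g) hyz
  have hcom : ∀ s ∈ C.L, s * s = 1 → Commute s z → Commute y s := by
    intro s hs hs2 hsz
    have h1 := down H hz hz2 hg hs hs2 hsz
    have h2 : Commute (⟨g⁻¹ * s * g, h1⟩ : C.L) (⟨g⁻¹ * z * g, hz'⟩ : C.L) :=
      coe_commute.1 (conj_comm' hsz g)
    have h3 : Commute (C.b r) (g⁻¹ * s * g) := coe_commute.2 (C.S.τ_commute_of_fix (hrv.fix h2))
    have h4 := conj_comm h3 g
    have e : g * (g⁻¹ * s * g) * g⁻¹ = s := by group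
    rwa [e] at h4
  rcases hZ y hyL hcom with h | h
  · exfalso
    apply hr
    have h1 : C.b r = 1 := by rw [← hgy, h]; group
    apply C.b_inj
    rw [h1, C.b_zero]
  · rw [← h]; exact hgy

/-- order five does not travel between `a2` and `b1` -/
theorem no_b1 (H : All C) (hg : g * C.t * g⁻¹ = C.t * ww K [1, 2, 3])
    {r : V} (hr : r ≠ 0) (h : g⁻¹ * ww K [1, 2, 3] * g = C.b r) : False := by
  obtain ⟨K', hK'⟩ := exists_frame_one K hr
  have up' : ∀ ks : List ℕ, eqB (ks ++ ks) [] = true → eqB (ks ++ [1]) ([1] ++ ks) = true →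
      g * ww K' ks * g⁻¹ ∈ C.L ∧ Commute (g * ww K' ks * g⁻¹) (ww K [1, 2, 3]) := by
    intro ks h1 h2
    have c1 : Commute (ww K' ks) (g⁻¹ * ww K [1, 2, 3] * g) := by
      rw [h, ← hK', b_eq]; exact ww_commute K' h2
    have c2 := conj_comm c1 g
    have e : g * (g⁻¹ * ww K [1, 2, 3] * g) * g⁻¹ = ww K [1, 2, 3] := by group
    rw [e] at c2
    refine ⟨up H hg ?_ (conj_sq (ww_sq K' h1) g) c2, c2⟩
    have e2 : g⁻¹ * (g * ww K' ks * g⁻¹) * g = ww K' ks := by group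
    rw [e2]; exact ww_mem K' ks
  obtain ⟨m1, c1⟩ := up' [2, 4] (by decide +kernel) (by decide +kernel)
  obtain ⟨m2, c2⟩ := up' [16, 48] (by decide +kernel) (by decide +kernel)
  set x : C.L := ⟨_, m1⟩ * ⟨_, m2⟩ with hx
  have hxc : Commute x (w K [1, 2, 3]) := coe_commute.1 (c1.mul_left c2)
  have hxe : (x : G) = g * ww K' [2, 4, 16, 48] * g⁻¹ := by
    rw [hx]
    change g * ww K' [2, 4] * g⁻¹ * (g * ww K' [16, 48] * g⁻¹) = _
    have : ww K' [2, 4, 16, 48] = ww K' [2, 4] * ww K' [16, 48] := by rw [ww_mul]; rfl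
    rw [this]; group
  have h5 : ww K' [2, 4, 16, 48] ^ 5 = 1 := by
    have e : ww K' [2, 4, 16, 48] ^ 5 = ww K' ([2, 4, 16, 48] ++ ([2, 4, 16, 48] ++ ([2, 4, 16, 48] ++
        ([2, 4, 16, 48] ++ [2, 4, 16, 48])))) := by
      rw [← ww_mul, ← ww_mul, ← ww_mul, ← ww_mul]
      simp only [pow_succ, pow_zero, one_mul, mul_assoc]
    rw [e]
    exact ww_one K' (by decide +kernel)
  have hx5 : x ^ 5 = 1 := by
    apply Subtype.ext
    change (x : G) ^ 5 = 1
    rw [hxe, conj_pow, h5]; group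
  have hx1 := no_five K hxc hx5
  have : ww K' [2, 4, 16, 48] = ww K' [] := by
    rw [ww_nil]
    have e : (x : G) = 1 := by rw [hx1]; rfl
    rw [hxe] at e
    calc ww K' [2, 4, 16, 48] = g⁻¹ * (g * ww K' [2, 4, 16, 48] * g⁻¹) * g := by group
      _ = 1 := by rw [e]; group
  exact ww_ne K' (by decide) (by decide) ⟨2, by norm_num, by decide +kernel⟩ this

theorem no_a2 (H : All C) (hg : g * C.t * g⁻¹ = C.t * ww K [1]) {l : C.L}
    (h : (l : G) * (g⁻¹ * ww K [1] * g) * (l : G)⁻¹ = ww K [1, 2, 3]) : False := by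
  have dn : ∀ ks : List ℕ, eqB (ks ++ ks) [] = true → eqB (ks ++ [1]) ([1] ++ ks) = true →
      (l : G) * (g⁻¹ * ww K ks * g) * (l : G)⁻¹ ∈ C.L ∧
        Commute ((l : G) * (g⁻¹ * ww K ks * g) * (l : G)⁻¹) (ww K [1, 2, 3]) := by
    intro ks h1 h2
    have m := down H (ww_mem K [1]) (ww_sq K (by decide +kernel)) hg (ww_mem K ks) (ww_sq K h1) (ww_commute K h2)
    refine ⟨mul_mem (mul_mem l.2 m) (inv_mem l.2), ?_⟩
    rw [← h]
    exact conj_comm (conj_comm' (ww_commute K h2) g) l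
  obtain ⟨m1, c1⟩ := dn [2, 4] (by decide +kernel) (by decide +kernel)
  obtain ⟨m2, c2⟩ := dn [16, 48] (by decide +kernel) (by decide +kernel)
  set x : C.L := ⟨_, m1⟩ * ⟨_, m2⟩ with hx
  have hxc : Commute x (w K [1, 2, 3]) := coe_commute.1 (c1.mul_left c2)
  have hxe : (x : G) = ((l : G) * g⁻¹) * ww K [2, 4, 16, 48] * ((l : G) * g⁻¹)⁻¹ := by
    rw [hx]
    change (l : G) * (g⁻¹ * ww K [2, 4] * g) * (l : G)⁻¹ * ((l : G) * (g⁻¹ * ww K [16, 48] * g) * (l : G)⁻¹) = _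
    have : ww K [2, 4, 16, 48] = ww K [2, 4] * ww K [16, 48] := by rw [ww_mul]; rfl
    rw [this]; group
  have h5 : ww K [2, 4, 16, 48] ^ 5 = 1 := by
    have e : ww K [2, 4, 16, 48] ^ 5 = ww K ([2, 4, 16, 48] ++ ([2, 4, 16, 48] ++ ([2, 4, 16, 48] ++
        ([2, 4, 16, 48] ++ [2, 4, 16, 48])))) := by
      rw [← ww_mul, ← ww_mul, ← ww_mul, ← ww_mul]
      simp only [pow_succ, pow_zero, one_mul, mul_assoc]
    rw [e]
    exact ww_one K (by decide +kernel)
  have hx5 : x ^ 5 = 1 := by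
    apply Subtype.ext
    change (x : G) ^ 5 = 1
    rw [hxe, conj_pow, h5]; group
  have hx1 := no_five K hxc hx5
  have : ww K [2, 4, 16, 48] = ww K [] := by
    rw [ww_nil]
    have e : (x : G) = 1 := by rw [hx1]; rfl
    rw [hxe] at e
    calc ww K [2, 4, 16, 48] = ((l : G) * g⁻¹)⁻¹ * (((l : G) * g⁻¹) * ww K [2, 4, 16, 48] * ((l : G) * g⁻¹)⁻¹) *
        ((l : G) * g⁻¹) := by group
      _ = 1 := by rw [e]; group
  exact ww_ne K (by decide) (by decide) ⟨2, by norm_num, by decide +kernel⟩ this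

/-- `t` and `t λ` are swapped by an element commuting with `λ` -/
theorem exists_swap_lam (H : All C) : ∃ g : G, g * C.t * g⁻¹ = C.t * ww K [1, 2, 3] ∧
    g * ww K [1, 2, 3] * g⁻¹ = ww K [1, 2, 3] := by
  have hl2 : ww K [1, 2, 3] * ww K [1, 2, 3] = 1 := ww_sq K (by decide +kernel)
  obtain ⟨g, hg⟩ := H.all _ (ww_mem K [1, 2, 3]) hl2
  have hg' : g * C.t * g⁻¹ = C.t * ww K [1, 2, 3] := hg.symm
  have hz' := down H (ww_mem K [1, 2, 3]) hl2 hg' (ww_mem K [1, 2, 3]) hl2 (Commute.refl _)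
  have hz1 : (⟨g⁻¹ * ww K [1, 2, 3] * g, hz'⟩ : C.L) ≠ 1 := by
    intro h
    have h1 : g⁻¹ * ww K [1, 2, 3] * g = 1 := congrArg Subtype.val h
    have h2 : ww K [1, 2, 3] = ww K [] := by
      rw [ww_nil]
      calc ww K [1, 2, 3] = g * (g⁻¹ * ww K [1, 2, 3] * g) * g⁻¹ := by group
        _ = 1 := by rw [h1]; group
    exact ww_ne K (by decide) (by decide) ⟨8, by norm_num, by decide +kernel⟩ h2
  rcases classify K (x := (⟨g⁻¹ * ww K [1, 2, 3] * g, hz'⟩ : C.L)) (Subtype.ext (conj_sq' hl2 g)) hz1 with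
    ⟨l, hl⟩ | ⟨r, hr, hrv⟩
  · have hl' : (l : G) * (g⁻¹ * ww K [1, 2, 3] * g) * (l : G)⁻¹ = ww K [1, 2, 3] := congrArg Subtype.val hl
    refine ⟨g * (l : G)⁻¹, ?_, ?_⟩
    · have hlt := (C.commute_of_mem l.2).eq
      calc g * (l : G)⁻¹ * C.t * (g * (l : G)⁻¹)⁻¹ = g * ((l : G)⁻¹ * (C.t * (l : G))) * g⁻¹ := by group
        _ = g * C.t * g⁻¹ := by rw [← hlt]; group
        _ = _ := hg'
    · calc g * (l : G)⁻¹ * ww K [1, 2, 3] * (g * (l : G)⁻¹)⁻¹ = g * ((l : G)⁻¹ * ww K [1, 2, 3] * (l : G)) * g⁻¹ := by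
            group
        _ = g * ((l : G)⁻¹ * ((l : G) * (g⁻¹ * ww K [1, 2, 3] * g) * (l : G)⁻¹) * (l : G)) * g⁻¹ := by rw [hl']
        _ = ww K [1, 2, 3] := by group
  · exact (no_b1 K H hg' hr (rv_transport H (ww_mem K _) hl2 (ZC_lam K) hg' hz' hr hrv)).elim

/-- `t` and `t b_u` are swapped by an element commuting with `b_u` -/
theorem exists_swap_b (H : All C) : ∃ g : G, g * C.t * g⁻¹ = C.t * ww K [1] ∧ g * ww K [1] * g⁻¹ = ww K [1] := by
  have hl2 : ww K [1] * ww K [1] = 1 := ww_sq K (by decide +kernel)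
  obtain ⟨g, hg⟩ := H.all _ (ww_mem K [1]) hl2
  have hg' : g * C.t * g⁻¹ = C.t * ww K [1] := hg.symm
  have hz' := down H (ww_mem K [1]) hl2 hg' (ww_mem K [1]) hl2 (Commute.refl _)
  have hz1 : (⟨g⁻¹ * ww K [1] * g, hz'⟩ : C.L) ≠ 1 := by
    intro h
    have h1 : g⁻¹ * ww K [1] * g = 1 := congrArg Subtype.val h
    have h2 : ww K [1] = ww K [] := by
      rw [ww_nil]
      calc ww K [1] = g * (g⁻¹ * ww K [1] * g) * g⁻¹ := by group
        _ = 1 := by rw [h1]; group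
    exact ww_ne K (by decide) (by decide) ⟨8, by norm_num, by decide +kernel⟩ h2
  rcases classify K (x := (⟨g⁻¹ * ww K [1] * g, hz'⟩ : C.L)) (Subtype.ext (conj_sq' hl2 g)) hz1 with
    ⟨l, hl⟩ | ⟨r, hr, hrv⟩
  · exact (no_a2 K H hg' (congrArg Subtype.val hl)).elim
  · have h1 := rv_transport H (ww_mem K _) hl2 (ZC_b K) hg' hz' hr hrv
    obtain ⟨K', hK'⟩ := exists_frame_one K hr
    obtain ⟨l, hl⟩ := exists_move K' K
    have h2 : (l : G) * ww K' [1] * (l : G)⁻¹ = ww K [1] := ww_move K' hl [1]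
    have h3 : g⁻¹ * ww K [1] * g = ww K' [1] := by rw [h1, ← hK', b_eq]
    refine ⟨g * (l : G)⁻¹, ?_, ?_⟩
    · have hlt := (C.commute_of_mem l.2).eq
      calc g * (l : G)⁻¹ * C.t * (g * (l : G)⁻¹)⁻¹ = g * ((l : G)⁻¹ * (C.t * (l : G))) * g⁻¹ := by group
        _ = g * C.t * g⁻¹ := by rw [← hlt]; group
        _ = _ := hg'
    · calc g * (l : G)⁻¹ * ww K [1] * (g * (l : G)⁻¹)⁻¹ = g * ((l : G)⁻¹ * ww K [1] * (l : G)) * g⁻¹ := by
            group
        _ = g * ((l : G)⁻¹ * ((l : G) * ww K' [1] * (l : G)⁻¹) * (l : G)) * g⁻¹ := by rw [h2]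
        _ = g * ww K' [1] * g⁻¹ := by group
        _ = g * (g⁻¹ * ww K [1] * g) * g⁻¹ := by rw [h3]
        _ = ww K [1] := by group

end Cfsg.Agent.StdSpSix.AllBase
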