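import Cfsg.Agent.StdSpSix.Words

/-!
# Elements of `Sp₆(2)` acting on the 64 codes

For a coordinate system `K` of a `SpData`: `vec K c` = vector with code `c`, `cd K x c` = code of the image of `vec K c`
under `x`.  Universal facts on centralisers ("an element commuting with these words is one of those words") are reduced
to finite searches over the images of the six basis codes `1, 2, 4, 8, 16, 32`.
-/

set_option autoImplicit false
set_option maxHeartbeats 400000

namespace Cfsg.Agent.StdSpSix.AllCode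

open Cfsg.Agent.StandardComponent.SpTwo
open Cfsg.Agent.SporRec.TwoSp6
open Cfsg.Agent.StdSpSix.Words Cfsg.Agent.StdSpSix.Model

variable {X V : Type*} [Group X] [AddCommGroup V] [Module (ZMod 2) V] {D : SpData X V} (K : Coord D)

/-- The vector with code `c`. -/
def vec (c : ℕ) : V := K.f (Sp.enc c)

theorem vec_xor (c d : ℕ) : vec K (c ^^^ d) = vec K c + vec K d := by
  unfold vec; rw [Sp.enc_xor, map_add]

theorem vec_inj {c d : ℕ} (hc : c < 64) (hd : d < 64) (h : vec K c = vec K d) : c = d := by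
  by_contra hne
  exact ne_of_enc hc hd hne (K.f.injective h)

theorem exists_vec (v : V) : ∃ c < 64, v = vec K c := by
  obtain ⟨x, rfl⟩ := K.f.surjective v
  obtain ⟨c, hc, rfl⟩ := Sp.exists_enc x
  exact ⟨c, hc, rfl⟩

theorem vec_zero : vec K 0 = 0 := by unfold vec; rw [enc_zero, map_zero]

theorem B_vec (c d : ℕ) : D.B (vec K c) (vec K d) = if Sp.fN c d then 1 else 0 := by
  unfold vec; rw [K.om, Sp.om_enc]

theorem B_vec_zero {c d : ℕ} (h : Sp.fN c d = false) : D.B (vec K c) (vec K d) = 0 := by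
  rw [B_vec, h]; rfl

theorem B_vec_one {c d : ℕ} (h : Sp.fN c d = true) : D.B (vec K c) (vec K d) = 1 := by
  rw [B_vec, h]; rfl

theorem fN_eq {c d c' d' : ℕ} (h : D.B (vec K c) (vec K d) = D.B (vec K c') (vec K d')) : Sp.fN c d = Sp.fN c' d' := by
  rw [B_vec, B_vec] at h
  cases h1 : Sp.fN c d <;> cases h2 : Sp.fN c' d' <;> simp [h1, h2] at h ⊢

theorem fN_of_zero {c d : ℕ} (h : D.B (vec K c) (vec K d) = 0) : Sp.fN c d = false := by
  rw [B_vec] at h
  cases h1 : Sp.fN c d <;> simp [h1] at h ⊢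

theorem fN_of_one {c d : ℕ} (h : D.B (vec K c) (vec K d) = 1) : Sp.fN c d = true := by
  rw [B_vec] at h
  cases h1 : Sp.fN c d <;> simp [h1] at h ⊢

/-- The code of the image of the vector with code `c`. -/
noncomputable def cd (x : X) (c : ℕ) : ℕ := (exists_vec K (D.ρ x (vec K c))).choose

theorem cd_lt (x : X) (c : ℕ) : cd K x c < 64 := (exists_vec K (D.ρ x (vec K c))).choose_spec.1

theorem cd_spec (x : X) (c : ℕ) : D.ρ x (vec K c) = vec K (cd K x c) :=
  (exists_vec K (D.ρ x (vec K c))).choose_spec.2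

theorem cd_eq {x : X} {c d : ℕ} (hd : d < 64) (h : D.ρ x (vec K c) = vec K d) : cd K x c = d :=
  vec_inj K (cd_lt K x c) hd (by rw [← cd_spec, h])

theorem xor_lt {c d : ℕ} (hc : c < 64) (hd : d < 64) : c ^^^ d < 64 :=
  Nat.xor_lt_two_pow (n := 6) hc hd

theorem cd_xor (x : X) (c d : ℕ) : cd K x (c ^^^ d) = cd K x c ^^^ cd K x d := by
  apply cd_eq K (xor_lt (cd_lt K x c) (cd_lt K x d))
  rw [vec_xor, map_add, cd_spec, cd_spec, vec_xor]

theorem cd_fN (x : X) (c d : ℕ) : Sp.fN (cd K x c) (cd K x d) = Sp.fN c d := by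
  apply fN_eq K
  rw [← cd_spec, ← cd_spec, D.inv]

theorem cd_mul (x y : X) (c : ℕ) : cd K (x * y) c = cd K x (cd K y c) := by
  apply cd_eq K (cd_lt K x _)
  rw [D.ρ_mul, cd_spec, cd_spec]

theorem cd_one {c : ℕ} (hc : c < 64) : cd K 1 c = c := cd_eq K hc (D.ρ_one _)

theorem cd_ne {x : X} {c d : ℕ} (hc : c < 64) (hd : d < 64) (h : c ≠ d) : cd K x c ≠ cd K x d := by
  intro h'
  apply h
  apply vec_inj K hc hd
  apply D.ρ_inj x
  rw [cd_spec, cd_spec, h']

theorem cd_zero (x : X) : cd K x 0 = 0 := by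
  apply cd_eq K (by norm_num)
  rw [vec_zero, map_zero]

/-- Every code is a sum of basis codes. -/
theorem code_split : ∀ c < 64, c = (if c.testBit 0 then 1 else 0) ^^^ ((if c.testBit 1 then 2 else 0) ^^^
    ((if c.testBit 2 then 4 else 0) ^^^ ((if c.testBit 3 then 8 else 0) ^^^ ((if c.testBit 4 then 16 else 0) ^^^
    (if c.testBit 5 then 32 else 0))))) := by decide +kernel

theorem ext6 {x y : X} (h1 : cd K x 1 = cd K y 1) (h2 : cd K x 2 = cd K y 2) (h4 : cd K x 4 = cd K y 4)
    (h8 : cd K x 8 = cd K y 8) (h16 : cd K x 16 = cd K y 16) (h32 : cd K x 32 = cd K y 32) : x = y := by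
  apply D.ext_iff
  intro v
  obtain ⟨c, hc, rfl⟩ := exists_vec K v
  rw [cd_spec, cd_spec]
  congr 1
  have key : ∀ (b : Bool) (d : ℕ), cd K x d = cd K y d →
      cd K x (if b then d else 0) = cd K y (if b then d else 0) := by
    intro b d h
    cases b
    · simp only [Bool.false_eq_true, if_false, cd_zero]
    · simpa using h
  rw [code_split c hc]
  simp only [cd_xor]
  rw [key _ 1 h1, key _ 2 h2, key _ 4 h4, key _ 8 h8, key _ 16 h16, key _ 32 h32]

theorem wc_lt {ks : List ℕ} (hks : ∀ k ∈ ks, k < 64) {c : ℕ} (hc : c < 64) : wc ks c < 64 := by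
  induction ks with
  | nil => exact hc
  | cons k ks ih =>
    have h1 := ih fun l hl => hks l (List.mem_cons_of_mem _ hl)
    change tc k (wc ks c) < 64
    unfold tc
    split_ifs
    · exact xor_lt h1 (hks k List.mem_cons_self)
    · exact h1

theorem cd_word {ks : List ℕ} (hks : ∀ k ∈ ks, k < 64) {c : ℕ} (hc : c < 64) : cd K (w K ks) c = wc ks c := by
  apply cd_eq K (wc_lt hks hc)
  unfold w vec
  rw [K.act, act_W]

theorem cd_tau {k : ℕ} (hk : k < 64) {c : ℕ} (hc : c < 64) : cd K (D.τ (vec K k)) c = tc k c := by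
  have h : D.τ (vec K k) = w K [k] := by
    unfold w vec
    rw [W_cons, W_nil, mul_one, K.tr]
  rw [h, cd_word K (ks := [k]) (by simpa using hk) hc]
  rfl

theorem w_nil : w K [] = 1 := by unfold w; rw [W_nil, map_one]

theorem w_cons (k : ℕ) (ks : List ℕ) : w K (k :: ks) = D.τ (vec K k) * w K ks := by
  unfold w vec
  rw [W_cons, map_mul, K.tr]

theorem w_append (ks ls : List ℕ) : w K (ks ++ ls) = w K ks * w K ls := by
  unfold w; rw [W_append, map_mul]

/-- Equality of words, as a Boolean. -/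
def eqB (ks ls : List ℕ) : Bool := (List.range 64).all fun c => wc ks c == wc ls c

theorem w_eq {ks ls : List ℕ} (h : eqB ks ls = true) : w K ks = w K ls := by
  unfold w
  rw [W_eq]
  intro c hc
  unfold eqB at h
  rw [List.all_eq_true] at h
  exact eq_of_beq (h c (List.mem_range.2 hc))

theorem w_one {ks : List ℕ} (h : eqB ks [] = true) : w K ks = 1 := by rw [w_eq K h, w_nil]

theorem w_commute {ks ls : List ℕ} (h : eqB (ks ++ ls) (ls ++ ks) = true) : Commute (w K ks) (w K ls) := by
  change w K ks * w K ls = w K ls * w K ks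
  rw [← w_append, ← w_append, w_eq K h]

theorem fix_iff {x : X} {c : ℕ} (hc : c < 64) : Commute x (D.τ (vec K c)) ↔ cd K x c = c := by
  constructor
  · intro h
    apply cd_eq K hc
    exact D.fix_of_τ_commute h.symm
  · intro h
    apply (D.τ_commute_of_fix (w := vec K c) ?_).symm
    rw [cd_spec, h]

theorem cd_comm {x : X} {ks : List ℕ} (hks : ∀ k ∈ ks, k < 64) (h : Commute x (w K ks)) {c : ℕ} (hc : c < 64) :
    cd K x (wc ks c) = wc ks (cd K x c) := by
  have h1 : cd K (x * w K ks) c = cd K (w K ks * x) c := by rw [h.eq]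
  rw [cd_mul, cd_mul, cd_word K hks hc, cd_word K hks (cd_lt K x c)] at h1
  exact h1

theorem eq_word {x : X} {ks : List ℕ} (hks : ∀ k ∈ ks, k < 64) (h1 : cd K x 1 = wc ks 1) (h2 : cd K x 2 = wc ks 2)
    (h4 : cd K x 4 = wc ks 4) (h8 : cd K x 8 = wc ks 8) (h16 : cd K x 16 = wc ks 16)
    (h32 : cd K x 32 = wc ks 32) : x = w K ks := by
  apply ext6 K
  all_goals rw [cd_word K hks (by norm_num)]
  all_goals assumption

/-- The action as a linear equivalence. -/
def lin (g : Sp.S) : Sp.V ≃ₗ[ZMod 2] Sp.V where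
  toFun := Sp.act g
  invFun := Sp.act g⁻¹
  left_inv v := by rw [← Sp.act_mul, inv_mul_cancel, Sp.act_one]
  right_inv v := by rw [← Sp.act_mul, mul_inv_cancel, Sp.act_one]
  map_add' := Sp.act_add g
  map_smul' := Invol.act_smul g

theorem lin_apply (g : Sp.S) (v : Sp.V) : lin g v = Sp.act g v := rfl

/-- twisting a coordinate system by an element of the group -/
def twist (g : Sp.S) : Coord D where
  e := (MulAut.conj g).trans K.e
  f := (lin g).trans K.f
  act := fun h v => by
    rw [MulEquiv.trans_apply, MulAut.conj_apply, LinearEquiv.trans_apply, LinearEquiv.trans_apply, lin_apply,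
      lin_apply, K.act, ← Sp.act_mul, ← Sp.act_mul, inv_mul_cancel_right]
  om := fun u v => by
    rw [LinearEquiv.trans_apply, LinearEquiv.trans_apply, lin_apply, lin_apply, K.om, Sp.act_om]
  tr := fun u => by
    rw [MulEquiv.trans_apply, MulAut.conj_apply, LinearEquiv.trans_apply, lin_apply, Sp.conj_tr, K.tr]

theorem vec_twist (g : Sp.S) (c : ℕ) : vec (twist K g) c = K.f (Sp.act g (Sp.enc c)) := by
  unfold vec twist
  rw [LinearEquiv.trans_apply, lin_apply]

include K in
/-- a coordinate system with a prescribed isotropic pair -/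
theorem exists_frame_two {a b : V} (ha : a ≠ 0) (hb : b ≠ 0) (hab : b ≠ a) (h : D.B a b = 0) :
    ∃ K' : Coord D, vec K' 1 = a ∧ vec K' 2 = b := by
  obtain ⟨a, rfl⟩ := K.f.surjective a
  obtain ⟨b, rfl⟩ := K.f.surjective b
  have ha' : a ≠ 0 := fun h => ha (by rw [h, map_zero])
  have hb' : b ≠ 0 := fun h => hb (by rw [h, map_zero])
  have hab' : b ≠ a := fun h => hab (by rw [h])
  obtain ⟨g, h1, h2⟩ := Sp.exists_pair (u := Sp.enc 1) (w := Sp.enc 2) (by decide) (by decide) (by decide) (by decide)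
    ha' hb' hab' (by rw [← K.om]; exact h)
  exact ⟨twist K g, by rw [vec_twist, h1], by rw [vec_twist, h2]⟩

include K in
/-- a coordinate system with a prescribed isotropic triple -/
theorem exists_frame_three {a b c : V} (ha : a ≠ 0) (hb : b ≠ 0) (hab : b ≠ a) (hc : c ≠ 0) (hca : c ≠ a) (hcb : c ≠ b)
    (hcab : c ≠ a + b) (h : D.B a b = 0) (h' : D.B a c = 0) (h'' : D.B b c = 0) :
    ∃ K' : Coord D, vec K' 1 = a ∧ vec K' 2 = b ∧ vec K' 4 = c := by
  obtain ⟨a, rfl⟩ := K.f.surjective a
  obtain ⟨b, rfl⟩ := K.f.surjective b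
  obtain ⟨c, rfl⟩ := K.f.surjective c
  obtain ⟨g, h1, h2, h3⟩ := Invol.exists_triple (u := Sp.enc 1) (w := Sp.enc 2) (t := Sp.enc 4) (by decide)
    (by unfold Invol.Orth; decide) (u' := a) (w' := b) (t' := c)
    ⟨fun h => ha (by rw [h, map_zero]), fun h => hb (by rw [h, map_zero]), fun h => hab (by rw [h]),
      fun h => hc (by rw [h, map_zero]), fun h => hca (by rw [h]), fun h => hcb (by rw [h]),
      fun h => hcab (by rw [h, map_add])⟩
    ⟨by rw [← K.om]; exact h, by rw [← K.om]; exact h', by rw [← K.om]; exact h''⟩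
  exact ⟨twist K g, by rw [vec_twist, h1], by rw [vec_twist, h2], by rw [vec_twist, h3]⟩

/-- change of frame inside the group: the element of `X` moving one frame to the other -/
theorem exists_move (K' : Coord D) : ∃ g : X, ∀ c, D.ρ g (vec K c) = vec K' c := by
  have h1 : ∃ x : Sp.S, ∀ v, Sp.act x v = K.f.symm (K'.f v) := by
    obtain ⟨g, hg⟩ := exists_of_isometry (K.f.symm.toLinearMap ∘ₗ K'.f.toLinearMap) (by
      intro u v
      change Sp.om (K.f.symm (K'.f u)) (K.f.symm (K'.f v)) = _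
      rw [← K.om, K.f.apply_symm_apply, K.f.apply_symm_apply, K'.om])
    exact ⟨g, hg⟩
  obtain ⟨x, hx⟩ := h1
  refine ⟨K.e x, fun c => ?_⟩
  unfold vec
  rw [K.act, hx, K.f.apply_symm_apply]

/-- words in two frames are conjugate -/
theorem w_move {K' : Coord D} {g : X} (hg : ∀ c, D.ρ g (vec K c) = vec K' c) (ks : List ℕ) :
    g * w K ks * g⁻¹ = w K' ks := by
  induction ks with
  | nil => rw [w_nil, w_nil]; group
  | cons k ks ih =>
    rw [w_cons, w_cons, ← ih, ← hg, ← D.conj_τ]
    group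

end Cfsg.Agent.StdSpSix.AllCode
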