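import Cfsg.Agent.StdSpSix.AllCode

/-!
# Facts on `Sp₆(2)` for the pattern `ALL`

Codes: `l = ⟨1, 2⟩`, `l^⊥ = ⟨1, 2, 4, 32⟩`, `λ = W [1,2,3]`; `u = 1`, `u^⊥ = ⟨1, 2, 16, 4, 32⟩`.
`y1 = W [1,16,17]`, `y2 = W [2,8,10]` act on `l` as the transpositions fixing `1`, `2`.
-/

set_option autoImplicit false
set_option maxHeartbeats 400000

namespace Cfsg.Agent.StdSpSix.AllFacts

open Cfsg.Agent.StandardComponent.SpTwo
open Cfsg.Agent.SporRec.TwoSp6
open Cfsg.Agent.StdSpSix.Words Cfsg.Agent.StdSpSix.Model Cfsg.Agent.StdSpSix.AllCode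

variable {X V : Type*} [Group X] [AddCommGroup V] [Module (ZMod 2) V] {D : SpData X V} (K : Coord D)

/-- the values of the form on two lists -/
def qB (c : ℕ) (ones zeros : List ℕ) : Bool := (ones.all fun l => Sp.fN c l) && zeros.all fun l => !Sp.fN c l

theorem qB_cd {x : X} {ones zeros : List ℕ} (h1 : ∀ l ∈ ones, cd K x l = l) (h0 : ∀ l ∈ zeros, cd K x l = l) (c : ℕ)
    (h : qB c ones zeros = true) : qB (cd K x c) ones zeros = true := by
  unfold qB at h ⊢
  rw [Bool.and_eq_true, List.all_eq_true, List.all_eq_true] at h ⊢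
  refine ⟨fun l hl => ?_, fun l hl => ?_⟩
  · have := cd_fN K x c l
    rw [h1 l hl] at this
    rw [this]; exact h.1 l hl
  · have := cd_fN K x c l
    rw [h0 l hl] at this
    rw [this]; exact h.2 l hl

/-- bounded quantifier as a Boolean -/
def allB (f : ℕ → Bool) : Bool := (List.range 64).all f

theorem allB_spec {f : ℕ → Bool} (h : allB f = true) {a : ℕ} (ha : a < 64) : f a = true := by
  unfold allB at h
  rw [List.all_eq_true] at h
  exact h a (List.mem_range.2 ha)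

/-- Boolean implication -/
def impB (a b : Bool) : Bool := !a || b

theorem impB_spec {a b : Bool} (h : impB a b = true) (ha : a = true) : b = true := by
  subst ha
  exact h

/-! ### elements fixing `l^⊥` pointwise -/

/-- the eight elements of `Sym² l` -/
def L8 : List (List ℕ) := [[], [1], [2], [3], [1, 2], [1, 3], [2, 3], [1, 2, 3]]

theorem dA0 : (allB fun a => impB (qB a [1] [2, 4, 32]) (allB fun b => impB (qB b [2] [1, 4, 32] && !Sp.fN a b)
    (L8.any fun ks => a == wc ks 8 && b == wc ks 16))) = true := by decide +kernel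

theorem dA {a b : ℕ} (ha : a < 64) (qa : qB a [1] [2, 4, 32] = true) (hb : b < 64) (qb : qB b [2] [1, 4, 32] = true)
    (h : Sp.fN a b = false) : ∃ ks ∈ L8, a = wc ks 8 ∧ b = wc ks 16 := by
  have := impB_spec (allB_spec (impB_spec (allB_spec dA0 ha) qa) hb) (by rw [qb, h]; rfl)
  rw [List.any_eq_true] at this
  obtain ⟨ks, hks, h2⟩ := this
  rw [Bool.and_eq_true] at h2
  exact ⟨ks, hks, eq_of_beq h2.1, eq_of_beq h2.2⟩

theorem dA' : ∀ ks ∈ L8, 1 = wc ks 1 ∧ 2 = wc ks 2 ∧ 4 = wc ks 4 ∧ 32 = wc ks 32 := by decide +kernel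

theorem L8_lt : ∀ ks ∈ L8, ∀ k ∈ ks, k < 64 := by decide +kernel

theorem fixA {x : X} (h1 : cd K x 1 = 1) (h2 : cd K x 2 = 2) (h4 : cd K x 4 = 4) (h32 : cd K x 32 = 32) :
    ∃ ks ∈ L8, x = w K ks := by
  obtain ⟨ks, hks, h8, h16⟩ := dA (cd_lt K x 8)
    (qB_cd K (by simp [h1]) (by simp [h2, h4, h32]) 8 (by decide))
    (cd_lt K x 16)
    (qB_cd K (by simp [h2]) (by simp [h1, h4, h32]) 16 (by decide))
    (by rw [cd_fN]; decide)
  obtain ⟨e1, e2, e4, e32⟩ := dA' ks hks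
  exact ⟨ks, hks, eq_word K (L8_lt ks hks) (h1.trans e1) (h2.trans e2) (h4.trans e4) h8 h16 (h32.trans e32)⟩

/-- a Boolean test for commuting words (on the basis codes) -/
def cB (ks ls : List ℕ) : Bool := [1, 2, 4, 8, 16, 32].all fun c => wc (ks ++ ls) c == wc (ls ++ ks) c

theorem cB_of_commute {ks ls : List ℕ} (hks : ∀ k ∈ ks, k < 64) (hls : ∀ k ∈ ls, k < 64)
    (h : Commute (w K ks) (w K ls)) : cB ks ls = true := by
  have key : ∀ c < 64, wc (ks ++ ls) c = wc (ls ++ ks) c := by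
    intro c hc
    have h1 := cd_comm K hls h hc
    rw [cd_word K hks (wc_lt hls hc), cd_word K hks hc] at h1
    change wc (ks ++ ls) c = wc (ls ++ ks) c
    unfold wc at h1 ⊢
    rw [List.foldr_append, List.foldr_append]
    exact h1
  unfold cB
  rw [List.all_eq_true]
  intro c hc
  have hc' : c < 64 := by
    revert c
    decide
  exact beq_iff_eq.2 (key c hc')

theorem Zlam {x : X} (h1 : cd K x 1 = 1) (h2 : cd K x 2 = 2) (h4 : cd K x 4 = 4) (h32 : cd K x 32 = 32)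
    (hy1 : Commute x (w K [1, 16, 17])) (hy2 : Commute x (w K [2, 8, 10])) : x = 1 ∨ x = w K [1, 2, 3] := by
  obtain ⟨ks, hks, rfl⟩ := fixA K h1 h2 h4 h32
  have c1 := cB_of_commute K (L8_lt ks hks) (by decide) hy1
  have c2 := cB_of_commute K (L8_lt ks hks) (by decide) hy2
  have key : ∀ ks ∈ L8, cB ks [1, 16, 17] = true → cB ks [2, 8, 10] = true → ks = [] ∨ ks = [1, 2, 3] := by
    decide +kernel
  rcases key ks hks c1 c2 with rfl | rfl
  · exact Or.inl (w_nil K)
  · exact Or.inr rfl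

theorem ZlamOne {x : X} (h1 : cd K x 1 = 1) (h2 : cd K x 2 = 2) (h4 : cd K x 4 = 4) (h32 : cd K x 32 = 32)
    (hy1 : Commute x (w K [1, 16, 17])) : x = 1 ∨ x = w K [1] ∨ x = w K [1, 2, 3] ∨ x = w K [2, 3] := by
  obtain ⟨ks, hks, rfl⟩ := fixA K h1 h2 h4 h32
  have c1 := cB_of_commute K (L8_lt ks hks) (by decide) hy1
  have key : ∀ ks ∈ L8, cB ks [1, 16, 17] = true → ks = [] ∨ ks = [1] ∨ ks = [1, 2, 3] ∨ ks = [2, 3] := by
    decide +kernel
  rcases key ks hks c1 with rfl | rfl | rfl | rfl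
  · exact Or.inl (w_nil K)
  · exact Or.inr (Or.inl rfl)
  · exact Or.inr (Or.inr (Or.inl rfl))
  · exact Or.inr (Or.inr (Or.inr rfl))

/-! ### the double centraliser of `⟨b₄, λ⟩` -/

def F4 : List (List ℕ) := [[], [4], [1, 2, 3], [4, 1, 2, 3]]

theorem dF30 : (allB fun a => impB (qB a [1] [2, 4] && (wc [2, 8, 10] a == a)) (allB fun b =>
    impB (qB b [2] [1, 4, a] && ((wc [1, 16, 17] b == b) && (a ^^^ b == wc [1, 16, 17] a))) (allB fun c =>
    impB (qB c [4] [1, 2, a, b] && ((wc [1, 16, 17] c == c) && (wc [2, 8, 10] c == c)))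
    (F4.any fun ks => (a == wc ks 8) && ((b == wc ks 16) && (c == wc ks 32)))))) = true := by decide +kernel

theorem dF3 {a b c : ℕ} (ha : a < 64) (qa : qB a [1] [2, 4] = true) (ya : wc [2, 8, 10] a = a) (hb : b < 64)
    (qb : qB b [2] [1, 4, a] = true) (yb : wc [1, 16, 17] b = b) (yab : a ^^^ b = wc [1, 16, 17] a) (hc : c < 64)
    (qc : qB c [4] [1, 2, a, b] = true) (yc : wc [1, 16, 17] c = c) (yc' : wc [2, 8, 10] c = c) :
    ∃ ks ∈ F4, a = wc ks 8 ∧ b = wc ks 16 ∧ c = wc ks 32 := by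
  have h1 := impB_spec (allB_spec dF30 ha) (by rw [Bool.and_eq_true]; exact ⟨qa, beq_iff_eq.2 ya⟩)
  have h2 := impB_spec (allB_spec h1 hb) (by
    rw [Bool.and_eq_true, Bool.and_eq_true]; exact ⟨qb, beq_iff_eq.2 yb, beq_iff_eq.2 yab⟩)
  have h3 := impB_spec (allB_spec h2 hc) (by
    rw [Bool.and_eq_true, Bool.and_eq_true]; exact ⟨qc, beq_iff_eq.2 yc, beq_iff_eq.2 yc'⟩)
  rw [List.any_eq_true] at h3
  obtain ⟨ks, hks, h4⟩ := h3
  rw [Bool.and_eq_true, Bool.and_eq_true] at h4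
  exact ⟨ks, hks, eq_of_beq h4.1, eq_of_beq h4.2.1, eq_of_beq h4.2.2⟩

theorem Ftriple {x : X} (h1 : cd K x 1 = 1) (h2 : cd K x 2 = 2) (h4 : cd K x 4 = 4)
    (hy1 : Commute x (w K [1, 16, 17])) (hy2 : Commute x (w K [2, 8, 10])) :
    ∃ ks ∈ F4, x = w K ks := by
  have q1 : ∀ c < 64, cd K x (wc [1, 16, 17] c) = wc [1, 16, 17] (cd K x c) := fun c hc =>
    cd_comm K (by decide) hy1 hc
  have q2 : ∀ c < 64, cd K x (wc [2, 8, 10] c) = wc [2, 8, 10] (cd K x c) := fun c hc =>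
    cd_comm K (by decide) hy2 hc
  have qq : ∀ (ones zeros : List ℕ) (c : ℕ), (∀ l ∈ ones, Sp.fN (cd K x c) l = true) →
      (∀ l ∈ zeros, Sp.fN (cd K x c) l = false) → qB (cd K x c) ones zeros = true := by
    intro ones zeros c o z
    unfold qB
    rw [Bool.and_eq_true, List.all_eq_true, List.all_eq_true]
    exact ⟨o, fun l hl => by rw [z l hl]; rfl⟩
  have f : ∀ c l, cd K x l = l → Sp.fN (cd K x c) l = Sp.fN c l := by
    intro c l hl
    have := cd_fN K x c l
    rwa [hl] at this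
  obtain ⟨ks, hks, h8, h16, h32⟩ := dF3 (cd_lt K x 8)
    (qB_cd K (by simp [h1]) (by simp [h2, h4]) 8 (by decide))
    (by rw [← q2 8 (by norm_num)]; rfl)
    (cd_lt K x 16)
    (qq _ _ _ (by simp only [List.mem_singleton, forall_eq]; rw [f _ _ h2]; decide) (by
      simp only [List.mem_cons, List.not_mem_nil, or_false, forall_eq_or_imp, forall_eq]
      rw [f _ _ h1, f _ _ h4, cd_fN]; decide))
    (by rw [← q1 16 (by norm_num)]; rfl)
    (by rw [← q1 8 (by norm_num), ← cd_xor]; rfl)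
    (cd_lt K x 32)
    (qq _ _ _ (by simp only [List.mem_singleton, forall_eq]; rw [f _ _ h4]; decide) (by
      simp only [List.mem_cons, List.not_mem_nil, or_false, forall_eq_or_imp, forall_eq]
      rw [f _ _ h1, f _ _ h2, cd_fN, cd_fN]; decide))
    (by rw [← q1 32 (by norm_num)]; rfl) (by rw [← q2 32 (by norm_num)]; rfl)
  refine ⟨ks, hks, ?_⟩
  have e : ∀ ks ∈ F4, (∀ k ∈ ks, k < 64) ∧ 1 = wc ks 1 ∧ 2 = wc ks 2 ∧ 4 = wc ks 4 := by
    decide +kernel
  obtain ⟨e0, e1, e2, e4⟩ := e ks hks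
  exact eq_word K e0 (h1.trans e1) (h2.trans e2) (h4.trans e4) h8 h16 h32

/-! ### elements fixing `u^⊥` pointwise -/

theorem dB : ∀ a < 64, qB a [1] [2, 4, 16, 32] = true → a = 8 ∨ a = 9 := by decide +kernel

theorem fixB {x : X} (h1 : cd K x 1 = 1) (h2 : cd K x 2 = 2) (h4 : cd K x 4 = 4) (h16 : cd K x 16 = 16)
    (h32 : cd K x 32 = 32) : x = 1 ∨ x = w K [1] := by
  rcases dB (cd K x 8) (cd_lt K x 8)
    (qB_cd K (by simp [h1]) (by simp [h2, h4, h16, h32]) 8 (by decide)) with h8 | h8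
  · left
    rw [← w_nil K]
    exact eq_word K (by decide) h1 h2 h4 h8 h16 h32
  · right
    exact eq_word K (by decide) (h1.trans (by decide)) (h2.trans (by decide)) (h4.trans (by decide))
      (h8.trans (by decide)) (h16.trans (by decide)) (h32.trans (by decide))

/-! ### generation of `C(b_u)` by transvections -/

def T1 : List (List ℕ) := [[], [16], [17], [18], [19], [20], [21], [22], [23], [48], [49], [50], [51], [52], [53], [54],
  [55], [16, 17], [16, 20], [16, 21], [16, 48], [16, 49], [16, 52], [16, 53], [20, 50], [20, 51], [20, 54], [20, 55],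
  [48, 54], [48, 55]]

def T2 : List (List ℕ) := [[], [2], [3], [6], [7], [34], [35], [38], [39], [2, 3], [2, 6], [2, 7], [2, 34], [2, 35],
  [2, 38], [2, 39]]

def T3 : List (List ℕ) := [[], [32], [33], [36], [37], [32, 33]]

def T4 : List (List ℕ) := [[], [4], [5], [4, 5]]

/-- all letters of the word are nonzero codes orthogonal to all codes of the list -/
def pB (ls : List ℕ) (ks : List ℕ) : Bool := ks.all fun k => decide (k < 64) && ls.all fun l => !Sp.fN k l

theorem pB_lt {ls ks : List ℕ} (h : pB ls ks = true) : ∀ k ∈ ks, k < 64 := by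
  intro k hk
  unfold pB at h
  rw [List.all_eq_true] at h
  have := h k hk
  rw [Bool.and_eq_true] at this
  exact of_decide_eq_true this.1

theorem pB_fN {ls ks : List ℕ} (h : pB ls ks = true) : ∀ k ∈ ks, ∀ l ∈ ls, Sp.fN k l = false := by
  intro k hk l hl
  unfold pB at h
  rw [List.all_eq_true] at h
  have h1 := h k hk
  rw [Bool.and_eq_true, List.all_eq_true] at h1
  have h2 := h1.2 l hl
  simpa using h2

theorem fN_symm : ∀ c < 64, ∀ d < 64, Sp.fN c d = Sp.fN d c := by decide +kernel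

/-- words in letters orthogonal to `l` fix `l` -/
theorem wc_fix {ls ks : List ℕ} (h : pB ls ks = true) (hl : ∀ l ∈ ls, l < 64) : ∀ l ∈ ls, wc ks l = l := by
  intro l hl'
  have h1 := pB_fN h
  have h2 := pB_lt h
  clear h
  induction ks with
  | nil => rfl
  | cons k ks ih =>
    change tc k (wc ks l) = l
    rw [ih (fun k hk => h1 k (List.mem_cons_of_mem _ hk)) (fun k hk => h2 k (List.mem_cons_of_mem _ hk))]
    unfold tc
    rw [fN_symm l (hl l hl') k (h2 k List.mem_cons_self), h1 k List.mem_cons_self l hl']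
    rfl

theorem word_mem {P : Subgroup X} {ls : List ℕ} (hP : ∀ k < 64, (∀ l ∈ ls, Sp.fN k l = false) → D.τ (vec K k) ∈ P)
    {ks : List ℕ} (h : pB ls ks = true) : w K ks ∈ P := by
  have h1 := pB_fN h
  have h2 := pB_lt h
  clear h
  induction ks with
  | nil => rw [w_nil]; exact one_mem _
  | cons k ks ih =>
    rw [w_cons]
    refine mul_mem (hP k (h2 k List.mem_cons_self) (h1 k List.mem_cons_self)) (ih ?_ ?_)
    · exact fun k hk => h1 k (List.mem_cons_of_mem _ hk)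
    · exact fun k hk => h2 k (List.mem_cons_of_mem _ hk)

theorem dT1 : ∀ a < 64, Sp.fN a 1 = false → a ≠ 0 → a ≠ 1 → ∃ ks ∈ T1, wc ks a = 2 := by decide +kernel
theorem dT1' : ∀ ks ∈ T1, pB [1] ks = true := by decide +kernel
theorem dT2 : ∀ a < 64, Sp.fN a 1 = false → Sp.fN a 2 = true → ∃ ks ∈ T2, wc ks a = 16 := by decide +kernel
theorem dT2' : ∀ ks ∈ T2, pB [1, 2] ks = true := by decide +kernel
theorem dT3 : ∀ a < 64, qB a [] [1, 2, 16] = true → a ≠ 0 → a ≠ 1 → ∃ ks ∈ T3, wc ks a = 4 := by decide +kernel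
theorem dT3' : ∀ ks ∈ T3, pB [1, 2, 16] ks = true := by decide +kernel
theorem dT4 : ∀ a < 64, qB a [4] [1, 2, 16] = true → ∃ ks ∈ T4, wc ks a = 32 := by decide +kernel
theorem dT4' : ∀ ks ∈ T4, pB [1, 2, 16, 4] ks = true := by decide +kernel

/-- a subgroup containing all transvections orthogonal to `u` contains `C(b_u)`; stepwise form: every `x` fixing `1`
is moved by such words to an element fixing `1, 2, 16, 4, 32`. -/
theorem reduceU {P : Subgroup X} (hP : ∀ k < 64, Sp.fN k 1 = false → D.τ (vec K k) ∈ P) {x : X} (h1 : cd K x 1 = 1) :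
    ∃ p ∈ P, cd K (p * x) 1 = 1 ∧ cd K (p * x) 2 = 2 ∧ cd K (p * x) 16 = 16 ∧ cd K (p * x) 4 = 4 ∧
      cd K (p * x) 32 = 32 := by
  -- first
  have key : ∀ (ls : List ℕ) (x : X), 1 ∈ ls → (∀ l ∈ ls, l < 64 ∧ cd K x l = l) → ∀ ks, pB ls ks = true →
      w K ks ∈ P ∧ ∀ l ∈ ls, cd K (w K ks * x) l = l := by
    intro ls x h1 hx ks hks
    refine ⟨word_mem K (ls := ls) (fun k hk hl => hP k hk (hl 1 h1)) hks, ?_⟩
    intro l hl
    rw [cd_mul, (hx l hl).2, cd_word K (pB_lt hks) (hx l hl).1]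
    exact wc_fix hks (fun l hl => (hx l hl).1) l hl
  obtain ⟨ks1, m1, e1⟩ := dT1 (cd K x 2) (cd_lt K x 2)
    (by have := cd_fN K x 2 1; rw [h1] at this; rw [this]; decide)
    (by have := cd_ne K (x := x) (c := 2) (d := 0) (by norm_num) (by norm_num) (by norm_num); rwa [cd_zero] at this)
    (by have := cd_ne K (x := x) (c := 2) (d := 1) (by norm_num) (by norm_num) (by norm_num); rwa [h1] at this)
  obtain ⟨p1, f1⟩ := key [1] x (by decide) (by intro l hl; rw [List.mem_singleton] at hl; subst hl; exact ⟨by norm_num, h1⟩)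
    ks1 (dT1' ks1 m1)
  set x1 := w K ks1 * x with hx1
  have a1 : cd K x1 1 = 1 := f1 1 (by decide)
  have a2 : cd K x1 2 = 2 := by rw [hx1, cd_mul, cd_word K (pB_lt (dT1' ks1 m1)) (cd_lt K x 2), e1]
  obtain ⟨ks2, m2, e2⟩ := dT2 (cd K x1 16) (cd_lt K x1 16)
    (by have := cd_fN K x1 16 1; rw [a1] at this; rw [this]; decide)
    (by have := cd_fN K x1 16 2; rw [a2] at this; rw [this]; decide)
  obtain ⟨p2, f2⟩ := key [1, 2] x1 (by decide) (by
    intro l hl
    rcases List.mem_cons.1 hl with rfl | hl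
    · exact ⟨by norm_num, a1⟩
    · rw [List.mem_singleton] at hl; subst hl; exact ⟨by norm_num, a2⟩) ks2 (dT2' ks2 m2)
  set x2 := w K ks2 * x1 with hx2
  have b1 : cd K x2 1 = 1 := f2 1 (by decide)
  have b2 : cd K x2 2 = 2 := f2 2 (by decide)
  have b16 : cd K x2 16 = 16 := by rw [hx2, cd_mul, cd_word K (pB_lt (dT2' ks2 m2)) (cd_lt K x1 16), e2]
  obtain ⟨ks3, m3, e3⟩ := dT3 (cd K x2 4) (cd_lt K x2 4)
    (qB_cd K (by simp) (by simp [b1, b2, b16]) 4 (by decide))
    (by have := cd_ne K (x := x2) (c := 4) (d := 0) (by norm_num) (by norm_num) (by norm_num); rwa [cd_zero] at this)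
    (by have := cd_ne K (x := x2) (c := 4) (d := 1) (by norm_num) (by norm_num) (by norm_num); rwa [b1] at this)
  obtain ⟨p3, f3⟩ := key [1, 2, 16] x2 (by decide) (by
    intro l hl
    rcases List.mem_cons.1 hl with rfl | hl
    · exact ⟨by norm_num, b1⟩
    rcases List.mem_cons.1 hl with rfl | hl
    · exact ⟨by norm_num, b2⟩
    · rw [List.mem_singleton] at hl; subst hl; exact ⟨by norm_num, b16⟩) ks3 (dT3' ks3 m3)
  set x3 := w K ks3 * x2 with hx3
  have c1 : cd K x3 1 = 1 := f3 1 (by decide)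
  have c2 : cd K x3 2 = 2 := f3 2 (by decide)
  have c16 : cd K x3 16 = 16 := f3 16 (by decide)
  have c4 : cd K x3 4 = 4 := by rw [hx3, cd_mul, cd_word K (pB_lt (dT3' ks3 m3)) (cd_lt K x2 4), e3]
  obtain ⟨ks4, m4, e4⟩ := dT4 (cd K x3 32) (cd_lt K x3 32)
    (qB_cd K (by simp [c4]) (by simp [c1, c2, c16]) 32 (by decide))
  obtain ⟨p4, f4⟩ := key [1, 2, 16, 4] x3 (by decide) (by
    intro l hl
    rcases List.mem_cons.1 hl with rfl | hl
    · exact ⟨by norm_num, c1⟩
    rcases List.mem_cons.1 hl with rfl | hl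
    · exact ⟨by norm_num, c2⟩
    rcases List.mem_cons.1 hl with rfl | hl
    · exact ⟨by norm_num, c16⟩
    · rw [List.mem_singleton] at hl; subst hl; exact ⟨by norm_num, c4⟩) ks4 (dT4' ks4 m4)
  refine ⟨w K ks4 * (w K ks3 * (w K ks2 * w K ks1)), mul_mem p4 (mul_mem p3 (mul_mem p2 p1)), ?_⟩
  have e : w K ks4 * (w K ks3 * (w K ks2 * w K ks1)) * x = w K ks4 * x3 := by
    rw [hx3, hx2, hx1]; group
  rw [e]
  exact ⟨f4 1 (by decide), f4 2 (by decide), f4 16 (by decide), f4 4 (by decide), by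
    rw [cd_mul, cd_word K (pB_lt (dT4' ks4 m4)) (cd_lt K x3 32), e4]⟩

theorem genU {P : Subgroup X} (hP : ∀ k < 64, Sp.fN k 1 = false → D.τ (vec K k) ∈ P) {x : X} (h1 : cd K x 1 = 1) :
    x ∈ P := by
  obtain ⟨p, hp, e1, e2, e16, e4, e32⟩ := reduceU K hP h1
  rcases fixB K e1 e2 e4 e16 e32 with h | h
  · have : x = p⁻¹ := eq_inv_of_mul_eq_one_right h
    rw [this]; exact inv_mem hp
  · have h3 : w K [1] ∈ P := word_mem K (ls := [1]) (fun k hk hl => hP k hk (hl 1 (by decide))) (by decide)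
    have : x = p⁻¹ * w K [1] := by rw [← h, inv_mul_cancel_left]
    rw [this]; exact mul_mem (inv_mem hp) h3

/-! ### generation of `C(λ)` -/

def S1 : List (List ℕ) := [[], [32], [33], [34], [35], [36], [37], [38], [39], [32, 33], [32, 34], [32, 35]]

def S2 : List (List ℕ) := [[], [4], [5], [6], [7], [4, 5], [4, 6], [4, 7]]

def Y6 : List (List ℕ) := [[], [1, 16, 17], [2, 8, 10], [1, 16, 17, 2, 8, 10], [2, 8, 10, 1, 16, 17],
  [1, 16, 17, 2, 8, 10, 1, 16, 17]]

theorem dS1 : ∀ a < 64, qB a [] [1, 2] = true → a ∉ [0, 1, 2, 3] → ∃ ks ∈ S1, wc ks a = 4 := by decide +kernel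
theorem dS1' : ∀ ks ∈ S1, pB [1, 2] ks = true := by decide +kernel
theorem dS2 : ∀ a < 64, qB a [4] [1, 2] = true → ∃ ks ∈ S2, wc ks a = 32 := by decide +kernel
theorem dS2' : ∀ ks ∈ S2, pB [1, 2, 4] ks = true := by decide +kernel
theorem dY6 : ∀ a < 4, ∀ b < 4, (a ≠ 0 ∧ b ≠ 0 ∧ a ≠ b) → ∃ ks ∈ Y6, wc ks a = 1 ∧ wc ks b = 2 := by decide +kernel
theorem Y6_lt : ∀ ks ∈ Y6, ∀ k ∈ ks, k < 64 := by decide +kernel
theorem L8_p : ∀ ks ∈ L8, pB [1, 2] ks = true := by decide +kernel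

/-- elements commuting with `λ` permute `1, 2, 3` -/
theorem lamLine {x : X} (h : Commute x (w K [1, 2, 3])) : cd K x 1 < 4 ∧ cd K x 1 ≠ 0 ∧ cd K x 2 < 4 ∧
    cd K x 2 ≠ 0 ∧ cd K x 1 ≠ cd K x 2 := by
  have q : ∀ c < 64, cd K x (wc [1, 2, 3] c) = wc [1, 2, 3] (cd K x c) := fun c hc =>
    cd_comm K (by decide) h hc
  have n : ∀ c < 64, wc [1, 2, 3] c ^^^ c < 4 := by decide +kernel
  have h1 : cd K x 1 = wc [1, 2, 3] (cd K x 16) ^^^ cd K x 16 := by
    rw [← q 16 (by norm_num), ← cd_xor]; rfl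
  have h2 : cd K x 2 = wc [1, 2, 3] (cd K x 8) ^^^ cd K x 8 := by
    rw [← q 8 (by norm_num), ← cd_xor]; rfl
  refine ⟨?_, ?_, ?_, ?_, ?_⟩
  · rw [h1]; exact n _ (cd_lt K x 16)
  · have := cd_ne K (x := x) (c := 1) (d := 0) (by norm_num) (by norm_num) (by norm_num); rwa [cd_zero] at this
  · rw [h2]; exact n _ (cd_lt K x 8)
  · have := cd_ne K (x := x) (c := 2) (d := 0) (by norm_num) (by norm_num) (by norm_num); rwa [cd_zero] at this
  · exact cd_ne K (x := x) (c := 1) (d := 2) (by norm_num) (by norm_num) (by norm_num)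

/-- a subgroup containing the transvections of `l^⊥` contains every element fixing `l` pointwise -/
theorem genL {P : Subgroup X} (hP : ∀ k < 64, Sp.fN k 1 = false → Sp.fN k 2 = false → D.τ (vec K k) ∈ P) {x : X}
    (h1 : cd K x 1 = 1) (h2 : cd K x 2 = 2) : x ∈ P := by
  have key : ∀ (ls : List ℕ) (x : X), 1 ∈ ls → 2 ∈ ls → (∀ l ∈ ls, l < 64 ∧ cd K x l = l) → ∀ ks, pB ls ks = true →
      w K ks ∈ P ∧ ∀ l ∈ ls, cd K (w K ks * x) l = l := by
    intro ls x h1 h2 hx ks hks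
    refine ⟨word_mem K (ls := ls) (fun k hk hl => hP k hk (hl 1 h1) (hl 2 h2)) hks, ?_⟩
    intro l hl
    rw [cd_mul, (hx l hl).2, cd_word K (pB_lt hks) (hx l hl).1]
    exact wc_fix hks (fun l hl => (hx l hl).1) l hl
  have h3 : cd K x 3 = 3 := by
    have := cd_xor K x 1 2
    rw [h1, h2] at this
    exact this
  have n0 := cd_ne K (x := x) (c := 4) (d := 0) (by norm_num) (by norm_num) (by norm_num)
  have n1 := cd_ne K (x := x) (c := 4) (d := 1) (by norm_num) (by norm_num) (by norm_num)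
  have n2 := cd_ne K (x := x) (c := 4) (d := 2) (by norm_num) (by norm_num) (by norm_num)
  have n3 := cd_ne K (x := x) (c := 4) (d := 3) (by norm_num) (by norm_num) (by norm_num)
  rw [cd_zero] at n0
  rw [h1] at n1
  rw [h2] at n2
  rw [h3] at n3
  obtain ⟨ks1, m1, e1⟩ := dS1 (cd K x 4) (cd_lt K x 4)
    (qB_cd K (by simp) (by simp [h1, h2]) 4 (by decide))
    (by simp [n0, n1, n2, n3])
  obtain ⟨p1, f1⟩ := key [1, 2] x (by decide) (by decide) (by
    intro l hl
    rcases List.mem_cons.1 hl with rfl | hl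
    · exact ⟨by norm_num, h1⟩
    · rw [List.mem_singleton] at hl; subst hl; exact ⟨by norm_num, h2⟩) ks1 (dS1' ks1 m1)
  set x1 := w K ks1 * x with hx1
  have a1 : cd K x1 1 = 1 := f1 1 (by decide)
  have a2 : cd K x1 2 = 2 := f1 2 (by decide)
  have a4 : cd K x1 4 = 4 := by rw [hx1, cd_mul, cd_word K (pB_lt (dS1' ks1 m1)) (cd_lt K x 4), e1]
  obtain ⟨ks2, m2, e2⟩ := dS2 (cd K x1 32) (cd_lt K x1 32)
    (qB_cd K (by simp [a4]) (by simp [a1, a2]) 32 (by decide))
  obtain ⟨p2, f2⟩ := key [1, 2, 4] x1 (by decide) (by decide) (by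
    intro l hl
    rcases List.mem_cons.1 hl with rfl | hl
    · exact ⟨by norm_num, a1⟩
    rcases List.mem_cons.1 hl with rfl | hl
    · exact ⟨by norm_num, a2⟩
    · rw [List.mem_singleton] at hl; subst hl; exact ⟨by norm_num, a4⟩) ks2 (dS2' ks2 m2)
  obtain ⟨ks, hks, e⟩ := fixA K (x := w K ks2 * x1) (f2 1 (by decide)) (f2 2 (by decide)) (f2 4 (by decide)) (by
    rw [cd_mul, cd_word K (pB_lt (dS2' ks2 m2)) (cd_lt K x1 32), e2])
  have p3 : w K ks ∈ P := word_mem K (ls := [1, 2]) (fun k hk hl => hP k hk (hl 1 (by decide)) (hl 2 (by decide)))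
    (L8_p ks hks)
  have : x = (w K ks1)⁻¹ * ((w K ks2)⁻¹ * w K ks) := by
    rw [← e, hx1]; group
  rw [this]
  exact mul_mem (inv_mem p1) (mul_mem (inv_mem p2) p3)

/-- a subgroup containing the transvections of `l^⊥` and `y1`, `y2` contains `C(λ)` -/
theorem genLam {P : Subgroup X} (hP : ∀ k < 64, Sp.fN k 1 = false → Sp.fN k 2 = false → D.τ (vec K k) ∈ P)
    (hy1 : w K [1, 16, 17] ∈ P) (hy2 : w K [2, 8, 10] ∈ P) {x : X} (h : Commute x (w K [1, 2, 3])) : x ∈ P := by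
  obtain ⟨a1, a2, a3, a4, a5⟩ := lamLine K h
  obtain ⟨ks, hks, e1, e2⟩ := dY6 _ a1 _ a3 ⟨a2, a4, a5⟩
  have hw : w K ks ∈ P := by
    have hw6 : ∀ ks ∈ Y6, w K ks ∈ P := by
      intro ks hks
      simp only [Y6, List.mem_cons, List.not_mem_nil, or_false] at hks
      rcases hks with rfl | rfl | rfl | rfl | rfl | rfl
      · rw [w_nil]; exact one_mem _
      · exact hy1
      · exact hy2
      · exact (w_append K [1, 16, 17] [2, 8, 10]) ▸ mul_mem hy1 hy2
      · exact (w_append K [2, 8, 10] [1, 16, 17]) ▸ mul_mem hy2 hy1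
      · have : w K [1, 16, 17, 2, 8, 10, 1, 16, 17] = w K [1, 16, 17] * (w K [2, 8, 10] * w K [1, 16, 17]) := by
          rw [← w_append, ← w_append]; rfl
        rw [this]; exact mul_mem hy1 (mul_mem hy2 hy1)
    exact hw6 ks hks
  have h3 : w K ks * x ∈ P := by
    apply genL K hP
    · rw [cd_mul, cd_word K (Y6_lt ks hks) (cd_lt K x 1), e1]
    · rw [cd_mul, cd_word K (Y6_lt ks hks) (cd_lt K x 2), e2]
  have : x = (w K ks)⁻¹ * (w K ks * x) := by group
  rw [this]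
  exact mul_mem (inv_mem hw) h3

end Cfsg.Agent.StdSpSix.AllFacts
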