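import Cfsg.Agent.StdSpSix.AllFacts

/-!
# Facts on `Sp₆(2)` for the pattern `ALL`, second part

`Rv x r`: `B(v, x v) = B(v, r)`; the vector `r` is fixed by the centraliser of `x`; `r = 0` iff `x` is of type `a2` (for
involutions).
-/

set_option autoImplicit false
set_option maxHeartbeats 400000

namespace Cfsg.Agent.StdSpSix.AllFactsTwo

open Cfsg.Agent.StandardComponent.SpTwo
open Cfsg.Agent.SporRec.TwoSp6
open Cfsg.Agent.StdSpSix.Words Cfsg.Agent.StdSpSix.Model Cfsg.Agent.StdSpSix.AllCode Cfsg.Agent.StdSpSix.AllFacts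

variable {X V : Type*} [Group X] [AddCommGroup V] [Module (ZMod 2) V] {D : SpData X V} (K : Coord D)

/-! ### the canonical vector of an involution -/

/-- `B(v, x v) = B(v, r)` for all `v` -/
def Rv (D : SpData X V) (x : X) (r : V) : Prop := ∀ v, D.B v (D.ρ x v) = D.B v r

theorem eq_of_B {r s : V} (h : ∀ v, D.B v r = D.B v s) : r = s := by
  have h0 : ∀ v, D.B (r + s) v = 0 := by
    intro v
    rw [D.symm, map_add, h v]
    exact CharTwo.add_self_eq_zero _
  exact eq_of_add r s (D.nondeg _ h0)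

theorem Rv.unique {x : X} {r s : V} (hr : Rv D x r) (hs : Rv D x s) : r = s :=
  eq_of_B (D := D) fun v => by rw [← hr v, hs v]

theorem Rv.fix {x g : X} {r : V} (hr : Rv D x r) (h : Commute g x) : D.ρ g r = r := by
  apply eq_of_B (D := D)
  intro v
  have h1 := hr (D.ρ g⁻¹ v)
  have h2 : D.ρ x (D.ρ g⁻¹ v) = D.ρ g⁻¹ (D.ρ x v) := by
    rw [← D.ρ_mul, ← D.ρ_mul, (h.symm.inv_right).eq]
  rw [h2, D.inv, hr v] at h1
  rw [h1, D.inv_left, inv_inv]

theorem Rv_tau (r : V) : Rv D (D.τ r) r := by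
  intro v
  rw [D.hτ, map_add, map_smul, smul_eq_mul, D.alt, zero_add]
  rcases z2 (D.B v r) with h | h <;> rw [h] <;> decide

theorem Rv.conj {x : X} {r : V} (hr : Rv D x r) (g : X) : Rv D (g * x * g⁻¹) (D.ρ g r) := by
  intro v
  have h1 := hr (D.ρ g⁻¹ v)
  rw [D.ρ_mul, D.ρ_mul, D.symm, D.inv_left, D.symm, h1, D.symm, ← D.inv_left, D.symm]

theorem Rv.mul_tau {x : X} {r u : V} (hr : Rv D x r) (h : D.ρ x u = u) : Rv D (x * D.τ u) (r + u) := by
  intro v
  rw [D.ρ_mul, D.hτ, map_add, map_add, map_smul, h, hr v, map_smul, smul_eq_mul, map_add]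
  congr 1
  rcases z2 (D.B v u) with h | h <;> rw [h] <;> decide

theorem Rv_word {ks : List ℕ} {r : ℕ} (hks : ∀ k ∈ ks, k < 64)
    (h : ∀ c < 64, Sp.fN c (wc ks c) = Sp.fN c r) : Rv D (w K ks) (vec K r) := by
  intro v
  obtain ⟨c, hc, rfl⟩ := exists_vec K v
  rw [cd_spec, cd_word K hks hc, B_vec, B_vec, h c hc]

theorem Rv_lam : Rv D (w K [1, 2, 3]) 0 := by
  rw [← vec_zero K]
  exact Rv_word K (by decide) (by decide +kernel)

/-- An involution is of type `a2` or has a nonzero canonical vector. -/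
theorem classify {x : X} (hx : x * x = 1) (h1 : x ≠ 1) :
    (∃ g, g * x * g⁻¹ = w K [1, 2, 3]) ∨ ∃ r, r ≠ 0 ∧ Rv D x r := by
  have back : ∀ (ks : List ℕ) (r : ℕ), (∀ k ∈ ks, k < 64) → (∀ c < 64, Sp.fN c (wc ks c) = Sp.fN c r) →
      (r < 64) → r ≠ 0 → (∃ g, g * x * g⁻¹ = w K ks) → ∃ r, r ≠ 0 ∧ Rv D x r := by
    rintro ks r hks h hr hr0 ⟨g, hg⟩
    have h2 := (Rv_word K hks h).conj g⁻¹
    rw [← hg] at h2
    have e : g⁻¹ * (g * x * g⁻¹) * g⁻¹⁻¹ = x := by group
    rw [e] at h2
    refine ⟨_, ?_, h2⟩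
    intro h0
    have h3 : vec K r = 0 := by
      rw [← D.ρ_apply_inv g (vec K r), h0, map_zero]
    apply hr0
    apply vec_inj K hr (by norm_num)
    rw [h3, vec_zero]
  rcases exists_conj K hx h1 with ⟨_, h⟩ | ⟨_, h⟩ | ⟨_, h⟩ | ⟨_, h⟩
  · exact Or.inr (back [1] 1 (by decide) (by decide +kernel) (by norm_num) (by norm_num) h)
  · exact Or.inr (back [1, 2] 3 (by decide) (by decide +kernel) (by norm_num) (by norm_num) h)
  · exact Or.inl h
  · exact Or.inr (back [1, 2, 4] 7 (by decide) (by decide +kernel) (by norm_num) (by norm_num) h)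

/-! ### the image of a code as a sum -/

/-- The value on `c` of the linear map with the given values on the basis codes. -/
def lin6 (a1 a2 a4 a8 a16 a32 c : ℕ) : ℕ := (if c.testBit 0 then a1 else 0) ^^^ ((if c.testBit 1 then a2 else 0) ^^^
    ((if c.testBit 2 then a4 else 0) ^^^ ((if c.testBit 3 then a8 else 0) ^^^ ((if c.testBit 4 then a16 else 0) ^^^
    (if c.testBit 5 then a32 else 0)))))

theorem cd_lin (x : X) {c : ℕ} (hc : c < 64) :
    cd K x c = lin6 (cd K x 1) (cd K x 2) (cd K x 4) (cd K x 8) (cd K x 16) (cd K x 32) c := by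
  have key : ∀ (b : Bool) (d : ℕ), cd K x (if b then d else 0) = if b then cd K x d else 0 := by
    intro b d
    cases b
    · simp only [Bool.false_eq_true, if_false, cd_zero]
    · simp
  conv_lhs => rw [code_split c hc]
  simp only [cd_xor, key]
  rfl

/-! ### no element of order five commutes with `λ` -/

/-- fifth iterate of a linear map given by four values -/
def it5 (a b p q c : ℕ) : ℕ :=
  lin6 a b p 0 0 q (lin6 a b p 0 0 q (lin6 a b p 0 0 q (lin6 a b p 0 0 q (lin6 a b p 0 0 q c))))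

theorem d5a : (allB fun a => impB (decide (a < 4)) (allB fun b => impB (decide (b < 4) && (a != 0) && (b != 0) &&
    (a != b) && (it5 a b 0 0 1 == 1) && (it5 a b 0 0 2 == 2)) ((a == 1) && (b == 2)))) = true := by decide +kernel

theorem d5b : (allB fun p => impB (qB p [] [1, 2] && (! [0, 1, 2, 3].contains p)) (allB fun q =>
    impB (qB q [] [1, 2] && Sp.fN p q && (it5 1 2 p q 4 == 4) && (it5 1 2 p q 32 == 32)) ((p == 4) && (q == 32)))) =
    true := by decide +kernel

/-- codes in the span of the listed basis codes stay there -/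
theorem it5_eq {x : X} (h5 : x ^ 5 = 1) {c : ℕ} (hc : c < 64)
    (h : ∀ c < 64, c.testBit 3 = false → c.testBit 4 = false →
      cd K x c = lin6 (cd K x 1) (cd K x 2) (cd K x 4) 0 0 (cd K x 32) c ∧ (cd K x c).testBit 3 = false ∧
        (cd K x c).testBit 4 = false) (hc3 : c.testBit 3 = false) (hc4 : c.testBit 4 = false) :
    it5 (cd K x 1) (cd K x 2) (cd K x 4) (cd K x 32) c = c := by
  have e : cd K (x ^ 5) c = cd K x (cd K x (cd K x (cd K x (cd K x c)))) := by
    have : x ^ 5 = x * (x * (x * (x * x))) := by simp only [pow_succ, pow_zero, one_mul, mul_assoc]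
    rw [this, cd_mul, cd_mul, cd_mul, cd_mul]
  rw [h5, cd_one K hc] at e
  unfold it5
  have s0 := h c hc hc3 hc4
  have s1 := h _ (cd_lt K x c) s0.2.1 s0.2.2
  have s2 := h _ (cd_lt K x _) s1.2.1 s1.2.2
  have s3 := h _ (cd_lt K x _) s2.2.1 s2.2.2
  have s4 := h _ (cd_lt K x _) s3.2.1 s3.2.2
  rw [← s0.1, ← s1.1, ← s2.1, ← s3.1, ← s4.1]
  exact e.symm

theorem d4 : (allB fun a => impB (decide (a < 4)) (allB fun b => impB (decide (b < 4)) (allB fun d =>
    impB (decide (d < 4) && (a != 0) && (b != 0) && (a != b) && (d != 0)) ((d == a) || (d == b) || (d == a ^^^ b))))) =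
    true := by decide +kernel

theorem no_five {x : X} (h : Commute x (w K [1, 2, 3])) (h5 : x ^ 5 = 1) : x = 1 := by
  obtain ⟨a1, a2, a3, a4, a5⟩ := lamLine K h
  -- the span of `1, 2, 4, 32` is stable
  have perp : ∀ c < 64, qB c [] [1, 2] = true → qB (cd K x c) [] [1, 2] = true := by
    intro c hc hq
    have hinv : ∀ d < 4, d ≠ 0 → ∃ e < 4, cd K x e = d := by
      have t : ∀ a < 4, ∀ b < 4, ∀ d < 4, (a ≠ 0 ∧ b ≠ 0 ∧ a ≠ b ∧ d ≠ 0) → d = a ∨ d = b ∨ d = a ^^^ b := by
        intro a ha b hb d hd h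
        have := impB_spec (allB_spec (impB_spec (allB_spec (impB_spec (allB_spec d4 (show a < 64 by omega))
          (decide_eq_true ha)) (show b < 64 by omega)) (decide_eq_true hb)) (show d < 64 by omega)) (by
          simp only [Bool.and_eq_true, decide_eq_true_eq, bne_iff_ne]
          exact ⟨⟨⟨⟨hd, h.1⟩, h.2.1⟩, h.2.2.1⟩, h.2.2.2⟩)
        simp only [Bool.or_eq_true, beq_iff_eq] at this
        rcases this with (h | h) | h
        · exact Or.inl h
        · exact Or.inr (Or.inl h)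
        · exact Or.inr (Or.inr h)
      intro d hd hd0
      rcases t _ a1 _ a3 d hd ⟨a2, a4, a5, hd0⟩ with h | h | h
      · exact ⟨1, by norm_num, h.symm⟩
      · exact ⟨2, by norm_num, h.symm⟩
      · exact ⟨3, by norm_num, by rw [h]; exact cd_xor K x 1 2⟩
    have f3 : ∀ c < 64, qB c [] [1, 2] = true → ∀ e < 4, Sp.fN c e = false := by decide +kernel
    have g : ∀ d < 4, d ≠ 0 → Sp.fN (cd K x c) d = false := by
      intro d hd hd0
      obtain ⟨e, he, rfl⟩ := hinv d hd hd0
      rw [cd_fN]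
      exact f3 c hc hq e he
    unfold qB
    simp only [List.all_nil, List.all_cons, Bool.true_and, Bool.and_true]
    rw [g 1 (by norm_num) (by norm_num), g 2 (by norm_num) (by norm_num)]
    rfl
  have bits : ∀ c < 64, qB c [] [1, 2] = true ↔ (c.testBit 3 = false ∧ c.testBit 4 = false) := by decide +kernel
  have st : ∀ c < 64, c.testBit 3 = false → c.testBit 4 = false →
      cd K x c = lin6 (cd K x 1) (cd K x 2) (cd K x 4) 0 0 (cd K x 32) c ∧ (cd K x c).testBit 3 = false ∧
        (cd K x c).testBit 4 = false := by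
    intro c hc h3 h4
    refine ⟨?_, (bits _ (cd_lt K x c)).1 (perp c hc ((bits c hc).2 ⟨h3, h4⟩))⟩
    rw [cd_lin K x hc]
    unfold lin6
    rw [h3, h4]
    simp
  have i1 := it5_eq K h5 (c := 1) (by norm_num) st (by decide) (by decide)
  have i2 := it5_eq K h5 (c := 2) (by norm_num) st (by decide) (by decide)
  have i4 := it5_eq K h5 (c := 4) (by norm_num) st (by decide) (by decide)
  have i32 := it5_eq K h5 (c := 32) (by norm_num) st (by decide) (by decide)
  -- on the line the values at `4, 32` do not matter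
  have cut : ∀ a < 4, ∀ b < 4, ∀ p q : ℕ, ∀ c < 4, lin6 a b p 0 0 q c = lin6 a b 0 0 0 0 c ∧
      lin6 a b 0 0 0 0 c < 4 := by
    intro a ha b hb p q c hc
    have t : ∀ c < 4, c.testBit 2 = false ∧ c.testBit 5 = false := by decide +kernel
    have t2 : ∀ a < 4, ∀ b < 4, ∀ c < 4, lin6 a b 0 0 0 0 c < 4 := by decide +kernel
    refine ⟨?_, t2 a ha b hb c hc⟩
    unfold lin6
    rw [(t c hc).1, (t c hc).2]
    simp
  have cut5 : ∀ c < 4, it5 (cd K x 1) (cd K x 2) (cd K x 4) (cd K x 32) c = it5 (cd K x 1) (cd K x 2) 0 0 c := by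
    intro c hc
    unfold it5
    have k := fun c hc => cut (cd K x 1) a1 (cd K x 2) a3 (cd K x 4) (cd K x 32) c hc
    have s0 := k c hc
    rw [s0.1]
    have s1 := k _ s0.2
    rw [s1.1]
    have s2 := k _ s1.2
    rw [s2.1]
    have s3 := k _ s2.2
    rw [s3.1]
    have s4 := k _ s3.2
    rw [s4.1]
  rw [cut5 1 (by norm_num)] at i1
  rw [cut5 2 (by norm_num)] at i2
  have r1 := impB_spec (allB_spec (impB_spec (allB_spec d5a (cd_lt K x 1)) (decide_eq_true a1)) (cd_lt K x 2)) (by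
    simp only [Bool.and_eq_true, decide_eq_true_eq, bne_iff_ne, beq_iff_eq]
    exact ⟨⟨⟨⟨⟨a3, a2⟩, a4⟩, a5⟩, i1⟩, i2⟩)
  rw [Bool.and_eq_true, beq_iff_eq, beq_iff_eq] at r1
  obtain ⟨e1, e2⟩ := r1
  have e3 : cd K x 3 = 3 := by
    have := cd_xor K x 1 2
    rw [e1, e2] at this
    exact this
  have n0 := cd_ne K (x := x) (c := 4) (d := 0) (by norm_num) (by norm_num) (by norm_num)
  have n1 := cd_ne K (x := x) (c := 4) (d := 1) (by norm_num) (by norm_num) (by norm_num)
  have n2 := cd_ne K (x := x) (c := 4) (d := 2) (by norm_num) (by norm_num) (by norm_num)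
  have n3 := cd_ne K (x := x) (c := 4) (d := 3) (by norm_num) (by norm_num) (by norm_num)
  rw [cd_zero] at n0
  rw [e1] at n1
  rw [e2] at n2
  rw [e3] at n3
  rw [e1, e2] at i4 i32
  have r2 := impB_spec (allB_spec (impB_spec (allB_spec d5b (cd_lt K x 4)) (by
    rw [Bool.and_eq_true]
    exact ⟨perp 4 (by norm_num) (by decide), by simp [n0, n1, n2, n3]⟩)) (cd_lt K x 32)) (by
    simp only [Bool.and_eq_true, beq_iff_eq]
    exact ⟨⟨⟨perp 32 (by norm_num) (by decide), by rw [cd_fN]; decide⟩, i4⟩, i32⟩)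
  rw [Bool.and_eq_true, beq_iff_eq, beq_iff_eq] at r2
  obtain ⟨ks, hks, hx⟩ := fixA K e1 e2 r2.1 r2.2
  have sq : ∀ ks ∈ L8, eqB (ks ++ ks) [] = true := by decide +kernel
  have hxx : x * x = 1 := by
    rw [hx, ← w_append, w_one K (sq ks hks)]
  calc x = x * (x * x) * (x * x) := by rw [hxx, mul_one, mul_one]
    _ = x ^ 5 := by simp only [pow_succ, pow_zero, one_mul, mul_assoc]
    _ = 1 := h5

/-! ### two commuting `a2`'s -/

/-- an element commuting with `λ` permutes the three points -/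
theorem line_image {x : X} (h : Commute x (w K [1, 2, 3])) {c : ℕ} (hc : c < 4) (hc0 : c ≠ 0) :
    cd K x c < 4 ∧ cd K x c ≠ 0 := by
  obtain ⟨a1, a2, a3, a4, a5⟩ := lamLine K h
  refine ⟨?_, ?_⟩
  · have hx : cd K x 3 < 4 := by
      have := cd_xor K x 1 2
      have t : ∀ a < 4, ∀ b < 4, a ^^^ b < 4 := by decide +kernel
      have h3 : cd K x 3 = cd K x 1 ^^^ cd K x 2 := this
      rw [h3]
      exact t _ a1 _ a3
    interval_cases c
    · exact absurd rfl hc0
    · exact a1
    · exact a3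
    · exact hx
  · have := cd_ne K (x := x) (c := c) (d := 0) (by omega) (by norm_num) hc0
    rwa [cd_zero] at this

theorem dM : (allB fun p => impB (p != 0) (allB fun q => impB ((q != 0) && (q != p) && (!Sp.fN p q) &&
    decide (wc [p, q, p ^^^ q] 1 < 4) && decide (wc [p, q, p ^^^ q] 2 < 4) &&
    (!([1, 2, 3].contains p && [1, 2, 3].contains q)))
    (([p, q, p ^^^ q].filter fun c => decide (c < 4)).length == 1))) = true := by decide +kernel

/-- Two distinct commuting `a2`'s: their lines meet in exactly one point, fixed by everything commuting with both. -/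
theorem meet {K' : Coord D} (hc : Commute (w K' [1, 2, 3]) (w K [1, 2, 3])) (hne : w K' [1, 2, 3] ≠ w K [1, 2, 3]) :
    ∃ a : V, a ≠ 0 ∧ ∀ x, Commute x (w K' [1, 2, 3]) → Commute x (w K [1, 2, 3]) → D.ρ x a = a := by
  obtain ⟨p, hp, ep⟩ := exists_vec K (vec K' 1)
  obtain ⟨q, hq, eq⟩ := exists_vec K (vec K' 2)
  have e3 : vec K' 3 = vec K (p ^^^ q) := by
    have h3 : (3 : ℕ) = 1 ^^^ 2 := by decide
    rw [vec_xor, ← ep, ← eq, h3, vec_xor K' 1 2]
  have hs : w K' [1, 2, 3] = w K [p, q, p ^^^ q] := by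
    simp only [w_cons, w_nil]
    rw [ep, eq, e3]
  have hpq : ∀ k ∈ [p, q, p ^^^ q], k < 64 := by
    intro k hk
    simp only [List.mem_cons, List.not_mem_nil, or_false] at hk
    rcases hk with rfl | rfl | rfl
    · exact hp
    · exact hq
    · exact xor_lt hp hq
  have hp0 : p ≠ 0 := by
    rintro rfl
    have : (1 : ℕ) = 0 := vec_inj K' (by norm_num) (by norm_num) (by rw [ep, vec_zero, vec_zero])
    exact absurd this (by norm_num)
  have hq0 : q ≠ 0 := by
    rintro rfl
    have : (2 : ℕ) = 0 := vec_inj K' (by norm_num) (by norm_num) (by rw [eq, vec_zero, vec_zero])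
    exact absurd this (by norm_num)
  have hqp : q ≠ p := by
    rintro rfl
    have : (1 : ℕ) = 2 := vec_inj K' (by norm_num) (by norm_num) (by rw [ep, eq])
    exact absurd this (by norm_num)
  have hf : Sp.fN p q = false := by
    apply fN_of_zero K
    rw [← ep, ← eq]
    exact B_vec_zero K' (by decide)
  have hl := lamLine K hc
  rw [hs, cd_word K hpq (by norm_num), cd_word K hpq (by norm_num)] at hl
  have hn : ([1, 2, 3].contains p && [1, 2, 3].contains q) = false := by
    by_contra hcon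
    rw [Bool.not_eq_false, Bool.and_eq_true, List.contains_iff_mem, List.contains_iff_mem] at hcon
    apply hne
    rw [hs]
    apply w_eq
    have t : ∀ p ∈ [1, 2, 3], ∀ q ∈ [1, 2, 3], p ≠ q → eqB [p, q, p ^^^ q] [1, 2, 3] = true := by decide +kernel
    exact t p hcon.1 q hcon.2 (Ne.symm hqp)
  have r := impB_spec (allB_spec (impB_spec (allB_spec dM hp) (bne_iff_ne.2 hp0)) hq) (by
    simp only [Bool.and_eq_true, bne_iff_ne, decide_eq_true_eq, hf, hn]
    exact ⟨⟨⟨⟨⟨hq0, hqp⟩, rfl⟩, hl.1⟩, hl.2.2.1⟩, rfl⟩)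
  rw [beq_iff_eq, List.length_eq_one_iff] at r
  obtain ⟨a, ha⟩ := r
  have ham : a ∈ [p, q, p ^^^ q].filter fun c => decide (c < 4) := by rw [ha]; exact List.mem_singleton_self a
  rw [List.mem_filter, decide_eq_true_eq] at ham
  have ha0 : a ≠ 0 := by
    rintro rfl
    have := ham.1
    simp only [List.mem_cons, List.not_mem_nil, or_false] at this
    rcases this with h | h | h
    · exact hp0 h.symm
    · exact hq0 h.symm
    · exact hqp (Nat.xor_eq_zero_iff.1 h.symm).symm
  have ha64 : a < 64 := by omega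
  refine ⟨vec K a, fun h => ha0 (vec_inj K ha64 (by norm_num) (by rw [h, vec_zero])), fun x h1 h2 => ?_⟩
  rw [cd_spec]
  congr 1
  have b1 := line_image K h2 ham.2 ha0
  -- the image is in the other line, too
  have b2 : cd K x a ∈ [p, q, p ^^^ q] := by
    have tr : ∀ c < 4, c ≠ 0 → ∃ d ∈ [p, q, p ^^^ q], vec K' c = vec K d := by
      intro c hc hc0
      interval_cases c
      · exact absurd rfl hc0
      · exact ⟨p, by simp, ep⟩
      · exact ⟨q, by simp, eq⟩
      · exact ⟨p ^^^ q, by simp, e3⟩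
    have tr' : ∃ c < 4, c ≠ 0 ∧ vec K' c = vec K a := by
      have := ham.1
      simp only [List.mem_cons, List.not_mem_nil, or_false] at this
      rcases this with rfl | rfl | rfl
      · exact ⟨1, by norm_num, by norm_num, ep⟩
      · exact ⟨2, by norm_num, by norm_num, eq⟩
      · exact ⟨3, by norm_num, by norm_num, e3⟩
    obtain ⟨c, hc4, hc0, hca⟩ := tr'
    have b := line_image K' h1 hc4 hc0
    obtain ⟨d, hd, hde⟩ := tr _ b.1 b.2
    have hd64 : d < 64 := hpq d hd
    have : cd K x a = d := by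
      apply cd_eq K hd64
      rw [← hca, cd_spec, hde]
    rw [this]
    exact hd
  have b3 : cd K x a ∈ [p, q, p ^^^ q].filter fun c => decide (c < 4) := by
    rw [List.mem_filter, decide_eq_true_eq]
    exact ⟨b2, b1.1⟩
  rw [ha, List.mem_singleton] at b3
  exact b3

/-! ### the group `U_u` -/

/-- the 32 elements of `U_u`, `u = 1` -/
def UL : List (List ℕ) := [[], [1]] ++ ([2, 4, 6, 16, 18, 20, 22, 32, 34, 36, 38, 48, 50, 52, 54].flatMap fun n =>
  [[1, n, n ^^^ 1], [n, n ^^^ 1]])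

theorem dU : (allB fun a => impB (Sp.fN a 1) (UL.any fun ks => (a == wc ks 8) && ((a ^^^ wc [1, 2, 3] a) == wc ks 2) &&
    ((a ^^^ wc [1, 4, 5] a) == wc ks 4) && ((a ^^^ wc [1, 16, 17] a) == wc ks 16) &&
    ((a ^^^ wc [1, 32, 33] a) == wc ks 32) && (wc ks 1 == 1))) = true := by decide +kernel

theorem UL_lt : ∀ ks ∈ UL, ∀ k ∈ ks, k < 64 := by decide +kernel

theorem fixU {x : X} (h1 : cd K x 1 = 1) (h2 : Commute x (w K [1, 2, 3])) (h4 : Commute x (w K [1, 4, 5]))
    (h16 : Commute x (w K [1, 16, 17])) (h32 : Commute x (w K [1, 32, 33])) : ∃ ks ∈ UL, x = w K ks := by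
  have key : ∀ n, (∀ k ∈ [1, n, n ^^^ 1], k < 64) → Commute x (w K [1, n, n ^^^ 1]) → wc [1, n, n ^^^ 1] 8 = 8 ^^^ n →
      cd K x n = cd K x 8 ^^^ wc [1, n, n ^^^ 1] (cd K x 8) := by
    intro n hn h h8
    have := cd_comm K hn h (c := 8) (by norm_num)
    rw [h8, cd_xor] at this
    rw [← this, ← Nat.xor_assoc, Nat.xor_self, Nat.zero_xor]
  have e2 := key 2 (by decide) h2 (by decide)
  have e4 := key 4 (by decide) h4 (by decide)
  have e16 := key 16 (by decide) h16 (by decide)
  have e32 := key 32 (by decide) h32 (by decide)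
  have r := impB_spec (allB_spec dU (cd_lt K x 8)) (by
    have := cd_fN K x 8 1; rw [h1] at this; rw [this]; decide)
  rw [List.any_eq_true] at r
  obtain ⟨ks, hks, hk⟩ := r
  simp only [Bool.and_eq_true, beq_iff_eq] at hk
  obtain ⟨⟨⟨⟨⟨k8, k2⟩, k4⟩, k16⟩, k32⟩, k1⟩ := hk
  exact ⟨ks, hks, eq_word K (UL_lt ks hks) (h1.trans k1.symm) (e2.trans k2) (e4.trans k4) k8 (e16.trans k16)
    (e32.trans k32)⟩

end Cfsg.Agent.StdSpSix.AllFactsTwo
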