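import Cfsg.Agent.StdSpSix.AllSwapD

/-!
# Pattern `ALL`: normal forms of the swaps of `t` and `t b_u`, `u = vec K 1`

`Nf K X d y`: `t^y = t b_u`, `b_u^y = b_u`, `b_k^y = b_u^X b_k` for `k ∈ {2, 3, 16, 17, 4, 5, 32, 33}`,
`b_6^y = b_u^X b_{6 + d}`, `b_7^y = b_u^X b_{7 + d}`.
-/

set_option autoImplicit false
set_option maxHeartbeats 400000

namespace Cfsg.Agent.StdSpSix.AllNf

open Cfsg.Agent.StandardComponent.SpTwo
open Cfsg.Agent.SporRec.TwoSp6
open Cfsg.Agent.StdSpSix.Words Cfsg.Agent.StdSpSix.Model Cfsg.Agent.StdSpSix.AllCode Cfsg.Agent.StdSpSix.AllFacts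
open Cfsg.Agent.StdSpSix.AllFactsTwo Cfsg.Agent.StdSpSix.AllBase Cfsg.Agent.StdSpSix.AllSwapA
open Cfsg.Agent.StdSpSix.AllSwapB Cfsg.Agent.StdSpSix.AllSwapC Cfsg.Agent.StdSpSix.AllSwapD

variable {G V : Type*} [Group G] [AddCommGroup V] [Module (ZMod 2) V] {C : Ctx G V} {g : G}

/-- the word `b_u^X b_k` -/
def nfw (X : Bool) (k : ℕ) : List ℕ := if X then [1, k] else [k]

/-- normal form of a swap of `t` and `t b_u` -/
structure Nf (K : Coord C.S) (X d : Bool) (y : G) : Prop where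
  t : cj y C.t = C.t * ww K [1]
  b : cj y (ww K [1]) = ww K [1]
  v : ∀ k ∈ [2, 3, 16, 17, 4, 5, 32, 33], cj y (ww K [k]) = ww K (nfw X k)
  six : cj y (ww K [6]) = ww K (nfw X (if d then 7 else 6))
  seven : cj y (ww K [7]) = ww K (nfw X (if d then 6 else 7))

end Cfsg.Agent.StdSpSix.AllNf
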