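import Cfsg.Agent.StdSpSix.AllNf

/-!
# Pattern `ALL`: existence of a normal form of a swap of `t` and `t b_u`
-/

set_option autoImplicit false
set_option maxHeartbeats 400000

namespace Cfsg.Agent.StdSpSix.AllNfEx

open Cfsg.Agent.StandardComponent.SpTwo
open Cfsg.Agent.SporRec.TwoSp6
open Cfsg.Agent.StdSpSix.Words Cfsg.Agent.StdSpSix.Model Cfsg.Agent.StdSpSix.AllCode Cfsg.Agent.StdSpSix.AllFacts
open Cfsg.Agent.StdSpSix.AllFactsTwo Cfsg.Agent.StdSpSix.AllBase Cfsg.Agent.StdSpSix.AllSwapA
open Cfsg.Agent.StdSpSix.AllSwapB Cfsg.Agent.StdSpSix.AllSwapC Cfsg.Agent.StdSpSix.AllSwapD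
open Cfsg.Agent.StdSpSix.AllNf

variable {G V : Type*} [Group G] [AddCommGroup V] [Module (ZMod 2) V] {C : Ctx G V} {y : G} (K : Coord C.S)

/-- the double centraliser of `⟨b_1, b_2⟩` -/
theorem D8 {x : G} (hx : x ∈ C.L) (h : ∀ s ∈ C.L, s * s = 1 → Commute s (ww K [1]) → Commute s (ww K [2]) →
    Commute x s) : ∃ ks ∈ L8, x = ww K ks := by
  have hk : ∀ k, k < 64 → eqB [k, k] [] = true → Sp.fN k 1 = false → Sp.fN k 2 = false →
      cd K (⟨x, hx⟩ : C.L) k = k := by
    intro k hk h1 h2 h3
    exact fix_of_commute K hk (h _ (ww_mem K [k]) (ww_sq K h1) ((single_commute K).2 h2) ((single_commute K).2 h3))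
  obtain ⟨ks, hks, e⟩ := fixA K (hk 1 (by norm_num) (by decide +kernel) (by decide) (by decide))
    (hk 2 (by norm_num) (by decide +kernel) (by decide) (by decide))
    (hk 4 (by norm_num) (by decide +kernel) (by decide) (by decide))
    (hk 32 (by norm_num) (by decide +kernel) (by decide) (by decide))
  exact ⟨ks, hks, congrArg Subtype.val e⟩

theorem DC_any {u : V} (hu : u ≠ 0) (hc : Commute (C.b u) (ww K [1, 2, 3])) : DC C (ww K [1, 2, 3]) (C.b u) := by
  obtain ⟨e, he, rfl⟩ := exists_vec K u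
  rw [b_eq] at hc ⊢
  obtain ⟨h1, h2⟩ := (single_commute_lam K he).1 hc
  by_cases h4 : 4 ≤ e
  · exact DC_gen K he h1 h2 h4
  · have e0 : e ≠ 0 := by rintro rfl; exact hu (vec_zero K)
    obtain ⟨K', e1, e2⟩ := reline K e0 (by omega)
    rw [← ww_single K e1, ← e2]
    exact DC_one K'

theorem commute_three {w : G} (hw : w ∈ C.L) (h1 : Commute w (ww K [1])) (h2 : Commute w (ww K [2])) :
    Commute w (ww K [3]) := by
  have e1 := fix_of_commute K (x := (⟨w, hw⟩ : C.L)) (k := 1) (by norm_num) h1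
  have e2 := fix_of_commute K (x := (⟨w, hw⟩ : C.L)) (k := 2) (by norm_num) h2
  have e3 : cd K (⟨w, hw⟩ : C.L) 3 = 3 := cd_line K e1 e2
  rw [← fix_iff K (by norm_num)] at e3
  have := coe_commute.2 e3
  change Commute w (C.b (vec K 3)) at this
  rwa [b_eq] at this

/-- candidates for the second generator -/
def cands (a b : List ℕ) : List (List ℕ) := [a, [1] ++ a, b, [1] ++ b, a ++ b, [1] ++ (a ++ b)]

theorem cands_spec : ∀ a ∈ L8, ∀ b ∈ L8, eqB a [] = false → eqB a [1] = false → eqB b [] = false →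
    eqB b [1] = false → eqB (a ++ b) [] = false → eqB (a ++ b) [1] = false →
    ((cands a b).any fun c => eqB [2] c) = true := by decide +kernel

theorem Rv_two {r u : V} (h : C.S.B r u = 0) : Rv C.S (C.S.τ r * C.S.τ u) (r + u) := by
  apply (Rv_tau r).mul_tau
  rw [C.S.hτ, C.S.symm, h, zero_smul, add_zero]

/-- `b_1 b_c` is not a transvection -/
theorem two_ne {c : ℕ} (hc : c < 64) (h1 : Sp.fN c 1 = false) (h0 : c ≠ 0) (hne : c ≠ 1) (r : V) :
    ww K [1, c] ≠ C.b r := by
  intro h
  have hB : C.S.B (vec K 1) (vec K c) = 0 := by rw [C.S.symm]; exact B_vec_zero K h1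
  have h2 : ww K [1, c] = ((C.S.τ (vec K 1) * C.S.τ (vec K c) : C.L) : G) := by
    rw [ww_cons, ← b_eq]; rfl
  have h3 := Rv_b_eq (Rv_two hB) (h2.symm.trans h)
  obtain ⟨K', f1, f2⟩ := exists_frame_two K (vec_ne_zero K (a := 1) (by norm_num) (by norm_num)) (vec_ne_zero K hc h0)
    (vec_ne K hc (by norm_num) hne) hB
  apply lam_ne_one K'
  rw [ww_line K f1 f2]
  have e : ww K [1, c, 1 ^^^ c] = ww K [1, c] * ww K [1 ^^^ c] := by rw [ww_mul]; rfl
  rw [e, h, h3, ← vec_xor, b_eq, ← b_eq]
  exact C.b_sq _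

/-- the image of a transvection of `u^⊥` -/
theorem img_u (H : All C) (h : Sw C (ww K [1]) y) {k : ℕ} (hk : k < 64) (h1 : Sp.fN k 1 = false) (h0 : k ≠ 0)
    (hne : k ≠ 1) :
    ∃ X c, c < 64 ∧ Sp.fN c 1 = false ∧ c ≠ 0 ∧ c ≠ 1 ∧ cj y (ww K [k]) = ww K (nfw X c) := by
  have hu : vec K 1 ≠ 0 := vec_ne_zero K (by norm_num) (by norm_num)
  obtain ⟨K', f1, f2⟩ := exists_frame_two K hu (vec_ne_zero K hk h0)
    (vec_ne K hk (by norm_num) hne) (by rw [C.S.symm]; exact B_vec_zero K h1)
  have z1 : ww K' [1] = ww K [1] := ww_single K f1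
  have z2 : ww K' [2] = ww K [k] := ww_single K f2
  have zb : ww K [1] = C.b (vec K 1) := (b_eq K 1).symm
  have zsq : ww K [1] * ww K [1] = 1 := by rw [zb]; exact C.b_sq _
  have hi := h.inv zsq
  have c21 : Commute (ww K' [2]) (ww K [1]) := by rw [← z1]; exact (single_commute K').2 (by decide)
  have c31 : Commute (ww K' [3]) (ww K [1]) := by rw [← z1]; exact (single_commute K').2 (by decide)
  have hsL := h.mem H (ww_mem K' [2]) (ww_sq K' (by decide +kernel)) c21
  have hs2 := cj_sq (ww_sq K' (ks := [2]) (by decide +kernel)) y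
  have hsz := h.comm c21
  rw [← z2]
  set s := cj y (ww K' [2]) with hs
  -- transport of the double centraliser
  have tr : ∀ x ∈ C.L, x * x = 1 → Commute x (ww K [1]) →
      (∀ w ∈ C.L, w * w = 1 → Commute w (ww K [1]) → Commute w s → Commute x w) →
      ∃ ks ∈ L8, x = cj y (ww K' ks) := by
    intro x hx hx2 hxz hxc
    obtain ⟨ks, hks, e⟩ := D8 K' (hi.mem H hx hx2 hxz) (by
      intro w hw hw2 hwz hw2'
      rw [z1] at hwz
      rw [← cj_commute_iff (g := y), cj_cj_inv]
      exact hxc _ (h.mem H hw hw2 hwz) (cj_sq hw2 y) (h.comm hwz) (cj_commute hw2' y))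
    exact ⟨ks, hks, by rw [← e, cj_cj_inv]⟩
  -- the third involution
  have h3L := h.mem H (ww_mem K' [3]) (ww_sq K' (by decide +kernel)) c31
  have h3c : ∀ w ∈ C.L, w * w = 1 → Commute w (ww K [1]) → Commute w s → Commute (cj y (ww K' [3])) w := by
    intro w hw hw2 hwz hws
    rw [← cj_commute_iff (g := y⁻¹), cj_inv_cj]
    have m := hi.mem H hw hw2 hwz
    have a1 : Commute (cj y⁻¹ w) (ww K' [1]) := by rw [z1]; exact hi.comm hwz
    have a2 : Commute (cj y⁻¹ w) (ww K' [2]) := by
      have := cj_commute hws y⁻¹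
      rwa [hs, cj_inv_cj] at this
    exact (commute_three K' m a1 a2).symm
  have kill4 : ¬ (cj y (ww K' [3]) = 1 ∨ cj y (ww K' [3]) = ww K [1] ∨ cj y (ww K' [3]) = s ∨
      cj y (ww K' [3]) = ww K [1] * s) := by
    rintro (e | e | e | e)
    · have : ww K' [3] = ww K' [] := by rw [ww_nil]; exact cj_inj (g := y) (by rw [e, cj_one])
      exact ww_ne K' (by decide) (by decide) ⟨8, by norm_num, by decide +kernel⟩ this
    · have : ww K' [3] = ww K' [1] := cj_inj (g := y) (by rw [e, z1, h.z])
      exact ww_ne K' (by decide) (by decide) ⟨8, by norm_num, by decide +kernel⟩ this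
    · have : ww K' [3] = ww K' [2] := cj_inj (g := y) e
      exact ww_ne K' (by decide) (by decide) ⟨8, by norm_num, by decide +kernel⟩ this
    · have e12 : ww K' [1, 2] = ww K' [1] * ww K' [2] := by rw [ww_mul]; rfl
      have : ww K' [3] = ww K' [1, 2] := cj_inj (g := y) (by rw [e, e12, cj_mul, z1, h.z])
      exact ww_ne K' (by decide) (by decide) ⟨8, by norm_num, by decide +kernel⟩ this
  have s1 : s ≠ 1 := by
    intro e
    have : ww K' [2] = ww K' [] := by rw [ww_nil]; exact cj_inj (g := y) (by rw [← hs, e, cj_one])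
    exact ww_ne K' (by decide) (by decide) ⟨16, by norm_num, by decide +kernel⟩ this
  have sz : s ≠ ww K [1] := by
    intro e
    have : ww K' [2] = ww K' [1] := cj_inj (g := y) (by rw [← hs, e, z1, h.z])
    exact ww_ne K' (by decide) (by decide) ⟨16, by norm_num, by decide +kernel⟩ this
  -- no `a2`
  have noa2 : ∀ K2 : Coord C.S, ¬ (s = ww K2 [1, 2, 3] ∨ s * ww K [1] = ww K2 [1, 2, 3]) := by
    intro K2 hK2
    have hzs : Commute (ww K [1]) s := hsz.symm
    have hcz : Commute (C.b (vec K 1)) (ww K2 [1, 2, 3]) := by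
      rw [← zb]
      rcases hK2 with e | e <;> rw [← e]
      · exact hzs
      · exact hzs.mul_right (Commute.refl _)
    have hd := DC_any K2 hu hcz
    rw [← zb] at hd
    rcases hd _ h3L (by
      intro w hw hw2 hwl hwz
      apply h3c w hw hw2 hwz
      rcases hK2 with e | e
      · rw [e]; exact hwl
      · have e' : s = ww K2 [1, 2, 3] * ww K [1] := by rw [← e, mul_assoc, zsq, mul_one]
        rw [e']; exact hwl.mul_right hwz) with e | e | e | e
    · exact kill4 (Or.inl e)
    · exact kill4 (Or.inr (Or.inl e))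
    · rcases hK2 with e' | e'
      · exact kill4 (Or.inr (Or.inr (Or.inl (e.trans e'.symm))))
      · exact kill4 (Or.inr (Or.inr (Or.inr (e.trans (e'.symm.trans hzs.eq.symm)))))
    · rcases hK2 with e' | e'
      · rw [← e'] at e; exact kill4 (Or.inr (Or.inr (Or.inr e)))
      · rw [← e', hsz.eq, ← mul_assoc, zsq, one_mul] at e
        exact kill4 (Or.inr (Or.inr (Or.inl e)))
  have a2word : ∀ x : C.L, (∃ l, l * x * l⁻¹ = w K [1, 2, 3]) → ∃ K2 : Coord C.S, (x : G) = ww K2 [1, 2, 3] := by
    rintro x ⟨l, hl⟩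
    obtain ⟨K2, hK2⟩ := exists_frame_conj K l⁻¹
    have h1 := w_move K hK2 [1, 2, 3]
    refine ⟨K2, ?_⟩
    have : x = w K2 [1, 2, 3] := by rw [← h1, ← hl]; group
    exact congrArg Subtype.val this
  rcases classify K (x := (⟨s, hsL⟩ : C.L)) (Subtype.ext hs2) (fun e => s1 (congrArg Subtype.val e)) with
    hl | ⟨r, hr, hrv⟩
  · obtain ⟨K2, e⟩ := a2word _ hl
    exact (noa2 K2 (Or.inl e)).elim
  · have cz : Commute (C.S.τ (vec K 1)) (⟨s, hsL⟩ : C.L) := by
      apply coe_commute.1
      change Commute (C.b (vec K 1)) s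
      rw [← zb]; exact hsz.symm
    have hfu : C.S.ρ (⟨s, hsL⟩ : C.L) (vec K 1) = vec K 1 := C.S.fix_of_τ_commute cz
    have hru : r ≠ vec K 1 := by
      rintro rfl
      have hR := hrv.mul_tau hfu
      rw [show vec K 1 + vec K 1 = 0 from by rw [← vec_xor]; exact vec_zero K] at hR
      have hv : (((⟨s, hsL⟩ : C.L) * C.S.τ (vec K 1) : C.L) : G) = s * ww K [1] := by rw [zb]; rfl
      rcases classify K (x := (⟨s, hsL⟩ : C.L) * C.S.τ (vec K 1)) (by
          apply Subtype.ext
          change s * C.b (vec K 1) * (s * C.b (vec K 1)) = 1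
          rw [← zb]
          calc s * ww K [1] * (s * ww K [1]) = s * (ww K [1] * s) * ww K [1] := by group
            _ = (s * s) * (ww K [1] * ww K [1]) := by rw [← hsz.eq]; group
            _ = 1 := by rw [hs2, zsq, one_mul]) (by
          intro e
          apply sz
          have e2 : s * ww K [1] = 1 := by rw [← hv, e]; rfl
          calc s = s * ww K [1] * ww K [1] := by rw [mul_assoc, zsq, mul_one]
            _ = ww K [1] := by rw [e2, one_mul]) with hl | ⟨r', hr', hrv'⟩
      · obtain ⟨K2, e⟩ := a2word _ hl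
        rw [hv] at e
        exact noa2 K2 (Or.inr e)
      · exact hr' (hrv'.unique hR)
    have hBru : C.S.B r (vec K 1) = 0 := by
      rw [← C.b_commute_iff]
      have h2 : C.S.ρ (C.S.τ (vec K 1)) r = r := hrv.fix cz
      exact (coe_commute.2 (C.S.τ_commute_of_fix h2))
    have hBru' : C.S.B (vec K 1) r = 0 := by rw [C.S.symm]; exact hBru
    -- the two transvections
    have t1 := tr (C.b r) (C.b_mem r) (C.b_sq r) (by rw [zb, C.b_commute_iff]; exact hBru) (by
      intro w hw hw2 hwz hws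
      exact coe_commute.2 (C.S.τ_commute_of_fix (hrv.fix (g := (⟨w, hw⟩ : C.L)) (coe_commute.1 hws))))
    have t2 := tr (C.b (r + vec K 1)) (C.b_mem _) (C.b_sq _) (by
        rw [zb, C.b_commute_iff, map_add, LinearMap.add_apply, hBru, zero_add]; exact C.S.alt _) (by
      intro w hw hw2 hwz hws
      have e1 : C.S.ρ (⟨w, hw⟩ : C.L) r = r := hrv.fix (coe_commute.1 hws)
      have e2 : C.S.ρ (⟨w, hw⟩ : C.L) (vec K 1) = vec K 1 := by
        apply C.S.fix_of_τ_commute
        apply coe_commute.1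
        change Commute (C.b (vec K 1)) w
        rw [← zb]; exact hwz.symm
      have e3 : C.S.ρ (⟨w, hw⟩ : C.L) (r + vec K 1) = r + vec K 1 := by rw [map_add, e1, e2]
      exact coe_commute.2 (C.S.τ_commute_of_fix e3))
    obtain ⟨a, ha, ea⟩ := t1
    obtain ⟨b, hb, eb⟩ := t2
    have hru0 : r + vec K 1 ≠ 0 := by
      intro e
      exact hru (eq_of_add _ _ e)
    have hneu : r + vec K 1 ≠ vec K 1 := by
      intro e
      exact hr (by simpa using e)
    -- `b_r b_{r+u} ≠ b_u`
    obtain ⟨c, hc, rfl⟩ := exists_vec K r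
    have hcf : Sp.fN c 1 = false := fN_of_zero K hBru
    have hc0 : c ≠ 0 := by rintro rfl; exact hr (vec_zero K)
    have hc1 : c ≠ 1 := by rintro rfl; exact hru rfl
    have hbb : C.b (vec K c) * C.b (vec K c + vec K 1) ≠ ww K [1] := by
      intro e
      apply two_ne K hc hcf hc0 hc1 (vec K c + vec K 1)
      have hcc : Commute (C.b (vec K c)) (ww K [1]) := by rw [zb, C.b_commute_iff]; exact hBru
      calc ww K [1, c] = ww K [1] * C.b (vec K c) := by rw [ww_cons, b_eq, b_eq]
        _ = C.b (vec K c) * ww K [1] := hcc.eq.symm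
        _ = C.b (vec K c) * (C.b (vec K c) * C.b (vec K c + vec K 1)) := by rw [e]
        _ = C.b (vec K c + vec K 1) := by rw [← mul_assoc, C.b_sq, one_mul]
    have hbb1 : C.b (vec K c) * C.b (vec K c + vec K 1) ≠ 1 := by
      intro e
      apply hneu
      have e1 : C.b (vec K c) = C.b (vec K c + vec K 1) := by
        calc C.b (vec K c) = C.b (vec K c) * (C.b (vec K c + vec K 1) * C.b (vec K c + vec K 1)) := by
              rw [C.b_sq, mul_one]
          _ = C.b (vec K c + vec K 1) := by rw [← mul_assoc, e, one_mul]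
      have e2 := C.b_inj e1
      have : vec K 1 = 0 := by
        have := e2.symm
        simpa using this
      exact absurd this hu
    have eq1 : ∀ ks : List ℕ, eqB ks [] = true → cj y (ww K' ks) = 1 := by
      intro ks e; rw [ww_one K' e, cj_one]
    have eq2 : ∀ ks : List ℕ, eqB ks [1] = true → cj y (ww K' ks) = ww K [1] := by
      intro ks e; rw [ww_eq K' e, z1, h.z]
    have fls : ∀ b : Bool, (b = true → False) → b = false := by intro b; cases b <;> simp
    have eab : C.b (vec K c) * C.b (vec K c + vec K 1) = cj y (ww K' (a ++ b)) := by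
      rw [ea, eb, ← cj_mul, ww_mul]
    have hcand := cands_spec a ha b hb
      (fls _ fun e => b_ne_one hr (ea.trans (eq1 a e)))
      (fls _ fun e => hru (C.b_inj ((ea.trans (eq2 a e)).trans zb)))
      (fls _ fun e => b_ne_one hru0 (eb.trans (eq1 b e)))
      (fls _ fun e => hneu (C.b_inj ((eb.trans (eq2 b e)).trans zb)))
      (fls _ fun e => hbb1 (eab.trans (eq1 _ e)))
      (fls _ fun e => hbb (eab.trans (eq2 _ e)))
    rw [List.any_eq_true] at hcand
    obtain ⟨ks, hks, hB⟩ := hcand
    have hsk : s = cj y (ww K' ks) := by rw [hs, ww_eq K' hB]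
    have e1 : ∀ ls : List ℕ, cj y (ww K' ([1] ++ ls)) = ww K [1] * cj y (ww K' ls) := by
      intro ls; rw [← ww_mul, cj_mul, z1, h.z]
    -- comparison of the canonical vectors
    have cmp : ∀ (x : C.L) (r' : V), (x : G) = s → Rv C.S x r' → vec K c = r' := by
      intro x r' hx hR
      have : x = (⟨s, hsL⟩ : C.L) := Subtype.ext hx
      subst this
      exact hrv.unique hR
    have uu : vec K 1 + vec K 1 = 0 := by rw [← vec_xor]; exact vec_zero K
    have hB1 : C.S.B (vec K c) (vec K c + vec K 1) = 0 := by rw [map_add, C.S.alt, hBru, zero_add]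
    simp only [cands, List.mem_cons, List.not_mem_nil, or_false] at hks
    rcases hks with rfl | rfl | rfl | rfl | rfl | rfl
    · refine ⟨false, c, hc, hcf, hc0, hc1, ?_⟩
      rw [hsk, ← ea, b_eq]; rfl
    · exfalso
      have hx : ((C.S.τ (vec K 1) * C.S.τ (vec K c) : C.L) : G) = s := by
        rw [hsk, e1, ← ea, zb]; rfl
      have := cmp _ _ hx (Rv_two hBru')
      exact hu (by simpa using this)
    · exfalso
      have hx : ((C.S.τ (vec K c + vec K 1) : C.L) : G) = s := by
        rw [hsk, ← eb]; rfl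
      have := cmp _ _ hx (Rv_tau _)
      exact hu (by simpa using this)
    · refine ⟨true, c ^^^ 1, xor_lt hc (by norm_num), ?_, ?_, ?_, ?_⟩
      · apply fN_of_zero K
        rw [vec_xor, map_add, LinearMap.add_apply, hBru, C.S.alt, zero_add]
      · intro e
        have : c = 1 := by simpa using Nat.xor_eq_zero_iff.1 e
        exact hc1 this
      · intro e
        apply hc0
        have : c ^^^ 1 ^^^ 1 = 1 ^^^ 1 := by rw [e]
        rwa [Nat.xor_assoc, Nat.xor_self, Nat.xor_zero] at this
      · rw [hsk, e1, ← eb]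
        have e12 : ww K [1, c ^^^ 1] = ww K [1] * ww K [c ^^^ 1] := by rw [ww_mul]; rfl
        change _ = ww K [1, c ^^^ 1]
        rw [e12, ← b_eq K (c ^^^ 1), vec_xor]
    · exfalso
      have hx : ((C.S.τ (vec K c) * C.S.τ (vec K c + vec K 1) : C.L) : G) = s := by
        rw [hsk, ← eab]; rfl
      have h4 := cmp _ _ hx (Rv_two hB1)
      have h5 : vec K c + (vec K c + vec K 1) = vec K 1 := by
        rw [← add_assoc, ← vec_xor, Nat.xor_self, vec_zero, zero_add]
      exact hru (h4.trans h5)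
    · exfalso
      have hx : ((C.S.τ (vec K c) * C.S.τ (vec K c + vec K 1) * C.S.τ (vec K 1) : C.L) : G) = s := by
        rw [hsk, e1, ← eab]
        have hcc : Commute (ww K [1]) (C.b (vec K c) * C.b (vec K c + vec K 1)) := by
          rw [zb]
          apply Commute.mul_right
          · rw [C.b_commute_iff]; exact hBru'
          · rw [C.b_commute_iff, map_add, hBru', C.S.alt, zero_add]
        rw [hcc.eq, zb]; rfl
      have h6 : C.S.ρ (C.S.τ (vec K c) * C.S.τ (vec K c + vec K 1)) (vec K 1) = vec K 1 := by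
        apply C.S.fix_of_τ_commute
        apply Commute.mul_right
        · exact C.S.τ_commute hBru'
        · exact C.S.τ_commute (by rw [map_add, hBru', C.S.alt, zero_add])
      have h4 := cmp _ _ hx ((Rv_two hB1).mul_tau h6)
      have h5 : vec K c + (vec K c + vec K 1) + vec K 1 = 0 := by
        rw [← add_assoc, ← vec_xor, Nat.xor_self, vec_zero, zero_add, uu]
      exact hr (h4.trans h5)

end Cfsg.Agent.StdSpSix.AllNfEx
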