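import Cfsg.Agent.StdSpSix.AllNfEx

/-!
# Pattern `ALL`: existence of a normal form of a swap of `t` and `t b_u`, second part
-/

set_option autoImplicit false
set_option maxHeartbeats 400000

namespace Cfsg.Agent.StdSpSix.AllNfFin

open Cfsg.Agent.StandardComponent.SpTwo
open Cfsg.Agent.SporRec.TwoSp6
open Cfsg.Agent.StdSpSix.Words Cfsg.Agent.StdSpSix.Model Cfsg.Agent.StdSpSix.AllCode Cfsg.Agent.StdSpSix.AllFacts
open Cfsg.Agent.StdSpSix.AllFactsTwo Cfsg.Agent.StdSpSix.AllBase Cfsg.Agent.StdSpSix.AllSwapA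
open Cfsg.Agent.StdSpSix.AllSwapB Cfsg.Agent.StdSpSix.AllSwapC Cfsg.Agent.StdSpSix.AllSwapD
open Cfsg.Agent.StdSpSix.AllNf Cfsg.Agent.StdSpSix.AllNfEx

variable {G V : Type*} [Group G] [AddCommGroup V] [Module (ZMod 2) V] {C : Ctx G V} {y : G} (K : Coord C.S)

theorem braid0 : (allB fun k => allB fun l => impB (Sp.fN k l) (wc [k, l] k == l)) = true := by decide +kernel

theorem braid {k l : ℕ} (hk : k < 64) (hl : l < 64) (h : Sp.fN k l = true) : wc [k, l] k = l :=
  eq_of_beq (impB_spec (allB_spec (allB_spec braid0 hk) hl) h)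

theorem type_aux {k l c c' : ℕ} (hk : k < 64) (hl : l < 64) (h : Sp.fN k l = true) (hc : c < 64) (hc' : c' < 64)
    (h1 : Sp.fN c' 1 = false) (h0 : c' ≠ 0) (hne : c' ≠ 1) (e : cj y (ww K [k]) = ww K [c])
    (e' : cj y (ww K [l]) = ww K [1, c']) : False := by
  have hkl : ∀ k' ∈ [k, l], k' < 64 := by
    intro k' hk'
    simp only [List.mem_cons, List.not_mem_nil, or_false] at hk'
    rcases hk' with rfl | rfl
    · exact hk
    · exact hl
  have h2 : cj (ww K [k, l]) (ww K [k]) = ww K [l] := by rw [cj_ww K hkl hk, braid hk hl h]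
  have hx : cj y (ww K [k, l]) = ww K [c, 1, c'] := by
    have e1 : ww K [k, l] = ww K [k] * ww K [l] := by rw [ww_mul]; rfl
    rw [e1, cj_mul, e, e', ww_mul]; rfl
  have h3 : cj (ww K [c, 1, c']) (ww K [c]) = ww K [1, c'] := by
    rw [← hx, ← e, cj_comp, h2, e']
  rw [cj_ww K (by
    intro k' hk'
    simp only [List.mem_cons, List.not_mem_nil, or_false] at hk'
    rcases hk' with rfl | rfl | rfl
    · exact hc
    · norm_num
    · exact hc') hc, ← b_eq] at h3
  exact two_ne K hc' h1 h0 hne _ h3.symm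

/-- the sign of two non-orthogonal transvections is the same -/
theorem same_type {k l c c' : ℕ} {X X' : Bool} (hk : k < 64) (hl : l < 64) (h : Sp.fN k l = true) (hc : c < 64)
    (hc' : c' < 64) (p : Sp.fN c 1 = false ∧ c ≠ 0 ∧ c ≠ 1) (p' : Sp.fN c' 1 = false ∧ c' ≠ 0 ∧ c' ≠ 1)
    (e : cj y (ww K [k]) = ww K (nfw X c)) (e' : cj y (ww K [l]) = ww K (nfw X' c')) : X = X' := by
  cases X <;> cases X'
  · rfl
  · exact (type_aux K hk hl h hc hc' p'.1 p'.2.1 p'.2.2 e e').elim
  · have h' : Sp.fN l k = true := by rw [fN_symm l hl k hk]; exact h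
    exact (type_aux K hl hk h' hc' hc p.1 p.2.1 p.2.2 e' e).elim
  · rfl

theorem comm_cancel {z a b : G} (hz : z * z = 1) (hzb : Commute z b) : Commute (z * a) b ↔ Commute a b := by
  constructor
  · intro h
    have h1 := hzb.mul_left h
    rwa [← mul_assoc, hz, one_mul] at h1
  · intro h
    exact hzb.mul_left h

theorem nfw_true (c : ℕ) : ww K (nfw true c) = ww K [1] * ww K [c] := by
  change ww K [1, c] = _
  rw [ww_mul]; rfl

theorem nfw_false (c : ℕ) : ww K (nfw false c) = ww K [c] := rfl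

theorem z_sq : ww K [1] * ww K [1] = 1 := by rw [← b_eq]; exact C.b_sq _

theorem nf_commute {X X' : Bool} {c c' : ℕ} (hc : c < 64) (hc' : c' < 64) (h : Sp.fN c 1 = false)
    (h' : Sp.fN c' 1 = false) :
    Commute (ww K (nfw X c)) (ww K (nfw X' c')) ↔ Sp.fN c c' = false := by
  have zc : Commute (ww K [1]) (ww K [c]) := by
    rw [single_commute, fN_symm 1 (by norm_num) c hc]; exact h
  have zc' : Commute (ww K [1]) (ww K [c']) := by
    rw [single_commute, fN_symm 1 (by norm_num) c' hc']; exact h'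
  have sym : ∀ a b : G, Commute a b ↔ Commute b a := fun a b => ⟨fun h => h.symm, fun h => h.symm⟩
  cases X <;> cases X'
  · rw [nfw_false, nfw_false, single_commute]
  · rw [nfw_false, nfw_true, sym, comm_cancel (z_sq K) zc, sym, single_commute]
  · rw [nfw_false, nfw_true, comm_cancel (z_sq K) zc', single_commute]
  · rw [nfw_true, nfw_true, comm_cancel (z_sq K) ((Commute.refl _).mul_right zc'), sym,
      comm_cancel (z_sq K) zc, sym, single_commute]

theorem cj_nf {p : List ℕ} (hp : pB [1] p = true) {X : Bool} {c : ℕ} (hc : c < 64) :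
    cj (ww K p) (ww K (nfw X c)) = ww K (nfw X (wc p c)) := by
  have h1 : cj (ww K p) (ww K [1]) = ww K [1] := by
    rw [cj_ww K (pB_lt hp) (by norm_num), wc_fix hp (by simp) 1 (by simp)]
  cases X
  · rw [nfw_false, nfw_false, cj_ww K (pB_lt hp) hc]
  · rw [nfw_true, nfw_true, cj_mul, h1, cj_ww K (pB_lt hp) hc]

theorem Sw.word (h : Sw C (ww K [1]) y) {p : List ℕ} (hp : pB [1] p = true) : Sw C (ww K [1]) (ww K p * y) := by
  apply h.mul_left (ww_t K p)
  rw [← cj_eq_iff, cj_ww K (pB_lt hp) (by norm_num), wc_fix hp (by simp) 1 (by simp)]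

/-- the orthogonality relations are preserved -/
theorem fN_img {k l c c' : ℕ} {X X' : Bool} (hc : c < 64) (hc' : c' < 64) (p : Sp.fN c 1 = false)
    (p' : Sp.fN c' 1 = false) (e : cj y (ww K [k]) = ww K (nfw X c)) (e' : cj y (ww K [l]) = ww K (nfw X' c')) :
    Sp.fN c c' = Sp.fN k l := by
  have h1 : Commute (ww K (nfw X c)) (ww K (nfw X' c')) ↔ Commute (ww K [k]) (ww K [l]) := by
    rw [← e, ← e', cj_commute_iff]
  rw [nf_commute K hc hc' p p', single_commute] at h1
  cases h2 : Sp.fN c c' <;> cases h3 : Sp.fN k l <;> simp [h2, h3] at h1 ⊢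

theorem T_one : ∀ T ∈ [T1, T2, T3, T4], ∀ ks ∈ T, pB [1] ks = true := by decide +kernel

theorem exists_base (H : All C) : ∃ y, Sw C (ww K [1]) y ∧ (∃ X, cj y (ww K [2]) = ww K (nfw X 2)) ∧
    (∃ X, cj y (ww K [16]) = ww K (nfw X 16)) ∧ (∃ X, cj y (ww K [4]) = ww K (nfw X 4)) ∧
    (∃ X, cj y (ww K [32]) = ww K (nfw X 32)) := by
  obtain ⟨y, hyt, hyb⟩ := exists_swap_b K H
  have h : Sw C (ww K [1]) y := ⟨hyt, hyb⟩
  -- a step
  have step : ∀ (y : G), Sw C (ww K [1]) y → ∀ (p : List ℕ), pB [1] p = true → ∀ (k c : ℕ) (X : Bool), c < 64 →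
      cj y (ww K [k]) = ww K (nfw X c) → cj (ww K p * y) (ww K [k]) = ww K (nfw X (wc p c)) := by
    intro y _ p hp k c X hc e
    rw [← cj_cj, e, cj_nf K hp hc]
  -- 2
  obtain ⟨X2, a, ha, a1, a0, an, ea⟩ := img_u K H h (k := 2) (by norm_num) (by decide) (by norm_num) (by norm_num)
  obtain ⟨p1, m1, w1⟩ := dT1 a ha a1 a0 an
  have q1 := T_one T1 (by simp) p1 m1
  have e2 := step y h p1 q1 2 a X2 ha ea
  rw [w1] at e2
  have h1 := Sw.word K h q1
  clear ea
  generalize ww K p1 * y = y1 at e2 h1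
  -- 16
  obtain ⟨X16, b, hb, b1, b0, bn, eb⟩ := img_u K H h1 (k := 16) (by norm_num) (by decide) (by norm_num) (by norm_num)
  have fb := fN_img K hb (show (2 : ℕ) < 64 by norm_num) b1 (by decide) eb e2
  obtain ⟨p2, m2, w2⟩ := dT2 b hb b1 (by rw [fb]; decide)
  have q2 := T_one T2 (by simp) p2 m2
  have f2 := wc_fix (dT2' p2 m2) (by intro l hl; simp only [List.mem_cons, List.not_mem_nil, or_false] at hl; omega)
  have e2' := step y1 h1 p2 q2 2 2 X2 (by norm_num) e2
  rw [f2 2 (by decide)] at e2'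
  have e16 := step y1 h1 p2 q2 16 b X16 hb eb
  rw [w2] at e16
  have h2 := Sw.word K h1 q2
  clear eb e2 h1
  generalize ww K p2 * y1 = y2 at e2' e16 h2
  -- 4
  obtain ⟨X4, c, hc, c1, c0, cn, ec⟩ := img_u K H h2 (k := 4) (by norm_num) (by decide) (by norm_num) (by norm_num)
  have fc2 := fN_img K hc (show (2 : ℕ) < 64 by norm_num) c1 (by decide) ec e2'
  have fc16 := fN_img K hc (show (16 : ℕ) < 64 by norm_num) c1 (by decide) ec e16
  obtain ⟨p3, m3, w3⟩ := dT3 c hc (by
    unfold qB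
    rw [show Sp.fN 4 2 = false from by decide] at fc2
    rw [show Sp.fN 4 16 = false from by decide] at fc16
    simp [c1, fc2, fc16]) c0 cn
  have q3 := T_one T3 (by simp) p3 m3
  have f3 := wc_fix (dT3' p3 m3) (by intro l hl; simp only [List.mem_cons, List.not_mem_nil, or_false] at hl; omega)
  have e2'' := step y2 h2 p3 q3 2 2 X2 (by norm_num) e2'
  rw [f3 2 (by decide)] at e2''
  have e16' := step y2 h2 p3 q3 16 16 X16 (by norm_num) e16
  rw [f3 16 (by decide)] at e16'
  have e4 := step y2 h2 p3 q3 4 c X4 hc ec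
  rw [w3] at e4
  have h3 := Sw.word K h2 q3
  clear ec e2' e16 h2
  generalize ww K p3 * y2 = y3 at e2'' e16' e4 h3
  -- 32
  obtain ⟨X32, d, hd, d1, d0, dn, ed⟩ := img_u K H h3 (k := 32) (by norm_num) (by decide) (by norm_num) (by norm_num)
  have fd2 := fN_img K hd (show (2 : ℕ) < 64 by norm_num) d1 (by decide) ed e2''
  have fd16 := fN_img K hd (show (16 : ℕ) < 64 by norm_num) d1 (by decide) ed e16'
  have fd4 := fN_img K hd (show (4 : ℕ) < 64 by norm_num) d1 (by decide) ed e4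
  obtain ⟨p4, m4, w4⟩ := dT4 d hd (by
    unfold qB
    rw [show Sp.fN 32 2 = false from by decide] at fd2
    rw [show Sp.fN 32 16 = false from by decide] at fd16
    rw [show Sp.fN 32 4 = true from by decide] at fd4
    simp [d1, fd2, fd16, fd4])
  have q4 := T_one T4 (by simp) p4 m4
  have f4 := wc_fix (dT4' p4 m4) (by intro l hl; simp only [List.mem_cons, List.not_mem_nil, or_false] at hl; omega)
  refine ⟨ww K p4 * y3, Sw.word K h3 q4, ⟨X2, ?_⟩, ⟨X16, ?_⟩, ⟨X4, ?_⟩, ⟨X32, ?_⟩⟩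
  · have := step y3 h3 p4 q4 2 2 X2 (by norm_num) e2''
    rwa [f4 2 (by decide)] at this
  · have := step y3 h3 p4 q4 16 16 X16 (by norm_num) e16'
    rwa [f4 16 (by decide)] at this
  · have := step y3 h3 p4 q4 4 4 X4 (by norm_num) e4
    rwa [f4 4 (by decide)] at this
  · have := step y3 h3 p4 q4 32 d X32 hd ed
    rwa [w4] at this

theorem near0 : (allB fun k => allB fun c => impB (!Sp.fN k 1 && !Sp.fN c 1 && (Sp.fN c 2 == Sp.fN k 2) &&
    (Sp.fN c 16 == Sp.fN k 16) && (Sp.fN c 4 == Sp.fN k 4) && (Sp.fN c 32 == Sp.fN k 32))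
    ((c == k) || (c == k ^^^ 1))) = true := by decide +kernel

theorem near {k c : ℕ} (hk : k < 64) (hc : c < 64) (h1 : Sp.fN k 1 = false) (h1' : Sp.fN c 1 = false)
    (h2 : Sp.fN c 2 = Sp.fN k 2) (h16 : Sp.fN c 16 = Sp.fN k 16) (h4 : Sp.fN c 4 = Sp.fN k 4)
    (h32 : Sp.fN c 32 = Sp.fN k 32) : c = k ∨ c = k ^^^ 1 := by
  have := impB_spec (allB_spec (allB_spec near0 hk) hc) (by
    rw [h1, h1', h2, h16, h4, h32]; simp)
  simpa using this

theorem exists_nf (H : All C) : ∃ X d y, Nf K X d y := by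
  obtain ⟨y, h, ⟨X2, e2⟩, ⟨X16, e16⟩, ⟨X4, e4⟩, ⟨X32, e32⟩⟩ := exists_base K H
  have gen : ∀ k < 64, Sp.fN k 1 = false → k ≠ 0 → k ≠ 1 → ∃ X c, (c = k ∨ c = k ^^^ 1) ∧ c < 64 ∧
      (Sp.fN c 1 = false ∧ c ≠ 0 ∧ c ≠ 1) ∧ cj y (ww K [k]) = ww K (nfw X c) := by
    intro k hk h1 h0 hn
    obtain ⟨X, c, hc, c1, c0, cn, e⟩ := img_u K H h hk h1 h0 hn
    refine ⟨X, c, near hk hc h1 c1 ?_ ?_ ?_ ?_, hc, ⟨c1, c0, cn⟩, e⟩
    · exact fN_img K hc (by norm_num) c1 (by decide) e e2
    · exact fN_img K hc (by norm_num) c1 (by decide) e e16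
    · exact fN_img K hc (by norm_num) c1 (by decide) e e4
    · exact fN_img K hc (by norm_num) c1 (by decide) e e32
  have inj : ∀ {a b : ℕ} {ls : List ℕ}, a < 64 → b < 64 → cj y (ww K [a]) = ww K ls → cj y (ww K [b]) = ww K ls →
      a = b := fun ha hb e e' => single_inj K ha hb (cj_inj (e.trans e'.symm))
  have p : ∀ k ∈ [2, 3, 16, 17, 4, 5, 32, 33, 6, 7], k < 64 ∧ Sp.fN k 1 = false ∧ k ≠ 0 ∧ k ≠ 1 := by
    decide +kernel
  have st : ∀ {k l : ℕ} {X X' : Bool} {c c' : ℕ}, k ∈ [2, 3, 16, 17, 4, 5, 32, 33, 6, 7] →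
      l ∈ [2, 3, 16, 17, 4, 5, 32, 33, 6, 7] → Sp.fN k l = true → c < 64 → c' < 64 →
      (Sp.fN c 1 = false ∧ c ≠ 0 ∧ c ≠ 1) → (Sp.fN c' 1 = false ∧ c' ≠ 0 ∧ c' ≠ 1) →
      cj y (ww K [k]) = ww K (nfw X c) → cj y (ww K [l]) = ww K (nfw X' c') → X = X' := by
    intro k l X X' c c' hk hl hf hc hc' pc pc' e e'
    exact same_type K (p k hk).1 (p l hl).1 hf hc hc' pc pc' e e'
  have x2 : X2 = X16 := st (by decide) (by decide) (by decide) (by norm_num) (by norm_num) (by decide) (by decide) e2 e16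
  subst x2
  obtain ⟨X3, c3, n3, l3, p3, e3⟩ := gen 3 (by norm_num) (by decide) (by norm_num) (by norm_num)
  have x3 : X3 = X2 := st (by decide) (by decide) (by decide) l3 (by norm_num) p3 (by decide) e3 e16
  subst x3
  obtain ⟨X17, c17, n17, l17, p17, e17⟩ := gen 17 (by norm_num) (by decide) (by norm_num) (by norm_num)
  have x17 : X17 = X3 := st (by decide) (by decide) (by decide) l17 (by norm_num) p17 (by decide) e17 e2
  subst x17
  obtain ⟨X6, c6, n6, l6, p6, e6⟩ := gen 6 (by norm_num) (by decide) (by norm_num) (by norm_num)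
  have x6 : X6 = X17 := st (by decide) (by decide) (by decide) l6 (by norm_num) p6 (by decide) e6 e16
  subst x6
  obtain ⟨X7, c7, n7, l7, p7, e7⟩ := gen 7 (by norm_num) (by decide) (by norm_num) (by norm_num)
  have x7 : X7 = X6 := st (by decide) (by decide) (by decide) l7 (by norm_num) p7 (by decide) e7 e16
  subst x7
  have x32 : X32 = X7 := st (by decide) (by decide) (by decide) (by norm_num) l6 (by decide) p6 e32 e6
  subst x32
  have x4 : X4 = X32 := st (by decide) (by decide) (by decide) (by norm_num) (by norm_num) (by decide) (by decide) e4 e32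
  subst x4
  obtain ⟨X5, c5, n5, l5, p5, e5⟩ := gen 5 (by norm_num) (by decide) (by norm_num) (by norm_num)
  have x5 : X5 = X4 := st (by decide) (by decide) (by decide) l5 (by norm_num) p5 (by decide) e5 e32
  subst x5
  obtain ⟨X33, c33, n33, l33, p33, e33⟩ := gen 33 (by norm_num) (by decide) (by norm_num) (by norm_num)
  have x33 : X33 = X5 := st (by decide) (by decide) (by decide) l33 (by norm_num) p33 (by decide) e33 e4
  subst x33
  -- the codes
  have d3 : c3 = 3 := by
    rcases n3 with h | h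
    · exact h
    · exfalso
      have h' : c3 = 2 := h
      subst h'
      exact absurd (inj (by norm_num) (by norm_num) e3 e2) (by norm_num)
  have d17 : c17 = 17 := by
    rcases n17 with h | h
    · exact h
    · exfalso
      have h' : c17 = 16 := h
      subst h'
      exact absurd (inj (by norm_num) (by norm_num) e17 e16) (by norm_num)
  have d5 : c5 = 5 := by
    rcases n5 with h | h
    · exact h
    · exfalso
      have h' : c5 = 4 := h
      subst h'
      exact absurd (inj (by norm_num) (by norm_num) e5 e4) (by norm_num)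
  have d33 : c33 = 33 := by
    rcases n33 with h | h
    · exact h
    · exfalso
      have h' : c33 = 32 := h
      subst h'
      exact absurd (inj (by norm_num) (by norm_num) e33 e32) (by norm_num)
  subst d3 d17 d5 d33
  have hv : ∀ k ∈ [2, 3, 16, 17, 4, 5, 32, 33], cj y (ww K [k]) = ww K (nfw X33 k) := by
    intro k hk
    simp only [List.mem_cons, List.not_mem_nil, or_false] at hk
    rcases hk with rfl | rfl | rfl | rfl | rfl | rfl | rfl | rfl
    · exact e2
    · exact e3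
    · exact e16
    · exact e17
    · exact e4
    · exact e5
    · exact e32
    · exact e33
  have n6' : c6 = 6 ∨ c6 = 7 := n6
  have n7' : c7 = 7 ∨ c7 = 6 := n7
  rcases n6' with rfl | rfl
  · rcases n7' with rfl | rfl
    · exact ⟨X33, false, y, h.t, h.z, hv, e6, e7⟩
    · exact absurd (inj (by norm_num) (by norm_num) e6 e7) (by norm_num)
  · rcases n7' with rfl | rfl
    · exact absurd (inj (by norm_num) (by norm_num) e6 e7) (by norm_num)
    · exact ⟨X33, true, y, h.t, h.z, hv, e6, e7⟩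

end Cfsg.Agent.StdSpSix.AllNfFin
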