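import Cfsg.Agent.StdSpSix.AllBase

/-!
# Pattern `ALL`: the action of a swap of `t` and `t λ` on the transvections of `l^⊥`

`Sw C z g`: `t^g = t z`, `z^g = z`.  For `λ = ww K [1,2,3]` and `e` in `l^⊥` the element `g b_e g⁻¹` is a transvection;
`g` permutes the transvections of `l` and those of `l^⊥` outside `l`.
-/

set_option autoImplicit false
set_option maxHeartbeats 400000

namespace Cfsg.Agent.StdSpSix.AllSwapA

open Cfsg.Agent.StandardComponent.SpTwo
open Cfsg.Agent.SporRec.TwoSp6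
open Cfsg.Agent.StdSpSix.Words Cfsg.Agent.StdSpSix.Model Cfsg.Agent.StdSpSix.AllCode Cfsg.Agent.StdSpSix.AllFacts
open Cfsg.Agent.StdSpSix.AllFactsTwo Cfsg.Agent.StdSpSix.AllBase

section Conj

variable {G : Type*} [Group G]

/-- conjugation -/
def cj (g x : G) : G := g * x * g⁻¹

theorem cj_mul (g x y : G) : cj g (x * y) = cj g x * cj g y := by unfold cj; group
theorem cj_cj (g h x : G) : cj g (cj h x) = cj (g * h) x := by unfold cj; group
theorem cj_one (g : G) : cj g 1 = 1 := by unfold cj; group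
theorem one_cj (x : G) : cj 1 x = x := by unfold cj; group
theorem cj_inv_cj (g x : G) : cj g⁻¹ (cj g x) = x := by unfold cj; group
theorem cj_cj_inv (g x : G) : cj g (cj g⁻¹ x) = x := by unfold cj; group
theorem cj_inv (g x : G) : cj g x⁻¹ = (cj g x)⁻¹ := by unfold cj; group

theorem cj_inj {g x y : G} (h : cj g x = cj g y) : x = y := by rw [← cj_inv_cj g x, h, cj_inv_cj]

theorem cj_eq_iff {g x : G} : cj g x = x ↔ Commute g x := by
  unfold cj
  rw [mul_inv_eq_iff_eq_mul]
  exact Iff.rfl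

theorem cj_commute {x y : G} (h : Commute x y) (g : G) : Commute (cj g x) (cj g y) := conj_comm h g

theorem cj_commute_iff {g x y : G} : Commute (cj g x) (cj g y) ↔ Commute x y := by
  refine ⟨fun h => ?_, fun h => cj_commute h g⟩
  have := cj_commute h g⁻¹
  rwa [cj_inv_cj, cj_inv_cj] at this

theorem cj_sq {x : G} (h : x * x = 1) (g : G) : cj g x * cj g x = 1 := conj_sq h g

theorem cj_ne_one {x : G} (h : x ≠ 1) (g : G) : cj g x ≠ 1 := fun h' => h (cj_inj (g := g) (by rw [h', cj_one]))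

end Conj

variable {G V : Type*} [Group G] [AddCommGroup V] [Module (ZMod 2) V] {C : Ctx G V}

/-- `t^g = t z` and `z^g = z` -/
structure Sw (C : Ctx G V) (z g : G) : Prop where
  t : cj g C.t = C.t * z
  z : cj g z = z

variable {z g : G}

theorem Sw.inv (hz2 : z * z = 1) (h : Sw C z g) : Sw C z g⁻¹ := by
  have h1 : cj g⁻¹ z = z := by
    conv_lhs => rw [← h.z]
    exact cj_inv_cj g z
  refine ⟨?_, h1⟩
  have h2 : cj g⁻¹ (C.t * z) = C.t := by rw [← h.t, cj_inv_cj]
  rw [cj_mul, h1] at h2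
  calc cj g⁻¹ C.t = cj g⁻¹ C.t * z * z := by rw [mul_assoc, hz2, mul_one]
    _ = C.t * z := by rw [h2]

theorem Sw.mul_left (h : Sw C z g) {l : G} (hl : Commute l C.t) (hlz : Commute l z) : Sw C z (l * g) := by
  refine ⟨?_, ?_⟩
  · rw [← cj_cj, h.t, cj_mul, cj_eq_iff.2 hl, cj_eq_iff.2 hlz]
  · rw [← cj_cj, h.z, cj_eq_iff.2 hlz]

theorem Sw.mul_right (h : Sw C z g) {l : G} (hl : Commute l C.t) (hlz : Commute l z) : Sw C z (g * l) := by
  refine ⟨?_, ?_⟩
  · rw [← cj_cj, cj_eq_iff.2 hl, h.t]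
  · rw [← cj_cj, cj_eq_iff.2 hlz, h.z]

theorem Sw.comm (h : Sw C z g) {s : G} (hc : Commute s z) : Commute (cj g s) z := by
  have := cj_commute hc g
  rwa [h.z] at this

theorem Sw.mem (H : All C) (h : Sw C z g) {s : G} (hs : s ∈ C.L) (hs2 : s * s = 1) (hc : Commute s z) :
    cj g s ∈ C.L := by
  refine up H h.t ?_ (cj_sq hs2 g) (h.comm hc)
  have := cj_inv_cj g s
  unfold cj at this
  rw [inv_inv] at this
  unfold cj
  rw [this]; exact hs

/-- the double centraliser of `⟨z, b⟩` (as far as seen by involutions) is `⟨z, b⟩` -/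
def DC (C : Ctx G V) (z b : G) : Prop :=
  ∀ x ∈ C.L, (∀ s ∈ C.L, s * s = 1 → Commute s z → Commute s b → Commute x s) → x = 1 ∨ x = b ∨ x = z ∨ x = b * z

theorem DC.move (H : All C) (hz2 : z * z = 1) (h : Sw C z g) {b : G} (hd : DC C z b) {x : G}
    (hx : x ∈ C.L) (hx2 : x * x = 1) (hxz : Commute x z)
    (hc : ∀ s ∈ C.L, s * s = 1 → Commute s z → Commute s (cj g b) → Commute x s) :
    x = 1 ∨ x = cj g b ∨ x = z ∨ x = cj g b * z := by
  have hi := h.inv hz2
  have key : ∀ y, cj g⁻¹ x = y → x = cj g y := fun y hy => by rw [← hy, cj_cj_inv]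
  rcases hd _ (hi.mem H hx hx2 hxz) (by
    intro s hs hs2 hsz hsb
    rw [← cj_commute_iff (g := g), cj_cj_inv]
    exact hc _ (h.mem H hs hs2 hsz) (cj_sq hs2 g) (h.comm hsz) (cj_commute hsb g)) with h1 | h1 | h1 | h1
  · left; rw [key _ h1, cj_one]
  · right; left; exact key _ h1
  · right; right; left; rw [key _ h1, h.z]
  · right; right; right; rw [key _ h1, cj_mul, h.z]

variable (K : Coord C.S)

theorem DC_four : DC C (ww K [1, 2, 3]) (ww K [4]) := by
  intro x hx h
  have hk : ∀ k, k < 64 → eqB [k, k] [] = true → eqB ([k] ++ [1, 2, 3]) ([1, 2, 3] ++ [k]) = true →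
      eqB ([k] ++ [4]) ([4] ++ [k]) = true → cd K (⟨x, hx⟩ : C.L) k = k := by
    intro k hk h1 h2 h3
    exact fix_of_commute K hk (h _ (ww_mem K [k]) (ww_sq K h1) (ww_commute K h2) (ww_commute K h3))
  have hc : ∀ ks, eqB (ks ++ ks) [] = true → eqB (ks ++ [1, 2, 3]) ([1, 2, 3] ++ ks) = true →
      eqB (ks ++ [4]) ([4] ++ ks) = true → Commute (⟨x, hx⟩ : C.L) (w K ks) := by
    intro ks h1 h2 h3
    exact Subtype.ext (h _ (ww_mem K ks) (ww_sq K h1) (ww_commute K h2) (ww_commute K h3))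
  obtain ⟨ks, hks, e⟩ := Ftriple K (hk 1 (by norm_num) (by decide +kernel) (by decide +kernel) (by decide +kernel))
    (hk 2 (by norm_num) (by decide +kernel) (by decide +kernel) (by decide +kernel))
    (hk 4 (by norm_num) (by decide +kernel) (by decide +kernel) (by decide +kernel))
    (hc [1, 16, 17] (by decide +kernel) (by decide +kernel) (by decide +kernel))
    (hc [2, 8, 10] (by decide +kernel) (by decide +kernel) (by decide +kernel))
  have e' : x = ww K ks := congrArg Subtype.val e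
  simp only [F4, List.mem_cons, List.not_mem_nil, or_false] at hks
  rcases hks with rfl | rfl | rfl | rfl
  · left; rw [e', ww_nil]
  · right; left; exact e'
  · right; right; left; exact e'
  · right; right; right; rw [e', ww_mul]; rfl

theorem DC_one : DC C (ww K [1, 2, 3]) (ww K [1]) := by
  intro x hx h
  have hk : ∀ k, k < 64 → eqB [k, k] [] = true → eqB ([k] ++ [1, 2, 3]) ([1, 2, 3] ++ [k]) = true →
      eqB ([k] ++ [1]) ([1] ++ [k]) = true → cd K (⟨x, hx⟩ : C.L) k = k := by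
    intro k hk h1 h2 h3
    exact fix_of_commute K hk (h _ (ww_mem K [k]) (ww_sq K h1) (ww_commute K h2) (ww_commute K h3))
  have hc : ∀ ks, eqB (ks ++ ks) [] = true → eqB (ks ++ [1, 2, 3]) ([1, 2, 3] ++ ks) = true →
      eqB (ks ++ [1]) ([1] ++ ks) = true → Commute (⟨x, hx⟩ : C.L) (w K ks) := by
    intro ks h1 h2 h3
    exact Subtype.ext (h _ (ww_mem K ks) (ww_sq K h1) (ww_commute K h2) (ww_commute K h3))
  rcases ZlamOne K (hk 1 (by norm_num) (by decide +kernel) (by decide +kernel) (by decide +kernel))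
    (hk 2 (by norm_num) (by decide +kernel) (by decide +kernel) (by decide +kernel))
    (hk 4 (by norm_num) (by decide +kernel) (by decide +kernel) (by decide +kernel))
    (hk 32 (by norm_num) (by decide +kernel) (by decide +kernel) (by decide +kernel))
    (hc [1, 16, 17] (by decide +kernel) (by decide +kernel) (by decide +kernel)) with e | e | e | e
  · left; exact congrArg Subtype.val e
  · right; left; exact congrArg Subtype.val e
  · right; right; left; exact congrArg Subtype.val e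
  · right; right; right
    rw [ww_mul]
    have h1 : ww K ([1] ++ [1, 2, 3]) = ww K [2, 3] := ww_eq K (by decide +kernel)
    rw [h1]
    exact congrArg Subtype.val e

/-! ### the image of a transvection -/

theorem lam_sq : ww K [1, 2, 3] * ww K [1, 2, 3] = 1 := ww_sq K (by decide +kernel)

theorem b_ne_one {r : V} (hr : r ≠ 0) : C.b r ≠ 1 := fun h => hr (C.b_inj (by rw [h, C.b_zero]))

theorem Rv_b_eq {x : C.L} {r s : V} (h : Rv C.S x r) (hx : (x : G) = C.b s) : s = r := by
  have : x = C.S.τ s := Subtype.ext hx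
  subst this
  exact (Rv_tau s).unique h

theorem b_ne_lam {r : V} (hr : r ≠ 0) : C.b r ≠ ww K [1, 2, 3] :=
  fun h => hr (Rv_b_eq (x := w K [1, 2, 3]) (Rv_lam K) h.symm)

theorem image_b (H : All C) (h : Sw C (ww K [1, 2, 3]) g) {e : V} (he : e ≠ 0) (hd : DC C (ww K [1, 2, 3]) (C.b e))
    (hc : Commute (C.b e) (ww K [1, 2, 3])) :
    ∃ r, r ≠ 0 ∧ Commute (C.b r) (ww K [1, 2, 3]) ∧
      (cj g (C.b e) = C.b r ∨ cj g (C.b e) = C.b r * ww K [1, 2, 3]) := by
  have hl2 := lam_sq K
  have hsL := h.mem H (C.b_mem e) (C.b_sq e) hc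
  have hs2 := cj_sq (C.b_sq e) g
  have hsc := h.comm hc
  set s := cj g (C.b e) with hs
  have hs1 : s ≠ 1 := cj_ne_one (b_ne_one he) g
  have back : ∀ x : G, x = s * ww K [1, 2, 3] → s = x * ww K [1, 2, 3] := by
    rintro x rfl
    rw [mul_assoc, hl2, mul_one]
  have cs : Commute (w K [1, 2, 3]) (⟨s, hsL⟩ : C.L) := coe_commute.1 hsc.symm
  rcases classify K (x := (⟨s, hsL⟩ : C.L)) (Subtype.ext hs2) (fun h => hs1 (congrArg Subtype.val h)) with
    ⟨l, hl⟩ | ⟨r, hr, hrv⟩
  · exfalso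
    obtain ⟨K', hK'⟩ := exists_frame_conj K l⁻¹
    have h1 := w_move K hK' [1, 2, 3]
    have hsw : (⟨s, hsL⟩ : C.L) = w K' [1, 2, 3] := by
      rw [← h1, ← hl]; group
    have hne : w K' [1, 2, 3] ≠ w K [1, 2, 3] := by
      intro h2
      have h3 : s = ww K [1, 2, 3] := by
        have : s = ww K' [1, 2, 3] := congrArg Subtype.val hsw
        rw [this]
        exact congrArg Subtype.val h2
      apply b_ne_lam K he
      apply cj_inj (g := g)
      rw [h.z, ← h3]
    obtain ⟨a, ha, hf⟩ := meet K (K' := K') (by rw [← hsw]; exact cs.symm) hne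
    rw [← hsw] at hf
    have hrs : Rv C.S (⟨s, hsL⟩ : C.L) 0 := by rw [hsw]; exact Rv_lam K'
    have ca : Commute (C.S.τ a) (w K [1, 2, 3]) := C.S.τ_commute_of_fix (hf _ cs (Commute.refl _))
    rcases hd.move H hl2 h (C.b_mem a) (C.b_sq a) (coe_commute.2 ca) (by
      intro x hx hx2 hxz hxs
      have h2 : C.S.ρ (⟨x, hx⟩ : C.L) a = a := hf _ (coe_commute.1 hxs) (coe_commute.1 hxz)
      exact coe_commute.2 (C.S.τ_commute_of_fix h2)) with h2 | h2 | h2 | h2
    · exact b_ne_one ha h2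
    · exact ha (Rv_b_eq hrs h2.symm)
    · exact b_ne_lam K ha h2
    · have h3 := back _ h2
      have h4 : (⟨s, hsL⟩ : C.L) = w K [1, 2, 3] * C.S.τ a := by
        exact Subtype.ext (h3.trans (coe_commute.2 ca).eq)
      have h5 : Rv C.S (w K [1, 2, 3] * C.S.τ a) (0 + a) := (Rv_lam K).mul_tau (C.S.fix_of_τ_commute ca)
      rw [← h4] at h5
      have := h5.unique hrs
      rw [zero_add] at this
      exact ha this
  · have cr : Commute (C.S.τ r) (w K [1, 2, 3]) := C.S.τ_commute_of_fix (hrv.fix cs)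
    refine ⟨r, hr, coe_commute.2 cr, ?_⟩
    rcases hd.move H hl2 h (C.b_mem r) (C.b_sq r) (coe_commute.2 cr) (by
      intro x hx hx2 hxz hxs
      have h2 : C.S.ρ (⟨x, hx⟩ : C.L) r = r := hrv.fix (coe_commute.1 hxs)
      exact coe_commute.2 (C.S.τ_commute_of_fix h2)) with h2 | h2 | h2 | h2
    · exact (b_ne_one hr h2).elim
    · exact Or.inl h2.symm
    · exact (b_ne_lam K hr h2).elim
    · exact Or.inr (back _ h2)

end Cfsg.Agent.StdSpSix.AllSwapA
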