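import Cfsg.Agent.StdSpSix.AllSwapA

/-!
# Pattern `ALL`: the swap of `t` and `t λ` permutes the transvections of `l` and of `l^⊥`
-/

set_option autoImplicit false
set_option maxHeartbeats 400000

namespace Cfsg.Agent.StdSpSix.AllSwapB

open Cfsg.Agent.StandardComponent.SpTwo
open Cfsg.Agent.SporRec.TwoSp6
open Cfsg.Agent.StdSpSix.Words Cfsg.Agent.StdSpSix.Model Cfsg.Agent.StdSpSix.AllCode Cfsg.Agent.StdSpSix.AllFacts
open Cfsg.Agent.StdSpSix.AllFactsTwo Cfsg.Agent.StdSpSix.AllBase Cfsg.Agent.StdSpSix.AllSwapA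

variable {G V : Type*} [Group G] [AddCommGroup V] [Module (ZMod 2) V] {C : Ctx G V} {g : G} (K : Coord C.S)

theorem conj_code (x : C.L) (a : ℕ) : cj (x : G) (ww K [a]) = ww K [cd K x a] := by
  unfold cj
  rw [← b_eq, ← b_eq, C.b_conj, cd_spec]

theorem cj_ww {ks : List ℕ} (hks : ∀ k ∈ ks, k < 64) {a : ℕ} (ha : a < 64) :
    cj (ww K ks) (ww K [a]) = ww K [wc ks a] := by
  have := conj_code K (w K ks) a
  rw [cd_word K hks ha] at this
  exact this

theorem ww_single {K' : Coord C.S} {a b : ℕ} (h : vec K' a = vec K b) : ww K' [a] = ww K [b] := by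
  rw [← b_eq, ← b_eq, h]

theorem single_inj {a b : ℕ} (ha : a < 64) (hb : b < 64) (h : ww K [a] = ww K [b]) : a = b := by
  rw [← b_eq, ← b_eq] at h
  exact vec_inj K ha hb (C.b_inj h)

theorem single_commute {a b : ℕ} : Commute (ww K [a]) (ww K [b]) ↔ Sp.fN a b = false := by
  rw [← b_eq, ← b_eq, C.b_commute_iff]
  exact ⟨fun h => fN_of_zero K h, fun h => B_vec_zero K h⟩

theorem single_commute_lam {a : ℕ} (ha : a < 64) :
    Commute (ww K [a]) (ww K [1, 2, 3]) ↔ (Sp.fN a 1 = false ∧ Sp.fN a 2 = false) := by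
  constructor
  · intro h
    have h1 : Commute (w K [1, 2, 3]) (C.S.τ (vec K a)) := by
      rw [← b_eq] at h
      exact coe_commute.1 h.symm
    rw [fix_iff K ha, cd_word K (by decide) ha] at h1
    have t : ∀ a < 64, wc [1, 2, 3] a = a → Sp.fN a 1 = false ∧ Sp.fN a 2 = false := by decide +kernel
    exact t a ha h1
  · intro h
    have t : ∀ a < 64, (Sp.fN a 1 = false ∧ Sp.fN a 2 = false) → Sp.fN a 1 = false ∧ Sp.fN a 2 = false ∧
      Sp.fN a 3 = false := by decide +kernel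
    obtain ⟨h1, h2, h3⟩ := t a ha h
    have e : ww K [1, 2, 3] = ww K [1] * (ww K [2] * ww K [3]) := by rw [ww_mul, ww_mul]; rfl
    rw [e]
    exact ((single_commute K).2 h1).mul_right (((single_commute K).2 h2).mul_right ((single_commute K).2 h3))

theorem lam_ne_one : ww K [1, 2, 3] ≠ 1 := by
  rw [← ww_nil K]
  exact ww_ne K (by decide) (by decide) ⟨8, by norm_num, by decide +kernel⟩

/-- what commutes with `t` acts on `L` as an element of `L` -/
theorem exists_L {m : G} (h : Commute m C.t) :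
    ∃ x : C.L, (∀ s ∈ C.L, cj m s = cj (x : G) s) ∧ (m = x ∨ m = C.t * x) := by
  rcases (C.cent m).1 h with hm | hm
  · exact ⟨⟨m, hm⟩, fun s _ => rfl, Or.inl rfl⟩
  · have e : m = C.t * (C.t * m) := by rw [← mul_assoc, C.tt, one_mul]
    refine ⟨⟨C.t * m, hm⟩, fun s hs => ?_, Or.inr e⟩
    have h1 : cj (C.t * m) s ∈ C.L := mul_mem (mul_mem hm hs) (inv_mem hm)
    conv_lhs => rw [e]
    rw [← cj_cj, cj_eq_iff]
    exact (C.commute_of_mem h1).symm

theorem exists_b {m : G} (h : Commute m C.t) (r : V) : ∃ p, cj m (C.b r) = C.b p := by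
  obtain ⟨x, hx, _⟩ := exists_L h
  exact ⟨C.S.ρ x r, by rw [hx _ (C.b_mem r)]; exact C.b_conj x r⟩

/-- `b_e` is not sent to `b_r λ` if `b_r`, `b_e` are conjugate in `C_L(λ)` -/
theorem kill (H : All C) (h : Sw C (ww K [1, 2, 3]) g) {r : V} (hr : r ≠ 0) (hc : Commute (C.b r) (ww K [1, 2, 3]))
    (hd : DC C (ww K [1, 2, 3]) (C.b r)) {l : G} (hlL : l ∈ C.L) :
    cj g (cj l (C.b r)) ≠ C.b r * ww K [1, 2, 3] := by
  intro he
  obtain ⟨K1, hK1⟩ := exists_frame_one K hr
  obtain ⟨g1, h1t, h1b⟩ := exists_swap_b K1 H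
  rw [← b_eq, hK1] at h1t h1b
  have h1 : Sw C (C.b r) g1 := ⟨h1t, h1b⟩
  have h1i := h1.inv (C.b_sq r)
  have hlt : Commute l C.t := C.commute_of_mem hlL
  have kt : cj (g * l) C.t = C.t * ww K [1, 2, 3] := by rw [← cj_cj, cj_eq_iff.2 hlt, h.t]
  have kb : cj (g * l) (C.b r) = C.b r * ww K [1, 2, 3] := by rw [← cj_cj]; exact he
  have ktb : cj (g * l) (C.t * C.b r) = C.t * C.b r := by
    rw [cj_mul, kt, kb]
    calc C.t * ww K [1, 2, 3] * (C.b r * ww K [1, 2, 3]) = C.t * (ww K [1, 2, 3] * C.b r) * ww K [1, 2, 3] := by group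
      _ = C.t * C.b r * (ww K [1, 2, 3] * ww K [1, 2, 3]) := by rw [← hc.eq]; group
      _ = C.t * C.b r := by rw [lam_sq, mul_one]
  have mt : Commute (g1⁻¹ * (g * l) * g1) C.t := by
    rw [← cj_eq_iff, ← cj_cj, ← cj_cj, h1.t, ktb, ← h1.t, cj_inv_cj]
  have mb : cj (g1⁻¹ * (g * l) * g1) (C.b r) = C.b r * cj g1⁻¹ (ww K [1, 2, 3]) := by
    rw [← cj_cj, ← cj_cj, h1.z, kb, cj_mul, h1i.z]
  obtain ⟨p, hp⟩ := exists_b mt r
  have hp0 : p ≠ 0 := by
    rintro rfl
    rw [C.b_zero] at hp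
    exact cj_ne_one (b_ne_one hr) _ hp
  have hl' : cj g1⁻¹ (ww K [1, 2, 3]) = C.b r * C.b p := by
    rw [← hp, mb, ← mul_assoc, C.b_sq, one_mul]
  have hpr : p ≠ r := by
    rintro rfl
    rw [C.b_sq] at hl'
    exact cj_ne_one (lam_ne_one K) _ hl'
  have hB : C.S.B r p = 0 := by
    rw [← C.b_commute_iff]
    have h2 := cj_commute hc g1⁻¹
    rw [h1i.z, hl'] at h2
    have h3 : Commute (C.b r) (C.b r * (C.b r * C.b p)) := (Commute.refl _).mul_right h2
    rwa [← mul_assoc, C.b_sq, one_mul] at h3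
  obtain ⟨K2, hr2, hp2⟩ := exists_frame_two K hr hp0 hpr hB
  have hbr : C.b r = ww K2 [1] := by rw [← hr2, b_eq]
  have hlam' : cj g1⁻¹ (ww K [1, 2, 3]) = ww K2 [1, 2] := by
    rw [hl', ww_cons, hr2, ← b_eq, hp2]
  have c13 : Commute (ww K2 [3]) (C.b r) := by rw [hbr]; exact (single_commute K2).2 (by decide)
  have hz'c : Commute (cj g1 (ww K2 [3])) (ww K [1, 2, 3]) := by
    rw [← cj_commute_iff (g := g1⁻¹), cj_inv_cj, hlam']
    exact ww_commute K2 (by decide +kernel)
  rcases hd _ (h1.mem H (ww_mem K2 [3]) (ww_sq K2 (by decide +kernel)) c13) (by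
    intro s hs hs2 hsz hsb
    have m1 := h1i.mem H hs hs2 hsb
    have c1 := cj_commute hsz g1⁻¹
    rw [hlam'] at c1
    have c2 : Commute (⟨_, m1⟩ : C.L) (w K2 [1, 2]) := coe_commute.1 c1
    have hR : Rv C.S (w K2 [1, 2]) (vec K2 3) := Rv_word K2 (by decide) (by decide +kernel)
    have c3 : Commute (C.S.τ (vec K2 3)) (⟨_, m1⟩ : C.L) := C.S.τ_commute_of_fix (hR.fix c2)
    have c4 : Commute (C.b (vec K2 3)) (cj g1⁻¹ s) := coe_commute.2 c3
    rw [b_eq] at c4
    have c5 := cj_commute c4 g1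
    rwa [cj_cj_inv] at c5) with e | e | e | e
  · rw [← cj_one g1] at e
    have e' := cj_inj e
    rw [← ww_nil K2] at e'
    exact ww_ne K2 (by decide) (by decide) ⟨8, by norm_num, by decide +kernel⟩ e'
  · have e' : ww K2 [3] = ww K2 [1] := by
      rw [← hbr, ← h1i.z, ← e, cj_inv_cj]
    exact ww_ne K2 (by decide) (by decide) ⟨8, by norm_num, by decide +kernel⟩ e'
  · have e' : ww K2 [3] = ww K2 [1, 2] := by
      rw [← hlam', ← e, cj_inv_cj]
    exact ww_ne K2 (by decide) (by decide) ⟨8, by norm_num, by decide +kernel⟩ e'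
  · have e' : ww K2 [3] = ww K2 [1, 1, 2] := by
      have e1 : ww K2 [1, 1, 2] = ww K2 [1] * ww K2 [1, 2] := by rw [ww_mul]; rfl
      rw [e1, ← hlam', ← hbr]
      calc ww K2 [3] = cj g1⁻¹ (cj g1 (ww K2 [3])) := (cj_inv_cj _ _).symm
        _ = cj g1⁻¹ (C.b r * ww K [1, 2, 3]) := by rw [e]
        _ = _ := by rw [cj_mul, h1i.z]
    exact ww_ne K2 (by decide) (by decide) ⟨8, by norm_num, by decide +kernel⟩ e'

/-! ### frames with the same `λ` -/

theorem ww_line {K' : Coord C.S} {p q : ℕ} (h1 : vec K' 1 = vec K p) (h2 : vec K' 2 = vec K q) :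
    ww K' [1, 2, 3] = ww K [p, q, p ^^^ q] := by
  have h3 : vec K' 3 = vec K (p ^^^ q) := by
    have e : (3 : ℕ) = 1 ^^^ 2 := by decide
    rw [vec_xor, ← h1, ← h2, e, vec_xor K' 1 2]
  simp only [ww_cons, ww_nil]
  rw [h1, h2, h3]

theorem vec_ne {a b : ℕ} (ha : a < 64) (hb : b < 64) (h : a ≠ b) : vec K a ≠ vec K b := fun h' => h (vec_inj K ha hb h')

theorem vec_ne_zero {a : ℕ} (ha : a < 64) (h : a ≠ 0) : vec K a ≠ 0 := by
  rw [← vec_zero K]
  exact vec_ne K ha (by norm_num) h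

theorem reframe4 {e : ℕ} (he : e < 64) (h1 : Sp.fN e 1 = false) (h2 : Sp.fN e 2 = false) (h4 : 4 ≤ e) :
    ∃ K' : Coord C.S, vec K' 1 = vec K 1 ∧ vec K' 2 = vec K 2 ∧ vec K' 4 = vec K e := by
  apply exists_frame_three K (vec_ne_zero K (by norm_num) (by norm_num)) (vec_ne_zero K (by norm_num) (by norm_num))
    (vec_ne K (by norm_num) (by norm_num) (by norm_num)) (vec_ne_zero K he (by omega))
    (vec_ne K he (by norm_num) (by omega)) (vec_ne K he (by norm_num) (by omega))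
  · rw [← vec_xor]
    exact vec_ne K he (by decide) (by have : (1 ^^^ 2 : ℕ) = 3 := by decide
                                      omega)
  · exact B_vec_zero K (by decide)
  · rw [C.S.symm]; exact B_vec_zero K h1
  · rw [C.S.symm]; exact B_vec_zero K h2

theorem reline {e : ℕ} (he0 : e ≠ 0) (he : e < 4) :
    ∃ K' : Coord C.S, vec K' 1 = vec K e ∧ ww K' [1, 2, 3] = ww K [1, 2, 3] := by
  have key : ∀ e e' : ℕ, e < 4 → e' < 4 → e ≠ 0 → e' ≠ 0 → e' ≠ e → Sp.fN e e' = false →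
      eqB [e, e', e ^^^ e'] [1, 2, 3] = true →
      ∃ K' : Coord C.S, vec K' 1 = vec K e ∧ ww K' [1, 2, 3] = ww K [1, 2, 3] := by
    intro e e' he he' h0 h0' hne hf hB
    obtain ⟨K', h1, h2⟩ := exists_frame_two K (vec_ne_zero K (show e < 64 by omega) h0)
      (vec_ne_zero K (show e' < 64 by omega) h0') (vec_ne K (by omega) (by omega) hne) (B_vec_zero K hf)
    exact ⟨K', h1, by rw [ww_line K h1 h2, ww_eq K hB]⟩
  interval_cases e
  · exact absurd rfl he0
  · exact key 1 2 (by norm_num) (by norm_num) (by norm_num) (by norm_num) (by norm_num) (by decide) (by decide +kernel)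
  · exact key 2 1 (by norm_num) (by norm_num) (by norm_num) (by norm_num) (by norm_num) (by decide) (by decide +kernel)
  · exact key 3 1 (by norm_num) (by norm_num) (by norm_num) (by norm_num) (by norm_num) (by decide) (by decide +kernel)

theorem DC_gen {e : ℕ} (he : e < 64) (h1 : Sp.fN e 1 = false) (h2 : Sp.fN e 2 = false) (h4 : 4 ≤ e) :
    DC C (ww K [1, 2, 3]) (ww K [e]) := by
  obtain ⟨K', e1, e2, e4⟩ := reframe4 K he h1 h2 h4
  have := DC_four K'
  rwa [ww_line K e1 e2, ww_single K e4] at this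

theorem b_ne_b_mul_lam {p q : V} (hc : Commute (C.b q) (ww K [1, 2, 3])) : C.b p ≠ C.b q * ww K [1, 2, 3] := by
  intro h
  have h1 : Commute (C.S.τ q) (w K [1, 2, 3]) := coe_commute.1 hc
  have h5 : Rv C.S (w K [1, 2, 3] * C.S.τ q) (0 + q) := (Rv_lam K).mul_tau (C.S.fix_of_τ_commute h1)
  have h6 := Rv_b_eq (s := p) h5 (by rw [h]; exact hc.eq.symm)
  rw [zero_add] at h6
  subst h6
  apply lam_ne_one K
  have := congrArg (fun x => (C.b p)⁻¹ * x) h
  simp only [inv_mul_cancel, inv_mul_cancel_left] at this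
  exact this.symm

/-- the transvections of `l^⊥` outside `l` -/
theorem img_four (H : All C) (h : Sw C (ww K [1, 2, 3]) g) :
    ∃ c < 64, Sp.fN c 1 = false ∧ Sp.fN c 2 = false ∧ 4 ≤ c ∧ cj g (ww K [4]) = ww K [c] := by
  obtain ⟨r, hr, hrc, hrs⟩ := image_b K H h (vec_ne_zero K (a := 4) (by norm_num) (by norm_num))
    (by rw [b_eq]; exact DC_four K) (by rw [b_eq]; exact (single_commute_lam K (by norm_num)).2 (by decide))
  obtain ⟨r', hr', hrc', hrs'⟩ := image_b K H h (vec_ne_zero K (a := 32) (by norm_num) (by norm_num))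
    (by rw [b_eq]; exact DC_gen K (by norm_num) (by decide) (by decide) (by norm_num))
    (by rw [b_eq]; exact (single_commute_lam K (by norm_num)).2 (by decide))
  obtain ⟨c, hc, rfl⟩ := exists_vec K r
  obtain ⟨c', hc', rfl⟩ := exists_vec K r'
  rw [b_eq] at hrc hrc'
  rw [b_eq, b_eq] at hrs hrs'
  have p := (single_commute_lam K hc).1 hrc
  have p' := (single_commute_lam K hc').1 hrc'
  have c4 : 4 ≤ c := by
    by_contra hlt
    have hcc : Commute (ww K [c]) (ww K [c']) := by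
      rw [single_commute]
      have t : ∀ c < 4, ∀ c' < 64, (Sp.fN c' 1 = false ∧ Sp.fN c' 2 = false) → Sp.fN c c' = false := by
        decide +kernel
      exact t c (by omega) c' hc' p'
    have hcl : Commute (ww K [c]) (ww K [c'] * ww K [1, 2, 3]) := hcc.mul_right hrc
    have : Commute (cj g (ww K [4])) (cj g (ww K [32])) := by
      rcases hrs with e | e <;> rcases hrs' with e' | e' <;> rw [e, e']
      · exact hcc
      · exact hcl
      · exact hcc.mul_left hrc'.symm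
      · exact hcl.mul_left (hrc'.symm.mul_right (Commute.refl _))
    rw [cj_commute_iff, single_commute] at this
    revert this
    decide
  refine ⟨c, hc, p.1, p.2, c4, ?_⟩
  rcases hrs with e | e
  · exact e
  · exfalso
    obtain ⟨K', e1, e2, e4⟩ := reframe4 K hc p.1 p.2 c4
    obtain ⟨l, hl⟩ := exists_move K' K
    have := kill K H h hr (by rw [b_eq]; exact hrc) (by rw [b_eq]; exact DC_gen K hc p.1 p.2 c4) l.2
    apply this
    have e3 : cj (l : G) (C.b (vec K c)) = ww K [4] := by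
      rw [← e4, b_eq]
      exact ww_move K' hl [4]
    rw [e3, e, b_eq]

theorem img_gen (H : All C) (h : Sw C (ww K [1, 2, 3]) g) {e : ℕ} (he : e < 64) (h1 : Sp.fN e 1 = false)
    (h2 : Sp.fN e 2 = false) (h4 : 4 ≤ e) :
    ∃ c < 64, Sp.fN c 1 = false ∧ Sp.fN c 2 = false ∧ 4 ≤ c ∧ cj g (ww K [e]) = ww K [c] := by
  obtain ⟨K', e1, e2, e4⟩ := reframe4 K he h1 h2 h4
  have hlam : ww K' [1, 2, 3] = ww K [1, 2, 3] := ww_line K e1 e2
  obtain ⟨c, hc, p1, p2, c4, hcg⟩ := img_four K' H (by rw [hlam]; exact h)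
  obtain ⟨d, hd, hde⟩ := exists_vec K (vec K' c)
  have q1 : Sp.fN d 1 = false := by
    apply fN_of_zero K
    rw [← hde, ← e1]; exact B_vec_zero K' p1
  have q2 : Sp.fN d 2 = false := by
    apply fN_of_zero K
    rw [← hde, ← e2]; exact B_vec_zero K' p2
  refine ⟨d, hd, q1, q2, ?_, ?_⟩
  · by_contra hlt
    have e3 : vec K' 3 = vec K 3 := by
      have e : (3 : ℕ) = 1 ^^^ 2 := by decide
      rw [e, vec_xor, vec_xor, e1, e2]
    have e0 : vec K' 0 = vec K 0 := by rw [vec_zero, vec_zero]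
    have hd4 : d < 4 := by omega
    have : vec K' d = vec K d := by
      interval_cases d
      · exact e0
      · exact e1
      · exact e2
      · exact e3
    have := vec_inj K' hc hd (hde.trans this.symm)
    omega
  · rw [← ww_single K e4, hcg, ww_single K hde]

/-- the transvections of `l` -/
theorem img_line (H : All C) (h : Sw C (ww K [1, 2, 3]) g) {e : ℕ} (he : e < 4) (he0 : e ≠ 0) :
    ∃ c < 4, c ≠ 0 ∧ cj g (ww K [e]) = ww K [c] := by
  obtain ⟨K', e1, hlam⟩ := reline K he0 he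
  have hi := h.inv (lam_sq K)
  have hec : Commute (ww K [e]) (ww K [1, 2, 3]) := by
    rw [← ww_single K e1, ← hlam]
    exact (single_commute_lam K' (by norm_num)).2 (by decide)
  obtain ⟨r, hr, hrc, hrs⟩ := image_b K H h (vec_ne_zero K (a := e) (by omega) he0)
    (by rw [b_eq, ← ww_single K e1, ← hlam]; exact DC_one K') (by rw [b_eq]; exact hec)
  obtain ⟨c, hc, rfl⟩ := exists_vec K r
  rw [b_eq] at hrc
  rw [b_eq, b_eq] at hrs
  have p := (single_commute_lam K hc).1 hrc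
  have c4 : c < 4 := by
    by_contra hge
    obtain ⟨d, hd, q1, q2, d4, hdg⟩ := img_gen K H hi hc p.1 p.2 (by omega)
    rcases hrs with e' | e'
    · have : ww K [e] = ww K [d] := by rw [← hdg, ← e', cj_inv_cj]
      have := single_inj K (by omega) hd this
      omega
    · have h2 : ww K [e] = ww K [d] * ww K [1, 2, 3] := by
        rw [← hdg]
        calc ww K [e] = cj g⁻¹ (cj g (ww K [e])) := (cj_inv_cj _ _).symm
          _ = cj g⁻¹ (ww K [c] * ww K [1, 2, 3]) := by rw [e']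
          _ = _ := by rw [cj_mul, hi.z]
      rw [← b_eq, ← b_eq] at h2
      exact b_ne_b_mul_lam K (by rw [b_eq]; exact (single_commute_lam K hd).2 ⟨q1, q2⟩) h2
  have c0 : c ≠ 0 := by rintro rfl; exact hr (vec_zero K)
  refine ⟨c, c4, c0, ?_⟩
  rcases hrs with e' | e'
  · exact e'
  · exfalso
    obtain ⟨K2, f1, hlam2⟩ := reline K c0 c4
    obtain ⟨l, hl⟩ := exists_move K2 K'
    have := kill K H h hr (by rw [b_eq]; exact hrc) (by rw [b_eq, ← ww_single K f1, ← hlam2]; exact DC_one K2) l.2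
    apply this
    have e3 : cj (l : G) (C.b (vec K c)) = ww K [e] := by
      rw [← f1, b_eq, ← ww_single K e1]
      exact ww_move K2 hl [1]
    rw [e3, e', b_eq]

end Cfsg.Agent.StdSpSix.AllSwapB
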