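import Cfsg.Agent.StdSpSix.AllSwapB

/-!
# Pattern `ALL`: the involution `h_λ`

`IsH K ks h`: `h² = 1`, `t^h = t λ`, `h` commutes with the transvections of `l^⊥`, `y₁^h = y₁ z`, `y₂^h = y₂ z` where
`z = ww K ks`; `ks = []` or `ks = [1, 2, 3]`, the same for all frames.
-/

set_option autoImplicit false
set_option maxHeartbeats 400000

namespace Cfsg.Agent.StdSpSix.AllSwapC

open Cfsg.Agent.StandardComponent.SpTwo
open Cfsg.Agent.SporRec.TwoSp6
open Cfsg.Agent.StdSpSix.Words Cfsg.Agent.StdSpSix.Model Cfsg.Agent.StdSpSix.AllCode Cfsg.Agent.StdSpSix.AllFacts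
open Cfsg.Agent.StdSpSix.AllFactsTwo Cfsg.Agent.StdSpSix.AllBase Cfsg.Agent.StdSpSix.AllSwapA
open Cfsg.Agent.StdSpSix.AllSwapB

/-! ### closure under transvections -/

/-- `k` is the image of an element of `S` under the transvection at an element of `S` -/
def stepB (S : List ℕ) (k : ℕ) : Bool := S.any fun a => S.any fun b => tc a b == k

theorem step_closure {Q : ℕ → Prop} (hQ : ∀ a < 64, ∀ b < 64, Q a → Q b → Q (tc a b)) {S T : List ℕ}
    (hS : ∀ a ∈ S, a < 64 ∧ Q a) (hT : (T.all fun k => stepB S k) = true) : ∀ k ∈ T, k < 64 ∧ Q k := by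
  intro k hk
  rw [List.all_eq_true] at hT
  have h1 := hT k hk
  unfold stepB at h1
  rw [List.any_eq_true] at h1
  obtain ⟨a, ha, h2⟩ := h1
  rw [List.any_eq_true] at h2
  obtain ⟨b, hb, h3⟩ := h2
  have h4 : tc a b = k := eq_of_beq h3
  rw [← h4]
  refine ⟨?_, hQ a (hS a ha).1 b (hS b hb).1 (hS a ha).2 (hS b hb).2⟩
  unfold tc
  split_ifs
  · exact xor_lt (hS b hb).1 (hS a ha).1
  · exact (hS b hb).1

variable {G V : Type*} [Group G] [AddCommGroup V] [Module (ZMod 2) V] {C : Ctx G V} {g : G} (K : Coord C.S)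

theorem cj_comp (g h x : G) : cj (cj g h) (cj g x) = cj g (cj h x) := by unfold cj; group

theorem cj_single {a b : ℕ} (ha : a < 64) (hb : b < 64) : cj (ww K [a]) (ww K [b]) = ww K [tc a b] :=
  cj_ww K (ks := [a]) (by simpa using ha) hb

theorem cd_of_cj {x : C.L} {a b : ℕ} (hb : b < 64) (h : cj (x : G) (ww K [a]) = ww K [b]) : cd K x a = b :=
  single_inj K (cd_lt K x a) hb ((conj_code K x a).symm.trans h)

/-- the transvections fixed by `g` are closed under conjugation -/
theorem fix_closure (g : G) : ∀ a < 64, ∀ b < 64, cj g (ww K [a]) = ww K [a] → cj g (ww K [b]) = ww K [b] →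
    cj g (ww K [tc a b]) = ww K [tc a b] := by
  intro a ha b hb h1 h2
  rw [← cj_single K ha hb, ← cj_comp, h1, h2]

theorem fix_zero (g : G) : cj g (ww K [0]) = ww K [0] := by
  rw [ww_one K (ks := [0]) (by decide +kernel), cj_one]

/-- first normalisation -/
theorem exists_fix_three (H : All C) : ∃ g, Sw C (ww K [1, 2, 3]) g ∧ cj g (ww K [1]) = ww K [1] ∧
    cj g (ww K [2]) = ww K [2] ∧ cj g (ww K [4]) = ww K [4] := by
  obtain ⟨g, hgt, hgz⟩ := exists_swap_lam K H
  have h : Sw C (ww K [1, 2, 3]) g := ⟨hgt, hgz⟩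
  obtain ⟨c1, l1, n1, e1⟩ := img_line K H h (e := 1) (by norm_num) (by norm_num)
  obtain ⟨c2, l2, n2, e2⟩ := img_line K H h (e := 2) (by norm_num) (by norm_num)
  obtain ⟨c4, l4, p1, p2, n4, e4⟩ := img_four K H h
  have hne : c2 ≠ c1 := by
    rintro rfl
    have := single_inj K (by norm_num) (by norm_num) (cj_inj (e1.trans e2.symm))
    omega
  have t1 : ∀ c < 4, ∀ d < 4, Sp.fN c d = false := by decide +kernel
  have t2 : ∀ c < 4, ∀ d < 64, Sp.fN d 1 = false → Sp.fN d 2 = false → Sp.fN c d = false := by decide +kernel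
  have t3 : ∀ c < 4, ∀ d < 4, c ≠ 0 → d ≠ 0 → d ≠ c → eqB [c, d, c ^^^ d] [1, 2, 3] = true := by decide +kernel
  have t4 : ∀ c < 4, ∀ d < 4, c ^^^ d < 4 := by decide +kernel
  obtain ⟨K', f1, f2, f4⟩ := exists_frame_three K (vec_ne_zero K (show c1 < 64 by omega) n1)
    (vec_ne_zero K (show c2 < 64 by omega) n2) (vec_ne K (by omega) (by omega) hne)
    (vec_ne_zero K l4 (by omega)) (vec_ne K l4 (by omega) (by omega)) (vec_ne K l4 (by omega) (by omega))
    (by have := t4 c1 l1 c2 l2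
        rw [← vec_xor]; exact vec_ne K l4 (by omega) (by omega))
    (B_vec_zero K (t1 c1 l1 c2 l2)) (B_vec_zero K (t2 c1 l1 c4 l4 p1 p2)) (B_vec_zero K (t2 c2 l2 c4 l4 p1 p2))
  obtain ⟨l, hl⟩ := exists_move K' K
  have hlam : ww K' [1, 2, 3] = ww K [1, 2, 3] := by
    rw [ww_line K f1 f2, ww_eq K (t3 c1 l1 c2 l2 n1 n2 hne)]
  have hll : Commute (l : G) (ww K [1, 2, 3]) := by
    rw [← cj_eq_iff]
    have h3 : cj (l : G) (ww K' [1, 2, 3]) = ww K [1, 2, 3] := ww_move K' hl [1, 2, 3]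
    rwa [hlam] at h3
  have key : ∀ a c, vec K' a = vec K c → cj g (ww K [a]) = ww K [c] → cj ((l : G) * g) (ww K [a]) = ww K [a] := by
    intro a c h1 h2
    rw [← cj_cj, h2, ← ww_single K h1]
    exact ww_move K' hl [a]
  exact ⟨(l : G) * g, h.mul_left (C.commute_of_mem l.2) hll, key 1 c1 f1 e1, key 2 c2 f2 e2, key 4 c4 f4 e4⟩

/-- second normalisation -/
theorem exists_fix_four (H : All C) : ∃ g, Sw C (ww K [1, 2, 3]) g ∧ cj g (ww K [1]) = ww K [1] ∧
    cj g (ww K [2]) = ww K [2] ∧ cj g (ww K [4]) = ww K [4] ∧ cj g (ww K [32]) = ww K [32] := by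
  obtain ⟨g, h, h1, h2, h4⟩ := exists_fix_three K H
  obtain ⟨a, ha, p1, p2, a4, e⟩ := img_gen K H h (e := 32) (by norm_num) (by decide) (by decide) (by norm_num)
  have hq : Sp.fN a 4 = true := by
    by_contra hcon
    rw [Bool.not_eq_true, ← single_commute K, ← e, ← h4, cj_commute_iff, single_commute] at hcon
    revert hcon
    decide
  obtain ⟨ks, hks, hw⟩ := dS2 a ha (by unfold qB; simp [hq, p1, p2])
  have hp := dS2' ks hks
  have hlt := pB_lt hp
  have hfix := wc_fix hp (by intro l hl; simp only [List.mem_cons, List.not_mem_nil, or_false] at hl; omega)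
  have key : ∀ c ∈ [1, 2, 4], cj (ww K ks) (ww K [c]) = ww K [c] := by
    intro c hc
    rw [cj_ww K hlt (by simp only [List.mem_cons, List.not_mem_nil, or_false] at hc; omega), hfix c hc]
  have tl : ∀ ks ∈ S2, eqB (ks ++ [1, 2, 3]) ([1, 2, 3] ++ ks) = true := by decide +kernel
  refine ⟨ww K ks * g, h.mul_left (ww_t K ks) (ww_commute K (tl ks hks)), ?_, ?_, ?_, ?_⟩
  · rw [← cj_cj, h1]; exact key 1 (by decide)
  · rw [← cj_cj, h2]; exact key 2 (by decide)
  · rw [← cj_cj, h4]; exact key 4 (by decide)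
  · rw [← cj_cj, e, cj_ww K hlt ha, hw]

theorem cd_line {x : C.L} {a b : ℕ} (h1 : cd K x 1 = a) (h2 : cd K x 2 = b) : cd K x 3 = a ^^^ b := by
  have := cd_xor K x 1 2
  rw [h1, h2] at this
  exact this

/-- all transvections of `l^⊥` are fixed -/
theorem exists_fix (H : All C) : ∃ g, Sw C (ww K [1, 2, 3]) g ∧
    ∀ k < 64, Sp.fN k 1 = false → Sp.fN k 2 = false → cj g (ww K [k]) = ww K [k] := by
  obtain ⟨g, h, h1, h2, h4, h32⟩ := exists_fix_four K H
  refine ⟨g, h, ?_⟩
  have h3 : cj g (ww K [3]) = ww K [3] := by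
    obtain ⟨c, hc, c0, e⟩ := img_line K H h (e := 3) (by norm_num) (by norm_num)
    rw [e]
    interval_cases c
    · exact absurd rfl c0
    · exact absurd (single_inj K (by norm_num) (by norm_num) (cj_inj (h1.trans e.symm))) (by norm_num)
    · exact absurd (single_inj K (by norm_num) (by norm_num) (cj_inj (h2.trans e.symm))) (by norm_num)
    · rfl
  have m1 : cj g (ww K [1, 16, 17]) ∈ C.L :=
    h.mem H (ww_mem K _) (ww_sq K (by decide +kernel)) (ww_commute K (by decide +kernel))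
  have m2 : cj g (ww K [2, 8, 10]) ∈ C.L :=
    h.mem H (ww_mem K _) (ww_sq K (by decide +kernel)) (ww_commute K (by decide +kernel))
  have key : ∀ (ks : List ℕ) (hm : cj g (ww K ks) ∈ C.L) (a b a' b' : ℕ), (∀ k ∈ ks, k < 64) → a < 64 → b' < 64 →
      wc ks a = b → cj g (ww K [a]) = ww K [a'] → cj g (ww K [b]) = ww K [b'] → cd K (⟨_, hm⟩ : C.L) a' = b' := by
    intro ks hm a b a' b' hks ha hb' hw e1 e2
    apply cd_of_cj K hb'
    change cj (cj g (ww K ks)) _ = _
    rw [← e1, cj_comp, cj_ww K hks ha, hw, e2]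
  -- the first involution
  have x1 := key [1, 16, 17] m1 1 1 1 1 (by decide) (by norm_num) (by norm_num) (by decide) h1 h1
  have x2 := key [1, 16, 17] m1 2 3 2 3 (by decide) (by norm_num) (by norm_num) (by decide) h2 h3
  have x4 := key [1, 16, 17] m1 4 4 4 4 (by decide) (by norm_num) (by norm_num) (by decide) h4 h4
  have x3 := cd_line K x1 x2
  have y1 := key [2, 8, 10] m2 1 3 1 3 (by decide) (by norm_num) (by norm_num) (by decide) h1 h3
  have y2 := key [2, 8, 10] m2 2 2 2 2 (by decide) (by norm_num) (by norm_num) (by decide) h2 h2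
  have y4 := key [2, 8, 10] m2 4 4 4 4 (by decide) (by norm_num) (by norm_num) (by decide) h4 h4
  have y3 := cd_line K y1 y2
  have f4 : ∀ a < 64, Sp.fN a 1 = false → Sp.fN a 2 = false → 4 ≤ a → Sp.fN a 4 = false → a < 8 := by decide +kernel
  have near : ∀ e, 4 < e → e < 8 → ∃ c, 4 < c ∧ c < 8 ∧ cj g (ww K [e]) = ww K [c] := by
    intro e he he8
    have t : ∀ e < 8, Sp.fN e 1 = false ∧ Sp.fN e 2 = false ∧ Sp.fN e 4 = false := by decide +kernel
    obtain ⟨t1, t2, t4⟩ := t e he8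
    obtain ⟨c, hc, p1, p2, c4, ec⟩ := img_gen K H h (e := e) (by omega) t1 t2 (by omega)
    have hc4 : Sp.fN c 4 = false := by
      rw [← single_commute K, ← ec, ← h4, cj_commute_iff, single_commute]
      exact t4
    refine ⟨c, ?_, f4 c hc p1 p2 c4 hc4, ec⟩
    by_contra hcon
    have : c = 4 := by omega
    subst this
    have := single_inj K (by norm_num) (by omega) (cj_inj (h4.trans ec.symm))
    omega
  have h5 : cj g (ww K [5]) = ww K [5] := by
    obtain ⟨c, c4, c8, ec⟩ := near 5 (by norm_num) (by norm_num)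
    have z := key [1, 16, 17] m1 5 5 c c (by decide) (by norm_num) (by omega) (by decide) ec ec
    rw [ec]
    interval_cases c
    · rfl
    · exfalso
      have := cd_xor K (⟨_, m1⟩ : C.L) 4 2
      rw [x4, x2, show (4 ^^^ 2 : ℕ) = 6 from rfl, z] at this
      exact absurd this (by decide)
    · exfalso
      have := cd_xor K (⟨_, m1⟩ : C.L) 4 3
      rw [x4, x3, show (4 ^^^ 3 : ℕ) = 7 from rfl, z] at this
      exact absurd this (by decide)
  have h6 : cj g (ww K [6]) = ww K [6] := by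
    obtain ⟨c, c4, c8, ec⟩ := near 6 (by norm_num) (by norm_num)
    have z := key [2, 8, 10] m2 6 6 c c (by decide) (by norm_num) (by omega) (by decide) ec ec
    rw [ec]
    interval_cases c
    · exfalso
      have := cd_xor K (⟨_, m2⟩ : C.L) 4 1
      rw [y4, y1, show (4 ^^^ 1 : ℕ) = 5 from rfl, z] at this
      exact absurd this (by decide)
    · rfl
    · exfalso
      have := cd_xor K (⟨_, m2⟩ : C.L) 4 3
      rw [y4, y3, show (4 ^^^ 3 : ℕ) = 7 from rfl, z] at this
      exact absurd this (by decide)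
  have h7 : cj g (ww K [7]) = ww K [7] := by
    obtain ⟨c, c4, c8, ec⟩ := near 7 (by norm_num) (by norm_num)
    rw [ec]
    interval_cases c
    · exact absurd (single_inj K (by norm_num) (by norm_num) (cj_inj (h5.trans ec.symm))) (by norm_num)
    · exact absurd (single_inj K (by norm_num) (by norm_num) (cj_inj (h6.trans ec.symm))) (by norm_num)
    · rfl
  have hQ : ∀ a < 64, ∀ b < 64, cj g (ww K [a]) = ww K [a] → cj g (ww K [b]) = ww K [b] →
      cj g (ww K [tc a b]) = ww K [tc a b] := fix_closure K g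
  have s0 : ∀ a ∈ [0, 1, 2, 3, 4, 5, 6, 7, 32], a < 64 ∧ cj g (ww K [a]) = ww K [a] := by
    intro a ha
    simp only [List.mem_cons, List.not_mem_nil, or_false] at ha
    rcases ha with rfl | rfl | rfl | rfl | rfl | rfl | rfl | rfl | rfl
    · exact ⟨by norm_num, fix_zero K g⟩
    · exact ⟨by norm_num, h1⟩
    · exact ⟨by norm_num, h2⟩
    · exact ⟨by norm_num, h3⟩
    · exact ⟨by norm_num, h4⟩
    · exact ⟨by norm_num, h5⟩
    · exact ⟨by norm_num, h6⟩
    · exact ⟨by norm_num, h7⟩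
    · exact ⟨by norm_num, h32⟩
  have s1 := step_closure hQ (T := [0, 1, 2, 3, 4, 5, 6, 7, 32, 36, 37, 38, 39]) s0 (by decide +kernel)
  have s2 := step_closure hQ (T := [0, 1, 2, 3, 4, 5, 6, 7, 32, 33, 34, 35, 36, 37, 38, 39]) s1 (by decide +kernel)
  intro k hk k1 k2
  have t : ∀ k < 64, Sp.fN k 1 = false → Sp.fN k 2 = false →
      k ∈ [0, 1, 2, 3, 4, 5, 6, 7, 32, 33, 34, 35, 36, 37, 38, 39] := by decide +kernel
  exact (s2 k (t k hk k1 k2)).2

end Cfsg.Agent.StdSpSix.AllSwapC
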