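import Cfsg.Agent.StdSpSix.AllSwapC

/-!
# Pattern `ALL`: the involution `h_λ`

`IsH K ks h`: `h² = 1`, `t^h = t λ`, `h` commutes with the transvections of `l^⊥`, `y₁^h = y₁ z`, `y₂^h = y₂ z` where
`z = ww K ks`; `ks = []` or `ks = [1, 2, 3]`, the same for all frames.
-/

set_option autoImplicit false
set_option maxHeartbeats 400000

namespace Cfsg.Agent.StdSpSix.AllSwapD

open Cfsg.Agent.StandardComponent.SpTwo
open Cfsg.Agent.SporRec.TwoSp6
open Cfsg.Agent.StdSpSix.Words Cfsg.Agent.StdSpSix.Model Cfsg.Agent.StdSpSix.AllCode Cfsg.Agent.StdSpSix.AllFacts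
open Cfsg.Agent.StdSpSix.AllFactsTwo Cfsg.Agent.StdSpSix.AllBase Cfsg.Agent.StdSpSix.AllSwapA
open Cfsg.Agent.StdSpSix.AllSwapB Cfsg.Agent.StdSpSix.AllSwapC

variable {G V : Type*} [Group G] [AddCommGroup V] [Module (ZMod 2) V] {C : Ctx G V} {g : G} (K : Coord C.S)

/-- the involution `h_λ` -/
structure IsH (K : Coord C.S) (ks : List ℕ) (h : G) : Prop where
  sq : h * h = 1
  t : cj h C.t = C.t * ww K [1, 2, 3]
  fix : ∀ k < 64, Sp.fN k 1 = false → Sp.fN k 2 = false → cj h (ww K [k]) = ww K [k]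
  y1 : cj h (ww K [1, 16, 17]) = ww K [1, 16, 17] * ww K ks
  y2 : cj h (ww K [2, 8, 10]) = ww K [2, 8, 10] * ww K ks

theorem L8_sq : ∀ ks ∈ L8, eqB (ks ++ ks) [] = true := by decide +kernel

/-- the image of an involution of `C_L(λ)` under a swap fixing the transvections of `l^⊥` -/
theorem image_y (H : All C) (h : Sw C (ww K [1, 2, 3]) g)
    (hf : ∀ k < 64, Sp.fN k 1 = false → Sp.fN k 2 = false → cj g (ww K [k]) = ww K [k]) {ys : List ℕ}
    (hys : ∀ k ∈ ys, k < 64) (hy2 : eqB (ys ++ ys) [] = true) (hyl : eqB (ys ++ [1, 2, 3]) ([1, 2, 3] ++ ys) = true)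
    (hyp : ∀ k < 64, Sp.fN k 1 = false → Sp.fN k 2 = false → Sp.fN (wc ys k) 1 = false ∧ Sp.fN (wc ys k) 2 = false) :
    ∃ ks ∈ L8, cj g (ww K ys) = ww K ys * ww K ks ∧ cB ks ys = true := by
  have ysq := ww_sq K hy2
  have m := h.mem H (ww_mem K ys) ysq (ww_commute K hyl)
  set x := cj g (ww K ys) with hx
  have hx2 : x * x = 1 := cj_sq ysq g
  -- `z = y x` commutes with the transvections of `l^⊥`
  have hz : ∀ k < 64, Sp.fN k 1 = false → Sp.fN k 2 = false → Commute (ww K ys * x) (ww K [k]) := by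
    intro k hk h1 h2
    rw [← cj_eq_iff, ← cj_cj]
    have e1 : cj x (ww K [k]) = ww K [wc ys k] := by
      conv_lhs => rw [← hf k hk h1 h2]
      rw [hx, cj_comp, cj_ww K hys hk]
      exact hf _ (wc_lt hys hk) (hyp k hk h1 h2).1 (hyp k hk h1 h2).2
    have e2 : cj (ww K ys) (ww K [k]) = ww K [wc ys k] := cj_ww K hys hk
    rw [e1, ← e2, cj_cj, ysq, one_cj]
  have hzL : ww K ys * x ∈ C.L := mul_mem (ww_mem K ys) m
  have cz : ∀ k < 64, Sp.fN k 1 = false → Sp.fN k 2 = false → cd K (⟨_, hzL⟩ : C.L) k = k := by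
    intro k hk h1 h2
    exact fix_of_commute K hk (hz k hk h1 h2)
  obtain ⟨ks, hks, e⟩ := fixA K (cz 1 (by norm_num) (by decide) (by decide)) (cz 2 (by norm_num) (by decide) (by decide))
    (cz 4 (by norm_num) (by decide) (by decide)) (cz 32 (by norm_num) (by decide) (by decide))
  have e' : ww K ys * x = ww K ks := congrArg Subtype.val e
  have e'' : x = ww K ys * ww K ks := by rw [← e', ← mul_assoc, ysq, one_mul]
  refine ⟨ks, hks, e'', ?_⟩
  have ksq := ww_sq K (L8_sq ks hks)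
  apply cB_of_commute K (L8_lt ks hks) hys
  apply coe_commute.1
  change ww K ks * ww K ys = ww K ys * ww K ks
  rw [e''] at hx2
  calc ww K ks * ww K ys = ww K ys * (ww K ys * ww K ks * (ww K ys * ww K ks)) * ww K ks := by
        calc ww K ks * ww K ys = ww K ks * ww K ys * (ww K ks * ww K ks) := by rw [ksq, mul_one]
          _ = (ww K ys * ww K ys) * ww K ks * ww K ys * (ww K ks * ww K ks) := by rw [ysq, one_mul]
          _ = _ := by group
    _ = ww K ys * ww K ks := by rw [hx2, mul_one]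

theorem two_of_cB1 : ∀ ks ∈ L8, cB ks [1, 16, 17] = true → ks = [] ∨ ks = [1] ∨ ks = [1, 2, 3] ∨ ks = [2, 3] := by
  decide +kernel

theorem two_of_cB2 : ∀ ks ∈ L8, cB ks [2, 8, 10] = true → ks = [] ∨ ks = [2] ∨ ks = [1, 2, 3] ∨ ks = [1, 3] := by
  decide +kernel

/-- the third normalisation -/
theorem exists_norm (H : All C) : ∃ g, Sw C (ww K [1, 2, 3]) g ∧
    (∀ k < 64, Sp.fN k 1 = false → Sp.fN k 2 = false → cj g (ww K [k]) = ww K [k]) ∧
    ∃ ks, (ks = [] ∨ ks = [1, 2, 3]) ∧ cj g (ww K [1, 16, 17]) = ww K [1, 16, 17] * ww K ks ∧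
      cj g (ww K [2, 8, 10]) = ww K [2, 8, 10] * ww K ks := by
  obtain ⟨g, h, hf⟩ := exists_fix K H
  have hl : ∀ p < 4, Commute (ww K [p]) (ww K [1, 2, 3]) := by
    intro p hp
    have t : ∀ p < 4, Sp.fN p 1 = false ∧ Sp.fN p 2 = false := by decide +kernel
    exact (single_commute_lam K (by omega)).2 (t p hp)
  have hlk : ∀ p < 4, ∀ k < 64, Sp.fN k 1 = false → Sp.fN k 2 = false → cj (ww K [p]) (ww K [k]) = ww K [k] := by
    intro p hp k hk h1 h2
    have t : ∀ p < 4, ∀ k < 64, Sp.fN k 1 = false → Sp.fN k 2 = false → Sp.fN p k = false := by decide +kernel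
    rw [cj_eq_iff, single_commute]
    exact t p hp k hk h1 h2
  -- correct by an element of `l`
  have adj : ∀ p < 4, ∀ g', Sw C (ww K [1, 2, 3]) g' →
      (∀ k < 64, Sp.fN k 1 = false → Sp.fN k 2 = false → cj g' (ww K [k]) = ww K [k]) →
      Sw C (ww K [1, 2, 3]) (ww K [p] * g') ∧
      (∀ k < 64, Sp.fN k 1 = false → Sp.fN k 2 = false → cj (ww K [p] * g') (ww K [k]) = ww K [k]) := by
    intro p hp g' h' hf'
    refine ⟨h'.mul_left (ww_t K _) (hl p hp), fun k hk h1 h2 => ?_⟩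
    rw [← cj_cj, hf' k hk h1 h2, hlk p hp k hk h1 h2]
  have cjw : ∀ p < 4, ∀ ks ls : List ℕ, eqB ([p] ++ (ks ++ [p])) ls = true → cj (ww K [p]) (ww K ks) = ww K ls := by
    intro p hp ks ls h1
    have e : (ww K [p])⁻¹ = ww K [p] := inv_of_sq (by rw [← b_eq]; exact C.b_sq _)
    unfold cj
    rw [e, mul_assoc, ww_mul, ww_mul, ww_eq K h1]
  -- first `y₁`
  have s1 : ∃ g, Sw C (ww K [1, 2, 3]) g ∧
      (∀ k < 64, Sp.fN k 1 = false → Sp.fN k 2 = false → cj g (ww K [k]) = ww K [k]) ∧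
      ∃ ks, (ks = [] ∨ ks = [1, 2, 3]) ∧ cj g (ww K [1, 16, 17]) = ww K [1, 16, 17] * ww K ks := by
    obtain ⟨ks, hks, e, hc⟩ := image_y K H h hf (ys := [1, 16, 17]) (by decide) (by decide +kernel) (by decide +kernel)
      (by decide +kernel)
    obtain ⟨h', hf'⟩ := adj 2 (by norm_num) g h hf
    rcases two_of_cB1 ks hks hc with rfl | rfl | rfl | rfl
    · exact ⟨g, h, hf, [], Or.inl rfl, e⟩
    · refine ⟨_, h', hf', [1, 2, 3], Or.inr rfl, ?_⟩
      rw [← cj_cj, e, ww_mul, ww_mul]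
      exact cjw 2 (by norm_num) _ _ (by decide +kernel)
    · exact ⟨g, h, hf, [1, 2, 3], Or.inr rfl, e⟩
    · refine ⟨_, h', hf', [], Or.inl rfl, ?_⟩
      rw [← cj_cj, e, ww_mul, ww_mul]
      exact cjw 2 (by norm_num) _ _ (by decide +kernel)
  obtain ⟨g, h, hf, k1, hk1, e1⟩ := s1
  have s2 : ∃ g, Sw C (ww K [1, 2, 3]) g ∧
      (∀ k < 64, Sp.fN k 1 = false → Sp.fN k 2 = false → cj g (ww K [k]) = ww K [k]) ∧
      ∃ k2, (k2 = [] ∨ k2 = [1, 2, 3]) ∧ cj g (ww K [1, 16, 17]) = ww K [1, 16, 17] * ww K k1 ∧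
      cj g (ww K [2, 8, 10]) = ww K [2, 8, 10] * ww K k2 := by
    obtain ⟨ks, hks, e, hc⟩ := image_y K H h hf (ys := [2, 8, 10]) (by decide) (by decide +kernel) (by decide +kernel)
      (by decide +kernel)
    obtain ⟨h', hf'⟩ := adj 1 (by norm_num) g h hf
    have e1' : cj (ww K [1] * g) (ww K [1, 16, 17]) = ww K [1, 16, 17] * ww K k1 := by
      rw [← cj_cj, e1, ww_mul]
      rcases hk1 with rfl | rfl
      · exact cjw 1 (by norm_num) _ _ (by decide +kernel)
      · exact cjw 1 (by norm_num) _ _ (by decide +kernel)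
    rcases two_of_cB2 ks hks hc with rfl | rfl | rfl | rfl
    · exact ⟨g, h, hf, [], Or.inl rfl, e1, e⟩
    · refine ⟨_, h', hf', [1, 2, 3], Or.inr rfl, e1', ?_⟩
      rw [← cj_cj, e, ww_mul, ww_mul]
      exact cjw 1 (by norm_num) _ _ (by decide +kernel)
    · exact ⟨g, h, hf, [1, 2, 3], Or.inr rfl, e1, e⟩
    · refine ⟨_, h', hf', [], Or.inl rfl, e1', ?_⟩
      rw [← cj_cj, e, ww_mul, ww_mul]
      exact cjw 1 (by norm_num) _ _ (by decide +kernel)
  obtain ⟨g, h, hf, k2, hk2, e1, e2⟩ := s2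
  refine ⟨g, h, hf, k1, hk1, e1, ?_⟩
  -- the two signs agree
  have cub : ∀ a b : List ℕ, (ww K a * ww K b) * ((ww K a * ww K b) * (ww K a * ww K b)) =
      ww K (a ++ b ++ (a ++ b ++ (a ++ b))) := by
    intro a b
    rw [ww_mul, ww_mul, ww_mul]
  have e3 : (ww K [1, 16, 17] * ww K [2, 8, 10]) * ((ww K [1, 16, 17] * ww K [2, 8, 10]) *
      (ww K [1, 16, 17] * ww K [2, 8, 10])) = 1 := by
    rw [cub]; exact ww_one K (by decide +kernel)
  have e4 := congrArg (cj g) e3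
  have e5 : cj g (ww K [1, 16, 17] * ww K [2, 8, 10]) = ww K ([1, 16, 17] ++ k1) * ww K ([2, 8, 10] ++ k2) := by
    rw [cj_mul, e1, e2, ww_mul, ww_mul]
  have cub2 : ∀ a : G, cj g (a * (a * a)) = cj g a * (cj g a * cj g a) := fun a => by rw [cj_mul, cj_mul]
  rw [cj_one, cub2, e5, cub] at e4
  rcases hk1 with rfl | rfl <;> rcases hk2 with rfl | rfl
  · exact e2
  · exfalso
    rw [← ww_nil K] at e4
    exact ww_ne K (by decide) (by decide) ⟨8, by norm_num, by decide +kernel⟩ e4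
  · exfalso
    rw [← ww_nil K] at e4
    exact ww_ne K (by decide) (by decide) ⟨8, by norm_num, by decide +kernel⟩ e4
  · exact e2

theorem cj_t {s : G} (hs : s ∈ C.L) : cj C.t s = s := cj_eq_iff.2 (C.commute_of_mem hs).symm

theorem exists_isH (H : All C) : ∃ ks, (ks = [] ∨ ks = [1, 2, 3]) ∧ ∃ h, IsH K ks h := by
  obtain ⟨g, h, hf, ks, hks, e1, e2⟩ := exists_norm K H
  refine ⟨ks, hks, ?_⟩
  have hkf : cj g (ww K ks) = ww K ks ∧ ww K ks * ww K ks = 1 := by
    rcases hks with rfl | rfl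
    · rw [ww_nil, cj_one, one_mul]; exact ⟨rfl, rfl⟩
    · exact ⟨h.z, lam_sq K⟩
  have htt : cj (g * g) C.t = C.t := by
    rw [← cj_cj, h.t, cj_mul, h.t, h.z, mul_assoc, lam_sq, mul_one]
  obtain ⟨x, hx, hgx⟩ := exists_L (cj_eq_iff.1 htt)
  have hfx : ∀ k < 64, Sp.fN k 1 = false → Sp.fN k 2 = false → cd K x k = k := by
    intro k hk h1 h2
    apply fix_of_commute K hk
    rw [← cj_eq_iff, ← hx _ (ww_mem K _), ← cj_cj, hf k hk h1 h2, hf k hk h1 h2]
  have hyy : ∀ ys : List ℕ, cj g (ww K ys) = ww K ys * ww K ks → Commute x (w K ys) := by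
    intro ys e
    apply coe_commute.1
    change Commute (x : G) (ww K ys)
    rw [← cj_eq_iff, ← hx _ (ww_mem K _), ← cj_cj, e, cj_mul, e, hkf.1, mul_assoc, hkf.2, mul_one]
  have hx2 := Zlam K (hfx 1 (by norm_num) (by decide) (by decide)) (hfx 2 (by norm_num) (by decide) (by decide))
    (hfx 4 (by norm_num) (by decide) (by decide)) (hfx 32 (by norm_num) (by decide) (by decide))
    (hyy _ e1) (hyy _ e2)
  have hgg : cj g (g * g) = g * g := by unfold cj; group
  have ht : C.t * ww K [1, 2, 3] ≠ C.t := by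
    intro h1
    exact lam_ne_one K (mul_left_cancel (h1.trans (mul_one _).symm))
  have hcase : g * g = 1 ∨ g * g = ww K [1, 2, 3] := by
    rcases hgx with e | e <;> rcases hx2 with e' | e'
    · left; rw [e, e']; rfl
    · right; rw [e, e']; rfl
    · exfalso
      have e3 : g * g = C.t := by rw [e, e']; exact mul_one _
      rw [e3, h.t] at hgg
      exact ht hgg
    · exfalso
      have e3 : g * g = C.t * ww K [1, 2, 3] := by rw [e, e']; rfl
      rw [e3, cj_mul, h.t, h.z, mul_assoc, lam_sq, mul_one] at hgg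
      exact ht hgg.symm
  rcases hcase with e | e
  · exact ⟨g, e, h.t, hf, e1, e2⟩
  · refine ⟨g * C.t, ?_, ?_, ?_, ?_, ?_⟩
    · have h1 : g * C.t = C.t * ww K [1, 2, 3] * g := by
        have := h.t
        unfold cj at this
        rw [← this]; group
      calc g * C.t * (g * C.t) = g * C.t * (C.t * ww K [1, 2, 3] * g) := by rw [h1]
        _ = g * (C.t * C.t) * (ww K [1, 2, 3] * g) := by group
        _ = g * (ww K [1, 2, 3] * g) := by rw [C.tt, mul_one]
        _ = g * (g * ww K [1, 2, 3]) := by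
          have h2 := (cj_eq_iff.1 h.z).eq
          rw [h2]
        _ = g * g * ww K [1, 2, 3] := by group
        _ = 1 := by rw [e, lam_sq]
    · rw [← cj_cj, cj_eq_iff.2 (Commute.refl C.t), h.t]
    · intro k hk h1 h2
      rw [← cj_cj, cj_t (ww_mem K _), hf k hk h1 h2]
    · rw [← cj_cj, cj_t (ww_mem K _), e1]
    · rw [← cj_cj, cj_t (ww_mem K _), e2]

theorem IsH.move {ks : List ℕ} {h : G} (hh : IsH K ks h) {K' : Coord C.S} {l : C.L}
    (hl : ∀ c, C.S.ρ l (vec K c) = vec K' c) : IsH K' ks (cj (l : G) h) := by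
  have m : ∀ ls, cj (l : G) (ww K ls) = ww K' ls := fun ls => ww_move K hl ls
  have ht : cj (l : G) C.t = C.t := cj_eq_iff.2 (C.commute_of_mem l.2)
  refine ⟨cj_sq hh.sq _, ?_, ?_, ?_, ?_⟩
  · conv_lhs => rw [← ht]
    rw [cj_comp, hh.t, cj_mul, ht, m]
  · intro k hk h1 h2
    rw [← m, cj_comp, hh.fix k hk h1 h2]
  · rw [← m, ← m, cj_comp, hh.y1, cj_mul]
  · rw [← m, ← m, cj_comp, hh.y2, cj_mul]

/-- the sign does not depend on the frame -/
theorem exists_all (H : All C) (K : Coord C.S) :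
    (∀ K' : Coord C.S, ∃ h, IsH K' [] h) ∨ (∀ K' : Coord C.S, ∃ h, IsH K' [1, 2, 3] h) := by
  obtain ⟨ks, hks, h, hh⟩ := exists_isH K H
  have key : ∀ K' : Coord C.S, ∃ h, IsH K' ks h := by
    intro K'
    obtain ⟨l, hl⟩ := exists_move K K'
    exact ⟨_, hh.move K hl⟩
  rcases hks with rfl | rfl
  · exact Or.inl key
  · exact Or.inr key

/-- with trivial sign, `h_λ` commutes with `C_L(λ)` -/
theorem IsH.comm {h : G} (hh : IsH K [] h) {x : C.L} (hx : Commute x (w K [1, 2, 3])) : Commute (x : G) h := by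
  let P : Subgroup C.L := (Subgroup.centralizer {h}).comap C.L.subtype
  have hP : ∀ x : C.L, x ∈ P ↔ Commute (x : G) h := by
    intro x
    change (x : G) ∈ Subgroup.centralizer {h} ↔ _
    rw [Subgroup.mem_centralizer_singleton_iff]
    exact Iff.rfl
  have hc : ∀ ks : List ℕ, cj h (ww K ks) = ww K ks → w K ks ∈ P := by
    intro ks e
    rw [hP]
    exact (cj_eq_iff.1 e).symm
  rw [← hP]
  apply genLam K (P := P) _ _ _ hx
  · intro k hk h1 h2
    rw [hP]
    have := (cj_eq_iff.1 (hh.fix k hk h1 h2)).symm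
    rw [← b_eq] at this
    exact this
  · exact hc _ (by rw [hh.y1, ww_nil, mul_one])
  · exact hc _ (by rw [hh.y2, ww_nil, mul_one])

end Cfsg.Agent.StdSpSix.AllSwapD
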