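import Cfsg.Agent.StdSpSix.AllNf

/-!
# Pattern `ALL`, `ε = 1`: the involutions `x_m = h_m b_m` and a swap `y` of `t` and `t b_u`

`XD K y x a`: `x_m² = 1`, `t^{x_m} = t λ_m`, `x_m` acts on `U` as `z ↦ z b^{(z, m)}`, `y` centralises `U`, `t^y = t b`,
`x_m^y = b^{a m} x_m`, with `a 2 = a 16 = a 18 = a 4 ≠ a 6`.
-/

set_option autoImplicit false
set_option maxHeartbeats 400000

namespace Cfsg.Agent.StdSpSix.AllXDef

open Cfsg.Agent.StandardComponent.SpTwo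
open Cfsg.Agent.SporRec.TwoSp6
open Cfsg.Agent.StdSpSix.Words Cfsg.Agent.StdSpSix.Model Cfsg.Agent.StdSpSix.AllCode Cfsg.Agent.StdSpSix.AllFacts
open Cfsg.Agent.StdSpSix.AllFactsTwo Cfsg.Agent.StdSpSix.AllBase Cfsg.Agent.StdSpSix.AllSwapA

variable {G V : Type*} [Group G] [AddCommGroup V] [Module (ZMod 2) V] {C : Ctx G V}

/-- the seven points used -/
def ML : List ℕ := [2, 16, 18, 4, 6, 20, 22]

/-- the data on the 2-group generated by `U`, `t`, the `x_m` and `y` -/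
structure XD (K : Coord C.S) (y : G) (x : ℕ → G) (a : ℕ → Bool) : Prop where
  yt : cj y C.t = C.t * ww K [1]
  yU : ∀ ks ∈ UL, cj y (ww K ks) = ww K ks
  sq : ∀ m ∈ ML, x m * x m = 1
  xt : ∀ m ∈ ML, cj (x m) C.t = C.t * ww K [1, m, m ^^^ 1]
  xb : ∀ m ∈ ML, cj (x m) (ww K [1]) = ww K [1]
  xU : ∀ m ∈ ML, ∀ n ∈ [2, 4, 16, 32], cj (x m) (ww K [1, n, n ^^^ 1]) =
    ww K ([1, n, n ^^^ 1] ++ (if Sp.fN n m then [1] else []))
  yx : ∀ m ∈ ML, cj y (x m) = ww K (if a m then [1] else []) * x m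
  a16 : a 16 = a 2
  a18 : a 18 = a 2
  a4 : a 4 = a 2
  a6 : a 6 = !a 2

end Cfsg.Agent.StdSpSix.AllXDef
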