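import Cfsg.Agent.StdSpSix.AllXDef
import Cfsg.Agent.StdSpSix.AllNfFin

/-!
# Pattern `ALL`, `ε = 1`: construction of the involutions `x_m`
-/

set_option autoImplicit false
set_option maxHeartbeats 400000

namespace Cfsg.Agent.StdSpSix.AllXEx

open Cfsg.Agent.StandardComponent.SpTwo
open Cfsg.Agent.SporRec.TwoSp6
open Cfsg.Agent.StdSpSix.Words Cfsg.Agent.StdSpSix.Model Cfsg.Agent.StdSpSix.AllCode Cfsg.Agent.StdSpSix.AllFacts
open Cfsg.Agent.StdSpSix.AllFactsTwo Cfsg.Agent.StdSpSix.AllBase Cfsg.Agent.StdSpSix.AllSwapA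
open Cfsg.Agent.StdSpSix.AllSwapB Cfsg.Agent.StdSpSix.AllSwapC Cfsg.Agent.StdSpSix.AllSwapD
open Cfsg.Agent.StdSpSix.AllNf Cfsg.Agent.StdSpSix.AllNfEx Cfsg.Agent.StdSpSix.AllNfFin Cfsg.Agent.StdSpSix.AllXDef

variable {G V : Type*} [Group G] [AddCommGroup V] [Module (ZMod 2) V] {C : Ctx G V} {y : G} (K : Coord C.S)

/-- `λ_n` -/
noncomputable def lam (n : ℕ) : G := ww K [1, n, n ^^^ 1]

/-- `b^e` -/
noncomputable def bb (e : Bool) : G := ww K (if e then [1] else [])

theorem bb_false : bb K false = 1 := ww_nil K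
theorem bb_true : bb K true = ww K [1] := rfl

theorem bb_mul (d e : Bool) : bb K d * bb K e = bb K (Bool.xor d e) := by
  cases d <;> cases e <;> simp [bb_false, bb_true, z_sq]

/-! ### `y` centralises `U` -/

/-- words for the elements of `U` in the five generators -/
def UW : List (List ℕ) := ([[], [1]] : List (List ℕ)).flatMap fun a => ([[], [1, 2, 3]] : List (List ℕ)).flatMap fun b =>
  ([[], [1, 4, 5]] : List (List ℕ)).flatMap fun c => ([[], [1, 16, 17]] : List (List ℕ)).flatMap fun d =>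
  ([[], [1, 32, 33]] : List (List ℕ)).map fun e => a ++ (b ++ (c ++ (d ++ e)))

theorem UW_spec : ∀ ks ∈ UL, (UW.any fun ls => eqB ks ls) = true := by decide +kernel

theorem yU_of_gen (h1 : cj y (ww K [1]) = ww K [1]) (h2 : cj y (ww K [1, 2, 3]) = ww K [1, 2, 3])
    (h4 : cj y (ww K [1, 4, 5]) = ww K [1, 4, 5]) (h16 : cj y (ww K [1, 16, 17]) = ww K [1, 16, 17])
    (h32 : cj y (ww K [1, 32, 33]) = ww K [1, 32, 33]) : ∀ ks ∈ UL, cj y (ww K ks) = ww K ks := by
  intro ks hks
  have hs := UW_spec ks hks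
  rw [List.any_eq_true] at hs
  obtain ⟨ls, hls, he⟩ := hs
  rw [ww_eq K he]
  have h0 : cj y (ww K []) = ww K [] := by rw [ww_nil, cj_one]
  have ap : ∀ a b : List ℕ, cj y (ww K a) = ww K a → cj y (ww K b) = ww K b → cj y (ww K (a ++ b)) = ww K (a ++ b) := by
    intro a b ha hb
    rw [← ww_mul, cj_mul, ha, hb]
  unfold UW at hls
  simp only [List.mem_flatMap, List.mem_map] at hls
  obtain ⟨a, ha, b, hb, c, hc, d, hd, e, he', rfl⟩ := hls
  have two : ∀ g a : List ℕ, cj y (ww K g) = ww K g → a ∈ [[], g] → cj y (ww K a) = ww K a := by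
    intro g a hg ha
    simp only [List.mem_cons, List.not_mem_nil, or_false] at ha
    rcases ha with rfl | rfl
    · exact h0
    · exact hg
  exact ap _ _ (two _ _ h1 ha) (ap _ _ (two _ _ h2 hb) (ap _ _ (two _ _ h4 hc) (ap _ _ (two _ _ h16 hd)
    (two _ _ h32 he'))))

/-- `b_n` to `b b_n`, `b_{n+1}` to `b b_{n+1}`, so `λ_n` is fixed -/
theorem lam_fixed {n : ℕ} (hn : n < 64) (p : Sp.fN n 1 = false) (hb : cj y (ww K [1]) = ww K [1])
    (h1 : cj y (ww K [n]) = ww K (nfw true n)) (h2 : cj y (ww K [n ^^^ 1]) = ww K (nfw true (n ^^^ 1))) :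
    cj y (lam K n) = lam K n := by
  have e : lam K n = ww K [1] * (ww K [n] * ww K [n ^^^ 1]) := by
    unfold lam; rw [ww_mul, ww_mul]; rfl
  have zc : Commute (ww K [1]) (ww K [n]) := by
    rw [single_commute, fN_symm 1 (by norm_num) n hn]; exact p
  rw [e, cj_mul, cj_mul, hb, h1, h2, nfw_true, nfw_true]
  congr 1
  calc ww K [1] * ww K [n] * (ww K [1] * ww K [n ^^^ 1]) = ww K [1] * (ww K [n] * ww K [1]) * ww K [n ^^^ 1] := by group
    _ = (ww K [1] * ww K [1]) * (ww K [n] * ww K [n ^^^ 1]) := by rw [← zc.eq]; group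
    _ = _ := by rw [z_sq, one_mul]

/-! ### one involution -/

/-- an involution over `λ_m` -/
structure XM (K : Coord C.S) (y : G) (m : ℕ) (x : G) (a : Bool) : Prop where
  sq : x * x = 1
  t : cj x C.t = C.t * lam K m
  b : cj x (ww K [1]) = ww K [1]
  U : ∀ n < 64, Sp.fN n 1 = false → cj x (lam K n) = lam K n * bb K (Sp.fN n m)
  y : cj y x = bb K a * x

theorem bb_comm {x : G} (h : cj x (ww K [1]) = ww K [1]) (e : Bool) : Commute (bb K e) x := by
  cases e
  · rw [bb_false]; exact Commute.one_left x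
  · rw [bb_true]; exact (cj_eq_iff.1 h).symm

theorem cj_bb {x : G} (h : cj x (ww K [1]) = ww K [1]) (e : Bool) : cj x (bb K e) = bb K e :=
  cj_eq_iff.2 (bb_comm K h e).symm

theorem b_fix {v : ℕ} (p : Sp.fN v 1 = false) : cj (ww K [v]) (ww K [1]) = ww K [1] := by
  rw [cj_eq_iff, single_commute]; exact p

theorem xor_one0 : (allB fun v => allB fun n => impB (!Sp.fN v 1) (tc v (n ^^^ 1) == tc v n ^^^ 1)) = true := by
  decide +kernel

theorem tc_xor_one {v n : ℕ} (hv : v < 64) (hn : n < 64) (p : Sp.fN v 1 = false) : tc v (n ^^^ 1) = tc v n ^^^ 1 :=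
  eq_of_beq (impB_spec (allB_spec (allB_spec xor_one0 hv) hn) (by rw [p]; rfl))

theorem lam_eq (n : ℕ) : lam K n = ww K [1] * (ww K [n] * ww K [n ^^^ 1]) := by
  unfold lam; rw [ww_mul, ww_mul]; rfl

theorem cj_lam {v n : ℕ} (hv : v < 64) (hn : n < 64) (p : Sp.fN v 1 = false) :
    cj (ww K [v]) (lam K n) = lam K (tc v n) := by
  rw [lam_eq, lam_eq, cj_mul, cj_mul, b_fix K p, cj_single K hv hn, cj_single K hv (xor_lt hn (by norm_num)),
    tc_xor_one hv hn p]

theorem tc_facts0 : (allB fun v => allB fun n => impB (!Sp.fN v 1 && !Sp.fN n 1)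
    (decide (tc v n < 64) && !Sp.fN (tc v n) 1 && (tc v (tc v n) == n))) = true := by decide +kernel

theorem tc_facts {v n : ℕ} (hv : v < 64) (hn : n < 64) (p : Sp.fN v 1 = false) (q : Sp.fN n 1 = false) :
    tc v n < 64 ∧ Sp.fN (tc v n) 1 = false ∧ tc v (tc v n) = n := by
  have h1 := impB_spec (allB_spec (allB_spec tc_facts0 hv) hn) (by rw [p, q]; rfl)
  simp only [Bool.and_eq_true, decide_eq_true_eq, Bool.not_eq_true', beq_iff_eq] at h1
  exact ⟨h1.1.1, h1.1.2, h1.2⟩

include K in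
/-- the isometry property -/
theorem tc_fN (v n m : ℕ) (hv : v < 64) (hn : n < 64) (hm : m < 64) : Sp.fN (tc v n) m = Sp.fN n (tc v m) := by
  have h1 := cd_fN K (C.S.τ (vec K v)) n (tc v m)
  rw [cd_tau K hv hn, cd_tau K hv (by unfold tc; split_ifs; exact xor_lt hm hv; exact hm)] at h1
  have h2 : tc v (tc v m) = m := by
    have h3 := cd_mul K (C.S.τ (vec K v)) (C.S.τ (vec K v)) m
    have h4 : C.S.τ (vec K v) * C.S.τ (vec K v) = 1 := C.S.τ_sq _
    rw [h4, cd_one K hm, cd_tau K hv hm, cd_tau K hv (by unfold tc; split_ifs; exact xor_lt hm hv; exact hm)] at h3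
    exact h3.symm
  rwa [h2] at h1

/-- the step from `m` to `m + v` -/
theorem XM.step {m : ℕ} {x : G} {a : Bool} (h : XM K y m x a) (hm : m < 64) (pm : Sp.fN m 1 = false) {v : ℕ}
    (hv : v < 64) (pv : Sp.fN v 1 = false) (hvm : Sp.fN v m = true) {m' : ℕ} (hm' : tc v m = m') {g : Bool}
    (hy : cj y (ww K [v]) = ww K (nfw true (if g then v ^^^ 1 else v))) :
    XM K y m' (cj (ww K [v]) x) (Bool.xor a g) := by
  subst hm'
  have ct : cj (ww K [v]) C.t = C.t := cj_eq_iff.2 (ww_t K [v])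
  have cb := b_fix K pv
  refine ⟨cj_sq h.sq _, ?_, ?_, ?_, ?_⟩
  · conv_lhs => rw [← ct]
    rw [cj_comp, h.t, cj_mul, ct, cj_lam K hv hm pv]
  · conv_lhs => rw [← cb]
    rw [cj_comp, h.b, cb]
  · intro n hn pn
    obtain ⟨t1, t2, t3⟩ := tc_facts hv hn pv pn
    have e1 : lam K n = cj (ww K [v]) (lam K (tc v n)) := by rw [cj_lam K hv t1 pv, t3]
    rw [e1, cj_comp, h.U _ t1 t2, cj_mul, cj_bb K cb, tc_fN K v n m hv hn hm]
  · have e1 : cj y (cj (ww K [v]) x) = cj (cj y (ww K [v])) (cj y x) := (cj_comp _ _ _).symm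
    have cvb : Commute (ww K [v]) (ww K [1]) := cj_eq_iff.1 cb
    have xb := cj_eq_iff.1 h.b
    have hbx : cj (ww K [1]) x = x := cj_eq_iff.2 xb.symm
    rw [e1, h.y, hy, cj_mul]
    have key : ∀ w : G, Commute w (ww K [1]) → cj (ww K [1] * w) (bb K a) = bb K a := by
      intro w hw
      apply cj_bb
      rw [← cj_cj, cj_eq_iff.2 hw, cj_eq_iff.2 (Commute.refl _)]
    cases g
    · simp only [Bool.false_eq_true, if_false]
      have c3 : Commute (ww K [1]) (cj (ww K [v]) x) := by
        have := cj_commute xb.symm (ww K [v])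
        rwa [cb] at this
      rw [nfw_true, key _ cvb, ← cj_cj, Bool.xor_false, cj_eq_iff.2 c3]
    · simp only [if_true]
      -- `b_{v+1} = b_v (λ_v b)`
      have cv1 : Commute (ww K [v ^^^ 1]) (ww K [1]) := by
        rw [single_commute]
        have := tc_facts (v := 1) (n := v) (by norm_num) hv (by decide) pv
        have t : ∀ v < 64, Sp.fN v 1 = false → Sp.fN (v ^^^ 1) 1 = false := by decide +kernel
        exact t v hv pv
      have esp : ww K [v ^^^ 1] = ww K [v] * (lam K v * ww K [1]) := by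
        have t : ∀ v < 64, Sp.fN v 1 = false → eqB [v ^^^ 1] [v, 1, v, v ^^^ 1, 1] = true := by decide +kernel
        rw [ww_eq K (t v hv pv)]
        unfold lam
        rw [ww_mul, ww_mul]; rfl
      have hlx : cj (lam K v) x = ww K [1] * x := by
        have h2 := h.U v hv pv
        rw [hvm, bb_true] at h2
        -- `x λ x = λ b`
        have hx : x⁻¹ = x := inv_of_sq h.sq
        have hl2 : lam K v * lam K v = 1 := by
          have t : ∀ v < 64, Sp.fN v 1 = false → eqB [1, v, v ^^^ 1, 1, v, v ^^^ 1] [] = true := by decide +kernel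
          unfold lam
          rw [ww_mul]; exact ww_one K (t v hv pv)
        have hli : (lam K v)⁻¹ = lam K v := inv_of_sq hl2
        have hlb : Commute (lam K v) (ww K [1]) := by
          unfold lam
          have t : ∀ v < 64, Sp.fN v 1 = false → eqB ([1, v, v ^^^ 1] ++ [1]) ([1] ++ [1, v, v ^^^ 1]) = true := by
            decide +kernel
          exact ww_commute K (t v hv pv)
        unfold cj at h2 ⊢
        rw [hx] at h2
        rw [hli]
        calc lam K v * x * lam K v = (lam K v * ww K [1]) * ww K [1] * x * lam K v := by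
              rw [mul_assoc (lam K v) (ww K [1]) (ww K [1]), z_sq, mul_one]
          _ = x * lam K v * x * ww K [1] * x * lam K v := by rw [h2]
          _ = x * lam K v * (x * ww K [1]) * x * lam K v := by group
          _ = x * lam K v * (ww K [1] * x) * x * lam K v := by rw [xb.eq]
          _ = x * lam K v * ww K [1] * (x * x) * lam K v := by group
          _ = x * (lam K v * ww K [1]) * lam K v := by rw [h.sq]; group
          _ = x * (ww K [1] * lam K v) * lam K v := by rw [hlb.eq]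
          _ = x * ww K [1] * (lam K v * lam K v) := by group
          _ = ww K [1] * x := by rw [hl2, mul_one, xb.eq]
      rw [nfw_true, key _ cv1, ← cj_cj]
      have e2 : cj (ww K [v ^^^ 1]) x = ww K [1] * cj (ww K [v]) x := by
        rw [esp, ← cj_cj, ← cj_cj, hbx, hlx, cj_mul, cb]
      have c3 : Commute (ww K [1]) (cj (ww K [v]) x) := by
        have := cj_commute xb.symm (ww K [v])
        rwa [cb] at this
      have e3 : bb K a * ww K [1] = bb K (Bool.xor a true) := by rw [← bb_true, bb_mul]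
      rw [e2, cj_mul, cj_eq_iff.2 (Commute.refl (ww K [1])), cj_eq_iff.2 c3, ← mul_assoc, e3]

end Cfsg.Agent.StdSpSix.AllXEx
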