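import Cfsg.Agent.StdSpSix.AllXEx

/-!
# Pattern `ALL`, `ε = 1`: the data `XD`
-/

set_option autoImplicit false
set_option maxHeartbeats 400000

namespace Cfsg.Agent.StdSpSix.AllXFin

open Cfsg.Agent.StandardComponent.SpTwo
open Cfsg.Agent.SporRec.TwoSp6
open Cfsg.Agent.StdSpSix.Words Cfsg.Agent.StdSpSix.Model Cfsg.Agent.StdSpSix.AllCode Cfsg.Agent.StdSpSix.AllFacts
open Cfsg.Agent.StdSpSix.AllFactsTwo Cfsg.Agent.StdSpSix.AllBase Cfsg.Agent.StdSpSix.AllSwapA
open Cfsg.Agent.StdSpSix.AllSwapB Cfsg.Agent.StdSpSix.AllSwapC Cfsg.Agent.StdSpSix.AllSwapD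
open Cfsg.Agent.StdSpSix.AllNf Cfsg.Agent.StdSpSix.AllNfEx Cfsg.Agent.StdSpSix.AllNfFin Cfsg.Agent.StdSpSix.AllXDef
open Cfsg.Agent.StdSpSix.AllXEx

variable {G V : Type*} [Group G] [AddCommGroup V] [Module (ZMod 2) V] {C : Ctx G V} {y h : G} (K : Coord C.S)

theorem nf_tc (hb : cj y (ww K [1]) = ww K [1]) {k l k' l' : ℕ} (hk : k < 64) (hl : l < 64) (hk' : k' < 64)
    (hl' : l' < 64) (pk : Sp.fN k' 1 = false) (pl : Sp.fN l' 1 = false) (e : cj y (ww K [k]) = ww K (nfw true k'))
    (e' : cj y (ww K [l]) = ww K (nfw true l')) : cj y (ww K [tc k l]) = ww K (nfw true (tc k' l')) := by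
  have zl : ∀ {c : ℕ}, Sp.fN c 1 = false → cj (ww K [1]) (ww K [c]) = ww K [c] := by
    intro c hc
    rw [cj_eq_iff]
    exact ((single_commute K).2 hc).symm
  have zz : cj (ww K [1]) (ww K [1]) = ww K [1] := cj_eq_iff.2 (Commute.refl _)
  obtain ⟨t1, t2, _⟩ := tc_facts hk' hl' pk pl
  rw [← cj_single K hk hl, ← cj_comp, e, e', nfw_true, nfw_true, nfw_true, ← cj_cj, cj_mul, b_fix K pk,
    cj_single K hk' hl', cj_mul, zz, zl t2]

/-- the values of `y` used -/
theorem Nf.table (hy : Nf K true true y) :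
    cj y (ww K [20]) = ww K (nfw true 21) ∧ cj y (ww K [22]) = ww K (nfw true 23) ∧
    cj y (ww K [48]) = ww K (nfw true 49) ∧ cj y (ww K [54]) = ww K (nfw true 55) := by
  have e6 : cj y (ww K [6]) = ww K (nfw true 7) := hy.six
  have e2 := hy.v 2 (by decide)
  have e16 := hy.v 16 (by decide)
  have e32 := hy.v 32 (by decide)
  have e4 := hy.v 4 (by decide)
  have e22 : cj y (ww K [22]) = ww K (nfw true 23) :=
    nf_tc K hy.b (k := 16) (l := 6) (k' := 16) (l' := 7) (by norm_num) (by norm_num) (by norm_num) (by norm_num)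
      (by decide) (by decide) e16 e6
  have e20 : cj y (ww K [20]) = ww K (nfw true 21) :=
    nf_tc K hy.b (k := 2) (l := 22) (k' := 2) (l' := 23) (by norm_num) (by norm_num) (by norm_num) (by norm_num)
      (by decide) (by decide) e2 e22
  have e52 : cj y (ww K [52]) = ww K (nfw true 53) :=
    nf_tc K hy.b (k := 32) (l := 20) (k' := 32) (l' := 21) (by norm_num) (by norm_num) (by norm_num) (by norm_num)
      (by decide) (by decide) e32 e20
  have e48 : cj y (ww K [48]) = ww K (nfw true 49) :=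
    nf_tc K hy.b (k := 4) (l := 52) (k' := 4) (l' := 53) (by norm_num) (by norm_num) (by norm_num) (by norm_num)
      (by decide) (by decide) e4 e52
  have e54 : cj y (ww K [54]) = ww K (nfw true 55) :=
    nf_tc K hy.b (k := 32) (l := 22) (k' := 32) (l' := 23) (by norm_num) (by norm_num) (by norm_num) (by norm_num)
      (by decide) (by decide) e32 e22
  exact ⟨e20, e22, e48, e54⟩

theorem Nf.lam (hy : Nf K true true y) : ∀ n ∈ [2, 4, 16, 32], cj y (lam K n) = lam K n := by
  intro n hn
  simp only [List.mem_cons, List.not_mem_nil, or_false] at hn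
  rcases hn with rfl | rfl | rfl | rfl
  · exact lam_fixed K (by norm_num) (by decide) hy.b (hy.v 2 (by decide)) (hy.v 3 (by decide))
  · exact lam_fixed K (by norm_num) (by decide) hy.b (hy.v 4 (by decide)) (hy.v 5 (by decide))
  · exact lam_fixed K (by norm_num) (by decide) hy.b (hy.v 16 (by decide)) (hy.v 17 (by decide))
  · exact lam_fixed K (by norm_num) (by decide) hy.b (hy.v 32 (by decide)) (hy.v 33 (by decide))

theorem Nf.yU (hy : Nf K true true y) : ∀ ks ∈ UL, cj y (ww K ks) = ww K ks :=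
  yU_of_gen K hy.b (Nf.lam K hy 2 (by decide)) (Nf.lam K hy 4 (by decide)) (Nf.lam K hy 16 (by decide))
    (Nf.lam K hy 32 (by decide))

theorem Nf.mul_t {X d : Bool} (hy : Nf K X d y) : Nf K X d (y * C.t) := by
  have e : ∀ ks, cj (y * C.t) (ww K ks) = cj y (ww K ks) := by
    intro ks; rw [← cj_cj, cj_t (ww_mem K _)]
  refine ⟨?_, ?_, ?_, ?_, ?_⟩
  · rw [← cj_cj, cj_eq_iff.2 (Commute.refl C.t), hy.t]
  · rw [e, hy.b]
  · intro k hk; rw [e, hy.v k hk]
  · rw [e, hy.six]
  · rw [e, hy.seven]

/-- the commutator of `y` and `h` -/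
theorem exists_comm (hh : IsH K [1, 2, 3] h) (hy : Nf K true true y) :
    ∃ y i, Nf K true true y ∧ cj y h = bb K i * h := by
  have b2 : ww K [1] * ww K [1] = 1 := z_sq K
  have l2 := lam_sq K
  have hb : cj h (ww K [1]) = ww K [1] := hh.fix 1 (by norm_num) (by decide) (by decide)
  have hl : cj h (ww K [1, 2, 3]) = ww K [1, 2, 3] := by
    have e : ww K [1, 2, 3] = ww K [1] * (ww K [2] * ww K [3]) := by rw [ww_mul, ww_mul]; rfl
    rw [e, cj_mul, cj_mul, hb, hh.fix 2 (by norm_num) (by decide) (by decide),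
      hh.fix 3 (by norm_num) (by decide) (by decide)]
  have yl : cj y (ww K [1, 2, 3]) = ww K [1, 2, 3] := Nf.lam K hy 2 (by decide)
  have y16 : cj y (ww K [1, 16, 17]) = ww K [1, 16, 17] := Nf.lam K hy 16 (by decide)
  have cbl : Commute (ww K [1]) (ww K [1, 2, 3]) := ww_commute K (by decide +kernel)
  have P : ∀ s, cj (cj y h) (cj y s) = cj y (cj h s) := fun s => cj_comp y h s
  have Hb : cj (cj y h) (ww K [1]) = ww K [1] := by
    have := P (ww K [1])
    rwa [hy.b, hb, hy.b] at this
  have Hl : cj (cj y h) (ww K [1, 2, 3]) = ww K [1, 2, 3] := by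
    have := P (ww K [1, 2, 3])
    rwa [yl, hl, yl] at this
  have Ht : cj (cj y h) C.t = C.t * ww K [1, 2, 3] := by
    have := P C.t
    rw [hy.t, hh.t, cj_mul, cj_mul, Hb, hy.t, yl] at this
    calc cj (cj y h) C.t = cj (cj y h) C.t * ww K [1] * ww K [1] := by rw [mul_assoc, b2, mul_one]
      _ = C.t * ww K [1] * ww K [1, 2, 3] * ww K [1] := by rw [this]
      _ = C.t * (ww K [1] * ww K [1, 2, 3]) * ww K [1] := by group
      _ = C.t * ww K [1, 2, 3] * (ww K [1] * ww K [1]) := by rw [cbl.eq]; group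
      _ = C.t * ww K [1, 2, 3] := by rw [b2, mul_one]
  have H16 : cj (cj y h) (ww K [1, 16, 17]) = ww K [1, 16, 17] * ww K [1, 2, 3] := by
    have := P (ww K [1, 16, 17])
    rwa [y16, hh.y1, cj_mul, y16, yl] at this
  have Hk : ∀ k ∈ [2, 4, 32], cj (cj y h) (ww K [k]) = ww K [k] := by
    intro k hk
    have p : k < 64 ∧ Sp.fN k 1 = false ∧ Sp.fN k 2 = false ∧ k ∈ [2, 3, 16, 17, 4, 5, 32, 33] := by
      simp only [List.mem_cons, List.not_mem_nil, or_false] at hk
      rcases hk with rfl | rfl | rfl <;> decide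
    have e := hy.v k p.2.2.2
    rw [nfw_true] at e
    have e' : ww K [k] = ww K [1] * cj y (ww K [k]) := by rw [e, ← mul_assoc, b2, one_mul]
    conv_lhs => rw [e']
    rw [cj_mul, Hb, P, hh.fix k p.1 p.2.1 p.2.2.1, ← e']
  -- the product
  have hc : ∀ s, cj (cj y h * h) s = cj (cj y h) (cj h s) := fun s => (cj_cj _ _ _).symm
  have ct : Commute (cj y h * h) C.t := by
    rw [← cj_eq_iff, hc, hh.t, cj_mul, Ht, Hl, mul_assoc, l2, mul_one]
  obtain ⟨x, hx, hx'⟩ := exists_L ct
  have fx : ∀ k, k < 64 → Sp.fN k 1 = false → Sp.fN k 2 = false → cj (cj y h) (ww K [k]) = ww K [k] →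
      cd K x k = k := by
    intro k hk p1 p2 e
    apply fix_of_commute K hk
    rw [← cj_eq_iff, ← hx _ (ww_mem K _), hc, hh.fix k hk p1 p2, e]
  have hx4 := ZlamOne K (fx 1 (by norm_num) (by decide) (by decide) Hb)
    (fx 2 (by norm_num) (by decide) (by decide) (Hk 2 (by decide)))
    (fx 4 (by norm_num) (by decide) (by decide) (Hk 4 (by decide)))
    (fx 32 (by norm_num) (by decide) (by decide) (Hk 32 (by decide))) (by
      apply coe_commute.1
      change Commute (x : G) (ww K [1, 16, 17])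
      rw [← cj_eq_iff, ← hx _ (ww_mem K _), hc, hh.y1, cj_mul, H16, Hl, mul_assoc, l2, mul_one])
  -- `x = b^i λ^j`
  have hxij : ∃ i j : Bool, (x : G) = bb K i * (if j then ww K [1, 2, 3] else 1) := by
    rcases hx4 with e | e | e | e
    · exact ⟨false, false, by rw [e, bb_false]; simp⟩
    · exact ⟨true, false, by rw [e, bb_true]; simp; rfl⟩
    · exact ⟨false, true, by rw [e, bb_false]; simp; rfl⟩
    · refine ⟨true, true, ?_⟩
      have e1 : ww K [1] * ww K [1, 2, 3] = ww K [2, 3] := by
        rw [ww_mul]; exact ww_eq K (by decide +kernel)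
      rw [e, bb_true]
      simp only [if_true]
      rw [e1]; rfl
  obtain ⟨i, j, hij⟩ := hxij
  have hxh : cj h (x : G) = x := by
    rw [hij, cj_mul, cj_bb K hb]
    congr 1
    cases j
    · simp [cj_one]
    · simpa using hl
  have xx : (x : G) * x = 1 := by
    have cbi : Commute (bb K i) (ww K [1, 2, 3]) := by
      cases i
      · rw [bb_false]; exact Commute.one_left _
      · exact cbl
    rw [hij]
    cases j
    · simp only [Bool.false_eq_true, if_false, mul_one]
      rw [bb_mul, Bool.xor_self, bb_false]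
    · simp only [if_true]
      calc bb K i * ww K [1, 2, 3] * (bb K i * ww K [1, 2, 3]) = bb K i * (ww K [1, 2, 3] * bb K i) * ww K [1, 2, 3] := by
            group
        _ = (bb K i * bb K i) * (ww K [1, 2, 3] * ww K [1, 2, 3]) := by rw [← cbi.eq]; group
        _ = 1 := by rw [l2, bb_mul, Bool.xor_self, bb_false, one_mul]
  have hinv : h⁻¹ = h := inv_of_sq hh.sq
  have hth : h * C.t * h = C.t * ww K [1, 2, 3] := by
    have := hh.t
    unfold cj at this
    rwa [hinv] at this
  have hxh' : h * (x : G) * h = x := by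
    have := hxh
    unfold cj at this
    rwa [hinv] at this
  have Hsq : cj y h * cj y h = 1 := cj_sq hh.sq y
  have hHx : cj y h = x * h := by
    rcases hx' with e | e
    · calc cj y h = cj y h * h * h := by rw [mul_assoc, hh.sq, mul_one]
        _ = x * h := by rw [e]
    · exfalso
      have e1 : cj y h = C.t * x * h := by
        calc cj y h = cj y h * h * h := by rw [mul_assoc, hh.sq, mul_one]
          _ = _ := by rw [e]
      rw [e1] at Hsq
      apply lam_ne_one K
      have cxt : Commute (x : G) C.t := C.commute_of_mem x.2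
      calc ww K [1, 2, 3] = C.t * C.t * ww K [1, 2, 3] * ((x : G) * x) := by rw [C.tt, xx, one_mul, mul_one]
        _ = C.t * (h * C.t * h) * ((x : G) * x) := by rw [hth]; group
        _ = C.t * (h * C.t * h) * (h * (x : G) * h) * x := by rw [hxh']; group
        _ = C.t * (h * C.t) * (h * h) * (x : G) * h * x := by group
        _ = C.t * (h * (C.t * x) * h) * x := by rw [hh.sq]; group
        _ = C.t * (h * (x * C.t) * h) * x := by rw [cxt.eq]
        _ = C.t * (h * x * (h * h) * C.t * h) * x := by rw [hh.sq]; group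
        _ = C.t * ((h * x * h) * (h * C.t * h)) * x := by group
        _ = C.t * (x * (h * C.t * h)) * x := by rw [hxh']
        _ = (C.t * x * h) * (C.t * h * x) := by group
        _ = (C.t * x * h) * (C.t * (h * x * (h * h))) := by rw [hh.sq, mul_one]; group
        _ = (C.t * x * h) * (C.t * ((h * x * h) * h)) := by group
        _ = (C.t * x * h) * (C.t * x * h) := by rw [hxh']; group
        _ = 1 := Hsq
  cases j
  · refine ⟨y, i, hy, ?_⟩
    rw [hHx, hij]
    simp
  · refine ⟨y * C.t, i, Nf.mul_t K hy, ?_⟩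
    have e1 : cj C.t h = ww K [1, 2, 3] * h := by
      unfold cj
      rw [C.t_inv]
      calc C.t * h * C.t = C.t * (h * C.t * h) * h := by
            calc C.t * h * C.t = C.t * (h * C.t) * (h * h) := by rw [hh.sq, mul_one]; group
              _ = _ := by group
        _ = C.t * C.t * ww K [1, 2, 3] * h := by rw [hth]; group
        _ = _ := by rw [C.tt, one_mul]
    have cbi : Commute (bb K i) (ww K [1, 2, 3]) := by
      cases i
      · rw [bb_false]; exact Commute.one_left _
      · exact cbl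
    rw [← cj_cj, e1, cj_mul, yl, hHx, hij]
    simp only [if_true]
    calc ww K [1, 2, 3] * (bb K i * ww K [1, 2, 3] * h) = (ww K [1, 2, 3] * bb K i) * ww K [1, 2, 3] * h := by group
      _ = bb K i * (ww K [1, 2, 3] * ww K [1, 2, 3]) * h := by rw [← cbi.eq]; group
      _ = bb K i * h := by rw [l2, mul_one]

theorem U16 : ∀ n < 64, Sp.fN n 1 = false → Sp.fN n 2 = true → (n ^^^ 16 < 64 ∧ Sp.fN (n ^^^ 16) 1 = false ∧
    Sp.fN (n ^^^ 16) 2 = false) ∧ ∃ e ∈ ([[], [1]] : List (List ℕ)),
    eqB [1, n, n ^^^ 1] ([1, 16, 17] ++ ([1, n ^^^ 16, n ^^^ 16 ^^^ 1] ++ e)) = true ∧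
    eqB ([1, 16, 17, 1] ++ ([1, n ^^^ 16, n ^^^ 16 ^^^ 1] ++ e)) ([1, n, n ^^^ 1] ++ [1]) = true := by decide +kernel

/-- the first involution `x_2 = h b_2` -/
theorem exists_two (hh : IsH K [1, 2, 3] h) (hy : Nf K true true y) {i : Bool} (hi : cj y h = bb K i * h) :
    XM K y 2 (h * ww K [2]) (Bool.xor i true) := by
  have hb : cj h (ww K [1]) = ww K [1] := hh.fix 1 (by norm_num) (by decide) (by decide)
  have h2 : cj h (ww K [2]) = ww K [2] := hh.fix 2 (by norm_num) (by decide) (by decide)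
  have c2 := cj_eq_iff.1 h2
  have b22 : ww K [2] * ww K [2] = 1 := by rw [← b_eq]; exact C.b_sq _
  have hl : cj h (ww K [1, 2, 3]) = ww K [1, 2, 3] := by
    have e : ww K [1, 2, 3] = ww K [1] * (ww K [2] * ww K [3]) := by rw [ww_mul, ww_mul]; rfl
    rw [e, cj_mul, cj_mul, hb, h2, hh.fix 3 (by norm_num) (by decide) (by decide)]
  have fixk : ∀ k < 64, Sp.fN k 1 = false → Sp.fN k 2 = false → cj (h * ww K [2]) (ww K [k]) = ww K [k] := by
    intro k hk p1 p2
    have e : cj (ww K [2]) (ww K [k]) = ww K [k] := by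
      rw [cj_eq_iff]; exact ((single_commute K).2 p2).symm
    rw [← cj_cj, e, hh.fix k hk p1 p2]
  have fixlam : ∀ n < 64, Sp.fN n 1 = false → Sp.fN n 2 = false → cj (h * ww K [2]) (lam K n) = lam K n := by
    intro n hn p1 p2
    have t : ∀ n < 64, Sp.fN n 1 = false → Sp.fN n 2 = false → Sp.fN (n ^^^ 1) 1 = false ∧ Sp.fN (n ^^^ 1) 2 = false := by
      decide +kernel
    obtain ⟨q1, q2⟩ := t n hn p1 p2
    rw [lam_eq, cj_mul, cj_mul, fixk 1 (by norm_num) (by decide) (by decide), fixk n hn p1 p2,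
      fixk _ (xor_lt hn (by norm_num)) q1 q2]
  have e16 : cj (h * ww K [2]) (ww K [1, 16, 17]) = ww K [1, 16, 17, 1] := by
    have e1 : cj (ww K [2]) (ww K [1, 16, 17]) = ww K [1, 18, 19] :=
      cj_lam K (v := 2) (n := 16) (by norm_num) (by norm_num) (by decide)
    have e2 : ww K [1, 18, 19] = ww K [1, 16, 17] * (ww K [2] * ww K [3]) := by
      rw [ww_mul, ww_mul]; exact ww_eq K (by decide +kernel)
    rw [← cj_cj, e1, e2, cj_mul, cj_mul, h2, hh.fix 3 (by norm_num) (by decide) (by decide), hh.y1, ww_mul, ww_mul,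
      ww_mul]
    exact ww_eq K (by decide +kernel)
  refine ⟨?_, ?_, ?_, ?_, ?_⟩
  · calc h * ww K [2] * (h * ww K [2]) = h * (ww K [2] * h) * ww K [2] := by group
      _ = (h * h) * (ww K [2] * ww K [2]) := by rw [← c2.eq]; group
      _ = 1 := by rw [hh.sq, b22, one_mul]
  · rw [← cj_cj, cj_eq_iff.2 (ww_t K [2]), hh.t]; rfl
  · exact fixk 1 (by norm_num) (by decide) (by decide)
  · intro n hn p1
    cases hf : Sp.fN n 2
    · rw [bb_false, mul_one]; exact fixlam n hn p1 hf
    · obtain ⟨⟨q0, q1, q2⟩, e, he, w1, w2⟩ := U16 n hn p1 hf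
      have fe : cj (h * ww K [2]) (ww K e) = ww K e := by
        simp only [List.mem_cons, List.not_mem_nil, or_false] at he
        rcases he with rfl | rfl
        · rw [ww_nil, cj_one]
        · exact fixk 1 (by norm_num) (by decide) (by decide)
      have f2 : cj (h * ww K [2]) (ww K [1, n ^^^ 16, n ^^^ 16 ^^^ 1]) = ww K [1, n ^^^ 16, n ^^^ 16 ^^^ 1] :=
        fixlam _ q0 q1 q2
      change cj (h * ww K [2]) (ww K [1, n, n ^^^ 1]) = ww K [1, n, n ^^^ 1] * ww K [1]
      rw [ww_eq K w1, ← ww_mul, ← ww_mul, cj_mul, cj_mul, e16, f2, fe, ww_mul, ww_mul, ww_eq K w2, ← ww_mul]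
      congr 1
      rw [ww_mul]
      exact ww_eq K w1
  · rw [cj_mul, hi, hy.v 2 (by decide), nfw_true]
    have c1 := cj_eq_iff.1 hb
    calc bb K i * h * (ww K [1] * ww K [2]) = bb K i * (h * ww K [1]) * ww K [2] := by group
      _ = (bb K i * ww K [1]) * (h * ww K [2]) := by rw [c1.eq]; group
      _ = _ := by rw [← bb_true, bb_mul]

/-- the seven involutions -/
theorem exists_xd (hh : IsH K [1, 2, 3] h) (hy : Nf K true true y) : ∃ y x a, XD K y x a := by
  obtain ⟨y, i, hy, hi⟩ := exists_comm K hh hy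
  have x2 := exists_two K hh hy hi
  generalize h * ww K [2] = g2 at x2
  generalize Bool.xor i true = a at x2
  obtain ⟨e20, e22, e48, e54⟩ := Nf.table K hy
  have x18 := x2.step K (by norm_num) (by decide) (v := 16) (by norm_num) (by decide) (by decide) (m' := 18) (by decide)
    (g := false) (hy.v 16 (by decide))
  rw [Bool.xor_false] at x18
  have x16 := x18.step K (by norm_num) (by decide) (v := 2) (by norm_num) (by decide) (by decide) (m' := 16) (by decide)
    (g := false) (hy.v 2 (by decide))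
  rw [Bool.xor_false] at x16
  have x50 := x2.step K (by norm_num) (by decide) (v := 48) (by norm_num) (by decide) (by decide) (m' := 50) (by decide)
    (g := true) e48
  have x4 := x50.step K (by norm_num) (by decide) (v := 54) (by norm_num) (by decide) (by decide) (m' := 4) (by decide)
    (g := true) e54
  rw [Bool.xor_assoc, Bool.xor_self, Bool.xor_false] at x4
  have x6 := x18.step K (by norm_num) (by decide) (v := 20) (by norm_num) (by decide) (by decide) (m' := 6) (by decide)
    (g := true) e20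
  rw [Bool.xor_true] at x6
  have x20 := x2.step K (by norm_num) (by decide) (v := 22) (by norm_num) (by decide) (by decide) (m' := 20) (by decide)
    (g := true) e22
  have x22 := x20.step K (by norm_num) (by decide) (v := 2) (by norm_num) (by decide) (by decide) (m' := 22) (by decide)
    (g := false) (hy.v 2 (by decide))
  rw [Bool.xor_false] at x22
  rw [Bool.xor_true] at x20 x22
  clear x50
  generalize cj (ww K [16]) g2 = g18 at x18 x16 x6
  generalize cj (ww K [2]) g18 = g16 at x16
  generalize cj (ww K [54]) (cj (ww K [48]) g2) = g4 at x4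
  generalize cj (ww K [20]) g18 = g6 at x6
  generalize cj (ww K [22]) g2 = g20 at x20 x22
  generalize cj (ww K [2]) g20 = g22 at x22
  let f : ℕ → G × Bool := fun m => if m = 2 then (g2, a) else if m = 16 then (g16, a) else if m = 18 then (g18, a) else
    if m = 4 then (g4, a) else if m = 6 then (g6, !a) else if m = 20 then (g20, !a) else (g22, !a)
  have hf : ∀ m ∈ ML, m < 64 ∧ XM K y m (f m).1 (f m).2 := by
    intro m hm
    simp only [ML, List.mem_cons, List.not_mem_nil, or_false] at hm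
    rcases hm with rfl | rfl | rfl | rfl | rfl | rfl | rfl
    · exact ⟨by norm_num, x2⟩
    · exact ⟨by norm_num, x16⟩
    · exact ⟨by norm_num, x18⟩
    · exact ⟨by norm_num, x4⟩
    · exact ⟨by norm_num, x6⟩
    · exact ⟨by norm_num, x20⟩
    · exact ⟨by norm_num, x22⟩
  refine ⟨y, fun m => (f m).1, fun m => (f m).2, ?_⟩
  refine ⟨hy.t, Nf.yU K hy, fun m hm => (hf m hm).2.sq, fun m hm => (hf m hm).2.t, fun m hm => (hf m hm).2.b, ?_,
    fun m hm => (hf m hm).2.y, rfl, rfl, rfl, rfl⟩
  intro m hm n hn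
  have p : n < 64 ∧ Sp.fN n 1 = false := by
    simp only [List.mem_cons, List.not_mem_nil, or_false] at hn
    rcases hn with rfl | rfl | rfl | rfl <;> decide
  have := (hf m hm).2.U n p.1 p.2
  rw [← ww_mul]
  exact this

end Cfsg.Agent.StdSpSix.AllXFin
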