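import Cfsg.Agent.StdSpSix.Defs
import Cfsg.Agent.StandardComponent.SpTwoModel
import Cfsg.Agent.StandardComponent.SpTwoAut

/-!
# From `PSp 3 F`, `|F| = 2`, to the context
-/

set_option autoImplicit false

namespace Cfsg.Agent.StdSpSix

open Subgroup
open Cfsg.Agent.StandardComponent

/-- If `C_G(t) = ⟨t⟩ × L` with `L ≅ PSp₆(2)` there is a context. -/
theorem exists_ctx_of_psp {G : Type*} [Group G] (L : Subgroup G) {t : G} (ht : t * t = 1) (htL : t ∉ L)
    (hcent : ∀ g : G, Commute g t ↔ g ∈ L ∨ t * g ∈ L) {F : Type*} [Field F] [Fintype F]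
    (hF : Fintype.card F = 2) (e : L ≃* Cfsg.PSp 3 F) :
    ∃ C : Ctx G (Fin 3 ⊕ Fin 3 → ZMod 2), C.t = t ∧ C.L = L := by
  obtain ⟨e'⟩ := SpTwoAut.exists_equiv hF
  exact ⟨⟨t, ht, L, mapData SpTwoModel.data (e.trans e').symm, SpTwoModel.card_V, hcent, htL⟩, rfl, rfl⟩

/-- Same, starting from `C_G(L) = ⟨t⟩` and `C_G(t) ≤ N_G(L)`. -/
theorem exists_ctx_of_centralizer {G : Type*} [Group G] (L : Subgroup G) (hL : Cfsg.IsQuasisimple L) {t : G}
    (ht : orderOf t = 2) (hK : centralizer (L : Set G) = zpowers t)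
    (hN : centralizer ({t} : Set G) ≤ normalizer (L : Set G)) {F : Type*} [Field F] [Fintype F]
    (hF : Fintype.card F = 2) (e : L ≃* Cfsg.PSp 3 F) :
    ∃ C : Ctx G (Fin 3 ⊕ Fin 3 → ZMod 2), C.t = t ∧ C.L = L := by
  obtain ⟨e'⟩ := SpTwoAut.exists_equiv hF
  have ht2 : t * t = 1 := by rw [← pow_two, ← ht, pow_orderOf_eq_one]
  have hcenter : Subgroup.center L = ⊥ := by
    have h1 := SpTwoAut.center_eq_bot
    rw [eq_bot_iff]
    intro x hx
    have h2 : (e.trans e') x ∈ Subgroup.center (Matrix.symplecticGroup (Fin 3) (ZMod 2)) := by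
      rw [Subgroup.mem_center_iff] at hx ⊢
      intro g
      have := congrArg (e.trans e') (hx ((e.trans e').symm g))
      rwa [map_mul, map_mul, MulEquiv.apply_symm_apply] at this
    rw [h1, Subgroup.mem_bot] at h2
    rw [Subgroup.mem_bot]
    exact (e.trans e').injective (by rw [h2, map_one])
  have htK : t ∈ centralizer (L : Set G) := by rw [hK]; exact mem_zpowers t
  have htL : t ∉ L := by
    intro h
    have h1 : (⟨t, h⟩ : L) ∈ Subgroup.center L := by
      rw [Subgroup.mem_center_iff]
      intro g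
      exact Subtype.ext (mem_centralizer_iff.1 htK g g.2)
    rw [hcenter, Subgroup.mem_bot] at h1
    have h2 : t = 1 := congrArg Subtype.val h1
    rw [h2, orderOf_one] at ht
    omega
  refine exists_ctx_of_psp L ht2 htL (fun g => ?_) hF e
  constructor
  · intro hg
    have hgN : g ∈ normalizer (L : Set G) := hN (mem_centralizer_singleton_iff.2 hg)
    obtain ⟨l, hl, h⟩ := SpTwoAut.exists_mul L (Group.isPerfect_def.1 hL.1) (by
      apply SpTwoAut.inner_of_equiv
      exact ((QuotientGroup.quotientMulEquivOfEq hcenter).trans QuotientGroup.quotientBot).trans (e.trans e')) g hgN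
    rw [hK, mem_zpowers_iff] at h
    obtain ⟨k, hk⟩ := h
    have h3 : g = l * t ^ k := by rw [hk]; group
    have hc : Commute t l := (mem_centralizer_iff.1 htK l hl).symm
    rcases Int.even_or_odd' k with ⟨m, rfl | rfl⟩
    · left
      rw [h3, zpow_mul]
      have : t ^ (2 : ℤ) = 1 := by rw [zpow_two, ht2]
      rw [this, one_zpow, mul_one]
      exact hl
    · right
      rw [h3, zpow_add, zpow_mul]
      have : t ^ (2 : ℤ) = 1 := by rw [zpow_two, ht2]
      rw [this, one_zpow, one_mul, zpow_one, ← mul_assoc, hc.eq, mul_assoc, ht2, mul_one]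
      exact hl
  · rintro (h | h)
    · exact (mem_centralizer_iff.1 htK g h)
    · have h1 := mem_centralizer_iff.1 htK _ h
      change g * t = t * g
      have h2 : t * (t * g * t) = t * (t * (t * g)) := by rw [h1]
      calc g * t = t * (t * g * t) := by
            rw [← mul_assoc, ← mul_assoc, ht2, one_mul]
        _ = t * (t * (t * g)) := h2
        _ = t * g := by rw [← mul_assoc t t (t * g), ht2, one_mul]

end Cfsg.Agent.StdSpSix
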