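import Cfsg.Agent.StdSpSix.Words
import Cfsg.Agent.StdSpSix.TRCount

/-!
# The sizes of the four classes of involutions of `Sp₆(2)`: `63`, `945`, `315`, `3780`
-/

set_option autoImplicit false

namespace Cfsg.Agent.StdSpSix.Counts

open Cfsg.Agent.StandardComponent.SpTwo
open Cfsg.Agent.SporRec.TwoSp6
open Cfsg.Agent.StdSpSix.Words

/-- counting a class through a parametrization with constant fibres -/
theorem card_class {α S : Type*} [Finite α] [Finite S] (P : α → Prop) (f : α → S) (I : S → Prop)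
    (hI : ∀ p, P p → I (f p)) (k : ℕ) (hk : ∀ x, I x → Nat.card {p : α // P p ∧ f p = x} = k) :
    Nat.card {p : α // P p} = Nat.card {x : S // I x} * k := by
  refine TRCount.card_of_fibres (fun p : {p : α // P p} => (⟨f p, hI p p.2⟩ : {x : S // I x})) k ?_
  rintro ⟨x, hx⟩
  rw [← hk x hx]
  exact Nat.card_congr
    { toFun := fun q => ⟨q.1.1, q.1.2, congrArg Subtype.val q.2⟩
      invFun := fun q => ⟨⟨q.1, q.2.1⟩, Subtype.ext q.2.2⟩
      left_inv := fun _ => rfl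
      right_inv := fun _ => rfl }

/-- the action of an element as a permutation of `V` -/
def actEquiv (g : Sp.S) : Sp.V ≃ Sp.V where
  toFun := Sp.act g
  invFun := Sp.act g⁻¹
  left_inv v := by rw [← Sp.act_mul, inv_mul_cancel, Sp.act_one]
  right_inv v := by rw [← Sp.act_mul, mul_inv_cancel, Sp.act_one]

/-- the coding as an equivalence -/
noncomputable def encEquiv : Fin 64 ≃ Sp.V :=
  Equiv.ofBijective (fun k => Sp.enc k.1)
    ⟨by
      have key : ∀ c d : Fin 64, Sp.enc c = Sp.enc d → c = d := by decide +kernel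
      exact fun c d h => key c d h,
     fun x => by
      obtain ⟨c, hc, rfl⟩ := Sp.exists_enc x
      exact ⟨⟨c, hc⟩, rfl⟩⟩

theorem enc_eq_iff {c d : ℕ} (hc : c < 64) (hd : d < 64) : Sp.enc c = Sp.enc d ↔ c = d := by
  constructor
  · intro h
    by_contra h'
    exact ne_of_enc hc hd h' h
  · rintro rfl; rfl

theorem enc_eq_zero {c : ℕ} (hc : c < 64) : Sp.enc c = 0 ↔ c = 0 := by
  rw [← enc_zero]
  exact enc_eq_iff hc (by norm_num)

theorem om_enc_zero (c d : ℕ) : Sp.om (Sp.enc c) (Sp.enc d) = 0 ↔ Sp.fN c d = false := by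
  rw [Sp.om_enc]
  cases Sp.fN c d <;> simp

theorem wc_lt {ks : List ℕ} (hk : ∀ k ∈ ks, k < 64) {c : ℕ} (hc : c < 64) : wc ks c < 64 := by
  induction ks with
  | nil => exact hc
  | cons k ks ih =>
    have h1 := ih (fun x hx => hk x (List.mem_cons_of_mem _ hx))
    have h2 : k < 64 := hk k List.mem_cons_self
    change tc k (wc ks c) < 64
    unfold tc
    split
    · exact Nat.xor_lt_two_pow (n := 6) h1 h2
    · exact h1

theorem W_eq_iff {ks ls : List ℕ} (hk : ∀ k ∈ ks, k < 64) (hl : ∀ k ∈ ls, k < 64) :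
    W ks = W ls ↔ ∀ c : Fin 64, wc ks c = wc ls c := by
  constructor
  · intro h c
    have h1 := act_W ks c
    rw [h, act_W] at h1
    exact ((enc_eq_iff (wc_lt hl c.2) (wc_lt hk c.2)).1 h1).symm
  · intro h
    exact W_eq fun c hc => h ⟨c, hc⟩

/-- pairs of distinct nonzero orthogonal vectors -/
def P2 (p : Sp.V × Sp.V) : Prop := p.1 ≠ 0 ∧ p.2 ≠ 0 ∧ p.2 ≠ p.1 ∧ Sp.om p.1 p.2 = 0

/-- the same on codes -/
def P2b (q : Fin 64 × Fin 64) : Prop := q.1.1 ≠ 0 ∧ q.2.1 ≠ 0 ∧ q.2.1 ≠ q.1.1 ∧ Sp.fN q.1 q.2 = false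

instance : DecidablePred P2b := fun _ => by unfold P2b; infer_instance

theorem P2_enc (q : Fin 64 × Fin 64) : P2 (Sp.enc q.1, Sp.enc q.2) ↔ P2b q := by
  unfold P2 P2b
  simp only [ne_eq, enc_eq_zero q.1.2, enc_eq_zero q.2.2, enc_eq_iff q.2.2 q.1.2, om_enc_zero]

theorem card_P2 : Nat.card {p // P2 p} = 1890 := by
  have h1 : Nat.card {q // P2b q} = 1890 := by
    rw [Nat.card_eq_fintype_card]
    decide +kernel
  rw [← h1]
  symm
  exact Nat.card_congr (Equiv.subtypeEquiv (Equiv.prodCongr encEquiv encEquiv) fun q => (P2_enc q).symm)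

theorem P2_act {g : Sp.S} {p : Sp.V × Sp.V} : P2 (Sp.act g p.1, Sp.act g p.2) ↔ P2 p := by
  have h0 : ∀ x, Sp.act g x = 0 ↔ x = 0 := fun x => by
    constructor
    · intro h
      exact Invol.act_inj (g := g) (h.trans (Invol.act_zero g).symm)
    · rintro rfl
      exact Invol.act_zero g
  have h1 : ∀ x y, Sp.act g x = Sp.act g y ↔ x = y := fun x y => ⟨fun h => Invol.act_inj h, fun h => by rw [h]⟩
  unfold P2
  simp only [ne_eq, h0, h1, Sp.act_om]

theorem exists_std {p : Sp.V × Sp.V} (h : P2 p) : ∃ g, Sp.act g p.1 = Sp.enc 1 ∧ Sp.act g p.2 = Sp.enc 2 :=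
  Sp.exists_pair h.1 h.2.1 h.2.2.1 h.2.2.2 (by decide) (by decide) (by decide) (by decide)

/-- the number of `c2` -/
theorem card_c2 : Nat.card {x : Sp.S // ∃ p, P2 p ∧ Sp.tr p.1 * Sp.tr p.2 = x} = 945 := by
  have h1 : Nat.card {p // P2 p} = Nat.card {x : Sp.S // ∃ p, P2 p ∧ Sp.tr p.1 * Sp.tr p.2 = x} * 2 := by
    apply card_class P2 (fun p => Sp.tr p.1 * Sp.tr p.2) (fun x => ∃ p, P2 p ∧ Sp.tr p.1 * Sp.tr p.2 = x)
    · intro p hp
      exact ⟨p, hp, rfl⟩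
    · rintro x ⟨p, hp, rfl⟩
      obtain ⟨g, hg1, hg2⟩ := exists_std hp
      have h2 : Nat.card {q : Fin 64 × Fin 64 // P2b q ∧ ∀ c : Fin 64, wc [q.1, q.2] c = wc [1, 2] c} = 2 := by
        rw [Nat.card_eq_fintype_card]
        decide +kernel
      refine Eq.trans ?_ h2
      refine Nat.card_congr ((Equiv.subtypeEquiv (Equiv.prodCongr (actEquiv g) (actEquiv g)) ?_).trans
        (Equiv.subtypeEquiv (Equiv.prodCongr encEquiv encEquiv) (p := fun q : Fin 64 × Fin 64 =>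
          P2b q ∧ ∀ c : Fin 64, wc [q.1, q.2] c = wc [1, 2] c)
          (q := fun p => P2 p ∧ Sp.tr p.1 * Sp.tr p.2 = Sp.tr (Sp.enc 1) * Sp.tr (Sp.enc 2)) ?_).symm)
      · intro q
        change _ ↔ P2 (Sp.act g q.1, Sp.act g q.2) ∧ Sp.tr (Sp.act g q.1) * Sp.tr (Sp.act g q.2) = _
        rw [P2_act, ← Sp.conj_tr, ← Sp.conj_tr, ← hg1, ← hg2, ← Sp.conj_tr, ← Sp.conj_tr]
        have e : ∀ a b : Sp.S, g * a * g⁻¹ * (g * b * g⁻¹) = g * (a * b) * g⁻¹ := fun a b => by group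
        rw [e, e, mul_left_inj, mul_right_inj]
      · intro q
        change _ ↔ P2 (Sp.enc q.1, Sp.enc q.2) ∧ Sp.tr (Sp.enc q.1) * Sp.tr (Sp.enc q.2) = _
        rw [P2_enc, ← W_eq_iff]
        · simp only [W_cons, W_nil, mul_one]
        · intro k hk
          simp only [List.mem_cons, List.not_mem_nil, or_false] at hk
          rcases hk with rfl | rfl
          · exact q.1.2
          · exact q.2.2
        · decide
  rw [card_P2] at h1
  omega

/-- the number of `a2` -/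
theorem card_a2 : Nat.card {x : Sp.S // ∃ p, P2 p ∧ Sp.tr p.1 * Sp.tr p.2 * Sp.tr (p.1 + p.2) = x} = 315 := by
  have h1 : Nat.card {p // P2 p} =
      Nat.card {x : Sp.S // ∃ p, P2 p ∧ Sp.tr p.1 * Sp.tr p.2 * Sp.tr (p.1 + p.2) = x} * 6 := by
    apply card_class P2 (fun p => Sp.tr p.1 * Sp.tr p.2 * Sp.tr (p.1 + p.2))
      (fun x => ∃ p, P2 p ∧ Sp.tr p.1 * Sp.tr p.2 * Sp.tr (p.1 + p.2) = x)
    · intro p hp
      exact ⟨p, hp, rfl⟩
    · rintro x ⟨p, hp, rfl⟩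
      obtain ⟨g, hg1, hg2⟩ := exists_std hp
      have h2 : Nat.card {q : Fin 64 × Fin 64 // P2b q ∧
          ∀ c : Fin 64, wc [q.1, q.2, q.1.1 ^^^ q.2.1] c = wc [1, 2, 3] c} = 6 := by
        rw [Nat.card_eq_fintype_card]
        decide +kernel
      refine Eq.trans ?_ h2
      refine Nat.card_congr ((Equiv.subtypeEquiv (Equiv.prodCongr (actEquiv g) (actEquiv g)) ?_).trans
        (Equiv.subtypeEquiv (Equiv.prodCongr encEquiv encEquiv) (p := fun q : Fin 64 × Fin 64 =>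
          P2b q ∧ ∀ c : Fin 64, wc [q.1, q.2, q.1.1 ^^^ q.2.1] c = wc [1, 2, 3] c)
          (q := fun p => P2 p ∧ Sp.tr p.1 * Sp.tr p.2 * Sp.tr (p.1 + p.2) =
            Sp.tr (Sp.enc 1) * Sp.tr (Sp.enc 2) * Sp.tr (Sp.enc 1 + Sp.enc 2)) ?_).symm)
      · intro q
        change _ ↔ P2 (Sp.act g q.1, Sp.act g q.2) ∧
          Sp.tr (Sp.act g q.1) * Sp.tr (Sp.act g q.2) * Sp.tr (Sp.act g q.1 + Sp.act g q.2) = _
        rw [P2_act, ← Sp.act_add, ← Sp.conj_tr, ← Sp.conj_tr, ← Sp.conj_tr, ← hg1, ← hg2, ← Sp.act_add,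
          ← Sp.conj_tr, ← Sp.conj_tr, ← Sp.conj_tr]
        have e : ∀ a b c : Sp.S, g * a * g⁻¹ * (g * b * g⁻¹) * (g * c * g⁻¹) = g * (a * b * c) * g⁻¹ :=
          fun a b c => by group
        rw [e, e, mul_left_inj, mul_right_inj]
      · intro q
        change _ ↔ P2 (Sp.enc q.1, Sp.enc q.2) ∧ Sp.tr (Sp.enc q.1) * Sp.tr (Sp.enc q.2) *
          Sp.tr (Sp.enc q.1 + Sp.enc q.2) = _
        rw [P2_enc, ← W_eq_iff, ← Sp.enc_xor, ← Sp.enc_xor]
        · simp only [W_cons, W_nil, mul_one, mul_assoc]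
          rfl
        · intro k hk
          simp only [List.mem_cons, List.not_mem_nil, or_false] at hk
          rcases hk with rfl | rfl | rfl
          · exact q.1.2
          · exact q.2.2
          · exact Nat.xor_lt_two_pow (n := 6) q.1.2 q.2.2
        · decide
  rw [card_P2] at h1
  omega

/-- triples of independent mutually orthogonal vectors -/
def P3 (p : Sp.V × Sp.V × Sp.V) : Prop := Invol.Ind p.1 p.2.1 p.2.2 ∧ Invol.Orth p.1 p.2.1 p.2.2

/-- the same on codes -/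
def P3b (q : Fin 64 × Fin 64 × Fin 64) : Prop :=
  (q.1.1 ≠ 0 ∧ q.2.1.1 ≠ 0 ∧ q.2.1.1 ≠ q.1.1 ∧ q.2.2.1 ≠ 0 ∧ q.2.2.1 ≠ q.1.1 ∧ q.2.2.1 ≠ q.2.1.1 ∧
    q.2.2.1 ≠ q.1.1 ^^^ q.2.1.1) ∧
  Sp.fN q.1 q.2.1 = false ∧ Sp.fN q.1 q.2.2 = false ∧ Sp.fN q.2.1 q.2.2 = false

instance : DecidablePred P3b := fun _ => by unfold P3b; infer_instance

theorem P3_enc (q : Fin 64 × Fin 64 × Fin 64) : P3 (Sp.enc q.1, Sp.enc q.2.1, Sp.enc q.2.2) ↔ P3b q := by
  unfold P3 P3b Invol.Ind Invol.Orth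
  have h : q.1.1 ^^^ q.2.1.1 < 64 := Nat.xor_lt_two_pow (n := 6) q.1.2 q.2.1.2
  simp only [← Sp.enc_xor, ne_eq, enc_eq_zero q.1.2, enc_eq_zero q.2.1.2, enc_eq_zero q.2.2.2,
    enc_eq_iff q.2.1.2 q.1.2, enc_eq_iff q.2.2.2 q.1.2, enc_eq_iff q.2.2.2 q.2.1.2, enc_eq_iff q.2.2.2 h, om_enc_zero]

theorem P3_act {g : Sp.S} {p : Sp.V × Sp.V × Sp.V} :
    P3 (Sp.act g p.1, Sp.act g p.2.1, Sp.act g p.2.2) ↔ P3 p := by
  have h0 : ∀ x, Sp.act g x = 0 ↔ x = 0 := fun x => by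
    constructor
    · intro h
      exact Invol.act_inj (g := g) (h.trans (Invol.act_zero g).symm)
    · rintro rfl
      exact Invol.act_zero g
  have h1 : ∀ x y, Sp.act g x = Sp.act g y ↔ x = y := fun x y => ⟨fun h => Invol.act_inj h, fun h => by rw [h]⟩
  unfold P3 Invol.Ind Invol.Orth
  simp only [ne_eq, h0, h1, Sp.act_om, ← Sp.act_add]

theorem exists_std3 {p : Sp.V × Sp.V × Sp.V} (h : P3 p) :
    ∃ g, Sp.act g p.1 = Sp.enc 1 ∧ Sp.act g p.2.1 = Sp.enc 2 ∧ Sp.act g p.2.2 = Sp.enc 4 :=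
  Invol.exists_triple h.1 h.2 (by decide) (by unfold Invol.Orth; decide)

theorem card_P3 : Nat.card {p // P3 p} = 22680 := by
  have h1 : Nat.card {p : Sp.V × Sp.V × Sp.V // P3 p} = Nat.card {x : Sp.V × Sp.V // P2 x} * 12 := by
    apply card_class P3 (fun p => (p.1, p.2.1)) P2
    · intro p hp
      exact ⟨hp.1.1, hp.1.2.1, hp.1.2.2.1, hp.2.1⟩
    · intro x hx
      obtain ⟨g, hg1, hg2⟩ := exists_std hx
      have h2 : Nat.card {q : Fin 64 // P3b (1, 2, q)} = 12 := by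
        rw [Nat.card_eq_fintype_card]
        decide +kernel
      refine Eq.trans ?_ h2
      refine Nat.card_congr
        { toFun := fun p => ⟨encEquiv.symm (Sp.act g p.1.2.2), ?_⟩
          invFun := fun q => ⟨(x.1, x.2, Sp.act g⁻¹ (Sp.enc q.1)), ?_, rfl⟩
          left_inv := ?_
          right_inv := ?_ }
      · obtain ⟨h3, h4⟩ := p.2
        rw [← P3_act (g := g)] at h3
        have h5 : p.1.1 = x.1 := congrArg Prod.fst h4
        have h6 : p.1.2.1 = x.2 := congrArg Prod.snd h4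
        rw [h5, h6, hg1, hg2] at h3
        rw [← P3_enc]
        have h7 : Sp.enc (encEquiv.symm (Sp.act g p.1.2.2)).1 = Sp.act g p.1.2.2 := encEquiv.apply_symm_apply _
        change P3 (Sp.enc 1, Sp.enc 2, Sp.enc (encEquiv.symm (Sp.act g p.1.2.2)).1)
        rw [h7]
        exact h3
      · rw [← P3_act (g := g)]
        change P3 (Sp.act g x.1, Sp.act g x.2, Sp.act g (Sp.act g⁻¹ (Sp.enc q.1)))
        rw [hg1, hg2, ← Sp.act_mul, mul_inv_cancel, Sp.act_one]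
        exact (P3_enc (1, 2, q.1)).2 q.2
      · rintro ⟨⟨p1, p2, p3⟩, h3, h4⟩
        have h5 : p1 = x.1 := congrArg Prod.fst h4
        have h6 : p2 = x.2 := congrArg Prod.snd h4
        have h7 : Sp.enc (encEquiv.symm (Sp.act g p3)).1 = Sp.act g p3 := encEquiv.apply_symm_apply _
        apply Subtype.ext
        change (x.1, x.2, Sp.act g⁻¹ (Sp.enc (encEquiv.symm (Sp.act g p3)).1)) = (p1, p2, p3)
        rw [h7, ← Sp.act_mul, inv_mul_cancel, Sp.act_one, h5, h6]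
      · rintro ⟨q, hq⟩
        apply Subtype.ext
        change encEquiv.symm (Sp.act g (Sp.act g⁻¹ (Sp.enc q.1))) = q
        rw [← Sp.act_mul, mul_inv_cancel, Sp.act_one]
        exact encEquiv.symm_apply_apply q
  rw [h1, card_P2]

theorem tr3_act {u w t : Sp.V} (ho : Invol.Orth u w t) (a : Sp.V) :
    Sp.act (Sp.tr u * Sp.tr w * Sp.tr t) a = a + (Sp.om a u • u + Sp.om a w • w + Sp.om a t • t) := by
  obtain ⟨h1, h2, h3⟩ := ho
  rw [Sp.om_symm] at h1 h2 h3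
  rw [Sp.act_mul, Sp.act_mul]
  have f1 : Sp.om (a + Sp.om a t • t) w = Sp.om a w := by
    rw [Sp.om_add', Invol.om_smul', h3, mul_zero, add_zero]
  have f2 : Sp.om (a + Sp.om a t • t + Sp.om a w • w) u = Sp.om a u := by
    rw [Sp.om_add', Sp.om_add', Invol.om_smul', Invol.om_smul', h2, h1, mul_zero, add_zero, mul_zero, add_zero]
  have e1 : Sp.act (Sp.tr t) a = a + Sp.om a t • t := Sp.act_tr _ _
  have e2 : ∀ b, Sp.act (Sp.tr w) b = b + Sp.om b w • w := fun b => Sp.act_tr _ _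
  have e3 : ∀ b, Sp.act (Sp.tr u) b = b + Sp.om b u • u := fun b => Sp.act_tr _ _
  rw [e1, e2, f1, e3, f2]
  abel

/-- a member of a triple is moved from some vector -/
theorem mem_of_tr3 {u w t : Sp.V} (hi : Invol.Ind u w t) (ho : Invol.Orth u w t) {x : Sp.S}
    (hx : Sp.tr u * Sp.tr w * Sp.tr t = x) :
    (∃ a, Sp.act x a = a + u) ∧ (∃ a, Sp.act x a = a + w) ∧ ∃ a, Sp.act x a = a + t := by
  have h3 : ∃ a, Sp.act x a = a + t := by
    obtain ⟨a, h1, h2, h3⟩ := Invol.exists_om_triple hi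
    refine ⟨a, ?_⟩
    rw [← hx, tr3_act ho, Sp.om_symm a u, Sp.om_symm a w, Sp.om_symm a t, h1, h2, h3, zero_smul, zero_smul,
      one_smul, zero_add, zero_add]
  obtain ⟨i1, i2, i3, i4, i5, i6, i7⟩ := hi
  have dbl : ∀ x y : Sp.V, x + (x + y) = y := fun x y => by rw [← add_assoc, Sp.add_self, zero_add]
  have dbl' : ∀ x y : Sp.V, x + y + y = x := fun x y => by rw [add_assoc, Sp.add_self, add_zero]
  have h2 : ∃ a, Sp.act x a = a + w := by
    have hi2 : Invol.Ind u t w := ⟨i1, i4, i5, i2, i3, fun h => i6 h.symm, fun h => i7 (by rw [h, dbl])⟩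
    obtain ⟨a, h1, h2, h3⟩ := Invol.exists_om_triple hi2
    refine ⟨a, ?_⟩
    rw [← hx, tr3_act ho, Sp.om_symm a u, Sp.om_symm a w, Sp.om_symm a t, h1, h2, h3, zero_smul, zero_smul,
      one_smul, zero_add, add_zero]
  have h1 : ∃ a, Sp.act x a = a + u := by
    have hi2 : Invol.Ind w t u := ⟨i2, i4, i6, i1, fun h => i3 h.symm, fun h => i5 h.symm,
      fun h => i7 (by rw [h, add_comm, dbl])⟩
    obtain ⟨a, h1, h2, h3⟩ := Invol.exists_om_triple hi2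
    refine ⟨a, ?_⟩
    rw [← hx, tr3_act ho, Sp.om_symm a u, Sp.om_symm a w, Sp.om_symm a t, h1, h2, h3, zero_smul, zero_smul,
      one_smul, add_zero, add_zero]
  exact ⟨h1, h2, h3⟩

theorem lt_eight {u : Sp.V} (h : ∃ a, Sp.act (W [1, 2, 4]) a = a + u) : ∃ k < 8, u = Sp.enc k := by
  obtain ⟨a, ha⟩ := h
  obtain ⟨c, hc, rfl⟩ := Sp.exists_enc a
  have key : ∀ c < 64, wc [1, 2, 4] c ^^^ c < 8 := by decide
  refine ⟨_, key c hc, ?_⟩
  rw [Sp.enc_xor, ← act_W, ha, add_assoc, add_comm u, ← add_assoc, Sp.add_self, zero_add]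

/-- triples below 8 -/
def P3s (q : Fin 8 × Fin 8 × Fin 8) : Prop :=
  (q.1.1 ≠ 0 ∧ q.2.1.1 ≠ 0 ∧ q.2.1.1 ≠ q.1.1 ∧ q.2.2.1 ≠ 0 ∧ q.2.2.1 ≠ q.1.1 ∧ q.2.2.1 ≠ q.2.1.1 ∧
    q.2.2.1 ≠ q.1.1 ^^^ q.2.1.1) ∧ ∀ c : Fin 64, wc [q.1, q.2.1, q.2.2] c = wc [1, 2, 4] c

instance : DecidablePred P3s := fun _ => by unfold P3s; infer_instance

/-- the number of `b3` -/
theorem card_b3 : Nat.card {x : Sp.S // ∃ p, P3 p ∧ Sp.tr p.1 * Sp.tr p.2.1 * Sp.tr p.2.2 = x} = 3780 := by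
  have h1 : Nat.card {p // P3 p} =
      Nat.card {x : Sp.S // ∃ p, P3 p ∧ Sp.tr p.1 * Sp.tr p.2.1 * Sp.tr p.2.2 = x} * 6 := by
    apply card_class P3 (fun p => Sp.tr p.1 * Sp.tr p.2.1 * Sp.tr p.2.2)
      (fun x => ∃ p, P3 p ∧ Sp.tr p.1 * Sp.tr p.2.1 * Sp.tr p.2.2 = x)
    · intro p hp
      exact ⟨p, hp, rfl⟩
    · rintro x ⟨p, hp, rfl⟩
      obtain ⟨g, hg1, hg2, hg3⟩ := exists_std3 hp
      have h2 : Nat.card {q : Fin 8 × Fin 8 × Fin 8 // P3s q} = 6 := by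
        rw [Nat.card_eq_fintype_card]
        decide +kernel
      refine Eq.trans ?_ h2
      have hstd : Sp.tr (Sp.act g p.1) * Sp.tr (Sp.act g p.2.1) * Sp.tr (Sp.act g p.2.2) = W [1, 2, 4] := by
        rw [hg1, hg2, hg3, W_cons, W_cons, W_cons, W_nil, mul_one, mul_assoc]
      have e : ∀ a b c : Sp.S, g * a * g⁻¹ * (g * b * g⁻¹) * (g * c * g⁻¹) = g * (a * b * c) * g⁻¹ :=
        fun a b c => by group
      refine Nat.card_congr ((Equiv.subtypeEquiv (Equiv.prodCongr (actEquiv g)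
        (Equiv.prodCongr (actEquiv g) (actEquiv g)))
          (q := fun p => P3 p ∧ Sp.tr p.1 * Sp.tr p.2.1 * Sp.tr p.2.2 = W [1, 2, 4]) ?_).trans ?_)
      · intro q
        change _ ↔ P3 (Sp.act g q.1, Sp.act g q.2.1, Sp.act g q.2.2) ∧
          Sp.tr (Sp.act g q.1) * Sp.tr (Sp.act g q.2.1) * Sp.tr (Sp.act g q.2.2) = _
        rw [P3_act, ← hstd, ← Sp.conj_tr, ← Sp.conj_tr, ← Sp.conj_tr, ← Sp.conj_tr, ← Sp.conj_tr, ← Sp.conj_tr,
          e, e, mul_left_inj, mul_right_inj]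
      · symm
        have hW : ∀ q : Fin 8 × Fin 8 × Fin 8, Sp.tr (Sp.enc q.1) * Sp.tr (Sp.enc q.2.1) * Sp.tr (Sp.enc q.2.2) =
            W [q.1, q.2.1, q.2.2] := fun q => by
          rw [W_cons, W_cons, W_cons, W_nil, mul_one, mul_assoc]
        have lt : ∀ k : Fin 8, k.1 < 64 := fun k => by omega
        have orth : ∀ k l : Fin 8, Sp.fN k.1 l.1 = false := by decide
        have hb : ∀ q : Fin 8 × Fin 8 × Fin 8, P3 (Sp.enc q.1, Sp.enc q.2.1, Sp.enc q.2.2) ↔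
            (q.1.1 ≠ 0 ∧ q.2.1.1 ≠ 0 ∧ q.2.1.1 ≠ q.1.1 ∧ q.2.2.1 ≠ 0 ∧ q.2.2.1 ≠ q.1.1 ∧ q.2.2.1 ≠ q.2.1.1 ∧
              q.2.2.1 ≠ q.1.1 ^^^ q.2.1.1) := fun q => by
          have := P3_enc (⟨q.1.1, lt _⟩, ⟨q.2.1.1, lt _⟩, ⟨q.2.2.1, lt _⟩)
          rw [this]
          unfold P3b
          constructor
          · exact fun h => h.1
          · exact fun h => ⟨h, orth _ _, orth _ _, orth _ _⟩
        refine Equiv.ofBijective (fun q => ⟨(Sp.enc q.1.1, Sp.enc q.1.2.1, Sp.enc q.1.2.2), ?_, ?_⟩) ⟨?_, ?_⟩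
        · exact (hb q.1).2 q.2.1
        · change Sp.tr (Sp.enc q.1.1) * Sp.tr (Sp.enc q.1.2.1) * Sp.tr (Sp.enc q.1.2.2) = _
          rw [hW]
          exact W_eq fun c hc => q.2.2 ⟨c, hc⟩
        · intro q r h
          have h1 := congrArg (fun z => z.1) h
          apply Subtype.ext
          have h2 : Sp.enc q.1.1 = Sp.enc r.1.1 := congrArg Prod.fst h1
          have h3 : Sp.enc q.1.2.1 = Sp.enc r.1.2.1 := congrArg (fun z => z.2.1) h1
          have h4 : Sp.enc q.1.2.2 = Sp.enc r.1.2.2 := congrArg (fun z => z.2.2) h1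
          rw [enc_eq_iff (lt _) (lt _)] at h2 h3 h4
          exact Prod.ext (Fin.ext h2) (Prod.ext (Fin.ext h3) (Fin.ext h4))
        · rintro ⟨⟨u, w, t⟩, h3, h4⟩
          obtain ⟨m1, m2, m3⟩ := mem_of_tr3 h3.1 h3.2 h4
          obtain ⟨k, hk, rfl⟩ := lt_eight m1
          obtain ⟨l, hl, rfl⟩ := lt_eight m2
          obtain ⟨m, hm, rfl⟩ := lt_eight m3
          refine ⟨⟨(⟨k, hk⟩, ⟨l, hl⟩, ⟨m, hm⟩), (hb (⟨k, hk⟩, ⟨l, hl⟩, ⟨m, hm⟩)).1 h3, ?_⟩, rfl⟩
          refine (W_eq_iff ?_ ?_).1 ((hW (⟨k, hk⟩, ⟨l, hl⟩, ⟨m, hm⟩)).symm.trans h4)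
          · intro x hx
            simp only [List.mem_cons, List.not_mem_nil, or_false] at hx
            omega
          · decide
  rw [card_P3] at h1
  omega

end Cfsg.Agent.StdSpSix.Counts
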