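import Cfsg.Agent.StandardComponent.SpTwo

/-!
# Common interface: a group `G` with an involution `t` such that `C_G(t) = ⟨t⟩ × L`, `L = Sp₆(2)`

`Ctx G V` packages `t`, `L`, and the symplectic space `V` (`|V| = 64`) on which `L` acts
(`SpTwo.SpData`, transvections `τ u`).  `C.conj g` is the context conjugated by `g`; its `t` is `g t g⁻¹`.
The goal of the whole directory: `∃ m : G →* ℤˣ, m C.t = -1`.
-/

set_option autoImplicit false

namespace Cfsg.Agent.StdSpSix

open Subgroup
open Cfsg.Agent.StandardComponent.SpTwo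

/-- Transport of a `SpData` along an isomorphism. -/
def mapData {X Y V : Type*} [Group X] [Group Y] [AddCommGroup V] [Module (ZMod 2) V]
    (S : SpData X V) (e : X ≃* Y) : SpData Y V where
  B := S.B
  ρ := S.ρ.comp e.symm.toMonoidHom
  alt := S.alt
  nondeg := S.nondeg
  inv g u v := S.inv _ u v
  inj := S.inj.comp e.symm.injective
  τ u := e (S.τ u)
  hτ w v := by
    change S.ρ (e.symm (e (S.τ w))) v = _
    rw [e.symm_apply_apply]
    exact S.hτ w v

/-- `C_G(t) = ⟨t⟩ × L` with `L` acting as the full isometry group of a symplectic space with 64 elements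
over the field with two elements. -/
structure Ctx (G V : Type*) [Group G] [AddCommGroup V] [Module (ZMod 2) V] where
  t : G
  tt : t * t = 1
  L : Subgroup G
  S : SpData L V
  cardV : Nat.card V = 64
  cent : ∀ g : G, Commute g t ↔ g ∈ L ∨ t * g ∈ L
  tL : t ∉ L

namespace Ctx

variable {G V : Type*} [Group G] [AddCommGroup V] [Module (ZMod 2) V] (C : Ctx G V)

/-- The conjugacy class of `t`. -/
def D : Set G := {x | ∃ g : G, x = g * C.t * g⁻¹}

/-- The transvections, as elements of `G`. -/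
def b (u : V) : G := (C.S.τ u : G)

theorem t_ne_one : C.t ≠ 1 := fun h => C.tL (by rw [h]; exact one_mem _)

theorem t_inv : C.t⁻¹ = C.t := inv_eq_of_mul_eq_one_right C.tt

theorem t_mem_D : C.t ∈ C.D := ⟨1, by group⟩

theorem D_conj {x : G} (hx : x ∈ C.D) (g : G) : g * x * g⁻¹ ∈ C.D := by
  obtain ⟨h, rfl⟩ := hx
  exact ⟨g * h, by group⟩

theorem D_conj_iff {x : G} (g : G) : g * x * g⁻¹ ∈ C.D ↔ x ∈ C.D := by
  refine ⟨fun h => ?_, fun h => C.D_conj h g⟩
  have := C.D_conj h g⁻¹
  have e : g⁻¹ * (g * x * g⁻¹) * g⁻¹⁻¹ = x := by group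
  rwa [e] at this

theorem D_sq {x : G} (hx : x ∈ C.D) : x * x = 1 := by
  obtain ⟨g, rfl⟩ := hx
  calc g * C.t * g⁻¹ * (g * C.t * g⁻¹) = g * (C.t * C.t) * g⁻¹ := by group
    _ = 1 := by rw [C.tt]; group

theorem D_ne_one {x : G} (hx : x ∈ C.D) : x ≠ 1 := by
  rintro rfl
  obtain ⟨g, hg⟩ := hx
  apply C.t_ne_one
  calc C.t = g⁻¹ * (g * C.t * g⁻¹) * g := by group
    _ = 1 := by rw [← hg]; group

theorem commute_of_mem {l : G} (hl : l ∈ C.L) : Commute l C.t := (C.cent l).2 (Or.inl hl)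

theorem b_mem (u : V) : C.b u ∈ C.L := (C.S.τ u).2

theorem b_sq (u : V) : C.b u * C.b u = 1 := congrArg Subtype.val (C.S.τ_sq u)

theorem b_zero : C.b 0 = 1 := congrArg Subtype.val C.S.τ_zero

theorem b_inj {u v : V} (h : C.b u = C.b v) : u = v := C.S.τ_injective (Subtype.ext h)

theorem b_commute_iff {u v : V} : Commute (C.b u) (C.b v) ↔ C.S.B u v = 0 := by
  constructor
  · intro h
    have h1 : Commute (C.S.τ u) (C.S.τ v) := Subtype.ext h
    have h2 := C.S.fix_of_τ_commute h1
    rw [C.S.hτ] at h2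
    rcases z2 (C.S.B u v) with h3 | h3
    · exact h3
    · rw [h3, one_smul] at h2
      have h4 : v = 0 := by
        have := add_left_cancel (h2.trans (add_zero u).symm)
        exact this
      rw [h4, map_zero]
  · intro h
    exact congrArg Subtype.val (C.S.τ_commute h)

/-- conjugation of a transvection by an element of `L` -/
theorem b_conj (g : C.L) (u : V) : (g : G) * C.b u * (g : G)⁻¹ = C.b (C.S.ρ g u) :=
  congrArg Subtype.val (C.S.conj_τ g u)

/-- The conjugated context. -/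
noncomputable def conj (g : G) : Ctx G V where
  t := g * C.t * g⁻¹
  tt := by
    calc g * C.t * g⁻¹ * (g * C.t * g⁻¹) = g * (C.t * C.t) * g⁻¹ := by group
      _ = 1 := by rw [C.tt]; group
  L := C.L.map (MulAut.conj g).toMonoidHom
  S := mapData C.S (C.L.equivMapOfInjective (MulAut.conj g).toMonoidHom (MulAut.conj g).injective)
  cardV := C.cardV
  cent x := by
    have h1 : ∀ y, y ∈ C.L.map (MulAut.conj g).toMonoidHom ↔ g⁻¹ * y * g ∈ C.L := by
      intro y
      constructor
      · rintro ⟨z, hz, rfl⟩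
        have : g⁻¹ * ((MulAut.conj g).toMonoidHom z) * g = z := by
          change g⁻¹ * (g * z * g⁻¹) * g = z
          group
        rw [this]; exact hz
      · intro h
        refine ⟨_, h, ?_⟩
        change g * (g⁻¹ * y * g) * g⁻¹ = y
        group
    rw [h1, h1]
    have h2 : g⁻¹ * (g * C.t * g⁻¹ * x) * g = C.t * (g⁻¹ * x * g) := by group
    rw [h2, ← C.cent]
    constructor
    · intro h
      have : x * (g * C.t * g⁻¹) = (g * C.t * g⁻¹) * x := h
      change g⁻¹ * x * g * C.t = C.t * (g⁻¹ * x * g)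
      calc g⁻¹ * x * g * C.t = g⁻¹ * (x * (g * C.t * g⁻¹)) * g := by group
        _ = C.t * (g⁻¹ * x * g) := by rw [this]; group
    · intro h
      have : g⁻¹ * x * g * C.t = C.t * (g⁻¹ * x * g) := h
      change x * (g * C.t * g⁻¹) = g * C.t * g⁻¹ * x
      calc x * (g * C.t * g⁻¹) = g * (g⁻¹ * x * g * C.t) * g⁻¹ := by group
        _ = g * C.t * g⁻¹ * x := by rw [this]; group
  tL := by
    rintro ⟨z, hz, h⟩
    apply C.tL
    have : z = C.t := by
      have h' : g * z * g⁻¹ = g * C.t * g⁻¹ := h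
      exact mul_left_cancel (mul_right_cancel h')
    rwa [this] at hz

@[simp] theorem conj_t (g : G) : (C.conj g).t = g * C.t * g⁻¹ := rfl

theorem mem_conj_L (g x : G) : x ∈ (C.conj g).L ↔ g⁻¹ * x * g ∈ C.L := by
  change x ∈ C.L.map (MulAut.conj g).toMonoidHom ↔ _
  constructor
  · rintro ⟨z, hz, rfl⟩
    have : g⁻¹ * ((MulAut.conj g).toMonoidHom z) * g = z := by
      change g⁻¹ * (g * z * g⁻¹) * g = z
      group
    rw [this]; exact hz
  · intro h
    refine ⟨_, h, ?_⟩
    change g * (g⁻¹ * x * g) * g⁻¹ = x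
    group

theorem conj_b (g : G) (u : V) : (C.conj g).b u = g * C.b u * g⁻¹ := rfl

theorem conj_B (g : G) : (C.conj g).S.B = C.S.B := rfl

theorem conj_D (g : G) : (C.conj g).D = C.D := by
  ext x
  constructor
  · rintro ⟨h, rfl⟩
    exact ⟨h * g, by rw [conj_t]; group⟩
  · rintro ⟨h, rfl⟩
    exact ⟨h * g⁻¹, by rw [conj_t]; group⟩

theorem conj_ρ (g : G) (l : C.L) (h : g * (l : G) * g⁻¹ ∈ (C.conj g).L) :
    (C.conj g).S.ρ ⟨g * l * g⁻¹, h⟩ = C.S.ρ l := by
  change C.S.ρ ((C.L.equivMapOfInjective (MulAut.conj g).toMonoidHom (MulAut.conj g).injective).symm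
    ⟨g * l * g⁻¹, h⟩) = C.S.ρ l
  congr 1
  rw [MulEquiv.symm_apply_eq]
  exact Subtype.ext rfl

/-- a context at every element of `D` -/
theorem exists_ctx {x : G} (hx : x ∈ C.D) : ∃ g, (C.conj g).t = x := by
  obtain ⟨g, rfl⟩ := hx
  exact ⟨g, rfl⟩

end Ctx

end Cfsg.Agent.StdSpSix
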