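import Mathlib

/-!
# Masks: the elementary abelian group of order 64 of `Sp₆(2)` as words of length seven modulo complements

Pure bit computations.  A mask `m < 128` is a set of nonzero vectors (codes `1, …, 7`) of a space with eight
elements, taken modulo complements (so `m < 64`); `T < 512` codes a linear map of that space.
A code `e < 128` of the group `⟨t⟩ × A` is a mask `< 64` plus `64` for `t`.
-/

set_option autoImplicit false
set_option linter.unusedSectionVars false

namespace Cfsg.Agent.StdSpSix.EMask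

/-- The linear map with code `T`. -/
def lin (T c : ℕ) : ℕ :=
  (if c.testBit 0 then T % 8 else 0) ^^^ ((if c.testBit 1 then T / 8 % 8 else 0) ^^^
    (if c.testBit 2 then T / 64 % 8 else 0))

def bt (m i x : ℕ) : ℕ := if m.testBit i then x else 0

/-- Image of a mask under a map of the points. -/
def pmf (f : ℕ → ℕ) (m : ℕ) : ℕ :=
  bt m 0 (2 ^ (f 1 - 1)) ^^^ (bt m 1 (2 ^ (f 2 - 1)) ^^^ (bt m 2 (2 ^ (f 3 - 1)) ^^^ (bt m 3 (2 ^ (f 4 - 1)) ^^^
    (bt m 4 (2 ^ (f 5 - 1)) ^^^ (bt m 5 (2 ^ (f 6 - 1)) ^^^ bt m 6 (2 ^ (f 7 - 1)))))))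

/-- Normalised mask. -/
def nm (m : ℕ) : ℕ := if m.testBit 6 then m ^^^ 127 else m

/-- Image of a mask under a linear map, normalised. -/
def qm (T m : ℕ) : ℕ := nm (pmf (lin T) m)

/-- Number of points. -/
def pc (m : ℕ) : ℕ := bt m 0 1 + bt m 1 1 + bt m 2 1 + bt m 3 1 + bt m 4 1 + bt m 5 1 + bt m 6 1

/-- Sum of the points. -/
def cx (m : ℕ) : ℕ := bt m 0 1 ^^^ (bt m 1 2 ^^^ (bt m 2 3 ^^^ (bt m 3 4 ^^^ (bt m 4 5 ^^^ (bt m 5 6 ^^^ bt m 6 7)))))

/-- The type: `0` identity, `1` transvection, `2` line, `3` product of two, `4` product of three independent. -/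
def ty (m : ℕ) : ℕ :=
  if cx m = 0 then (if pc m = 0 ∨ pc m = 7 then 0 else 2)
  else if pc m = 1 ∨ pc m = 6 then 1 else if pc m = 2 ∨ pc m = 5 then 3 else 4

/-- Representatives of the types. -/
def rep (k : ℕ) : ℕ := [0, 1, 7, 3, 11].getD k 0

/-- The points are mapped to points and the map is injective. -/
def good (T : ℕ) : Bool :=
  lin T 1 != 0 && lin T 2 != 0 && lin T 3 != 0 && lin T 4 != 0 && lin T 5 != 0 && lin T 6 != 0 && lin T 7 != 0

/-- Table of linear maps moving the representative to a given mask. -/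
def tab : List ℕ := [273, 273, 266, 273, 267, 281, 282, 273, 140, 161, 98, 273, 99, 281, 282, 501, 141, 169, 106, 337, 107, 345, 346, 500, 172, 161, 354, 499, 355, 498, 177, 190, 142, 177, 114, 401, 115, 409, 410, 492, 116, 417, 98, 491, 419, 106, 489, 125, 117, 425, 426, 99, 107, 482, 481, 124, 428, 474, 473, 123, 465, 122, 185, 143]

theorem tab_spec : ∀ m < 64, tab.getD m 0 < 512 ∧ good (tab.getD m 0) = true ∧ qm (tab.getD m 0) (rep (ty m)) = m := by
  decide +kernel

theorem good_lt : ∀ T < 512, ∀ c < 8, lin T c < 8 := by decide +kernel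

theorem good_pos {T c : ℕ} (h : good T = true) (h1 : 1 ≤ c) (h2 : c < 8) : 1 ≤ lin T c := by
  unfold good at h
  simp only [Bool.and_eq_true, bne_iff_ne] at h
  interval_cases c <;> omega

theorem ty_le : ∀ m < 64, ty m ≤ 4 := by decide +kernel

theorem ty_zero : ∀ m < 64, ty m = 0 → m = 0 := by decide +kernel

/-- Table of linear maps moving the pair `7, 25` of lines to a given pair of lines. -/
def tab2 : List (ℕ × ℕ × ℕ) := [(7, 25, 273), (7, 30, 401), (7, 42, 266), (7, 45, 330), (7, 51, 267), (7, 52, 331),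
  (25, 7, 161), (25, 30, 417), (25, 42, 140), (25, 45, 141), (25, 51, 204), (25, 52, 205), (30, 7, 177),
  (30, 25, 305), (30, 42, 142), (30, 45, 143), (30, 51, 207), (30, 52, 206), (42, 7, 98), (42, 25, 84),
  (42, 30, 86), (42, 45, 354), (42, 51, 212), (42, 52, 214), (45, 7, 106), (45, 25, 85), (45, 30, 87),
  (45, 42, 298), (45, 51, 215), (45, 52, 213), (51, 7, 99), (51, 25, 92), (51, 30, 95), (51, 42, 156),
  (51, 45, 159), (51, 52, 355), (52, 7, 107), (52, 25, 93), (52, 30, 94), (52, 42, 158), (52, 45, 157),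
  (52, 51, 299)]

theorem tab2_aux : ∀ x < 64, ∀ y < 64, ty x = 2 → ty y = 2 → x ≠ y →
    (tab2.any fun p => decide (p.2.2 < 512) && good p.2.2 && (qm p.2.2 7 == x) && (qm p.2.2 25 == y)) = true := by
  decide +kernel

theorem tab2_spec {x y : ℕ} (hx : x < 64) (hy : y < 64) (h1 : ty x = 2) (h2 : ty y = 2) (h3 : x ≠ y) :
    ∃ T < 512, good T = true ∧ qm T 7 = x ∧ qm T 25 = y := by
  have h := tab2_aux x hx y hy h1 h2 h3
  rw [List.any_eq_true] at h
  obtain ⟨p, -, hp⟩ := h
  simp only [Bool.and_eq_true, decide_eq_true_eq, beq_iff_eq] at hp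
  exact ⟨p.2.2, hp.1.1.1, hp.1.1.2, hp.1.2, hp.2⟩

/-! ### the subset of the group -/

/-- The indicator (as a word of 128 bits) of the subset with the given types. -/
def DM (x1 x2 x3 x4 x5 : Bool) : ℕ :=
  0x10000000000000000 + (bif x1 then 0x80000001000101160000000000000000 else 0) +
    (bif x2 then 0x182400420000800000000000000000 else 0) +
    (bif x3 then 0x68818116811616680000000000000000 else 0) +
    (bif x4 then 0x17665ae83ce8e8000000000000000000 else 0) + (bif x5 then 0x17665ae83ce8e800 else 0)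

theorem DM_lo : ∀ x1 x2 x3 x4 x5 : Bool, ∀ m < 64, (DM x1 x2 x3 x4 x5).testBit m = (x5 && ty m == 4) := by
  decide +kernel

theorem DM_hi : ∀ x1 x2 x3 x4 x5 : Bool, ∀ m < 64, (DM x1 x2 x3 x4 x5).testBit (m + 64) =
    [true, x1, x2, x3, x4].getD (ty m) false := by
  decide +kernel

open Finset

/-- Sum over an initial segment, in a form which is fast in the kernel. -/
noncomputable def sm (f : ℕ → ℕ) (n : ℕ) : ℕ := Nat.rec 0 (fun k s => Nat.add (f k) s) n

theorem sm_eq (f : ℕ → ℕ) (n : ℕ) : sm f n = ∑ i ∈ range n, f i := by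
  induction n with
  | zero => rfl
  | succ n ih =>
    rw [Finset.sum_range_succ, ← ih]
    exact Nat.add_comm (f n) (sm f n)

noncomputable def ifb (b v : ℕ) : ℕ := Nat.rec 0 (fun _ _ => v) b

/-- a bit, as a number -/
def b1 (M x : ℕ) : ℕ := Nat.land (Nat.shiftRight M x) 1

def b2 (M x y : ℕ) : ℕ := Nat.land (Nat.shiftRight M x) (Nat.land (Nat.shiftRight M y) 1)

def b4 (M x y z w : ℕ) : ℕ := Nat.land (Nat.shiftRight M x) (Nat.land (Nat.shiftRight M y)
  (Nat.land (Nat.shiftRight M z) (Nat.land (Nat.shiftRight M w) 1)))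

theorem land_one (n : ℕ) : Nat.land n 1 = (n.testBit 0).toNat := by
  have h : Nat.land n 1 = n &&& 1 := rfl
  rw [h, Nat.and_one_is_mod, Nat.toNat_testBit, pow_zero, Nat.div_one]

theorem land_toNat (n : ℕ) (b : Bool) : Nat.land n b.toNat = (n.testBit 0 && b).toNat := by
  cases b
  · rw [Bool.and_false]
    exact Nat.and_zero n
  · rw [Bool.and_true]
    exact land_one n

theorem testBit_shr (M x : ℕ) : (Nat.shiftRight M x).testBit 0 = M.testBit x := by
  have h : Nat.shiftRight M x = M >>> x := rfl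
  rw [h, Nat.testBit_shiftRight, add_zero]

theorem b1_eq (M x : ℕ) : b1 M x = (M.testBit x).toNat := by
  unfold b1
  rw [land_one, testBit_shr]

theorem b2_eq (M x y : ℕ) : b2 M x y = (M.testBit x && M.testBit y).toNat := by
  unfold b2
  rw [land_one, land_toNat, testBit_shr, testBit_shr]

theorem b4_eq (M x y z w : ℕ) :
    b4 M x y z w = (M.testBit x && (M.testBit y && (M.testBit z && M.testBit w))).toNat := by
  unfold b4
  rw [land_one, land_toNat, land_toNat, land_toNat, testBit_shr, testBit_shr, testBit_shr, testBit_shr]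

/-- Number of pairs with a given difference. -/
noncomputable def inv1 (M d : ℕ) : ℕ := sm (fun e => b2 M e (Nat.xor d e)) 128

/-- Number of planes through a point. -/
noncomputable def inv2 (M d : ℕ) : ℕ := sm (fun x => ifb (b1 M (Nat.xor d x))
  (sm (fun y => b2 M (Nat.xor d y) (Nat.xor d (Nat.xor x y))) 128)) 128

/-- Number of three dimensional spaces through a point. -/
noncomputable def inv3 (M d : ℕ) : ℕ := sm (fun x => ifb (b1 M (Nat.xor d x))
  (sm (fun y => ifb (b2 M (Nat.xor d y) (Nat.xor d (Nat.xor x y)))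
    (sm (fun z => b4 M (Nat.xor d z) (Nat.xor d (Nat.xor x z)) (Nat.xor d (Nat.xor y z))
      (Nat.xor d (Nat.xor x (Nat.xor y z)))) 128)) 128)) 128

theorem kill1 : ∀ x1 x2 x3 x4 : Bool, (x1 ^^ (x2 ^^ x3)) = true →
    inv1 (DM x1 x2 x3 x4 true) 64 ≠ inv1 (DM x1 x2 x3 x4 true) 11 := by
  decide +kernel

theorem kill2a : inv2 (DM false false true false false) 64 ≠ inv2 (DM false false true false false) 67 := by
  decide +kernel

theorem kill2b : inv2 (DM false false true true false) 64 ≠ inv2 (DM false false true true false) 67 := by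
  decide +kernel

theorem kill2c : inv2 (DM true false false true false) 64 ≠ inv2 (DM true false false true false) 65 := by
  decide +kernel

theorem kill3 : inv3 (DM true true true false false) 64 ≠ inv3 (DM true true true false false) 65 := by
  decide +kernel

/-- Sum of codes. -/
def xr (x y : Fin 128) : Fin 128 := ⟨x.val ^^^ y.val, Nat.xor_lt_two_pow (n := 7) x.2 y.2⟩

/-- A linear permutation of the codes. -/
def Lin (π : Equiv.Perm (Fin 128)) : Prop := ∀ x y, π (xr x y) = xr (π x) (π y)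

/-- A permutation preserving the subset. -/
def Pres (M : ℕ) (π : Equiv.Perm (Fin 128)) : Prop := ∀ x, M.testBit (π x).val = M.testBit x.val

section
variable {M : ℕ} {π : Equiv.Perm (Fin 128)} (hl : Lin π) (hp : Pres M π)
include hl hp

theorem p2 (x y : Fin 128) : M.testBit ((π x).val ^^^ (π y).val) = M.testBit (x.val ^^^ y.val) := by
  have h : (π x).val ^^^ (π y).val = (π (xr x y)).val := by rw [hl]; rfl
  rw [h, hp]
  rfl

theorem p3 (x y z : Fin 128) :
    M.testBit ((π x).val ^^^ ((π y).val ^^^ (π z).val)) = M.testBit (x.val ^^^ (y.val ^^^ z.val)) := by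
  have h : (π x).val ^^^ ((π y).val ^^^ (π z).val) = (π (xr x (xr y z))).val := by rw [hl, hl]; rfl
  rw [h, hp]
  rfl

theorem p4 (x y z w : Fin 128) : M.testBit ((π x).val ^^^ ((π y).val ^^^ ((π z).val ^^^ (π w).val))) =
    M.testBit (x.val ^^^ (y.val ^^^ (z.val ^^^ w.val))) := by
  have h : (π x).val ^^^ ((π y).val ^^^ ((π z).val ^^^ (π w).val)) = (π (xr x (xr y (xr z w)))).val := by
    rw [hl, hl, hl]; rfl
  rw [h, hp]
  rfl

theorem sm_map (f g : ℕ → ℕ) (h : ∀ x : Fin 128, f (π x).val = g x.val) : sm f 128 = sm g 128 := by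
  rw [sm_eq, sm_eq, ← Fin.sum_univ_eq_sum_range, ← Fin.sum_univ_eq_sum_range, ← Equiv.sum_comp π]
  exact sum_congr rfl fun x _ => h x

theorem b2_map (x y z : Fin 128) : b2 M ((π x).val ^^^ (π y).val) ((π x).val ^^^ (π z).val) =
    b2 M (x.val ^^^ y.val) (x.val ^^^ z.val) := by
  rw [b2_eq, b2_eq, p2 hl hp, p2 hl hp]

theorem inv1_map (d : Fin 128) : inv1 M (π d).val = inv1 M d.val := by
  refine sm_map hl hp _ _ fun e => ?_
  rw [b2_eq, b2_eq, hp]
  exact congrArg (fun b => (M.testBit e && b).toNat) (p2 hl hp d e)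

theorem inv2_map (d : Fin 128) : inv2 M (π d).val = inv2 M d.val := by
  refine sm_map hl hp _ _ fun x => ?_
  have h1 : b1 M (Nat.xor (π d).val (π x).val) = b1 M (Nat.xor d.val x.val) := by
    rw [b1_eq, b1_eq]
    exact congrArg Bool.toNat (p2 hl hp d x)
  rw [h1]
  refine congrArg (ifb _) ?_
  refine sm_map hl hp _ _ fun y => ?_
  rw [b2_eq, b2_eq]
  exact congrArg₂ (fun a b => (a && b).toNat) (p2 hl hp d y) (p3 hl hp d x y)

theorem inv3_map (d : Fin 128) : inv3 M (π d).val = inv3 M d.val := by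
  refine sm_map hl hp _ _ fun x => ?_
  have h1 : b1 M (Nat.xor (π d).val (π x).val) = b1 M (Nat.xor d.val x.val) := by
    rw [b1_eq, b1_eq]
    exact congrArg Bool.toNat (p2 hl hp d x)
  rw [h1]
  refine congrArg (ifb _) ?_
  refine sm_map hl hp _ _ fun y => ?_
  have h2 : b2 M (Nat.xor (π d).val (π y).val) (Nat.xor (π d).val (Nat.xor (π x).val (π y).val)) =
      b2 M (Nat.xor d.val y.val) (Nat.xor d.val (Nat.xor x.val y.val)) := by
    rw [b2_eq, b2_eq]
    exact congrArg₂ (fun a b => (a && b).toNat) (p2 hl hp d y) (p3 hl hp d x y)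
  rw [h2]
  refine congrArg (ifb _) ?_
  refine sm_map hl hp _ _ fun z => ?_
  rw [b4_eq, b4_eq]
  have e1 := p2 hl hp d z
  have e2 := p3 hl hp d x z
  have e3 := p3 hl hp d y z
  have e4 := p4 hl hp d x y z
  exact congrArg Bool.toNat (congrArg₂ and e1 (congrArg₂ and e2 (congrArg₂ and e3 e4)))

end

end Cfsg.Agent.StdSpSix.EMask
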