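import Cfsg.Agent.SporRec.TwoSp6.Invol
import Cfsg.Agent.StdSpSix.EMask

/-!
# The elementary abelian subgroup of order 64 of `Sp₆(2)` fixing a maximal isotropic subspace pointwise
-/

set_option autoImplicit false

namespace Cfsg.Agent.StdSpSix.EA

open Cfsg.Agent.SporRec.TwoSp6.Sp Cfsg.Agent.SporRec.TwoSp6.Lift Cfsg.Agent.SporRec.TwoSp6.Invol
  Cfsg.Agent.StdSpSix.EMask

theorem add_self' (x : V) : x + x = 0 := add_self x

/-! ### sums over masks -/

/-- Sum of a function over the points of a mask. -/
def sg (g : ℕ → V) (m : ℕ) : V := ∑ i ∈ Finset.range 7, if m.testBit i then g (i + 1) else 0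

theorem sg_xor (g : ℕ → V) (m n : ℕ) : sg g (m ^^^ n) = sg g m + sg g n := by
  unfold sg
  rw [← Finset.sum_add_distrib]
  refine Finset.sum_congr rfl fun i _ => ?_
  rw [Nat.testBit_xor]
  cases m.testBit i <;> cases n.testBit i <;> simp [add_self']

theorem sg_zero (g : ℕ → V) : sg g 0 = 0 := by
  unfold sg
  simp

theorem sg_two_pow (g : ℕ → V) {j : ℕ} (hj : j < 7) : sg g (2 ^ j) = g (j + 1) := by
  unfold sg
  simp only [Nat.testBit_two_pow, decide_eq_true_eq]
  rw [Finset.sum_ite_eq (Finset.range 7) j (fun i => g (i + 1)), if_pos (Finset.mem_range.2 hj)]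

theorem sg_bt (g : ℕ → V) (m i x : ℕ) : sg g (bt m i x) = if m.testBit i then sg g x else 0 := by
  unfold bt
  split_ifs with h
  · rfl
  · exact sg_zero g

theorem sg_pmf (g : ℕ → V) (f : ℕ → ℕ) (hf : ∀ c, 1 ≤ c → c < 8 → 1 ≤ f c ∧ f c < 8) (m : ℕ) :
    sg g (pmf f m) = sg (fun c => g (f c)) m := by
  have h : ∀ c, 1 ≤ c → c < 8 → sg g (2 ^ (f c - 1)) = g (f c) := by
    intro c h1 h2
    obtain ⟨h3, h4⟩ := hf c h1 h2
    rw [sg_two_pow g (by omega), Nat.sub_add_cancel h3]
  unfold pmf
  simp only [sg_xor, sg_bt]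
  rw [h 1 le_rfl (by omega), h 2 (by omega) (by omega), h 3 (by omega) (by omega), h 4 (by omega) (by omega),
    h 5 (by omega) (by omega), h 6 (by omega) (by omega), h 7 (by omega) (by omega)]
  unfold sg
  simp only [Finset.sum_range_succ, Finset.sum_range_zero, zero_add]
  abel

/-! ### the elements -/

/-- The factor of a point. -/
def fac (m i : ℕ) : S := if m.testBit i then tr (enc (i + 1)) else 1

/-- The product of the transvections of the points of a mask. -/
def a (m : ℕ) : S := fac m 0 * (fac m 1 * (fac m 2 * (fac m 3 * (fac m 4 * (fac m 5 * fac m 6)))))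

theorem om_small : ∀ c < 8, ∀ d < 8, om (enc c) (enc d) = 0 := by
  intro c hc d hd
  rw [om_enc]
  have : ∀ c < 8, ∀ d < 8, fN c d = false := by decide
  rw [this c hc d hd]
  rfl

/-- The displacement. -/
def dis (x : V) (c : ℕ) : V := om x (enc c) • enc c

theorem act_fac (m : ℕ) {i : ℕ} (_hi : i < 7) (x : V) :
    act (fac m i) x = x + if m.testBit i then dis x (i + 1) else 0 := by
  unfold fac
  split_ifs with h
  · rw [act_tr]; rfl
  · rw [act_one, add_zero]

theorem dis_shift {x y : V} (h : ∀ c < 8, om x (enc c) = om y (enc c)) {c : ℕ} (hc : c < 8) : dis x c = dis y c := by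
  unfold dis
  rw [h c hc]

/-- Vectors which differ by a vector of the isotropic subspace. -/
def Near (x y : V) : Prop := ∀ c < 8, om x (enc c) = om y (enc c)

theorem near_fac {x y : V} (m : ℕ) {i : ℕ} (hi : i < 7) (h : Near y x) : Near (act (fac m i) y) x := by
  intro c hc
  rw [act_fac m hi, om_add', h c hc]
  split_ifs with h1
  · unfold dis
    rw [om_smul', om_small (i + 1) (by omega) c hc, mul_zero, add_zero]
  · have : om (0 : V) (enc c) = 0 := by rw [om_symm]; exact om_zero _
    rw [this, add_zero]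

theorem near_refl (x : V) : Near x x := fun _ _ => rfl

theorem act_a (m : ℕ) (x : V) : act (a m) x = x + sg (dis x) m := by
  have key : ∀ {y : V} (_ : Near y x) {i : ℕ} (hi : i < 7), act (fac m i) y = y + if m.testBit i then dis x (i + 1) else 0 := by
    intro y hy i hi
    rw [act_fac m hi, dis_shift hy (by omega)]
  have n6 := near_fac m (i := 6) (by omega) (near_refl x)
  have n5 := near_fac m (i := 5) (by omega) n6
  have n4 := near_fac m (i := 4) (by omega) n5
  have n3 := near_fac m (i := 3) (by omega) n4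
  have n2 := near_fac m (i := 2) (by omega) n3
  have n1 := near_fac m (i := 1) (by omega) n2
  unfold a
  rw [act_mul, act_mul, act_mul, act_mul, act_mul, act_mul, key n1 (by omega), key n2 (by omega), key n3 (by omega),
    key n4 (by omega), key n5 (by omega), key n6 (by omega), key (near_refl x) (by omega)]
  unfold sg
  simp only [Finset.sum_range_succ, Finset.sum_range_zero, zero_add]
  abel

theorem near_a (m : ℕ) (x : V) : Near (act (a m) x) x := by
  unfold a
  rw [act_mul, act_mul, act_mul, act_mul, act_mul, act_mul]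
  exact near_fac m (by omega) (near_fac m (by omega) (near_fac m (by omega) (near_fac m (by omega)
    (near_fac m (by omega) (near_fac m (by omega) (near_fac m (by omega) (near_refl x)))))))

theorem sg_dis_near {x y : V} (h : Near y x) (m : ℕ) : sg (dis y) m = sg (dis x) m := by
  unfold sg
  refine Finset.sum_congr rfl fun i hi => ?_
  rw [Finset.mem_range] at hi
  rw [dis_shift h (by omega)]

theorem a_xor (m n : ℕ) : a (m ^^^ n) = a m * a n := by
  apply act_ext
  intro x
  rw [act_mul, act_a, act_a m, act_a n, sg_xor, ← act_a n, sg_dis_near (near_a n x), act_a n]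
  abel

theorem a_zero : a 0 = 1 := by
  apply act_ext
  intro x
  rw [act_a, sg_zero, act_one, add_zero]

theorem a_sq (m : ℕ) : a m * a m = 1 := by
  rw [← a_xor, Nat.xor_self, a_zero]

theorem a_comm (m n : ℕ) : a m * a n = a n * a m := by
  rw [← a_xor, ← a_xor, Nat.xor_comm]

theorem a_inv (m : ℕ) : (a m)⁻¹ = a m := inv_eq_of_mul_eq_one_right (a_sq m)

/-- Conjugation. -/
theorem conj_a {g : S} {f : ℕ → ℕ} (hf : ∀ c, 1 ≤ c → c < 8 → 1 ≤ f c ∧ f c < 8)
    (hg : ∀ c, 1 ≤ c → c < 8 → act g (enc c) = enc (f c)) (m : ℕ) : g * a m * g⁻¹ = a (pmf f m) := by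
  apply act_ext
  intro x
  rw [act_mul, act_mul, act_a, act_a, sg_pmf _ f hf, act_add, ← act_mul, mul_inv_cancel, act_one]
  congr 1
  unfold sg
  have hsum : ∀ (s : Finset ℕ) (h : ℕ → V), act g (∑ i ∈ s, h i) = ∑ i ∈ s, act g (h i) := by
    intro s h
    induction s using Finset.cons_induction with
    | empty => simp [act_zero]
    | cons i s hi ih => rw [Finset.sum_cons, Finset.sum_cons, act_add, ih]
  rw [hsum]
  refine Finset.sum_congr rfl fun i hi => ?_
  rw [Finset.mem_range] at hi
  split_ifs with h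
  · unfold dis
    have h1 : om (act g⁻¹ x) (enc (i + 1)) = om x (enc (f (i + 1))) := by
      rw [← hg (i + 1) (by omega) (by omega), ← act_om g (act g⁻¹ x) (enc (i + 1)), ← act_mul, mul_inv_cancel,
        act_one]
    rw [act_smul, hg (i + 1) (by omega) (by omega), h1]
  · exact act_zero g

end Cfsg.Agent.StdSpSix.EA
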