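import Cfsg.Agent.StdSpSix.Counts

/-!
# Facts on the context: `D ∩ L ⊆ b3`, and the number of `l ∈ L` with `t l ∈ D`

* `mem_L_b3` : an element of `D ∩ L` has type `b3`.
* `card_classfun` : `#{x | P x} = 1 + 63 [b1] + 945 [c2] + 315 [a2] + 3780 [b3]` for a class function `P` on involutions.
* `exists_hom_of_parity` : if an even number of `b1, c2, a2` satisfies `t x ∈ D` then `∃ m : G →* ℤˣ, m t = -1`.
-/

set_option autoImplicit false

namespace Cfsg.Agent.StdSpSix.Facts

open Subgroup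
open Cfsg.Agent.StandardComponent.SpTwo
open Cfsg.Agent.SporRec.TwoSp6
open Cfsg.Agent.StdSpSix.Words Cfsg.Agent.StdSpSix.Counts

/-! ### products of squares of commuting elements -/

/-- `x` is a product of squares of elements commuting with it. -/
def SqGen {Y : Type*} [Group Y] (x : Y) : Prop :=
  ∃ l : List Y, (∀ y ∈ l, Commute y x) ∧ x = (l.map fun y => y * y).prod

theorem SqGen.map {Y Z : Type*} [Group Y] [Group Z] (f : Y →* Z) {x : Y} (h : SqGen x) : SqGen (f x) := by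
  obtain ⟨l, h1, h2⟩ := h
  refine ⟨l.map f, ?_, ?_⟩
  · intro y hy
    obtain ⟨z, hz, rfl⟩ := List.mem_map.1 hy
    exact (h1 z hz).map f
  · conv_lhs => rw [h2]
    rw [map_list_prod, List.map_map, List.map_map]
    congr 1
    apply List.map_congr_left
    intro y _
    exact map_mul f y y

theorem SqGen.conj {Y : Type*} [Group Y] {x : Y} (g : Y) (h : SqGen (g * x * g⁻¹)) : SqGen x := by
  have := h.map (MulAut.conj g⁻¹).toMonoidHom
  have e : (MulAut.conj g⁻¹).toMonoidHom (g * x * g⁻¹) = x := by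
    change g⁻¹ * (g * x * g⁻¹) * g⁻¹⁻¹ = x
    group
  rwa [e] at this

theorem sqGen_b1 : SqGen (W [1]) := by
  refine ⟨[W [2, 16, 17], W [4, 32, 33], W [6, 16, 17]], ?_, ?_⟩
  · intro y hy
    simp only [List.mem_cons, List.not_mem_nil, or_false] at hy
    rcases hy with rfl | rfl | rfl <;> exact W_commute (by decide +kernel)
  · simp only [List.map_cons, List.map_nil, List.prod_cons, List.prod_nil, mul_one]
    rw [← W_append, ← W_append, ← W_append, ← W_append, ← W_append]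
    exact W_eq (by decide +kernel)

theorem sqGen_c2 : SqGen (W [1, 2]) := by
  refine ⟨[W [1, 24, 27]], ?_, ?_⟩
  · intro y hy
    simp only [List.mem_cons, List.not_mem_nil, or_false] at hy
    rcases hy with rfl
    exact W_commute (by decide +kernel)
  · simp only [List.map_cons, List.map_nil, List.prod_cons, List.prod_nil, mul_one]
    rw [← W_append]
    exact W_eq (by decide +kernel)

theorem sqGen_a2 : SqGen (W [1, 2, 3]) := by
  refine ⟨[W [4, 5, 32, 34]], ?_, ?_⟩
  · intro y hy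
    simp only [List.mem_cons, List.not_mem_nil, or_false] at hy
    rcases hy with rfl
    exact W_commute (by decide +kernel)
  · simp only [List.map_cons, List.map_nil, List.prod_cons, List.prod_nil, mul_one]
    rw [← W_append]
    exact W_eq (by decide +kernel)

section ctx
variable {G V : Type*} [Group G] [AddCommGroup V] [Module (ZMod 2) V] (C : Ctx G V)

theorem sq_mem {y : G} (h : Commute y C.t) : y * y ∈ C.L := by
  rcases (C.cent y).1 h with h1 | h1
  · exact mul_mem h1 h1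
  · have e : y * y = C.t * y * (C.t * y) := by
      calc y * y = (C.t * C.t) * (y * y) := by rw [C.tt, one_mul]
        _ = C.t * (C.t * y) * y := by group
        _ = C.t * (y * C.t) * y := by rw [h.eq]
        _ = C.t * y * (C.t * y) := by group
    rw [e]
    exact mul_mem h1 h1

/-- no element of `D` is a product of squares of elements commuting with it -/
theorem not_sqGen {x : G} (hx : x ∈ C.D) (h : SqGen x) : False := by
  obtain ⟨g, rfl⟩ := C.exists_ctx hx
  obtain ⟨l, h1, h2⟩ := h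
  apply (C.conj g).tL
  rw [h2]
  apply list_prod_mem
  intro z hz
  obtain ⟨y, hy, rfl⟩ := List.mem_map.1 hz
  exact sq_mem _ (h1 y hy)

/-- **elements of `D ∩ L` have type `b3`** -/
theorem mem_L_b3 {x : G} (hx : x ∈ C.D) (hL : x ∈ C.L) : IsB3 C.S ⟨x, hL⟩ := by
  obtain ⟨K⟩ := Model.exists_coord C.S C.cardV
  have h1 : (⟨x, hL⟩ : C.L) * ⟨x, hL⟩ = 1 := Subtype.ext (C.D_sq hx)
  have h2 : (⟨x, hL⟩ : C.L) ≠ 1 := fun h => C.D_ne_one hx (congrArg Subtype.val h)
  have key : ∀ {ks : List ℕ} {g : C.L}, SqGen (W ks) → g * ⟨x, hL⟩ * g⁻¹ = w K ks → False := by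
    intro ks g hs hg
    have h3 : SqGen (w K ks) := hs.map K.e.toMonoidHom
    rw [← hg] at h3
    have h4 : SqGen (⟨x, hL⟩ : C.L) := h3.conj
    exact not_sqGen C hx (h4.map C.L.subtype)
  rcases exists_conj K h1 h2 with ⟨_, g, hg⟩ | ⟨_, g, hg⟩ | ⟨_, g, hg⟩ | ⟨h, _⟩
  · exact (key sqGen_b1 hg).elim
  · exact (key sqGen_c2 hg).elim
  · exact (key sqGen_a2 hg).elim
  · exact h

end ctx

/-! ### counting class functions -/

theorem card_or {α : Type*} [Finite α] (p q : α → Prop) (h : ∀ x, p x → q x → False) :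
    Nat.card {x // p x ∨ q x} = Nat.card {x // p x} + Nat.card {x // q x} := by
  classical
  rw [← Nat.card_sum]
  refine Nat.card_congr (subtypeOrEquiv p q ?_)
  rw [Pi.disjoint_iff]
  intro x
  rw [Prop.disjoint_iff]
  exact fun h' => h x h'.1 h'.2

/-- conjugate to the word -/
def Cl (ks : List ℕ) (x : Sp.S) : Prop := ∃ g, g * x * g⁻¹ = W ks

/-- number of fixed vectors -/
noncomputable def nfix (x : Sp.S) : ℕ := Nat.card {v // Sp.act x v = v}

theorem nfix_conj (g x : Sp.S) : nfix (g * x * g⁻¹) = nfix x := by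
  unfold nfix
  symm
  refine Nat.card_congr (Equiv.subtypeEquiv (actEquiv g) ?_)
  intro v
  change _ ↔ Sp.act (g * x * g⁻¹) (Sp.act g v) = Sp.act g v
  rw [← Sp.act_mul, inv_mul_cancel_right, Sp.act_mul]
  exact ⟨fun h => by rw [h], fun h => Invol.act_inj h⟩

theorem nfix_W {ks : List ℕ} (hk : ∀ k ∈ ks, k < 64) : nfix (W ks) = Nat.card {c : Fin 64 // wc ks c = c} := by
  unfold nfix
  symm
  refine Nat.card_congr (Equiv.subtypeEquiv encEquiv ?_)
  intro c
  change _ ↔ Sp.act (W ks) (Sp.enc c) = Sp.enc c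
  rw [act_W, enc_eq_iff (wc_lt hk c.2) c.2]

theorem Cl.nfix {ks : List ℕ} (hk : ∀ k ∈ ks, k < 64) {x : Sp.S} (h : Cl ks x) :
    nfix x = Nat.card {c : Fin 64 // wc ks c = c} := by
  obtain ⟨g, hg⟩ := h
  rw [← nfix_W hk, ← hg, nfix_conj]

/-- alternating elements -/
def Alt (x : Sp.S) : Prop := ∀ v, Sp.om v (Sp.act x v) = 0

theorem alt_conj {g x : Sp.S} (h : Alt (g * x * g⁻¹)) : Alt x := by
  intro v
  have := h (Sp.act g v)
  rw [← Sp.act_mul, inv_mul_cancel_right, Sp.act_mul, Sp.act_om] at this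
  exact this

theorem Cl.alt {x : Sp.S} (h : Cl [1, 2, 3] x) : Alt x := by
  obtain ⟨g, hg⟩ := h
  apply alt_conj (g := g)
  rw [hg]
  intro v
  obtain ⟨c, hc, rfl⟩ := Sp.exists_enc v
  rw [act_W, om_enc_zero]
  have key : ∀ c < 64, Sp.fN c (wc [1, 2, 3] c) = false := by decide +kernel
  exact key c hc

theorem Cl.not_alt {x : Sp.S} (h : Cl [1, 2] x) : ¬ Alt x := by
  obtain ⟨g, hg⟩ := h
  intro ha
  have h1 : Alt (W [1, 2]) := by
    apply alt_conj (g := g⁻¹)
    rw [← hg]
    have e : g⁻¹ * (g * x * g⁻¹) * g⁻¹⁻¹ = x := by group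
    rw [e]
    exact ha
  have h2 := h1 (Sp.enc 8)
  rw [act_W, om_enc_zero] at h2
  revert h2
  decide

theorem cards : Nat.card {c : Fin 64 // wc [1] c = c} = 32 ∧ Nat.card {c : Fin 64 // wc [1, 2] c = c} = 16 ∧
    Nat.card {c : Fin 64 // wc [1, 2, 3] c = c} = 16 ∧ Nat.card {c : Fin 64 // wc [1, 2, 4] c = c} = 8 := by
  refine ⟨?_, ?_, ?_, ?_⟩ <;> (rw [Nat.card_eq_fintype_card]; decide +kernel)

theorem nfix_one : nfix 1 = 64 := by
  unfold nfix
  have : Nat.card {v : Sp.V // Sp.act 1 v = v} = Nat.card Sp.V :=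
    Nat.card_congr (Equiv.subtypeUnivEquiv fun v => Sp.act_one v)
  rw [this, ← Nat.card_congr encEquiv, Nat.card_eq_fintype_card, Fintype.card_fin]

theorem n1 {x : Sp.S} (h : Cl [1] x) : nfix x = 32 := (h.nfix (by decide)).trans cards.1
theorem n2 {x : Sp.S} (h : Cl [1, 2] x) : nfix x = 16 := (h.nfix (by decide)).trans cards.2.1
theorem n3 {x : Sp.S} (h : Cl [1, 2, 3] x) : nfix x = 16 := (h.nfix (by decide)).trans cards.2.2.1
theorem n4 {x : Sp.S} (h : Cl [1, 2, 4] x) : nfix x = 8 := (h.nfix (by decide)).trans cards.2.2.2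

theorem conj_prod2 (g a b : Sp.S) : g * (a * b) * g⁻¹ = g * a * g⁻¹ * (g * b * g⁻¹) := by group
theorem conj_prod3 (g a b c : Sp.S) : g * (a * b * c) * g⁻¹ = g * a * g⁻¹ * (g * b * g⁻¹) * (g * c * g⁻¹) := by group

theorem of_conj {g x y : Sp.S} (h : g * x * g⁻¹ = y) : x = g⁻¹ * y * g⁻¹⁻¹ := by rw [← h]; group

theorem card_Cl1 : Nat.card {x // Cl [1] x} = 63 := by
  have h1 : Nat.card {v : Sp.V // v ≠ 0} = 63 := by
    have h2 : Nat.card {c : Fin 64 // c.1 ≠ 0} = 63 := by rw [Nat.card_eq_fintype_card]; decide +kernel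
    rw [← h2]
    symm
    refine Nat.card_congr (Equiv.subtypeEquiv encEquiv fun c => ?_)
    change _ ↔ Sp.enc c ≠ 0
    rw [ne_eq, ne_eq, enc_eq_zero c.2]
  rw [← h1]
  symm
  refine Nat.card_congr (Equiv.ofBijective (fun v => ⟨Sp.tr v.1, ?_⟩) ⟨?_, ?_⟩)
  · obtain ⟨g, hg⟩ := Sp.exists_act v.2 (w := Sp.enc 1) (by decide)
    refine ⟨g, ?_⟩
    rw [Sp.conj_tr, hg, W_cons, W_nil, mul_one]
  · intro u v h
    have h2 : Sp.tr u.1 = Sp.tr v.1 := congrArg Subtype.val h
    obtain ⟨a, ha⟩ := Sp.exists_om_one u.2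
    have h3 := Sp.act_tr u.1 a
    rw [h2, Sp.act_tr, Sp.om_symm a u.1, ha, one_smul] at h3
    have h4 := add_left_cancel h3
    rcases Sp.om_cases a v.1 with h5 | h5
    · rw [h5, zero_smul] at h4
      exact absurd h4.symm u.2
    · rw [h5, one_smul] at h4
      exact Subtype.ext h4.symm
  · rintro ⟨x, g, hg⟩
    refine ⟨⟨Sp.act g⁻¹ (Sp.enc 1), Invol.act_ne (by decide)⟩, Subtype.ext ?_⟩
    change Sp.tr (Sp.act g⁻¹ (Sp.enc 1)) = x
    rw [of_conj hg, ← Sp.conj_tr, W_cons, W_nil, mul_one]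

theorem W1 (a : ℕ) : W [a] = Sp.tr (Sp.enc a) := by rw [W_cons, W_nil, mul_one]
theorem W2 (a b : ℕ) : W [a, b] = Sp.tr (Sp.enc a) * Sp.tr (Sp.enc b) := by rw [W_cons, W1]
theorem W3 (a b c : ℕ) : W [a, b, c] = Sp.tr (Sp.enc a) * Sp.tr (Sp.enc b) * Sp.tr (Sp.enc c) := by
  rw [W_cons, W2, mul_assoc]

theorem P2_std : P2 (Sp.enc 1, Sp.enc 2) := ⟨by decide, by decide, by decide, by decide⟩

theorem card_Cl2 : Nat.card {x // Cl [1, 2] x} = 945 := by
  rw [← card_c2]
  refine Nat.card_congr (Equiv.subtypeEquivRight fun x => ?_)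
  constructor
  · rintro ⟨g, hg⟩
    refine ⟨(Sp.act g⁻¹ (Sp.enc 1), Sp.act g⁻¹ (Sp.enc 2)), (P2_act (g := g⁻¹)).2 P2_std, ?_⟩
    rw [of_conj hg, W2, conj_prod2, Sp.conj_tr, Sp.conj_tr]
  · rintro ⟨p, hp, rfl⟩
    obtain ⟨g, h1, h2⟩ := exists_std hp
    refine ⟨g, ?_⟩
    rw [conj_prod2, Sp.conj_tr, Sp.conj_tr, h1, h2, W_cons, W_cons, W_nil, mul_one]

theorem card_Cl3 : Nat.card {x // Cl [1, 2, 3] x} = 315 := by
  rw [← card_a2]
  have e3 : Sp.enc 3 = Sp.enc 1 + Sp.enc 2 := Sp.enc_xor 1 2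
  refine Nat.card_congr (Equiv.subtypeEquivRight fun x => ?_)
  constructor
  · rintro ⟨g, hg⟩
    refine ⟨(Sp.act g⁻¹ (Sp.enc 1), Sp.act g⁻¹ (Sp.enc 2)), (P2_act (g := g⁻¹)).2 P2_std, ?_⟩
    rw [of_conj hg, W3, conj_prod3, Sp.conj_tr, Sp.conj_tr, Sp.conj_tr, e3, Sp.act_add]
  · rintro ⟨p, hp, rfl⟩
    obtain ⟨g, h1, h2⟩ := exists_std hp
    refine ⟨g, ?_⟩
    rw [conj_prod3, Sp.conj_tr, Sp.conj_tr, Sp.conj_tr, Sp.act_add, h1, h2, W3, e3]

theorem card_Cl4 : Nat.card {x // Cl [1, 2, 4] x} = 3780 := by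
  rw [← card_b3]
  have hs : P3 (Sp.enc 1, Sp.enc 2, Sp.enc 4) := ⟨by unfold Invol.Ind; decide, by unfold Invol.Orth; decide⟩
  refine Nat.card_congr (Equiv.subtypeEquivRight fun x => ?_)
  constructor
  · rintro ⟨g, hg⟩
    refine ⟨(Sp.act g⁻¹ (Sp.enc 1), Sp.act g⁻¹ (Sp.enc 2), Sp.act g⁻¹ (Sp.enc 4)), (P3_act (g := g⁻¹)).2 hs, ?_⟩
    rw [of_conj hg, W3, conj_prod3, Sp.conj_tr, Sp.conj_tr, Sp.conj_tr]
  · rintro ⟨p, hp, rfl⟩
    obtain ⟨g, h1, h2, h3⟩ := exists_std3 hp
    refine ⟨g, ?_⟩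
    rw [conj_prod3, Sp.conj_tr, Sp.conj_tr, Sp.conj_tr, h1, h2, h3, W3]

theorem card_and {α : Type*} [Finite α] (p : Prop) [Decidable p] (q : α → Prop) :
    Nat.card {x // p ∧ q x} = if p then Nat.card {x // q x} else 0 := by
  by_cases h : p
  · rw [if_pos h]
    exact Nat.card_congr (Equiv.subtypeEquivRight fun x => ⟨fun h' => h'.2, fun h' => ⟨h, h'⟩⟩)
  · rw [if_neg h]
    have : IsEmpty {x // p ∧ q x} := ⟨fun x => h x.2.1⟩
    exact Nat.card_of_isEmpty

/-- the number of elements satisfying a class function supported on involutions, concrete form -/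
theorem card_classfun_S (P : Sp.S → Prop) [DecidablePred P] (h1 : P 1) (h2 : ∀ x, P x → x * x = 1)
    (h3 : ∀ g x, P x → P (g * x * g⁻¹)) :
    Nat.card {x // P x} = 1 + ((if P (W [1]) then 63 else 0) + ((if P (W [1, 2]) then 945 else 0) +
      ((if P (W [1, 2, 3]) then 315 else 0) + if P (W [1, 2, 4]) then 3780 else 0))) := by
  have hc : ∀ {ks : List ℕ} {x : Sp.S}, Cl ks x → (P x ↔ P (W ks)) := by
    rintro ks x ⟨g, hg⟩
    constructor
    · intro h
      rw [← hg]
      exact h3 g x h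
    · intro h
      rw [of_conj hg]
      exact h3 _ _ h
  have h4 : ∀ x, P x ↔ x = 1 ∨ (P (W [1]) ∧ Cl [1] x) ∨ (P (W [1, 2]) ∧ Cl [1, 2] x) ∨
      (P (W [1, 2, 3]) ∧ Cl [1, 2, 3] x) ∨ (P (W [1, 2, 4]) ∧ Cl [1, 2, 4] x) := by
    intro x
    constructor
    · intro h
      by_cases hx1 : x = 1
      · exact Or.inl hx1
      right
      have hcl : Cl [1] x ∨ Cl [1, 2] x ∨ Cl [1, 2, 3] x ∨ Cl [1, 2, 4] x := by
        rcases Invol.classify (h2 x h) hx1 with ⟨u, hu, rfl⟩ | ⟨u, v, hu, hv, hvu, huv, rfl⟩ |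
          ⟨u, v, hu, hv, hvu, huv, rfl⟩ | ⟨u, v, t, hI, hO, rfl⟩
        · left
          obtain ⟨g, hg⟩ := Sp.exists_act hu (w := Sp.enc 1) (by decide)
          exact ⟨g, by rw [Sp.conj_tr, hg, W_cons, W_nil, mul_one]⟩
        · right; left
          obtain ⟨g, g1, g2⟩ := exists_std (p := (u, v)) ⟨hu, hv, hvu, huv⟩
          refine ⟨g, ?_⟩
          rw [conj_prod2, Sp.conj_tr, Sp.conj_tr, g1, g2, W_cons, W_cons, W_nil, mul_one]
        · right; right; left
          obtain ⟨g, g1, g2⟩ := exists_std (p := (u, v)) ⟨hu, hv, hvu, huv⟩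
          refine ⟨g, ?_⟩
          rw [conj_prod3, Sp.conj_tr, Sp.conj_tr, Sp.conj_tr, Sp.act_add, g1, g2, W3, ← Sp.enc_xor]
          rfl
        · right; right; right
          obtain ⟨g, g1, g2, g3⟩ := exists_std3 (p := (u, v, t)) ⟨hI, hO⟩
          refine ⟨g, ?_⟩
          rw [conj_prod3, Sp.conj_tr, Sp.conj_tr, Sp.conj_tr, g1, g2, g3, W3]
      rcases hcl with h' | h' | h' | h'
      · exact Or.inl ⟨(hc h').1 h, h'⟩
      · exact Or.inr (Or.inl ⟨(hc h').1 h, h'⟩)
      · exact Or.inr (Or.inr (Or.inl ⟨(hc h').1 h, h'⟩))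
      · exact Or.inr (Or.inr (Or.inr ⟨(hc h').1 h, h'⟩))
    · rintro (rfl | ⟨h, h'⟩ | ⟨h, h'⟩ | ⟨h, h'⟩ | ⟨h, h'⟩)
      · exact h1
      all_goals exact (hc h').2 h
  rw [Nat.card_congr (Equiv.subtypeEquivRight h4), card_or, card_or, card_or, card_or]
  · rw [card_and, card_and, card_and, card_and, card_Cl1, card_Cl2, card_Cl3, card_Cl4]
    congr 1
    rw [Nat.card_eq_fintype_card]
    exact Fintype.card_subtype_eq 1
  · rintro x ⟨_, h⟩ ⟨_, h'⟩
    have := n3 h
    rw [n4 h'] at this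
    omega
  · rintro x ⟨_, h⟩ (⟨_, h'⟩ | ⟨_, h'⟩)
    · exact h.not_alt h'.alt
    · have := n2 h
      rw [n4 h'] at this
      omega
  · rintro x ⟨_, h⟩ (⟨_, h'⟩ | ⟨_, h'⟩ | ⟨_, h'⟩)
    · have := n1 h
      rw [n2 h'] at this
      omega
    · have := n1 h
      rw [n3 h'] at this
      omega
    · have := n1 h
      rw [n4 h'] at this
      omega
  · rintro x rfl (⟨_, h'⟩ | ⟨_, h'⟩ | ⟨_, h'⟩ | ⟨_, h'⟩)
    · have := n1 h'
      rw [nfix_one] at this
      omega
    · have := n2 h'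
      rw [nfix_one] at this
      omega
    · have := n3 h'
      rw [nfix_one] at this
      omega
    · have := n4 h'
      rw [nfix_one] at this
      omega

/-- the number of elements satisfying a class function supported on involutions -/
theorem card_classfun {X V : Type*} [Group X] [AddCommGroup V] [Module (ZMod 2) V] {D : SpData X V}
    (K : Model.Coord D) (P : X → Prop) [DecidablePred P] (h1 : P 1) (h2 : ∀ x, P x → x * x = 1)
    (h3 : ∀ g x, P x → P (g * x * g⁻¹)) :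
    Nat.card {x // P x} = 1 + ((if P (w K [1]) then 63 else 0) + ((if P (w K [1, 2]) then 945 else 0) +
      ((if P (w K [1, 2, 3]) then 315 else 0) + if P (w K [1, 2, 4]) then 3780 else 0))) := by
  have := card_classfun_S (fun x => P (K.e x)) (by rw [map_one]; exact h1)
    (fun x hx => K.e.injective (by rw [map_mul, map_one]; exact h2 _ hx))
    (fun g x hx => by rw [map_mul, map_mul, map_inv]; exact h3 _ _ hx)
  change Nat.card {x // P (K.e x)} = _ at this
  rw [← Nat.card_congr (Equiv.subtypeEquiv K.e.toEquiv (fun x => Iff.rfl))]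
  exact this

/-! ### parity -/

section parity
variable {G V : Type*} [Group G] [AddCommGroup V] [Module (ZMod 2) V] (C : Ctx G V) (K : Model.Coord C.S)

/-- `t` times the word lies in `D` -/
def T (ks : List ℕ) : Prop := C.t * ((w K ks : C.L) : G) ∈ C.D

/-- membership `t x ∈ D` depends only on the class of `x` -/
theorem T_iff {ks : List ℕ} {x : C.L} (h : ∃ g : C.L, g * x * g⁻¹ = w K ks) : C.t * (x : G) ∈ C.D ↔ T C K ks := by
  obtain ⟨g, hg⟩ := h
  unfold T
  rw [← hg, ← C.D_conj_iff (x := C.t * (x : G)) (g : G)]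
  have hc : (g : G) * C.t = C.t * (g : G) := C.commute_of_mem g.2
  have e : (g : G) * (C.t * (x : G)) * (g : G)⁻¹ = C.t * ((g * x * g⁻¹ : C.L) : G) := by
    calc (g : G) * (C.t * (x : G)) * (g : G)⁻¹ = (g : G) * C.t * (x : G) * (g : G)⁻¹ := by group
      _ = C.t * ((g : G) * x * (g : G)⁻¹) := by rw [hc]; group
  rw [e]

open Classical in
/-- the number of `x ∈ L` with `t x ∈ D` -/
theorem card_T [Finite G] :
    Nat.card {x : C.L // C.t * (x : G) ∈ C.D} = 1 + ((if T C K [1] then 63 else 0) +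
      ((if T C K [1, 2] then 945 else 0) + ((if T C K [1, 2, 3] then 315 else 0) +
        if T C K [1, 2, 4] then 3780 else 0))) := by
  have := card_classfun K (fun x : C.L => C.t * (x : G) ∈ C.D) (by
      change C.t * ((1 : C.L) : G) ∈ C.D
      rw [Subgroup.coe_one, mul_one]; exact C.t_mem_D) (fun x hx => by
      have h1 := C.D_sq hx
      have hc : (x : G) * C.t = C.t * (x : G) := C.commute_of_mem x.2
      apply Subtype.ext
      change (x : G) * x = 1
      calc (x : G) * x = (C.t * C.t) * (x * x) := by rw [C.tt, one_mul]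
        _ = C.t * (C.t * x) * x := by group
        _ = C.t * (x * C.t) * x := by rw [hc]
        _ = C.t * x * (C.t * x) := by group
        _ = 1 := h1) (fun g x hx => by
      rw [← C.D_conj_iff (g : G)] at hx
      have hc : (g : G) * C.t = C.t * (g : G) := C.commute_of_mem g.2
      have e : (g : G) * (C.t * (x : G)) * (g : G)⁻¹ = C.t * ((g * x * g⁻¹ : C.L) : G) := by
        calc (g : G) * (C.t * (x : G)) * (g : G)⁻¹ = (g : G) * C.t * (x : G) * (g : G)⁻¹ := by group
          _ = C.t * ((g : G) * x * (g : G)⁻¹) := by rw [hc]; group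
      rw [e] at hx
      exact hx)
  rw [this]
  rfl

open Classical in
/-- the sign homomorphism of `C_G(t)` with kernel `L` -/
theorem exists_sign : ∃ l : centralizer ({C.t} : Set G) →* ℤˣ, ∀ x, l x = -1 ↔ (x : G) ∉ C.L := by
  have hm : ∀ x : centralizer ({C.t} : Set G), (x : G) ∈ C.L ∨ C.t * x ∈ C.L := fun x =>
    (C.cent x).1 (mem_centralizer_singleton_iff.1 x.2)
  have hcx : ∀ x : centralizer ({C.t} : Set G), (x : G) * C.t = C.t * x := fun x =>
    mem_centralizer_singleton_iff.1 x.2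
  have hno : ∀ x : G, x ∈ C.L → C.t * x ∈ C.L → False := fun x h1 h2 => by
    apply C.tL
    have := mul_mem h2 (inv_mem h1)
    rwa [mul_inv_cancel_right] at this
  refine ⟨MonoidHom.mk' (fun x => if (x : G) ∈ C.L then 1 else -1) ?_, ?_⟩
  · intro x y
    rw [Subgroup.coe_mul]
    by_cases hx : (x : G) ∈ C.L <;> by_cases hy : (y : G) ∈ C.L
    · rw [if_pos hx, if_pos hy, if_pos (mul_mem hx hy), one_mul]
    · rw [if_pos hx, if_neg hy, if_neg (fun h => hy ((Subgroup.mul_mem_cancel_left _ hx).1 h)), one_mul]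
    · rw [if_neg hx, if_pos hy, if_neg (fun h => hx ((Subgroup.mul_mem_cancel_right _ hy).1 h)), mul_one]
    · rw [if_neg hx, if_neg hy, if_pos, neg_mul_neg, one_mul]
      have h1 := (hm x).resolve_left hx
      have h2 := (hm y).resolve_left hy
      have e : (x : G) * y = C.t * x * (C.t * y) := by
        calc (x : G) * y = (C.t * C.t) * (x * y) := by rw [C.tt, one_mul]
          _ = C.t * (C.t * x) * y := by group
          _ = C.t * (x * C.t) * y := by rw [hcx]
          _ = C.t * x * (C.t * y) := by group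
      rw [e]
      exact mul_mem h1 h2
  · intro x
    change (if (x : G) ∈ C.L then (1 : ℤˣ) else -1) = -1 ↔ _
    by_cases hx : (x : G) ∈ C.L
    · rw [if_pos hx]
      exact ⟨fun h => absurd h (by decide), fun h => absurd hx h⟩
    · rw [if_neg hx]
      exact ⟨fun _ => hx, fun _ => rfl⟩

/-- an odd number of `x ∈ L` with `t x ∈ D` gives the homomorphism -/
theorem exists_hom_of_odd [Finite G] (h : Odd (Nat.card {x : C.L // C.t * (x : G) ∈ C.D})) :
    ∃ m : G →* ℤˣ, m C.t = -1 := by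
  obtain ⟨l, hl⟩ := exists_sign C
  apply TRCount.exists_hom_of_count l C.tt h
  congr 1
  refine Nat.card_congr
    { toFun := fun d => ⟨⟨C.t * d.1, ?_⟩, ?_⟩
      invFun := fun x => ⟨C.t * x.1, ?_, ?_, ?_⟩
      left_inv := ?_
      right_inv := ?_ }
  · obtain ⟨h1, h2, h3⟩ := d.2
    have h4 := (hl _).1 h3
    exact ((C.cent d.1).1 (mem_centralizer_singleton_iff.1 h2)).resolve_left h4
  · change C.t * (C.t * d.1) ∈ C.D
    rw [← mul_assoc, C.tt, one_mul]
    obtain ⟨g, hg⟩ := isConj_iff.1 d.2.1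
    exact ⟨g, hg.symm⟩
  · obtain ⟨g, hg⟩ := x.2
    exact isConj_iff.2 ⟨g, hg.symm⟩
  · rw [mem_centralizer_singleton_iff]
    have : ((x.1 : C.L) : G) * C.t = C.t * x.1 := C.commute_of_mem x.1.2
    rw [mul_assoc, this]
  · rw [hl]
    intro h1
    apply C.tL
    have := mul_mem h1 (inv_mem x.1.2)
    rwa [mul_inv_cancel_right] at this
  · intro d
    apply Subtype.ext
    change C.t * (C.t * d.1) = d.1
    rw [← mul_assoc, C.tt, one_mul]
  · intro x
    apply Subtype.ext
    apply Subtype.ext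
    change C.t * (C.t * x.1) = x.1
    rw [← mul_assoc, C.tt, one_mul]

open Classical in
/-- **parity**: of the three classes `b1, c2, a2` an odd number satisfies `t x ∈ D`, or the homomorphism exists. -/
theorem parity [Finite G] : (∃ m : G →* ℤˣ, m C.t = -1) ∨
    Odd ((if T C K [1] then 1 else 0) + (if T C K [1, 2] then 1 else 0) + (if T C K [1, 2, 3] then 1 else 0)) := by
  by_cases h : Odd (Nat.card {x : C.L // C.t * (x : G) ∈ C.D})
  · exact Or.inl (exists_hom_of_odd C h)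
  · right
    rw [card_T C K] at h
    revert h
    by_cases h1 : T C K [1] <;> by_cases h2 : T C K [1, 2] <;> by_cases h3 : T C K [1, 2, 3] <;>
      by_cases h4 : T C K [1, 2, 4] <;> simp only [h1, h2, h3, h4, if_true, if_false] <;> decide

end parity

end Cfsg.Agent.StdSpSix.Facts
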