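import Cfsg.Agent.StdSpSix.ELevel
import Cfsg.Agent.StdSpSix.Facts

/-!
# The three patterns

`main`: either there is a homomorphism to `{±1}` nontrivial on `t`, or `D ∩ L = ∅` and the classes `x` of involutions
of `L` with `t x ∈ D` are `{b1}`, `{a2}` or all four.
-/

set_option autoImplicit false

namespace Cfsg.Agent.StdSpSix.ELevelEnd

open Subgroup
open Cfsg.Agent.StandardComponent.SpTwo
open Cfsg.Agent.SporRec.TwoSp6
open Cfsg.Agent.StdSpSix.EMask Cfsg.Agent.StdSpSix.EA Cfsg.Agent.StdSpSix.EType Cfsg.Agent.StdSpSix.ELevel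
open Cfsg.Agent.StdSpSix.Words Cfsg.Agent.StdSpSix.Facts

section ctx
variable {G V : Type*} [Group G] [AddCommGroup V] [Module (ZMod 2) V] (C : Ctx G V) (K : Model.Coord C.S)

/-- the type `b3` lies in `D` -/
def T5 : Prop := ((w K [1, 2, 4] : C.L) : G) ∈ C.D

open Classical in
/-- The indicator. -/
noncomputable def MM : ℕ := DM (decide (T C K [1])) (decide (T C K [1, 2, 3])) (decide (T C K [1, 2]))
  (decide (T C K [1, 2, 4])) (decide (T5 C K))

theorem exists_conj_w {m : ℕ} (hm : m < 64) : ∃ g : C.L, g * K.e (a m) * g⁻¹ = w K (wd (ty m)) := by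
  obtain ⟨g, hg⟩ := exists_conj_word hm
  refine ⟨K.e g, ?_⟩
  unfold w
  rw [← hg, map_mul, map_mul, map_inv]

theorem ga_mem_D {m : ℕ} (hm : m < 64) : ga C K m ∈ C.D ↔ ((w K (wd (ty m)) : C.L) : G) ∈ C.D := by
  obtain ⟨g, hg⟩ := exists_conj_w C K hm
  rw [← hg]
  exact (C.D_conj_iff (g : G)).symm

theorem t_ga_mem_D {m : ℕ} (hm : m < 64) : C.t * ga C K m ∈ C.D ↔ T C K (wd (ty m)) :=
  T_iff C K (exists_conj_w C K hm)

theorem not_mem_of_sqGen {ks : List ℕ} (h : SqGen (W ks)) : ((w K ks : C.L) : G) ∉ C.D := by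
  intro h1
  exact not_sqGen C h1 ((h.map K.e.toMonoidHom).map C.L.subtype)

theorem ind_MM : ELevel.Ind C K (MM C K) := by
  classical
  intro e he
  unfold MM
  by_cases he6 : e < 64
  · rw [el_lo C K he6, ga_mem_D C K he6, DM_lo _ _ _ _ _ e he6, Bool.and_eq_true, beq_iff_eq, decide_eq_true_eq]
    have hty := ty_le e he6
    constructor
    · intro h
      have h4 : ty e = 4 := by
        interval_cases hk : ty e
        · exfalso
          have h0 : ((w K (wd 0) : C.L) : G) = 1 := by
            have : w K (wd 0) = 1 := map_one K.e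
            rw [this]; rfl
          exact C.D_ne_one h h0
        · exact (not_mem_of_sqGen C K sqGen_b1 h).elim
        · exact (not_mem_of_sqGen C K sqGen_a2 h).elim
        · exact (not_mem_of_sqGen C K sqGen_c2 h).elim
        · rfl
      rw [h4] at h
      exact ⟨h, h4⟩
    · rintro ⟨h, h4⟩
      rw [h4]
      exact h
  · obtain ⟨m, rfl⟩ := Nat.exists_eq_add_of_le' (not_lt.1 he6)
    have hm : m < 64 := by omega
    rw [el_hi C K hm, t_ga_mem_D C K hm, DM_hi _ _ _ _ _ m hm]
    have hty := ty_le m hm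
    interval_cases ty m
    · constructor
      · intro _; rfl
      · intro _
        have : w K (wd 0) = 1 := map_one K.e
        change C.t * ((w K (wd 0) : C.L) : G) ∈ C.D
        rw [this]
        change C.t * 1 ∈ C.D
        rw [mul_one]
        exact C.t_mem_D
    · exact (decide_eq_true_iff (p := T C K [1])).symm
    · exact (decide_eq_true_iff (p := T C K [1, 2, 3])).symm
    · exact (decide_eq_true_iff (p := T C K [1, 2])).symm
    · exact (decide_eq_true_iff (p := T C K [1, 2, 4])).symm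

/-! ### the pattern `{a2, b3}` -/

/-- the codes `t * (element of the given type)` -/
def tS (k : ℕ) : Finset (Fin 128) := Finset.univ.filter fun e => 64 ≤ e.val ∧ ty (e.val - 64) = k

def tD : Finset (Fin 128) := Finset.univ.filter fun e => (DM false true false true false).testBit e.val = true

theorem mem_tS {k : ℕ} {e : Fin 128} : e ∈ tS k ↔ 64 ≤ e.val ∧ ty (e.val - 64) = k := by
  unfold tS
  rw [Finset.mem_filter]
  exact ⟨fun h => h.2, fun h => ⟨Finset.mem_univ _, h⟩⟩

theorem mem_tD {e : Fin 128} : e ∈ tD ↔ (DM false true false true false).testBit e.val = true := by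
  unfold tD
  rw [Finset.mem_filter]
  exact ⟨fun h => h.2, fun h => ⟨Finset.mem_univ _, h⟩⟩

theorem false_of_a2b3 [Finite G] (hM : ELevel.Ind C K (DM false true false true false)) : False := by
  refine EGraph.Data.false (H := HH C K) (Δ := tD) (A := tS 2) (B := tS 4) (t := 64)
    ⟨by decide +kernel, by decide +kernel, by decide +kernel, by decide +kernel, by decide +kernel, by decide +kernel,
      ?_, ?_, ?_, ?_, ?_⟩
  · intro π hπ x hx
    rw [mem_tD] at hx ⊢
    rw [pres_of_mem C K hM hπ, hx]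
  · intro x hx
    rw [mem_tD] at hx
    exact trans_of_ind C K hM hx
  · intro π hπ ht x hx
    have hpx : π x ∈ tD := by
      rw [mem_tD, pres_of_mem C K hM hπ, ← mem_tD]
      have h1 : ∀ x ∈ tS 2, x ∈ tD := by decide +kernel
      exact h1 x hx
    have hcases : ∀ x ∈ tD, x = 64 ∨ x ∈ tS 2 ∨ x ∈ tS 4 := by decide +kernel
    have hx64 : x ≠ 64 := by
      rintro rfl
      revert hx
      decide +kernel
    rcases hcases _ hpx with h1 | h1 | h1
    · exact (hx64 (π.injective (h1.trans ht.symm))).elim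
    · exact h1
    · exfalso
      obtain ⟨n, hn⟩ := hπ
      obtain ⟨m, hm⟩ : ∃ m, m = x.val - 64 := ⟨_, rfl⟩
      obtain ⟨m', hm'⟩ : ∃ m', m' = (π x).val - 64 := ⟨_, rfl⟩
      rw [mem_tS] at hx h1
      rw [← hm] at hx
      rw [← hm'] at h1
      have hm64 : m < 64 := by have := x.2; omega
      have hm64' : m' < 64 := by have := (π x).2; omega
      have e1 : x.val = m + 64 := by omega
      have e2 : (π x).val = m' + 64 := by omega
      have h2 := hn x
      rw [e1, e2, el_hi C K hm64, el_hi C K hm64'] at h2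
      have h3 := hn 64
      rw [ht] at h3
      have e3 : el C K ((64 : Fin 128) : ℕ) = C.t := el_t C K
      rw [e3] at h3
      have h4 : n * ga C K m * n⁻¹ = ga C K m' := by
        have h5 : n * (C.t * ga C K m) * n⁻¹ = n * C.t * n⁻¹ * (n * ga C K m * n⁻¹) := by group
        rw [h5, h3] at h2
        exact mul_left_cancel h2
      have hnt : Commute n C.t := by
        change n * C.t = C.t * n
        rw [← mul_inv_eq_iff_eq_mul]
        exact h3
      -- conjugation by an element of `L`
      have h6 : ∃ l : C.L, (l : G) * ga C K m * (l : G)⁻¹ = ga C K m' := by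
        rcases (C.cent n).1 hnt with h7 | h7
        · exact ⟨⟨n, h7⟩, h4⟩
        · refine ⟨⟨C.t * n, h7⟩, ?_⟩
          change C.t * n * ga C K m * (C.t * n)⁻¹ = ga C K m'
          calc C.t * n * ga C K m * (C.t * n)⁻¹ = C.t * (n * ga C K m * n⁻¹) * C.t⁻¹ := by group
            _ = C.t * ga C K m' * C.t⁻¹ := by rw [h4]
            _ = ga C K m' * C.t * C.t⁻¹ := by rw [ga_t]
            _ = ga C K m' := by group
      obtain ⟨l, hl⟩ := h6
      obtain ⟨g, rfl⟩ := K.e.surjective l
      have h8 : g * a m * g⁻¹ = a m' := by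
        apply K.e.injective
        rw [map_mul, map_mul, map_inv]
        exact Subtype.ext hl
      have h9 : EType.Alt (a m') := by
        rw [← h8]
        exact ((alt_a hm64).2 (Or.inr hx.2)).conj g
      have h10 := (alt_a hm64').1 h9
      rw [h1.2] at h10
      omega
  · refine ⟨71, 89, fun x hx y hy hxy => ?_⟩
    rw [mem_tS] at hx hy
    have hx' := x.2
    have hy' := y.2
    obtain ⟨T, hT, hg, h1, h2⟩ := tab2_spec (x := x.val - 64) (y := y.val - 64) (by omega) (by omega) hx.2 hy.2 (by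
      intro h
      apply hxy
      apply Fin.ext
      omega)
    obtain ⟨π, hπ, h3, h4⟩ := exists_perm_lin C K hT hg
    refine ⟨π, hπ, h3, ?_, ?_⟩
    · apply Fin.ext
      have := h4 7 (by norm_num)
      rw [h1] at this
      have e1 : (π 71).val = x.val - 64 + 64 := this
      omega
    · apply Fin.ext
      have := h4 25 (by norm_num)
      rw [h2] at this
      have e1 : (π 89).val = y.val - 64 + 64 := this
      omega
  · refine ⟨75, fun x hx => ?_⟩
    rw [mem_tS] at hx
    have hx' := x.2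
    obtain ⟨h1, h2, h5⟩ := tab_spec (x.val - 64) (by omega)
    obtain ⟨π, hπ, h3, h4⟩ := exists_perm_lin C K h1 h2
    refine ⟨π, hπ, h3, ?_⟩
    apply Fin.ext
    have := h4 11 (by norm_num)
    have e0 : rep (ty (x.val - 64)) = 11 := by rw [hx.2]; rfl
    rw [e0] at h5
    rw [h5] at this
    have e1 : (π 75).val = x.val - 64 + 64 := this
    omega

/-! ### the patterns -/

theorem patterns [Finite G] : ∀ x1 x2 x3 x4 x5 : Bool, (x1 ^^ (x2 ^^ x3)) = true → ELevel.Ind C K (DM x1 x2 x3 x4 x5) →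
    x5 = false ∧ ((x1 = true ∧ x3 = false ∧ x2 = false ∧ x4 = false) ∨
      (x1 = false ∧ x3 = false ∧ x2 = true ∧ x4 = false) ∨ (x1 = true ∧ x3 = true ∧ x2 = true ∧ x4 = true)) := by
  intro x1 x2 x3 x4 x5 hodd hM
  cases x5
  · refine ⟨rfl, ?_⟩
    cases x1 <;> cases x2 <;> cases x3 <;> cases x4
    · exact absurd hodd (by decide)
    · exact absurd hodd (by decide)
    · exact absurd (inv2_const C K hM (d := 67) (by norm_num) (by decide +kernel)).symm kill2a
    · exact absurd (inv2_const C K hM (d := 67) (by norm_num) (by decide +kernel)).symm kill2b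
    · exact Or.inr (Or.inl ⟨rfl, rfl, rfl, rfl⟩)
    · exact (false_of_a2b3 C K hM).elim
    · exact absurd hodd (by decide)
    · exact absurd hodd (by decide)
    · exact Or.inl ⟨rfl, rfl, rfl, rfl⟩
    · exact absurd (inv2_const C K hM (d := 65) (by norm_num) (by decide +kernel)).symm kill2c
    · exact absurd hodd (by decide)
    · exact absurd hodd (by decide)
    · exact absurd hodd (by decide)
    · exact absurd hodd (by decide)
    · exact absurd (inv3_const C K hM (d := 65) (by norm_num) (by decide +kernel)).symm kill3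
    · exact Or.inr (Or.inr ⟨rfl, rfl, rfl, rfl⟩)
  · exfalso
    refine kill1 x1 x2 x3 x4 hodd (inv1_const C K hM (d := 11) (by norm_num) ?_).symm
    rw [DM_lo _ _ _ _ _ 11 (by norm_num)]
    decide +kernel

/-- **The E-level.** -/
theorem main [Finite G] : (∃ m : G →* ℤˣ, m C.t = -1) ∨ ((∀ x ∈ C.L, x ∉ C.D) ∧
    ((T C K [1] ∧ ¬ T C K [1, 2] ∧ ¬ T C K [1, 2, 3] ∧ ¬ T C K [1, 2, 4]) ∨
      (¬ T C K [1] ∧ ¬ T C K [1, 2] ∧ T C K [1, 2, 3] ∧ ¬ T C K [1, 2, 4]) ∨
      (T C K [1] ∧ T C K [1, 2] ∧ T C K [1, 2, 3] ∧ T C K [1, 2, 4]))) := by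
  classical
  rcases parity C K with h | h
  · exact Or.inl h
  right
  have hodd : (decide (T C K [1]) ^^ (decide (T C K [1, 2, 3]) ^^ decide (T C K [1, 2]))) = true := by
    revert h
    by_cases h1 : T C K [1] <;> by_cases h2 : T C K [1, 2] <;> by_cases h3 : T C K [1, 2, 3] <;>
      simp only [h1, h2, h3, if_true, if_false, decide_true, decide_false] <;> decide
  obtain ⟨h5, h⟩ := patterns C K _ _ _ _ _ hodd (ind_MM C K)
  simp only [decide_eq_true_eq, decide_eq_false_iff_not] at h h5
  refine ⟨?_, h⟩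
  intro x hx hxD
  have h1 : (⟨x, hx⟩ : C.L) * ⟨x, hx⟩ = 1 := Subtype.ext (C.D_sq hxD)
  have h2 : (⟨x, hx⟩ : C.L) ≠ 1 := fun h => C.D_ne_one hxD (congrArg Subtype.val h)
  have key : ∀ {ks : List ℕ} {g : C.L}, g * ⟨x, hx⟩ * g⁻¹ = w K ks → ((w K ks : C.L) : G) ∈ C.D := by
    intro ks g hg
    rw [← hg]
    exact C.D_conj hxD (g : G)
  rcases exists_conj K h1 h2 with ⟨_, g, hg⟩ | ⟨_, g, hg⟩ | ⟨_, g, hg⟩ | ⟨_, g, hg⟩
  · exact not_mem_of_sqGen C K sqGen_b1 (key hg)
  · exact not_mem_of_sqGen C K sqGen_c2 (key hg)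
  · exact not_mem_of_sqGen C K sqGen_a2 (key hg)
  · exact h5 (key hg)

end ctx

end Cfsg.Agent.StdSpSix.ELevelEnd
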