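import Cfsg.Agent.StdSpSix.LThree

/-!
# The 2-local facts of `GL(3,2)` used in LEMMA L32
-/

set_option autoImplicit false

namespace Cfsg.Agent.StdSpSix.LThreeModel

open Matrix Cfsg.Agent.StdSpSix.LThree

/-- `3 × 3` matrices over the field with two elements. -/
abbrev M3 := Matrix (Fin 3) (Fin 3) (ZMod 2)

/-- determinant, by bits -/
def d3 (a b c d e f g h i : ZMod 2) : ZMod 2 :=
  a * e * i - a * f * h - b * d * i + b * f * g + c * d * h - c * e * g

/-- `M² = 1`, by bits -/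
def sq1 (a b c d e f g h i : ZMod 2) : Prop :=
  a * a + b * d + c * g = 1 ∧ a * b + b * e + c * h = 0 ∧ a * c + b * f + c * i = 0 ∧
  d * a + e * d + f * g = 0 ∧ d * b + e * e + f * h = 1 ∧ d * c + e * f + f * i = 0 ∧
  g * a + h * d + i * g = 0 ∧ g * b + h * e + i * h = 0 ∧ g * c + h * f + i * i = 1

instance (a b c d e f g h i : ZMod 2) : Decidable (sq1 a b c d e f g h i) := by
  unfold sq1; infer_instance

/-- `M x = y`, by bits -/
def fx (a b c d e f g h i x y z x' y' z' : ZMod 2) : Prop :=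
  a * x + b * y + c * z = x' ∧ d * x + e * y + f * z = y' ∧ g * x + h * y + i * z = z'

instance (a b c d e f g h i x y z x' y' z' : ZMod 2) :
    Decidable (fx a b c d e f g h i x y z x' y' z') := by
  unfold fx; infer_instance

/-- a good pair `v`, `w` -/
def good1 (a b c d e f g h i v0 v1 v2 : ZMod 2) : Prop :=
  ∃ w0 w1 w2 : ZMod 2,
    d3 ((a + 1) * v0 + b * v1 + c * v2) w0 v0 (d * v0 + (e + 1) * v1 + f * v2) w1 v1
      (g * v0 + h * v1 + (i + 1) * v2) w2 v2 = 1 ∧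
    fx a b c d e f g h i w0 w1 w2 w0 w1 w2 ∧
    fx a b c d e f g h i ((a + 1) * v0 + b * v1 + c * v2) (d * v0 + (e + 1) * v1 + f * v2)
      (g * v0 + h * v1 + (i + 1) * v2) ((a + 1) * v0 + b * v1 + c * v2)
      (d * v0 + (e + 1) * v1 + f * v2) (g * v0 + h * v1 + (i + 1) * v2)

instance (a b c d e f g h i v0 v1 v2 : ZMod 2) : Decidable (good1 a b c d e f g h i v0 v1 v2) := by
  unfold good1; infer_instance

/-- a good pair exists -/
def good (a b c d e f g h i : ZMod 2) : Prop :=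
  ∃ v0 v1 v2 : ZMod 2, good1 a b c d e f g h i v0 v1 v2

instance (a b c d e f g h i : ZMod 2) : Decidable (good a b c d e f g h i) := by
  unfold good; infer_instance

/-- the statement for one matrix -/
def imp (a b c d e f g h i : ZMod 2) : Prop := sq1 a b c d e f g h i →
   (a = 1 ∧ b = 0 ∧ c = 0 ∧ d = 0 ∧ e = 1 ∧ f = 0 ∧ g = 0 ∧ h = 0 ∧ i = 1) ∨ good a b c d e f g h i

instance (a b c d e f g h i : ZMod 2) : Decidable (imp a b c d e f g h i) := by
  unfold imp; infer_instance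

set_option maxRecDepth 100000 in
theorem all_imp : ∀ a b c d e f g h i : ZMod 2, imp a b c d e f g h i := by decide +kernel

/-- The standard matrices. -/
def Z0 : M3 := !![1,0,1;0,1,0;0,0,1]
/-- The standard matrices. -/
def A0 : M3 := !![1,1,0;0,1,0;0,0,1]
/-- The standard matrices. -/
def B0 : M3 := !![1,0,0;0,1,1;0,0,1]

/-- `GL(3,2)`. -/
abbrev K := GL (Fin 3) (ZMod 2)

theorem z_sq : Z0 * Z0 = 1 := by decide +kernel
theorem a_sq : A0 * A0 = 1 := by decide +kernel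
theorem b_sq : B0 * B0 = 1 := by decide +kernel

/-- The standard involutions. -/
def zz : K := ⟨Z0, Z0, z_sq, z_sq⟩
/-- The standard involutions. -/
def aa : K := ⟨A0, A0, a_sq, a_sq⟩
/-- The standard involutions. -/
def bb : K := ⟨B0, B0, b_sq, b_sq⟩

theorem zz_sq : zz * zz = 1 := Units.ext z_sq
theorem aa_sq : aa * aa = 1 := Units.ext a_sq
theorem bb_sq : bb * bb = 1 := Units.ext b_sq

theorem abab : aa * bb * aa * bb = zz := by
  apply Units.ext
  change A0 * B0 * A0 * B0 = Z0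
  decide +kernel

theorem zz_ne : zz ≠ 1 := by
  intro h
  have h1 : Z0 = 1 := congrArg Units.val h
  revert h1
  decide +kernel

theorem entries {M N : M3} : M = N ↔ (M 0 0 = N 0 0 ∧ M 0 1 = N 0 1 ∧ M 0 2 = N 0 2) ∧
    (M 1 0 = N 1 0 ∧ M 1 1 = N 1 1 ∧ M 1 2 = N 1 2) ∧
    (M 2 0 = N 2 0 ∧ M 2 1 = N 2 1 ∧ M 2 2 = N 2 2) := by
  constructor
  · rintro rfl; simp
  · rintro ⟨⟨h1, h2, h3⟩, ⟨h4, h5, h6⟩, h7, h8, h9⟩
    ext i j
    fin_cases i <;> fin_cases j <;> assumption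

theorem mul_entry (M N : M3) (i j : Fin 3) :
    (M * N) i j = M i 0 * N 0 j + M i 1 * N 1 j + M i 2 * N 2 j := by
  rw [Matrix.mul_apply, Fin.sum_univ_three]

/-- All involutions are conjugate. -/
theorem conj_zz (u : K) (h : u * u = 1) (h1 : u ≠ 1) : ∃ p : K, p⁻¹ * u * p = zz := by
  have h2 : (u : M3) * u = 1 := by rw [← Units.val_mul, h]; rfl
  rw [entries] at h2
  simp only [mul_entry] at h2
  obtain ⟨⟨q1, q2, q3⟩, ⟨q4, q5, q6⟩, q7, q8, q9⟩ := h2
  have h3 := all_imp ((u : M3) 0 0) ((u : M3) 0 1) ((u : M3) 0 2) ((u : M3) 1 0) ((u : M3) 1 1)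
    ((u : M3) 1 2) ((u : M3) 2 0) ((u : M3) 2 1) ((u : M3) 2 2)
    ⟨q1, q2, q3, q4, q5, q6, q7, q8, q9⟩
  rcases h3 with h3 | h3
  · exfalso
    apply h1
    apply Units.ext
    rw [entries]
    obtain ⟨e1, e2, e3, e4, e5, e6, e7, e8, e9⟩ := h3
    exact ⟨⟨e1, e2, e3⟩, ⟨e4, e5, e6⟩, e7, e8, e9⟩
  · obtain ⟨v0, v1, v2, w0, w1, w2, hd, ⟨f1, f2, f3⟩, g1, g2, g3⟩ := h3
    set x0 := ((u : M3) 0 0 + 1) * v0 + (u : M3) 0 1 * v1 + (u : M3) 0 2 * v2 with hx0
    set x1 := (u : M3) 1 0 * v0 + ((u : M3) 1 1 + 1) * v1 + (u : M3) 1 2 * v2 with hx1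
    set x2 := (u : M3) 2 0 * v0 + (u : M3) 2 1 * v1 + ((u : M3) 2 2 + 1) * v2 with hx2
    set P : M3 := !![x0, w0, v0; x1, w1, v1; x2, w2, v2] with hP
    have hdet : P.det ≠ 0 := by
      rw [hP, Matrix.det_fin_three]
      simp only [Matrix.of_apply, Matrix.cons_val', Matrix.cons_val_zero, Matrix.cons_val_one,
        Matrix.cons_val]
      unfold d3 at hd
      rw [hd]
      decide
    let p : K := Matrix.GeneralLinearGroup.mkOfDetNeZero P hdet
    have hp : (p : M3) = P := rfl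
    refine ⟨p, ?_⟩
    have key : u * p = p * zz := by
      apply Units.ext
      rw [Units.val_mul, Units.val_mul, hp]
      change (u : M3) * P = P * Z0
      have hc : ∀ n s : ZMod 2, n = s + (n + s) := by decide
      rw [entries]
      simp only [mul_entry, hP, Z0, Matrix.of_apply, Matrix.cons_val', Matrix.cons_val_zero,
        Matrix.cons_val_one, Matrix.cons_val, mul_one, mul_zero, add_zero, zero_add]
      refine ⟨⟨g1, f1, ?_⟩, ⟨g2, f2, ?_⟩, g3, f3, ?_⟩
      · rw [hx0]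
        have := hc ((u : M3) 0 0 * v0 + (u : M3) 0 1 * v1 + (u : M3) 0 2 * v2) v0
        rw [this]; ring
      · rw [hx1]
        have := hc ((u : M3) 1 0 * v0 + (u : M3) 1 1 * v1 + (u : M3) 1 2 * v2) v1
        rw [this]; ring
      · rw [hx2]
        have := hc ((u : M3) 2 0 * v0 + (u : M3) 2 1 * v1 + (u : M3) 2 2 * v2) v2
        rw [this]; ring
    rw [mul_assoc, key, inv_mul_cancel_left]

/-- The matrices commuting with `z`. -/
theorem comm_z (v : K) (h : v * zz = zz * v) :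
    ∃ b c f : ZMod 2, (v : M3) = !![1, b, c; 0, 1, f; 0, 0, 1] := by
  have h2 : (v : M3) * Z0 = Z0 * v := congrArg Units.val h
  have hdet : (v : M3).det ≠ 0 := by
    have : IsUnit (v : M3).det := (Matrix.isUnit_iff_isUnit_det _).1 v.isUnit
    exact this.ne_zero
  rw [entries] at h2
  simp only [mul_entry, Z0, Matrix.of_apply, Matrix.cons_val', Matrix.cons_val_zero,
        Matrix.cons_val_one, Matrix.cons_val, mul_one, mul_zero, add_zero, zero_add, one_mul,
        zero_mul] at h2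
  obtain ⟨⟨q1, q2, q3⟩, ⟨q4, q5, q6⟩, q7, q8, q9⟩ := h2
  rw [Matrix.det_fin_three] at hdet
  have e7 : (v : M3) 2 0 = 0 := by
    have : ∀ x y : ZMod 2, x = x + y → y = 0 := by decide
    exact this _ _ q1
  have e8 : (v : M3) 2 1 = 0 := by
    have : ∀ x y : ZMod 2, x = x + y → y = 0 := by decide
    exact this _ _ q2
  have e4 : (v : M3) 1 0 = 0 := by
    have : ∀ x y : ZMod 2, y + x = x → y = 0 := by decide
    exact this _ _ q6
  have e9 : (v : M3) 2 2 = (v : M3) 0 0 := by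
    have : ∀ x y z : ZMod 2, x + y = y + z → z = x := by decide
    exact this _ _ _ q3
  rw [e7, e8, e4, e9] at hdet
  have e15 : (v : M3) 0 0 = 1 ∧ (v : M3) 1 1 = 1 := by
    have : ∀ x y a b c : ZMod 2, x * y * x - x * a * 0 - b * 0 * x + b * a * 0 + c * 0 * 0 - c * y * 0 ≠ 0 →
      x = 1 ∧ y = 1 := by decide
    exact this _ _ _ _ _ hdet
  refine ⟨(v : M3) 0 1, (v : M3) 0 2, (v : M3) 1 2, ?_⟩
  rw [entries]
  simp only [Matrix.of_apply, Matrix.cons_val', Matrix.cons_val_zero,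
        Matrix.cons_val_one, Matrix.cons_val]
  rw [e7, e8, e4, e9, e15.1, e15.2]
  simp

theorem six : ∀ b c f : ZMod 2, (!![1, b, c; 0, 1, f; 0, 0, 1] : M3) * !![1, b, c; 0, 1, f; 0, 0, 1] = 1 →
    (!![1, b, c; 0, 1, f; 0, 0, 1] : M3) = 1 ∨ (!![1, b, c; 0, 1, f; 0, 0, 1] : M3) = Z0 ∨
    (!![1, b, c; 0, 1, f; 0, 0, 1] : M3) = A0 ∨ (!![1, b, c; 0, 1, f; 0, 0, 1] : M3) = A0 * Z0 ∨
    (!![1, b, c; 0, 1, f; 0, 0, 1] : M3) = B0 ∨ (!![1, b, c; 0, 1, f; 0, 0, 1] : M3) = B0 * Z0 := by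
  decide +kernel

theorem four : ∀ b c f : ZMod 2,
    (!![1, b, c; 0, 1, f; 0, 0, 1] : M3) * A0 = A0 * !![1, b, c; 0, 1, f; 0, 0, 1] →
    (!![1, b, c; 0, 1, f; 0, 0, 1] : M3) = 1 ∨ (!![1, b, c; 0, 1, f; 0, 0, 1] : M3) = A0 ∨
    (!![1, b, c; 0, 1, f; 0, 0, 1] : M3) = Z0 ∨ (!![1, b, c; 0, 1, f; 0, 0, 1] : M3) = A0 * Z0 := by
  decide +kernel

/-- The rotation of the standard pairs. -/
theorem rot0 (v : K) (h : v = aa ∨ v = aa * zz ∨ v = bb ∨ v = bb * zz) :
    ∃ y : K, y * zz = v * y ∧ y * v = (zz * v) * y := by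
  have mk : ∀ (Y Y' V : M3) (v : K), (v : M3) = V → Y * Y' = 1 → Y' * Y = 1 → Y * Z0 = V * Y →
      Y * V = (Z0 * V) * Y → ∃ y : K, y * zz = v * y ∧ y * v = (zz * v) * y := by
    intro Y Y' V v hv h1 h2 h3 h4
    refine ⟨⟨Y, Y', h1, h2⟩, Units.ext ?_, Units.ext ?_⟩
    · change Y * Z0 = (v : M3) * Y
      rw [hv]; exact h3
    · change Y * (v : M3) = (Z0 * (v : M3)) * Y
      rw [hv]; exact h4
  rcases h with rfl | rfl | rfl | rfl
  · exact mk !![1,0,0;0,0,1;0,1,1] !![1,0,0;0,1,1;0,1,0] A0 _ rfl (by decide +kernel)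
      (by decide +kernel) (by decide +kernel) (by decide +kernel)
  · exact mk !![1,0,0;0,1,1;0,1,0] !![1,0,0;0,0,1;0,1,1] (A0 * Z0) _ rfl (by decide +kernel)
      (by decide +kernel) (by decide +kernel) (by decide +kernel)
  · exact mk !![0,1,0;1,1,0;0,0,1] !![1,1,0;1,0,0;0,0,1] B0 _ rfl (by decide +kernel)
      (by decide +kernel) (by decide +kernel) (by decide +kernel)
  · exact mk !![1,1,0;1,0,0;0,0,1] !![0,1,0;1,1,0;0,0,1] (B0 * Z0) _ rfl (by decide +kernel)
      (by decide +kernel) (by decide +kernel) (by decide +kernel)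

theorem cen (y : K) (h1 : y * aa = aa * y) (h2 : y * zz = zz * y) :
    y = 1 ∨ y = aa ∨ y = zz ∨ y = aa * zz := by
  obtain ⟨b, c, f, h⟩ := comm_z y h2
  have h3 : (y : M3) * A0 = A0 * y := congrArg Units.val h1
  rw [h] at h3
  rcases four b c f h3 with h4 | h4 | h4 | h4
  · exact Or.inl (Units.ext (h.trans h4))
  · exact Or.inr (Or.inl (Units.ext (h.trans h4)))
  · exact Or.inr (Or.inr (Or.inl (Units.ext (h.trans h4))))
  · exact Or.inr (Or.inr (Or.inr (Units.ext (h.trans h4))))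

theorem rot (u v : K) (hu : u * u = 1) (hv : v * v = 1) (hu1 : u ≠ 1) (hv1 : v ≠ 1) (huv : u ≠ v)
    (hc : u * v = v * u) : ∃ y : K, y * u * y⁻¹ = v ∧ y * v * y⁻¹ = u * v := by
  obtain ⟨p, hp⟩ := conj_zz u hu hu1
  have hz : p * zz * p⁻¹ = u := by rw [← hp]; group
  have c1 : (p⁻¹ * v * p) * zz = zz * (p⁻¹ * v * p) := by
    rw [← hp]
    calc p⁻¹ * v * p * (p⁻¹ * u * p) = p⁻¹ * (v * u) * p := by group
      _ = p⁻¹ * u * p * (p⁻¹ * v * p) := by rw [← hc]; group
  have c2 : (p⁻¹ * v * p) * (p⁻¹ * v * p) = 1 := by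
    calc p⁻¹ * v * p * (p⁻¹ * v * p) = p⁻¹ * (v * v) * p := by group
      _ = 1 := by rw [hv]; group
  have hv' : p * (p⁻¹ * v * p) * p⁻¹ = v := by group
  set v' := p⁻¹ * v * p with hv'd
  obtain ⟨b, c, f, h⟩ := comm_z v' c1
  have h3 : (v' : M3) * v' = 1 := congrArg Units.val c2
  rw [h] at h3
  have h4 : v' = aa ∨ v' = aa * zz ∨ v' = bb ∨ v' = bb * zz := by
    rcases six b c f h3 with h4 | h4 | h4 | h4 | h4 | h4
    · exfalso
      apply hv1
      have : v' = 1 := Units.ext (h.trans h4)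
      rw [← hv', this]; group
    · exfalso
      apply huv
      have : v' = zz := Units.ext (h.trans h4)
      rw [← hv', this, hz]
    · exact Or.inl (Units.ext (h.trans h4))
    · exact Or.inr (Or.inl (Units.ext (h.trans h4)))
    · exact Or.inr (Or.inr (Or.inl (Units.ext (h.trans h4))))
    · exact Or.inr (Or.inr (Or.inr (Units.ext (h.trans h4))))
  obtain ⟨y, hy1, hy2⟩ := rot0 v' h4
  refine ⟨p * y * p⁻¹, ?_, ?_⟩
  · calc p * y * p⁻¹ * u * (p * y * p⁻¹)⁻¹ = p * (y * (p⁻¹ * u * p)) * y⁻¹ * p⁻¹ := by group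
      _ = p * v' * p⁻¹ := by rw [hp, hy1]; group
      _ = v := hv'
  · calc p * y * p⁻¹ * v * (p * y * p⁻¹)⁻¹ = p * (y * (p⁻¹ * v * p)) * y⁻¹ * p⁻¹ := by group
      _ = (p * zz * p⁻¹) * (p * v' * p⁻¹) := by rw [← hv'd, hy2]; group
      _ = u * v := by rw [hz, hv']

theorem card : Nat.card K = 8 * 21 := by
  rw [Matrix.card_GL_field]
  simp [Fin.prod_univ_three]

/-- The facts for a subgroup isomorphic to `GL(3,2)`. -/
theorem facts {X : Type*} [Group X] {Y : Subgroup X} (e : Y ≃* K) :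
    Facts Y (e.symm aa : X) (e.symm bb : X) (e.symm zz : X) where
  ha := (e.symm aa).2
  hb := (e.symm bb).2
  aa := by
    rw [← Subgroup.coe_mul, ← map_mul, aa_sq, map_one, Subgroup.coe_one]
  bb := by
    rw [← Subgroup.coe_mul, ← map_mul, bb_sq, map_one, Subgroup.coe_one]
  hz := by
    rw [← Subgroup.coe_mul, ← map_mul, ← Subgroup.coe_mul, ← map_mul, ← Subgroup.coe_mul, ← map_mul,
      abab]
  z1 := by
    intro h
    apply zz_ne
    have : e.symm zz = 1 := Subtype.ext h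
    rwa [map_eq_one_iff e.symm e.symm.injective] at this
  zz := by
    rw [← Subgroup.coe_mul, ← map_mul, zz_sq, map_one, Subgroup.coe_one]
  card := ⟨21, by decide, by rw [Nat.card_congr e.toEquiv, card]⟩
  cen y hy h1 h2 := by
    have k1 : (⟨y, hy⟩ : Y) * e.symm LThreeModel.aa = e.symm LThreeModel.aa * ⟨y, hy⟩ := Subtype.ext h1
    have k2 : (⟨y, hy⟩ : Y) * e.symm LThreeModel.zz = e.symm LThreeModel.zz * ⟨y, hy⟩ := Subtype.ext h2
    have k3 := congrArg e k1
    have k4 := congrArg e k2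
    rw [map_mul, map_mul, MulEquiv.apply_symm_apply] at k3 k4
    have k5 : ∀ q : K, e ⟨y, hy⟩ = q → y = (e.symm q : X) := by
      rintro q rfl
      rw [MulEquiv.symm_apply_apply]
    rcases LThreeModel.cen _ k3 k4 with h | h | h | h
    · left
      have := k5 _ h
      rw [map_one, Subgroup.coe_one] at this
      exact this
    · exact Or.inr (Or.inl (k5 _ h))
    · exact Or.inr (Or.inr (Or.inl (k5 _ h)))
    · right; right; right
      have := k5 _ h
      rw [map_mul, Subgroup.coe_mul] at this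
      exact this
  rot u hu v hv uu vv u1 v1 uv c := by
    have n1 : ∀ (x : X) (hx : x ∈ Y), x ≠ 1 → e ⟨x, hx⟩ ≠ 1 := by
      intro x hx h h'
      rw [map_eq_one_iff e e.injective] at h'
      exact h (congrArg Subtype.val h')
    have n2 : ∀ (x : X) (hx : x ∈ Y), x * x = 1 → e ⟨x, hx⟩ * e ⟨x, hx⟩ = 1 := by
      intro x hx h
      rw [← map_mul, map_eq_one_iff e e.injective]
      exact Subtype.ext h
    obtain ⟨y, hy1, hy2⟩ := LThreeModel.rot (e ⟨u, hu⟩) (e ⟨v, hv⟩) (n2 u hu uu) (n2 v hv vv) (n1 u hu u1)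
      (n1 v hv v1) (by
        intro h
        exact uv (congrArg Subtype.val (e.injective h))) (by
        rw [← map_mul, ← map_mul]
        congr 1
        exact Subtype.ext c)
    refine ⟨(e.symm y : X), (e.symm y).2, ?_, ?_⟩
    · have := congrArg e.symm hy1
      rw [map_mul, map_mul, map_inv, MulEquiv.symm_apply_apply, MulEquiv.symm_apply_apply] at this
      exact congrArg Subtype.val this
    · have := congrArg e.symm hy2
      rw [map_mul, map_mul, map_mul, map_inv, MulEquiv.symm_apply_apply,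
        MulEquiv.symm_apply_apply] at this
      exact congrArg Subtype.val this

/-- LEMMA L32 for `Y ≃ GL(3,2)`. -/
theorem exists_hom {X : Type*} [Group X] [Finite X] {t : X} {Y : Subgroup X} (C : Cent t Y)
    (e : Y ≃* K) : ∃ f : X →* ℤˣ, f t = -1 :=
  LThree.exists_hom C (facts e)

/-- `GL(W) ≃ GL(3,2)` for `|W| = 8`. -/
theorem exists_equiv {W : Type*} [AddCommGroup W] [Module (ZMod 2) W] (hW : Nat.card W = 8) :
    Nonempty ((W ≃ₗ[ZMod 2] W) ≃* K) := by
  have hf : Finite W := Nat.finite_of_card_ne_zero (by rw [hW]; decide)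
  have h3 : Module.finrank (ZMod 2) W = 3 := by
    have h := Module.natCard_eq_pow_finrank (K := ZMod 2) (V := W)
    rw [hW, Nat.card_zmod] at h
    have : 2 ^ 3 = 2 ^ Module.finrank (ZMod 2) W := h
    exact (Nat.pow_right_injective (le_refl 2) this).symm
  let b := Module.finBasisOfFinrankEq (ZMod 2) W h3
  exact ⟨(LinearMap.GeneralLinearGroup.generalLinearEquiv (ZMod 2) W).symm.trans
    (Units.mapEquiv (LinearMap.toMatrixAlgEquiv b).toMulEquiv)⟩

/-- LEMMA L32 for `Y ≃ GL(W)`, `|W| = 8`. -/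
theorem exists_hom_linear {X : Type*} [Group X] [Finite X] {t : X} {Y : Subgroup X} (C : Cent t Y)
    {W : Type*} [AddCommGroup W] [Module (ZMod 2) W] (hW : Nat.card W = 8)
    (e : Y ≃* (W ≃ₗ[ZMod 2] W)) : ∃ f : X →* ℤˣ, f t = -1 := by
  obtain ⟨e'⟩ := exists_equiv hW
  exact exists_hom C (e.trans e')

end Cfsg.Agent.StdSpSix.LThreeModel
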