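import Cfsg.Agent.StdSpSix.QLevelModel
import Cfsg.Agent.StdSpSix.Model
import Cfsg.Agent.StdSpSix.LThreeModel
import Cfsg.Agent.SporRec.TwoSp6.Invol

/-!
# Pattern ALL, `R₀` elementary abelian of order `2¹²`: a sign on `G`

`C : Ctx G V`; `W ≤ V` totally isotropic with 8 elements; `A = A_W` the elements of `L` fixing `W`.
-/

set_option autoImplicit false

namespace Cfsg.Agent.StdSpSix.QLevelSp

open Subgroup
open Cfsg.Agent.StandardComponent.SpTwo
open Cfsg.Agent.SporRec.TwoSp6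
open Cfsg.Agent.StdSpSix.QLevelModel

/-- Transport of the facts along an isomorphism. -/
theorem facts_equiv {X Y : Type*} [Group X] [Group Y] (e : X ≃* Y) {A : Subgroup X} {A' : Subgroup Y}
    (hA : ∀ x, x ∈ A ↔ e x ∈ A') (F : Facts A) : Facts A' := by
  have hA' : ∀ y, y ∈ A' ↔ e.symm y ∈ A := by
    intro y
    rw [hA, e.apply_symm_apply]
  have hN : ∀ x, x ∈ normalizer (A : Set X) ↔ e x ∈ normalizer (A' : Set Y) := by
    intro x
    rw [mem_normalizer_iff, mem_normalizer_iff]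
    constructor
    · intro h y
      rw [hA', hA', h (e.symm y), map_mul, map_mul, map_inv, e.symm_apply_apply]
    · intro h y
      rw [hA, hA, h (e y), map_mul, map_mul, map_inv]
  have hcard : Nat.card A' = Nat.card A := by
    symm
    exact Nat.card_congr (Equiv.subtypeEquiv e.toEquiv hA)
  refine ⟨?_, ?_, ?_, ?_, ?_, ?_, ?_⟩
  · intro y hy
    apply e.symm.injective
    rw [map_mul, map_one]
    exact F.sq _ ((hA' y).1 hy)
  · rw [hcard, F.card]
  · intro B hB hBc
    have hm : ∀ x, x ∈ B.comap e.toMonoidHom ↔ e x ∈ B := fun x => Iff.rfl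
    have hc : Nat.card (B.comap e.toMonoidHom) = Nat.card B :=
      Nat.card_congr (Equiv.subtypeEquiv e.toEquiv hm)
    obtain ⟨l, hl⟩ := F.sat (B.comap e.toMonoidHom) (fun x hx => by
      apply e.injective
      rw [map_mul, map_one]
      exact hB _ hx) (by rw [hc]; exact hBc)
    refine ⟨e l, fun y => ?_⟩
    have h1 := hl (e.symm y)
    rw [hm, e.apply_symm_apply, hA, map_mul, map_mul, map_inv, e.apply_symm_apply] at h1
    exact h1
  · intro l hl
    rw [hA']
    apply F.CA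
    intro a ha
    apply e.injective
    rw [map_mul, map_mul, e.apply_symm_apply]
    exact hl _ ((hA a).1 ha)
  · have h1 : (normalizer (A' : Set Y)).comap e.toMonoidHom = normalizer (A : Set X) := by
      ext x
      exact (hN x).symm
    have h2 : (normalizer (A' : Set Y)).index = (normalizer (A : Set X)).index := by
      rw [← h1, index_comap_of_surjective _ e.surjective]
    rw [h2]
    exact F.odd
  · intro n hn hnn
    have h1 : e.symm n ∈ normalizer (A : Set X) := by rw [hN, e.apply_symm_apply]; exact hn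
    obtain ⟨a, ha, h2⟩ := F.lift _ h1 (by rw [← map_mul, ← hA']; exact hnn)
    refine ⟨e a, (hA a).1 ha, ?_⟩
    apply e.symm.injective
    rw [map_mul, map_mul, e.symm_apply_apply, map_one]
    exact h2
  · obtain ⟨θ, hθ, hk⟩ := F.quo
    let φ : normalizer (A' : Set Y) →* normalizer (A : Set X) :=
      { toFun := fun n => ⟨e.symm n, by rw [hN, e.apply_symm_apply]; exact n.2⟩
        map_one' := Subtype.ext (map_one e.symm)
        map_mul' := fun a b => Subtype.ext (map_mul e.symm _ _) }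
    refine ⟨θ.comp φ, ?_, ?_⟩
    · intro U
      obtain ⟨n, rfl⟩ := hθ U
      refine ⟨⟨e n, (hN _).1 n.2⟩, ?_⟩
      change θ (φ _) = _
      congr 1
      exact Subtype.ext (e.symm_apply_apply _)
    · intro n
      change θ (φ n) = 1 ↔ _
      rw [hk, hA']
      rfl

variable {X V : Type*} [Group X] [AddCommGroup V] [Module (ZMod 2) V]

/-- The pointwise stabilizer of a set of vectors. -/
def AW (S : SpData X V) (W : Set V) : Subgroup X where
  carrier := {g | ∀ w ∈ W, S.ρ g w = w}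
  one_mem' := fun w _ => S.ρ_one w
  mul_mem' {g h} hg hh w hw := by rw [S.ρ_mul, hh w hw, hg w hw]
  inv_mem' {g} hg w hw := by
    conv_lhs => rw [← hg w hw]
    rw [S.ρ_inv_apply]

theorem mem_AW {S : SpData X V} {W : Set V} {g : X} : g ∈ AW S W ↔ ∀ w ∈ W, S.ρ g w = w := Iff.rfl

/-- the facts for the concrete group and any frame -/
theorem facts_frame {u w t : Sp.V} (h : Invol.Ind u w t) (ho : Invol.Orth u w t) (A : Subgroup Sp.S)
    (hA : ∀ g, g ∈ A ↔ Sp.act g u = u ∧ Sp.act g w = w ∧ Sp.act g t = t) : Facts A := by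
  have hi : Invol.Ind (Sp.enc 1) (Sp.enc 2) (Sp.enc 4) := by decide +kernel
  have hio : Invol.Orth (Sp.enc 1) (Sp.enc 2) (Sp.enc 4) :=
    ⟨(Sp.om_enc 1 2).trans (by decide), (Sp.om_enc 1 4).trans (by decide), (Sp.om_enc 2 4).trans (by decide)⟩
  obtain ⟨g, h1, h2, h3⟩ := Invol.exists_triple hi hio h ho
  refine facts_equiv (MulAut.conj g) (A := A0) (fun x => ?_) facts_A0
  have e1 : Sp.enc 1 = Pi.single (Sum.inl 0) 1 := by decide +kernel
  have e2 : Sp.enc 2 = Pi.single (Sum.inl 1) 1 := by decide +kernel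
  have e4 : Sp.enc 4 = Pi.single (Sum.inl 2) 1 := by decide +kernel
  -- membership in `A0`
  have hcol : ∀ (j : Fin 3), Sp.act x (Pi.single (Sum.inl j) 1) = Pi.single (Sum.inl j) 1 ↔
      (∀ i, (x : M6) (Sum.inl i) (Sum.inl j) = (1 : M3) i j) ∧ ∀ i, (x : M6) (Sum.inr i) (Sum.inl j) = 0 := by
    intro j
    have h4 : Sp.act x (Pi.single (Sum.inl j) 1) = fun i => (x : M6) i (Sum.inl j) := by
      unfold Sp.act
      rw [Matrix.mulVec_single_one]
      rfl
    rw [h4, funext_iff, Sum.forall]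
    apply and_congr
    · apply forall_congr'
      intro i
      rw [Pi.single_apply, Matrix.one_apply]
      simp only [Sum.inl.injEq]
    · apply forall_congr'
      intro i
      rw [Pi.single_apply]
      simp
  have hA0 : x ∈ A0 ↔ Sp.act x (Sp.enc 1) = Sp.enc 1 ∧ Sp.act x (Sp.enc 2) = Sp.enc 2 ∧
      Sp.act x (Sp.enc 4) = Sp.enc 4 := by
    rw [e1, e2, e4, hcol, hcol, hcol, mem_A0]
    constructor
    · rintro ⟨h5, h6⟩
      have h5' : ∀ i j, (x : M6) (Sum.inr i) (Sum.inl j) = 0 := fun i j => congrFun (congrFun h5 i) j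
      have h6' : ∀ i j, (x : M6) (Sum.inl i) (Sum.inl j) = (1 : M3) i j := fun i j => congrFun (congrFun h6 i) j
      exact ⟨⟨fun i => h6' i 0, fun i => h5' i 0⟩, ⟨fun i => h6' i 1, fun i => h5' i 1⟩,
        ⟨fun i => h6' i 2, fun i => h5' i 2⟩⟩
    · rintro ⟨h5, h6, h7⟩
      constructor
      · ext i j
        fin_cases j
        · exact h5.2 i
        · exact h6.2 i
        · exact h7.2 i
      · ext i j
        fin_cases j
        · exact h5.1 i
        · exact h6.1 i
        · exact h7.1 i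
  rw [hA0, hA]
  have key : ∀ a b : Sp.V, Sp.act g a = b → (Sp.act x a = a ↔ Sp.act (MulAut.conj g x) b = b) := by
    rintro a b rfl
    rw [MulAut.conj_apply, Sp.act_mul, Sp.act_mul, ← Sp.act_mul g⁻¹ g, inv_mul_cancel, Sp.act_one]
    constructor
    · intro h; rw [h]
    · intro h; exact Invol.act_inj h
  rw [key _ _ h1, key _ _ h2, key _ _ h3]

/-- the facts for `A_W` -/
theorem facts_AW (S : SpData X V) (hV : Nat.card V = 64) (W : Submodule (ZMod 2) V) (hW : Nat.card W = 8)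
    (hti : ∀ u ∈ W, ∀ v ∈ W, S.B u v = 0) : Facts (AW S W) := by
  obtain ⟨c⟩ := Model.exists_coord S hV
  have : Finite W := Nat.finite_of_card_ne_zero (by rw [hW]; decide)
  have hr : Module.finrank (ZMod 2) W = 3 := by
    have := Fintype.ofFinite W
    have h := Module.card_eq_pow_finrank (K := ZMod 2) (V := W)
    rw [← Nat.card_eq_fintype_card, hW, ZMod.card] at h
    have h2 : (2 : ℕ) ^ Module.finrank (ZMod 2) W = 2 ^ 3 := by rw [← h]; norm_num
    exact Nat.pow_right_injective le_rfl h2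
  let b : Module.Basis (Fin 3) (ZMod 2) W := Module.finBasisOfFinrankEq (ZMod 2) W hr
  set v : Fin 3 → V := fun i => (b i : V) with hv
  have hrep : ∀ x ∈ W, ∃ r : Fin 3 → ZMod 2, x = r 0 • v 0 + r 1 • v 1 + r 2 • v 2 := by
    intro x hx
    refine ⟨fun i => b.repr ⟨x, hx⟩ i, ?_⟩
    have h := b.sum_repr ⟨x, hx⟩
    have h2 := congrArg (Subtype.val : W → V) h
    rw [Fin.sum_univ_three] at h2
    exact h2.symm
  have hind : ∀ r : Fin 3 → ZMod 2, r 0 • v 0 + r 1 • v 1 + r 2 • v 2 = 0 → r = 0 := by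
    intro r hr0
    have h1 := Fintype.linearIndependent_iff.1 b.linearIndependent r (by
      apply Subtype.ext
      rw [Fin.sum_univ_three]
      exact hr0)
    funext i
    exact h1 i
  have hne : ∀ r : Fin 3 → ZMod 2, r ≠ 0 → r 0 • v 0 + r 1 • v 1 + r 2 • v 2 ≠ 0 := fun r hr0 h => hr0 (hind r h)
  -- the frame in the concrete space
  set u : Fin 3 → Sp.V := fun i => c.f.symm (v i) with hu
  have hcomb : ∀ r : Fin 3 → ZMod 2, c.f.symm (r 0 • v 0 + r 1 • v 1 + r 2 • v 2) =
      r 0 • u 0 + r 1 • u 1 + r 2 • u 2 := by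
    intro r
    rw [map_add, map_add, map_smul, map_smul, map_smul]
  have hne' : ∀ r : Fin 3 → ZMod 2, r ≠ 0 → r 0 • u 0 + r 1 • u 1 + r 2 • u 2 ≠ 0 := by
    intro r hr0 h
    rw [← hcomb] at h
    exact hne r hr0 ((map_eq_zero_iff _ c.f.symm.injective).1 h)
  have hInd : Invol.Ind (u 0) (u 1) (u 2) := by
    have h1 := hne' ![1, 0, 0] (by decide)
    have h2 := hne' ![0, 1, 0] (by decide)
    have h3 := hne' ![1, 1, 0] (by decide)
    have h4 := hne' ![0, 0, 1] (by decide)
    have h5 := hne' ![1, 0, 1] (by decide)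
    have h6 := hne' ![0, 1, 1] (by decide)
    have h7 := hne' ![1, 1, 1] (by decide)
    simp only [Matrix.cons_val_zero, Matrix.cons_val_one, Matrix.cons_val_two, Matrix.head_cons, Matrix.tail_cons,
      one_smul, zero_smul, add_zero, zero_add] at h1 h2 h3 h4 h5 h6 h7
    refine ⟨h1, h2, fun h => h3 ?_, h4, fun h => h5 ?_, fun h => h6 ?_, fun h => h7 ?_⟩
    · rw [h]; exact Sp.add_self _
    · rw [h]; exact Sp.add_self _
    · rw [h]; exact Sp.add_self _
    · rw [h]; exact Sp.add_self _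
  have hom : ∀ i j, Sp.om (u i) (u j) = 0 := by
    intro i j
    rw [← c.om, hu]
    simp only [LinearEquiv.apply_symm_apply]
    exact hti _ (b i).2 _ (b j).2
  refine facts_equiv c.e (A := (AW S W).comap c.e.toMonoidHom) (fun x => Iff.rfl)
    (facts_frame hInd ⟨hom 0 1, hom 0 2, hom 1 2⟩ _ fun g => ?_)
  have hact : ∀ i, Sp.act g (u i) = u i ↔ S.ρ (c.e g) (v i) = v i := by
    intro i
    have h1 := c.act g (u i)
    rw [hu] at h1 ⊢
    simp only [LinearEquiv.apply_symm_apply] at h1 ⊢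
    rw [h1]
    constructor
    · intro h
      rw [h, LinearEquiv.apply_symm_apply]
    · intro h
      apply c.f.injective
      rw [h, LinearEquiv.apply_symm_apply]
  rw [hact, hact, hact]
  constructor
  · intro h
    exact ⟨h _ (b 0).2, h _ (b 1).2, h _ (b 2).2⟩
  · rintro ⟨h0, h1, h2⟩ x hx
    obtain ⟨r, rfl⟩ := hrep x hx
    change S.ρ (c.e g) _ = _
    rw [map_add, map_add, map_smul, map_smul, map_smul, h0, h1, h2]

/-! ### the data -/

section Main

variable {G : Type*} [Group G] (C : Ctx G V)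

/-- `A_W` as a subgroup of `G` -/
def AG (W : Set V) : Subgroup G := (AW C.S W).map C.L.subtype

theorem mem_AG {W : Set V} {g : G} : g ∈ AG C W ↔ ∃ h : g ∈ C.L, ∀ w ∈ W, C.S.ρ ⟨g, h⟩ w = w := by
  constructor
  · rintro ⟨x, hx, rfl⟩
    exact ⟨x.2, hx⟩
  · rintro ⟨h, h1⟩
    exact ⟨⟨g, h⟩, h1, rfl⟩

theorem AG_le (W : Set V) : AG C W ≤ C.L := by
  rintro _ ⟨x, -, rfl⟩
  exact x.2

theorem mem_AG_coe {W : Set V} {g : C.L} : (g : G) ∈ AG C W ↔ g ∈ AW C.S W :=
  mem_map_iff_mem C.L.subtype_injective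

theorem mem_normalizer_AG {W : Set V} {g : C.L} :
    (g : G) ∈ normalizer (AG C W : Set G) ↔ g ∈ normalizer (AW C.S W : Set C.L) := by
  rw [mem_normalizer_iff, mem_normalizer_iff]
  constructor
  · intro h x
    rw [← mem_AG_coe, ← mem_AG_coe, h]
    rfl
  · intro h x
    constructor
    · intro hx
      have hxL := AG_le C W hx
      have h1 := (h ⟨x, hxL⟩).1 ((mem_AG_coe C).1 hx)
      exact (mem_AG_coe C).2 h1
    · intro hx
      have hxL := AG_le C W hx
      have hxL' : x ∈ C.L := by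
        have h2 := mul_mem (mul_mem (inv_mem g.2) hxL) g.2
        have h3 : (g : G)⁻¹ * (g * x * (g : G)⁻¹) * g = x := by group
        rwa [h3] at h2
      have h1 := (h ⟨x, hxL'⟩).2 ((mem_AG_coe C).1 hx)
      exact (mem_AG_coe C).2 h1

/-- the data for `QLevel` -/
def data [Finite G] (hL : ∀ x ∈ C.L, x ∉ C.D) (hall : ∀ x ∈ C.L, x * x = 1 → x ≠ 1 → C.t * x ∈ C.D)
    (W : Submodule (ZMod 2) V) (F : Facts (AW C.S W)) (R : Subgroup G)
    (hsq : ∀ x ∈ R, x * x = 1) (hcard : Nat.card R = 4096) (htR : ∀ x ∈ R, C.t * x * C.t ∈ R)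
    (hAR : AG C W ≤ R) (hRA : ∀ x ∈ R, x * C.t = C.t * x → x ∈ AG C W) : QLevel.Data G where
  t := C.t
  L := C.L
  A := AG C W
  Q := R
  tt := C.tt
  cent := C.cent
  DL g h := hL _ h ⟨g, rfl⟩
  all l hl hll := by
    by_cases h1 : l = 1
    · refine ⟨1, ?_⟩
      rw [h1]; group
    · obtain ⟨g, hg⟩ := hall l hl hll h1
      exact ⟨g, hg⟩
  AL := AG_le C W
  cardA := by
    rw [AG, card_map_of_injective C.L.subtype_injective, F.card]
    decide
  sat B hB hBsq hBc := by
    have h1 : Nat.card (B.subgroupOf C.L) = Nat.card B := QLevel.card_sub_eq hB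
    rw [AG, card_map_of_injective C.L.subtype_injective, F.card] at hBc
    obtain ⟨l, hl⟩ := F.sat (B.subgroupOf C.L) (fun x hx => Subtype.ext (hBsq _ hx)) (by rw [h1]; exact hBc)
    refine ⟨l, l.2, fun x => ?_⟩
    constructor
    · intro hx
      have h2 := (hl ⟨x, hB hx⟩).1 hx
      exact (mem_AG_coe C).2 h2
    · intro hx
      have hxL := AG_le C W hx
      have hxL' : x ∈ C.L := by
        have h2 := mul_mem (mul_mem l.2 hxL) (inv_mem l.2)
        have h3 : (l : G) * ((l : G)⁻¹ * x * l) * (l : G)⁻¹ = x := by group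
        rwa [h3] at h2
      exact (hl ⟨x, hxL'⟩).2 ((mem_AG_coe C).1 hx)
  CA l hl h := by
    have h1 := F.CA ⟨l, hl⟩ (fun a ha => Subtype.ext (h _ ((mem_AG_coe C).2 ha)))
    exact (mem_AG_coe C).2 h1
  QQ := hsq
  cardQ := by
    rw [AG, card_map_of_injective C.L.subtype_injective, F.card, hcard]
  tQ := htR
  AQ := hAR
  QA := hRA
  odd := by
    have h1 : (normalizer (AG C W : Set G)).subgroupOf C.L = normalizer (AW C.S W : Set C.L) := by
      ext x
      rw [mem_subgroupOf]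
      exact mem_normalizer_AG C
    rw [relIndex, h1]
    exact F.odd
  lift n hn hN hnn := by
    have h1 : (⟨n, hn⟩ : C.L) ∈ normalizer (AW C.S W : Set C.L) :=
      (mem_normalizer_AG C).1 (mem_normalizer_iff.2 hN)
    obtain ⟨a, ha, h2⟩ := F.lift _ h1 ((mem_AG_coe C).1 hnn)
    exact ⟨a, (mem_AG_coe C).2 ha, congrArg Subtype.val h2⟩

/-- **[III-b]** Pattern ALL and an elementary abelian `R₀` of order `2¹²` doubled from `A_W`: a sign on `G`. -/
theorem exists_hom [Finite G] (hL : ∀ x ∈ C.L, x ∉ C.D) (hall : ∀ x ∈ C.L, x * x = 1 → x ≠ 1 → C.t * x ∈ C.D)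
    (W : Submodule (ZMod 2) V) (hW : Nat.card W = 8) (hti : ∀ u ∈ W, ∀ v ∈ W, C.S.B u v = 0) (R : Subgroup G)
    (hsq : ∀ x ∈ R, x * x = 1) (hcard : Nat.card R = 4096) (htR : ∀ x ∈ R, C.t * x * C.t ∈ R)
    (hAR : AG C W ≤ R) (hRA : ∀ x ∈ R, x * C.t = C.t * x → x ∈ AG C W) : ∃ m : G →* ℤˣ, m C.t = -1 := by
  have F := facts_AW C.S C.cardV W hW hti
  obtain ⟨θ, hθ, hk⟩ := F.quo
  set D := data C hL hall W F R hsq hcard htR hAR hRA with hD
  have hDN : ∀ g : G, g ∈ D.L ⊓ normalizer (D.A : Set G) →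
      ∃ h : g ∈ C.L, (⟨g, h⟩ : C.L) ∈ normalizer (AW C.S W : Set C.L) := by
    intro g hg
    have h1 : g ∈ C.L := (mem_inf.1 hg).1
    exact ⟨h1, (mem_normalizer_AG C).1 (mem_inf.1 hg).2⟩
  let φ : (D.L ⊓ normalizer (D.A : Set G) : Subgroup G) →* normalizer (AW C.S W : Set C.L) :=
    { toFun := fun g => ⟨⟨g, (hDN g g.2).1⟩, (hDN g g.2).2⟩
      map_one' := rfl
      map_mul' := fun _ _ => rfl }
  refine D.main (θ.comp φ) ?_ ?_ ?_
  · intro U
    obtain ⟨n, rfl⟩ := hθ U
    exact ⟨⟨((n : C.L) : G), mem_inf.2 ⟨(n : C.L).2, (mem_normalizer_AG C).2 n.2⟩⟩, rfl⟩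
  · intro n
    change θ (φ n) = 1 ↔ _
    rw [hk]
    exact (mem_AG_coe C).symm
  · intro X _ _ t Y e h1 h2 h3 h4 h5
    refine LThreeModel.exists_hom (t := t) (Y := Y) ⟨h1, ?_, ?_, ?_, ?_⟩ e
    · intro y hy
      exact ((h2 y).2 (Or.inl hy)).symm
    · intro g hg
      exact (h2 g).1 hg
    · intro y hy hyy
      obtain ⟨g, hg⟩ := h5 y hy hyy
      rw [isConj_iff]
      exact ⟨g, hg.symm⟩
    · intro y hy h
      obtain ⟨g, hg⟩ := isConj_iff.1 h
      apply h4 g
      rw [hg]; exact hy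

end Main

end Cfsg.Agent.StdSpSix.QLevelSp
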