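import Cfsg.Agent.StdSpSix.EA
import Cfsg.Agent.StdSpSix.Words
import Cfsg.Agent.StdSpSix.QLevelSp

/-!
# The elements `a m` of `Sp₆(2)`: faithfulness, types, conjugation by linear maps
-/

set_option autoImplicit false

namespace Cfsg.Agent.StdSpSix.EType

open Cfsg.Agent.SporRec.TwoSp6 Cfsg.Agent.SporRec.TwoSp6.Sp Cfsg.Agent.StdSpSix.EMask Cfsg.Agent.StdSpSix.EA
open Cfsg.Agent.StdSpSix.Words

/-! ### action on codes -/

def dp (m c i : ℕ) : ℕ := if m.testBit i then (if fN c (i + 1) then i + 1 else 0) else 0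

/-- The action of `a m` on codes. -/
def ac (m c : ℕ) : ℕ :=
  c ^^^ (dp m c 0 ^^^ (dp m c 1 ^^^ (dp m c 2 ^^^ (dp m c 3 ^^^ (dp m c 4 ^^^ (dp m c 5 ^^^ dp m c 6))))))

theorem enc_dp (m c i : ℕ) : enc (dp m c i) = if m.testBit i then dis (enc c) (i + 1) else 0 := by
  unfold dp dis
  rw [om_enc]
  split_ifs
  · rw [one_smul]
  · rw [zero_smul, enc_zero]
  · exact enc_zero

theorem act_a_enc (m c : ℕ) : act (a m) (enc c) = enc (ac m c) := by
  rw [act_a]
  unfold ac sg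
  rw [enc_xor, enc_xor, enc_xor, enc_xor, enc_xor, enc_xor, enc_xor]
  simp only [Finset.sum_range_succ, Finset.sum_range_zero, zero_add, enc_dp]
  abel

theorem a_eq_one {m : ℕ} (h : ∀ c < 64, ac m c = c) : a m = 1 := by
  apply act_ext
  intro x
  obtain ⟨c, hc, rfl⟩ := exists_enc x
  rw [act_a_enc, h c hc, act_one]

theorem a_full : a 127 = 1 := a_eq_one (by decide +kernel)

theorem a_nm (m : ℕ) : a (nm m) = a m := by
  unfold nm
  split_ifs
  · rw [a_xor, a_full, mul_one]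
  · rfl

theorem ac_lt : ∀ m < 64, ∀ c < 64, ac m c < 64 := by decide +kernel

theorem ac_ne : ∀ m < 64, m ≠ 0 → ¬ ∀ c < 64, ac m c = c := by decide +kernel

theorem enc_inj {c d : ℕ} (hc : c < 64) (hd : d < 64) (h : enc c = enc d) : c = d := by
  by_contra h'
  exact ne_of_enc hc hd h' h

theorem eq_zero_of_a {m : ℕ} (hm : m < 64) (h : a m = 1) : m = 0 := by
  by_contra h0
  refine ac_ne m hm h0 fun c hc => ?_
  have h1 := act_a_enc m c
  rw [h, act_one] at h1
  exact (enc_inj hc (ac_lt m hm c hc) h1).symm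

theorem a_inj {m n : ℕ} (hm : m < 64) (hn : n < 64) (h : a m = a n) : m = n := by
  have h1 : a (m ^^^ n) = 1 := by rw [a_xor, h, a_sq]
  have h2 := eq_zero_of_a (Nat.xor_lt_two_pow (n := 6) hm hn) h1
  exact Nat.xor_eq_zero_iff.1 h2

/-! ### alternating elements -/

/-- `x ⊥ g x` for all `x`. -/
def Alt (g : S) : Prop := ∀ x, om x (act g x) = 0

theorem Alt.conj {g : S} (h : Alt g) (k : S) : Alt (k * g * k⁻¹) := by
  intro x
  rw [act_mul, act_mul]
  have h1 := h (act k⁻¹ x)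
  rw [← act_om k, ← act_mul, mul_inv_cancel, act_one] at h1
  exact h1

theorem fN_ac : ∀ m < 64, (∀ c < 64, fN c (ac m c) = false) ↔ (ty m = 0 ∨ ty m = 2) := by decide +kernel

theorem alt_a {m : ℕ} (hm : m < 64) : Alt (a m) ↔ (ty m = 0 ∨ ty m = 2) := by
  rw [← fN_ac m hm]
  have hb : ∀ b : Bool, (if b then (1 : ZMod 2) else 0) = 0 ↔ b = false := by decide
  constructor
  · intro h c hc
    have h1 := h (enc c)
    rw [act_a_enc, om_enc, hb] at h1
    exact h1
  · intro h x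
    obtain ⟨c, hc, rfl⟩ := exists_enc x
    rw [act_a_enc, om_enc, hb]
    exact h c hc

/-! ### linear maps -/

theorem ind_enc {x y z : ℕ} (hx : x < 64) (hy : y < 64) (hz : z < 64) (h1 : x ≠ 0) (h2 : y ≠ 0) (h3 : y ≠ x)
    (h4 : z ≠ 0) (h5 : z ≠ x) (h6 : z ≠ y) (h7 : z ≠ x ^^^ y) : Invol.Ind (enc x) (enc y) (enc z) := by
  have h0 : (0 : ℕ) < 64 := by norm_num
  refine ⟨?_, ?_, ne_of_enc hy hx h3, ?_, ne_of_enc hz hx h5, ne_of_enc hz hy h6, ?_⟩
  · rw [← enc_zero]; exact ne_of_enc hx h0 h1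
  · rw [← enc_zero]; exact ne_of_enc hy h0 h2
  · rw [← enc_zero]; exact ne_of_enc hz h0 h4
  · rw [← enc_xor]; exact ne_of_enc hz (Nat.xor_lt_two_pow (n := 6) hx hy) h7

theorem good_ind : ∀ T < 512, good T = true → lin T 1 ≠ 0 ∧ lin T 2 ≠ 0 ∧ lin T 2 ≠ lin T 1 ∧ lin T 4 ≠ 0 ∧
    lin T 4 ≠ lin T 1 ∧ lin T 4 ≠ lin T 2 ∧ lin T 4 ≠ lin T 1 ^^^ lin T 2 := by decide +kernel

theorem lin_lin : ∀ T < 512, lin T 0 = 0 ∧ lin T 3 = lin T 1 ^^^ lin T 2 ∧ lin T 5 = lin T 1 ^^^ lin T 4 ∧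
    lin T 6 = lin T 2 ^^^ lin T 4 ∧ lin T 7 = lin T 1 ^^^ (lin T 2 ^^^ lin T 4) := by decide +kernel

theorem exists_lin {T : ℕ} (hT : T < 512) (hg : good T = true) : ∃ g : S, ∀ c < 8, act g (enc c) = enc (lin T c) := by
  obtain ⟨h1, h2, h3, h4, h5, h6, h7⟩ := good_ind T hT hg
  have hl : ∀ c < 8, lin T c < 8 := good_lt T hT
  have hl64 : ∀ c < 8, lin T c < 64 := fun c hc => lt_of_lt_of_le (hl c hc) (by norm_num)
  have hI := ind_enc (hl64 1 (by norm_num)) (hl64 2 (by norm_num)) (hl64 4 (by norm_num)) h1 h2 h3 h4 h5 h6 h7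
  have hO : Invol.Orth (enc (lin T 1)) (enc (lin T 2)) (enc (lin T 4)) :=
    ⟨om_small _ (hl 1 (by norm_num)) _ (hl 2 (by norm_num)), om_small _ (hl 1 (by norm_num)) _ (hl 4 (by norm_num)),
      om_small _ (hl 2 (by norm_num)) _ (hl 4 (by norm_num))⟩
  have hI0 : Invol.Ind (enc 1) (enc 2) (enc 4) := ind_enc (by norm_num) (by norm_num) (by norm_num) (by decide)
    (by decide) (by decide) (by decide) (by decide) (by decide) (by decide)
  have hO0 : Invol.Orth (enc 1) (enc 2) (enc 4) := ⟨om_small _ (by norm_num) _ (by norm_num),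
    om_small _ (by norm_num) _ (by norm_num), om_small _ (by norm_num) _ (by norm_num)⟩
  obtain ⟨g, g1, g2, g4⟩ := Invol.exists_triple hI0 hO0 hI hO
  obtain ⟨l0, l3, l5, l6, l7⟩ := lin_lin T hT
  refine ⟨g, fun c hc => ?_⟩
  have e3 : enc 3 = enc 1 + enc 2 := by rw [← enc_xor]; rfl
  have e5 : enc 5 = enc 1 + enc 4 := by rw [← enc_xor]; rfl
  have e6 : enc 6 = enc 2 + enc 4 := by rw [← enc_xor]; rfl
  have e7 : enc 7 = enc 1 + (enc 2 + enc 4) := by rw [← enc_xor, ← enc_xor]; rfl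
  interval_cases c
  · rw [l0, enc_zero, Invol.act_zero]
  · exact g1
  · exact g2
  · rw [l3, e3, act_add, g1, g2, enc_xor]
  · exact g4
  · rw [l5, e5, act_add, g1, g4, enc_xor]
  · rw [l6, e6, act_add, g2, g4, enc_xor]
  · rw [l7, e7, act_add, act_add, g1, g2, g4, enc_xor, enc_xor]

/-- Conjugation by an element inducing a linear map. -/
theorem exists_conj_lin {T : ℕ} (hT : T < 512) (hg : good T = true) : ∃ g : S, ∀ m, g * a m * g⁻¹ = a (qm T m) := by
  obtain ⟨g, h⟩ := exists_lin hT hg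
  refine ⟨g, fun m => ?_⟩
  unfold qm
  rw [a_nm]
  exact conj_a (fun c h1 h2 => ⟨good_pos hg h1 h2, good_lt T hT c h2⟩) (fun c _ h2 => h c h2) m

/-! ### types -/

/-- Words of the types. -/
def wd (k : ℕ) : List ℕ := [[], [1], [1, 2, 3], [1, 2], [1, 2, 4]].getD k []

theorem a_eq_W {m : ℕ} {ks : List ℕ} (h : ∀ c < 64, ac m c = wc ks c) : a m = W ks := by
  apply act_ext
  intro x
  obtain ⟨c, hc, rfl⟩ := exists_enc x
  rw [act_a_enc, act_W, h c hc]

theorem a_rep : ∀ k < 5, a (rep k) = W (wd k) := by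
  have h : ∀ k < 5, ∀ c < 64, ac (rep k) c = wc (wd k) c := by decide +kernel
  intro k hk
  exact a_eq_W (h k hk)

/-- Every `a m` is conjugate to the word of its type. -/
theorem exists_conj_word {m : ℕ} (hm : m < 64) : ∃ g : S, g * a m * g⁻¹ = W (wd (ty m)) := by
  obtain ⟨h1, h2, h3⟩ := tab_spec m hm
  obtain ⟨g, hg⟩ := exists_conj_lin h1 h2
  refine ⟨g⁻¹, ?_⟩
  rw [← a_rep _ (Nat.lt_succ_of_le (ty_le m hm))]
  have := hg (rep (ty m))
  rw [h3] at this
  rw [← this]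
  group

/-! ### the subgroup -/

/-- The pointwise stabilizer of the span of `enc 1`, `enc 2`, `enc 4`. -/
def A : Subgroup S where
  carrier := {g | act g (enc 1) = enc 1 ∧ act g (enc 2) = enc 2 ∧ act g (enc 4) = enc 4}
  one_mem' := ⟨act_one _, act_one _, act_one _⟩
  mul_mem' := by
    rintro g h ⟨h1, h2, h3⟩ ⟨h4, h5, h6⟩
    exact ⟨by rw [act_mul, h4, h1], by rw [act_mul, h5, h2], by rw [act_mul, h6, h3]⟩
  inv_mem' := by
    rintro g ⟨h1, h2, h3⟩
    have key : ∀ x, act g x = x → act g⁻¹ x = x := by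
      intro x hx
      conv_lhs => rw [← hx]
      rw [← act_mul, inv_mul_cancel, act_one]
    exact ⟨key _ h1, key _ h2, key _ h3⟩

theorem facts_A : QLevelModel.Facts A := by
  have hI0 : Invol.Ind (enc 1) (enc 2) (enc 4) := ind_enc (by norm_num) (by norm_num) (by norm_num) (by decide)
    (by decide) (by decide) (by decide) (by decide) (by decide) (by decide)
  have hO0 : Invol.Orth (enc 1) (enc 2) (enc 4) := ⟨om_small _ (by norm_num) _ (by norm_num),
    om_small _ (by norm_num) _ (by norm_num), om_small _ (by norm_num) _ (by norm_num)⟩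
  exact QLevelSp.facts_frame hI0 hO0 A (fun g => Iff.rfl)

theorem a_mem (m : ℕ) : a m ∈ A := by
  have h : ∀ c < 8, act (a m) (enc c) = enc c := by
    intro c hc
    rw [act_a]
    have : sg (dis (enc c)) m = 0 := by
      unfold sg
      refine Finset.sum_eq_zero fun i hi => ?_
      rw [Finset.mem_range] at hi
      unfold dis
      rw [om_small c hc (i + 1) (by omega), zero_smul, ite_self]
    rw [this, add_zero]
  exact ⟨h 1 (by norm_num), h 2 (by norm_num), h 4 (by norm_num)⟩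

theorem surj_of_card {X : Type*} [Group X] (A : Subgroup X) (hA : Nat.card A = 64) (f : ℕ → X)
    (hf : ∀ m, f m ∈ A) (hi : ∀ m < 64, ∀ n < 64, f m = f n → m = n) {x : X} (hx : x ∈ A) : ∃ m < 64, x = f m := by
  have hfin : Finite A := Nat.finite_of_card_ne_zero (by rw [hA]; norm_num)
  have hb : Function.Bijective (fun m : Fin 64 => (⟨f m.val, hf m.val⟩ : A)) := by
    rw [Nat.bijective_iff_injective_and_card]
    refine ⟨?_, by rw [hA, Nat.card_eq_fintype_card, Fintype.card_fin]⟩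
    intro m n h
    exact Fin.ext (hi _ m.2 _ n.2 (congrArg Subtype.val h))
  obtain ⟨m, hm⟩ := hb.2 ⟨x, hx⟩
  exact ⟨m.val, m.2, (congrArg Subtype.val hm).symm⟩

theorem mem_A {x : S} : x ∈ A ↔ ∃ m < 64, x = a m := by
  constructor
  · intro hx
    exact surj_of_card A facts_A.card a a_mem (fun m hm n hn => a_inj hm hn) hx
  · rintro ⟨m, -, rfl⟩
    exact a_mem m

end Cfsg.Agent.StdSpSix.EType
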