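import Cfsg.Agent.StdSpSix.EpsR
import Cfsg.Agent.StdSpSix.SwZero
import Cfsg.Agent.StdSpSix.AbelRank

/-!
# Pattern ALL, `[y_u, y_v] = b_{u+v}` (`ε = 1`): a sign on `G`
-/

set_option autoImplicit false
set_option synthInstance.maxSize 2000

namespace Cfsg.Agent.StdSpSix.EpsFin

open Subgroup
open Cfsg.Agent.StandardComponent.SpTwo
open Cfsg.Agent.SporRec.TwoSp6
open Cfsg.Agent.StdSpSix.Eps
open Cfsg.Agent.StdSpSix.SwZero (WW card_WW ti_WW mem_WW mem_AG_iff ga_mem_of)
open Cfsg.Agent.StdSpSix.QLevelSp (AW AG mem_AW mem_AG AG_le mem_AG_coe mem_normalizer_AG)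

/-! ### the plane -/

/-- the plane in coordinates -/
def io : F3 →ₗ[ZMod 2] Sp.V where
  toFun w := w.1 • Sp.enc 1 + w.2.1 • Sp.enc 2 + w.2.2 • Sp.enc 4
  map_add' u v := by
    simp only [Prod.fst_add, Prod.snd_add]
    module
  map_smul' r u := by
    simp only [Prod.smul_fst, Prod.smul_snd, smul_eq_mul, RingHom.id_apply]
    module

theorem io_enc {c : ℕ} (hc : c < 8) : ∃ w, io w = Sp.enc c := by
  have key : ∀ c : Fin 8, ∃ w : F3, io w = Sp.enc c := by decide +kernel
  exact key ⟨c, hc⟩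

theorem io_lt (w : F3) : ∃ c < 8, io w = Sp.enc c := by
  have key : ∀ w : F3, ∃ c : Fin 8, io w = Sp.enc c := by decide +kernel
  obtain ⟨c, hc⟩ := key w
  exact ⟨c, c.2, hc⟩

theorem om_io (u v : F3) : Sp.om (io u) (io v) = 0 := by
  obtain ⟨c, hc, h1⟩ := io_lt u
  obtain ⟨d, hd, h2⟩ := io_lt v
  rw [h1, h2]
  exact EA.om_small c hc d hd

theorem io_ne {w : F3} (h : io w = 0) : w = 0 := by
  revert w; decide +kernel

theorem io_inj {u v : F3} (h : io u = io v) : u = v := by
  apply F3.eq_of_add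
  apply io_ne
  rw [map_add, h, Sp.add_self]

theorem om8 (w : F3) : Sp.om (io w) (Sp.enc 8) = w.1 ∧ Sp.om (io w) (Sp.enc 16) = w.2.1 ∧
    Sp.om (io w) (Sp.enc 32) = w.2.2 := by
  revert w; decide +kernel

theorem io_perp {x : Sp.V} (h : ∀ w, Sp.om x (io w) = 0) : ∃ w, x = io w := by
  have key : ∀ x : Sp.V, (∀ w : F3, Sp.om x (io w) = 0) → ∃ w : F3, x = io w := by decide +kernel
  exact key x h

section plane

variable {X V : Type*} [Group X] [AddCommGroup V] [Module (ZMod 2) V] {S : SpData X V} (K : Model.Coord S)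

/-- the plane in `V` -/
def ι (w : F3) : V := K.f (io w)

theorem ι_add (u v : F3) : ι K (u + v) = ι K u + ι K v := by
  unfold ι
  rw [map_add, map_add]

theorem ι_zero : ι K 0 = 0 := by
  unfold ι
  rw [map_zero, map_zero]

theorem ι_inj {u v : F3} (h : ι K u = ι K v) : u = v := io_inj (K.f.injective h)

theorem ι_ne {u : F3} (h : u ≠ 0) : ι K u ≠ 0 := fun h1 => h (ι_inj K (h1.trans (ι_zero K).symm))

theorem ι_B (u v : F3) : S.B (ι K u) (ι K v) = 0 := by
  unfold ι
  rw [K.om, om_io]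

theorem mem_W_iff {v : V} : v ∈ WW K ↔ ∃ w, v = ι K w := by
  rw [mem_WW]
  constructor
  · rintro ⟨c, hc, rfl⟩
    obtain ⟨w, hw⟩ := io_enc hc
    exact ⟨w, by unfold ι; rw [hw]⟩
  · rintro ⟨w, rfl⟩
    obtain ⟨c, hc, h⟩ := io_lt w
    exact ⟨c, hc, by unfold ι; rw [h]⟩

theorem ι_perp {v : V} (h : ∀ w, S.B v (ι K w) = 0) : ∃ w, v = ι K w := by
  obtain ⟨x, rfl⟩ := K.f.surjective v
  obtain ⟨w, hw⟩ := io_perp (x := x) (fun w => by rw [← K.om]; exact h w)
  exact ⟨w, by unfold ι; rw [hw]⟩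

theorem fix_ι {g : X} (hg : g ∈ AW S (WW K : Set V)) (w : F3) : S.ρ g (ι K w) = ι K w :=
  hg _ ((mem_W_iff K).2 ⟨w, rfl⟩)

theorem mem_AW_ι {g : X} (h : ∀ w, S.ρ g (ι K w) = ι K w) : g ∈ AW S (WW K : Set V) := by
  intro v hv
  obtain ⟨w, rfl⟩ := (mem_W_iff K).1 hv
  exact h w

theorem sub_mem {g : X} (hg : g ∈ AW S (WW K : Set V)) (z : V) : ∃ w, S.ρ g z + z = ι K w := by
  apply ι_perp
  intro w
  rw [map_add, LinearMap.add_apply]
  conv_lhs => rw [← fix_ι K hg w, S.inv, fix_ι K hg w]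
  exact CharTwo.add_self_eq_zero _

theorem phi_mul {g h : X} (hg : g ∈ AW S (WW K : Set V)) (hh : h ∈ AW S (WW K : Set V)) (z : V) :
    S.B (S.ρ (g * h) z) z = S.B (S.ρ g z) z + S.B (S.ρ h z) z := by
  obtain ⟨w, hw⟩ := sub_mem K hh z
  have h1 : S.ρ h z = z + ι K w := by
    rw [← hw, add_comm z, aab]
  rw [S.ρ_mul, h1, map_add, fix_ι K hg, map_add, LinearMap.add_apply, map_add, LinearMap.add_apply, S.alt, zero_add]

theorem τ_mem_AW (w : F3) : S.τ (ι K w) ∈ AW S (WW K : Set V) := by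
  apply mem_AW_ι
  intro v
  rw [S.hτ, ι_B, zero_smul, add_zero]

theorem ι_of_τ_mem {v : V} (h : S.τ v ∈ AW S (WW K : Set V)) : ∃ w, v = ι K w := by
  by_cases hv : v = 0
  · exact ⟨0, by rw [hv, ι_zero]⟩
  · apply ι_perp
    intro w
    have h1 := fix_ι K h w
    rw [S.hτ] at h1
    have h2 : S.B (ι K w) v • v = 0 := left_eq_add.1 h1.symm
    rcases z2 (S.B (ι K w) v) with h3 | h3
    · rw [S.symm]; exact h3
    · rw [h3, one_smul] at h2
      exact absurd h2 hv

/-- the action of `a u v` -/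
theorem rho_a {u v : V} (huv : S.B u v = 0) (z : V) :
    S.ρ (S.τ u * S.τ v * S.τ (u + v)) z = z + S.B z u • v + S.B z v • u := by
  have hvu : S.B v u = 0 := by rw [S.symm]; exact huv
  rw [S.ρ_mul, S.hτ, map_add, map_smul, S.ττ, S.ττ, hvu]
  simp only [map_add, LinearMap.add_apply, S.alt, huv, hvu, add_zero, mul_zero, zero_smul]
  rcases z2 (S.B z u) with h1 | h1 <;> rcases z2 (S.B z v) with h2 | h2 <;> rw [h1, h2]
  · simp
  · have : (0 : ZMod 2) + 1 = 1 := rfl
    rw [this, one_smul, one_smul, zero_smul, zero_smul, add_zero, add_zero]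
    calc z + v + (u + v) = z + u + (v + v) := by abel
      _ = z + (1 : ZMod 2) • u := by rw [aa, add_zero, one_smul]
  · have : (1 : ZMod 2) + 0 = 1 := rfl
    rw [this, one_smul, one_smul, zero_smul, zero_smul, add_zero, add_zero]
    calc z + u + (u + v) = z + v + (u + u) := by abel
      _ = z + (1 : ZMod 2) • v := by rw [aa, add_zero, one_smul]
  · have : (1 : ZMod 2) + 1 = 0 := rfl
    rw [this, zero_smul, one_smul, one_smul, add_zero]

theorem bil (u v w : F3) : S.τ (ι K u) * S.τ (ι K (v + w)) * S.τ (ι K (u + (v + w))) =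
    (S.τ (ι K u) * S.τ (ι K v) * S.τ (ι K (u + v))) * (S.τ (ι K u) * S.τ (ι K w) * S.τ (ι K (u + w))) := by
  apply S.ext_iff
  intro z
  rw [S.ρ_mul (S.τ (ι K u) * S.τ (ι K v) * S.τ (ι K (u + v))), ι_add K u, ι_add K u, ι_add K u,
    rho_a (ι_B K _ _), rho_a (ι_B K _ _), rho_a (ι_B K _ _)]
  simp only [map_add, map_smul, LinearMap.add_apply, LinearMap.smul_apply, ι_B, ι_add, smul_zero, add_zero]
  module

theorem a1 {u v : F3} (h : S.τ (ι K u) * S.τ (ι K v) * S.τ (ι K (u + v)) = 1) : u = 0 ∨ v = 0 ∨ u = v := by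
  by_contra hcon
  push Not at hcon
  obtain ⟨hu, hv, huv⟩ := hcon
  have h1 : ∃ z, S.B z (ι K u) ≠ 0 := by
    by_contra h2
    push Not at h2
    exact ι_ne K hu (S.nondeg _ fun z => by rw [S.symm]; exact h2 z)
  obtain ⟨z, hz⟩ := h1
  have h2 := rho_a (ι_B K u v) z
  rw [← ι_add, h, S.ρ_one, (z2 _).resolve_left hz, one_smul, add_assoc] at h2
  have h3 : ι K v + S.B z (ι K v) • ι K u = 0 := left_eq_add.1 h2
  rcases z2 (S.B z (ι K v)) with h4 | h4
  · rw [h4, zero_smul, add_zero] at h3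
    exact ι_ne K hv h3
  · rw [h4, one_smul, ← ι_add, ← ι_zero K] at h3
    have := ι_inj K h3
    exact huv (F3.eq_of_add this).symm

/-- the elements normalising `A` preserve the plane -/
theorem exists_σ {g : X} (hg : g ∈ normalizer (AW S (WW K : Set V) : Set X)) :
    ∃ σ : F3 ≃+ F3, ∀ w, S.ρ g (ι K w) = ι K (σ w) := by
  have h1 : ∀ w, ∃ w', S.ρ g (ι K w) = ι K w' := by
    intro w
    apply ι_of_τ_mem
    rw [← S.conj_τ]
    exact (mem_normalizer_iff.1 hg _).1 (τ_mem_AW K w)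
  choose f hf using h1
  let f0 : F3 →+ F3 :=
    { toFun := f
      map_zero' := ι_inj K (by rw [← hf, ι_zero, map_zero])
      map_add' := fun u v => ι_inj K (by rw [← hf, ι_add, map_add, hf, hf, ι_add]) }
  have hf0 : Function.Injective f0 := by
    intro u v huv
    apply ι_inj K
    apply S.ρ_inj g
    rw [hf, hf]
    exact congrArg (ι K) huv
  exact ⟨AddEquiv.ofBijective f0 (Finite.injective_iff_bijective.1 hf0), hf⟩

/-- every linear map of the plane is induced -/
theorem exists_g (σ : F3 ≃+ F3) : ∃ g : X, ∀ w, S.ρ g (ι K w) = ι K (σ w) := by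
  have hI0 : Invol.Ind (io (1, 0, 0)) (io (0, 1, 0)) (io (0, 0, 1)) := by decide +kernel
  have hne : ∀ {u v : F3}, u ≠ v → io u ≠ io v := fun h h1 => h (io_inj h1)
  have hσ : ∀ {u v : F3}, u ≠ v → io (σ u) ≠ io (σ v) := fun h => hne fun h1 => h (σ.injective h1)
  have h0 : (0 : Sp.V) = io (σ 0) := by rw [map_zero, map_zero]
  have hI : Invol.Ind (io (σ (1, 0, 0))) (io (σ (0, 1, 0))) (io (σ (0, 0, 1))) := by
    refine ⟨?_, ?_, hσ (by decide), ?_, hσ (by decide), hσ (by decide), ?_⟩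
    · rw [h0]; exact hσ (by decide)
    · rw [h0]; exact hσ (by decide)
    · rw [h0]; exact hσ (by decide)
    · rw [← map_add, ← map_add]; exact hσ (by decide)
  obtain ⟨g, h1, h2, h3⟩ := Invol.exists_triple hI0 ⟨om_io _ _, om_io _ _, om_io _ _⟩ hI ⟨om_io _ _, om_io _ _, om_io _ _⟩
  refine ⟨K.e g, fun w => ?_⟩
  unfold ι
  rw [K.act]
  congr 1
  refine WData.ind3 (P := fun w => Sp.act g (io w) = io (σ w)) ?_ h1 h2 h3 ?_ w
  · rw [map_zero, map_zero, map_zero, Invol.act_zero]
  · intro u v hu hv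
    rw [map_add, map_add, map_add, Sp.act_add, hu, hv]

end plane

section ctx

variable {G V : Type*} [Group G] [AddCommGroup V] [Module (ZMod 2) V] (C : Ctx G V) (K : Model.Coord C.S)

open Classical in
/-- the projection `Q → W` -/
noncomputable def pr (g : G) : F3 :=
  if h : g ∈ C.L then (C.S.B (C.S.ρ ⟨g, h⟩ (K.f (Sp.enc 8))) (K.f (Sp.enc 8)),
    C.S.B (C.S.ρ ⟨g, h⟩ (K.f (Sp.enc 16))) (K.f (Sp.enc 16)),
    C.S.B (C.S.ρ ⟨g, h⟩ (K.f (Sp.enc 32))) (K.f (Sp.enc 32))) else 0

theorem pr_mul {g h : G} (hg : g ∈ AG C (WW K : Set V)) (hh : h ∈ AG C (WW K : Set V)) :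
    pr C K (g * h) = pr C K g + pr C K h := by
  obtain ⟨x, hx, rfl⟩ := hg
  obtain ⟨z, hz, rfl⟩ := hh
  have h1 : C.L.subtype x * C.L.subtype z = C.L.subtype (x * z) := rfl
  have e : ∀ x : C.L, pr C K (C.L.subtype x) = (C.S.B (C.S.ρ x (K.f (Sp.enc 8))) (K.f (Sp.enc 8)),
    C.S.B (C.S.ρ x (K.f (Sp.enc 16))) (K.f (Sp.enc 16)),
    C.S.B (C.S.ρ x (K.f (Sp.enc 32))) (K.f (Sp.enc 32))) := by
    intro x
    unfold pr
    rw [dif_pos (show C.L.subtype x ∈ C.L from x.2)]
    rfl
  rw [h1, e, e, e, phi_mul K hx hz, phi_mul K hx hz, phi_mul K hx hz]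
  rfl

theorem pr_b (w : F3) : pr C K (C.b (ι K w)) = w := by
  unfold pr
  rw [dif_pos (C.b_mem _)]
  have h1 : (⟨C.b (ι K w), C.b_mem _⟩ : C.L) = C.S.τ (ι K w) := rfl
  have sq : ∀ s : ZMod 2, s * s = s := by decide
  have key : ∀ c, C.S.B (C.S.ρ (C.S.τ (ι K w)) (K.f (Sp.enc c))) (K.f (Sp.enc c)) = Sp.om (io w) (Sp.enc c) := by
    intro c
    rw [C.S.hτ, map_add, LinearMap.add_apply, C.S.alt, zero_add, map_smul, LinearMap.smul_apply, C.S.symm (K.f _) (ι K w),
      smul_eq_mul, sq]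
    unfold ι
    rw [K.om]
  rw [h1, key, key, key, (om8 w).1, (om8 w).2.1, (om8 w).2.2]

variable {C} in
/-- the data -/
noncomputable def wdata [Finite G] (hL : ∀ x ∈ C.L, x ∉ C.D) (hall : ∀ x ∈ C.L, x * x = 1 → C.t * x ∈ C.D)
    (y : V → G) (hy : ∀ u, u ≠ 0 → IsY C u (y u))
    (h1 : ∀ u v, u ≠ 0 → v ≠ 0 → u ≠ v → C.S.B u v = 0 → (y u * y v) * (y u * y v) = C.b (u + v)) : WData G :=
  have F := QLevelSp.facts_AW C.S C.cardV (WW K) (card_WW K) (ti_WW K)
  have hQQ : ∀ x ∈ AG C (WW K : Set V), x * x = 1 := by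
    rintro _ ⟨x, hx, rfl⟩
    exact congrArg Subtype.val (F.sq x hx)
  have hbQ : ∀ w, C.b (ι K w) ∈ AG C (WW K : Set V) := fun w => (mem_AG_coe C).2 (τ_mem_AW K w)
  have hQc : ∀ x ∈ AG C (WW K : Set V), ∀ z ∈ AG C (WW K : Set V), x * z = z * x := fun x hx z hz =>
    QLevel.comm_of_sq hQQ hx hz
  have hCA : ∀ l ∈ C.L, (∀ a ∈ AG C (WW K : Set V), l * a = a * l) → l ∈ AG C (WW K : Set V) := by
    intro l hl h
    have h1 := F.CA ⟨l, hl⟩ (fun a ha => Subtype.ext (h _ ((mem_AG_coe C).2 ha)))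
    exact (mem_AG_coe C).2 h1
  have hyQ : ∀ w, w ≠ 0 → ∀ q ∈ AG C (WW K : Set V), q * y (ι K w) = y (ι K w) * q := fun w hw q hq =>
    (hy _ (ι_ne K hw)).comm q (AG_le C _ hq) (hQc q hq _ (hbQ w))
  have hty : ∀ w, w ≠ 0 → C.t * y (ι K w) * (C.t * y (ι K w)) = C.b (ι K w) := by
    intro w hw
    have h := hy _ (ι_ne K hw)
    calc C.t * y (ι K w) * (C.t * y (ι K w)) = C.t * (y (ι K w) * C.t * y (ι K w)) := by group
      _ = (C.t * C.t) * C.b (ι K w) := by rw [h.conj]; group
      _ = _ := by rw [C.tt, one_mul]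
  { t := C.t
    L := C.L
    Q := AG C (WW K : Set V)
    tt := C.tt
    cent := C.cent
    DL := fun g h => hL _ h ⟨g, rfl⟩
    all := fun l hl hll => hall l hl hll
    QL := AG_le C _
    cardQ := by rw [AG, card_map_of_injective C.L.subtype_injective, F.card]
    sat := by
      intro B hB hBsq hBc
      have h1 : Nat.card (B.subgroupOf C.L) = Nat.card B := QLevel.card_sub_eq hB
      obtain ⟨l, hl⟩ := F.sat (B.subgroupOf C.L) (fun x hx => Subtype.ext (hBsq _ hx)) (by rw [h1]; exact hBc)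
      refine ⟨l, l.2, fun x => ?_⟩
      constructor
      · intro hx
        have h2 := (hl ⟨x, hB hx⟩).1 hx
        exact (mem_AG_coe C).2 h2
      · intro hx
        have hxL := AG_le C _ hx
        have hxL' : x ∈ C.L := by
          have h2 := mul_mem (mul_mem l.2 hxL) (inv_mem l.2)
          have h3 : (l : G) * ((l : G)⁻¹ * x * l) * (l : G)⁻¹ = x := by group
          rwa [h3] at h2
        exact (hl ⟨x, hxL'⟩).2 ((mem_AG_coe C).1 hx)
    CQ := hCA
    ord4 := by
      intro c hc B hB hBsq hBc hcom h4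
      have h1 : Nat.card (B.subgroupOf C.L) = Nat.card B := QLevel.card_sub_eq hB
      have h2 := AbelRank.sq_of_commute C.S C.cardV (B.subgroupOf C.L) (fun x hx => Subtype.ext (hBsq _ hx))
        (by rw [h1]; exact hBc) (c := ⟨c, hc⟩) (fun x hx => Subtype.ext (hcom _ hx)) (Subtype.ext h4)
      exact congrArg Subtype.val h2
    odd := by
      have h1 : (normalizer (AG C (WW K : Set V) : Set G)).subgroupOf C.L = normalizer (AW C.S (WW K : Set V) : Set C.L) := by
        ext x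
        rw [mem_subgroupOf]
        exact mem_normalizer_AG C
      rw [relIndex, h1]
      exact F.odd
    lift := by
      intro n hn hN hnn
      have h1 : (⟨n, hn⟩ : C.L) ∈ normalizer (AW C.S (WW K : Set V) : Set C.L) := (mem_normalizer_AG C).1 hN
      obtain ⟨a, ha, h2⟩ := F.lift _ h1 ((mem_AG_coe C).1 hnn)
      exact ⟨a, (mem_AG_coe C).2 ha, congrArg Subtype.val h2⟩
    b := fun w => C.b (ι K w)
    y := fun w => if w = 0 then C.t else y (ι K w)
    π := pr C K
    b0 := by rw [ι_zero, C.b_zero]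
    y0 := if_pos rfl
    QQ := hQQ
    bQ := hbQ
    gen := by
      intro P hP q hq
      obtain ⟨m, -, rfl⟩ := (mem_AG_iff C K).1 hq
      refine ga_mem_of C K P (fun c h1 h2 => ?_) m
      obtain ⟨w, hw⟩ := io_enc h2
      rw [← hw]
      exact hP w
    πmul := fun x hx z hz => pr_mul C K hx hz
    πb := pr_b C K
    y2 := by
      intro w
      split_ifs with h
      · exact C.tt
      · exact (hy _ (ι_ne K h)).sq
    yQ := by
      intro w q hq
      split_ifs with h
      · exact C.commute_of_mem (AG_le C _ hq)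
      · exact hyQ w h q hq
    yy := by
      intro v w
      by_cases hv : v = 0
      · by_cases hw : w = 0
        · rw [if_pos hv, if_pos hw, hv, hw, add_zero, ι_zero, C.b_zero, C.tt, one_mul]
        · rw [if_pos hv, if_neg hw, hv, zero_add]
          exact hty w hw
      · by_cases hw : w = 0
        · rw [if_neg hv, if_pos hw, hw, add_zero]
          have h := hy _ (ι_ne K hv)
          calc y (ι K v) * C.t * (y (ι K v) * C.t) = (y (ι K v) * C.t * y (ι K v)) * C.t := by group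
            _ = C.t * (C.b (ι K v) * C.t) := by rw [h.conj]; group
            _ = C.t * (C.t * C.b (ι K v)) := by rw [C.commute_of_mem (C.b_mem _)]
            _ = (C.t * C.t) * C.b (ι K v) := by group
            _ = _ := by rw [C.tt, one_mul]
        · rw [if_neg hv, if_neg hw]
          by_cases hvw : v = w
          · rw [hvw, F3.add_self, ι_zero, C.b_zero, (hy _ (ι_ne K hw)).sq, one_mul]
          · rw [h1 _ _ (ι_ne K hv) (ι_ne K hw) (fun h => hvw (ι_inj K h)) (ι_B K _ _), ι_add]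
    bil := fun u v w => congrArg Subtype.val (bil K u v w)
    a1 := fun u v h => a1 K (Subtype.ext h)
    act := by
      intro n hn hnQ
      have hn' : (⟨n, hn⟩ : C.L) ∈ normalizer (AW C.S (WW K : Set V) : Set C.L) := (mem_normalizer_AG C).1 hnQ
      obtain ⟨σ, hσ⟩ := exists_σ K hn'
      have hb : ∀ w, n * C.b (ι K w) * n⁻¹ = C.b (ι K (σ w)) := by
        intro w
        rw [← hσ]
        exact C.b_conj ⟨n, hn⟩ _
      refine ⟨σ, hb, fun w => ?_⟩
      have hnt : n * C.t = C.t * n := C.commute_of_mem hn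
      by_cases hw : w = 0
      · refine ⟨1, one_mem _, ?_⟩
        rw [if_pos hw, hw, map_zero, if_pos rfl, hnt]; group
      · have hw' : σ w ≠ 0 := fun h => hw ((AddEquiv.map_eq_zero_iff σ).1 h)
        rw [if_neg hw, if_neg hw']
        set g := y (ι K w) with hg
        set g' := y (ι K (σ w)) with hg'
        have hyw := hy _ (ι_ne K hw)
        have hyw' := hy _ (ι_ne K hw')
        rw [← hg] at hyw
        rw [← hg'] at hyw'
        have gi : g⁻¹ = g := QLevel.inv_of_sq hyw.sq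
        have gi' : g'⁻¹ = g' := QLevel.inv_of_sq hyw'.sq
        have hg't : g' * C.t * g' = C.t * C.b (ι K (σ w)) := hyw'.conj
        have hngt : (n * g * n⁻¹) * C.t * (n * g * n⁻¹)⁻¹ = C.t * C.b (ι K (σ w)) := by
          have hnt' : n⁻¹ * C.t = C.t * n⁻¹ := C.commute_of_mem (inv_mem hn)
          calc (n * g * n⁻¹) * C.t * (n * g * n⁻¹)⁻¹ = n * g * (n⁻¹ * C.t) * n * g⁻¹ * n⁻¹ := by group
            _ = n * (g * C.t * g) * n⁻¹ := by rw [hnt', gi]; group
            _ = (n * C.t) * C.b (ι K w) * n⁻¹ := by rw [hyw.conj]; group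
            _ = C.t * (n * C.b (ι K w) * n⁻¹) := by rw [hnt]; group
            _ = _ := by rw [hb]
        -- `k = g' n g n⁻¹` commutes with `t` and `Q`
        set k := g' * (n * g * n⁻¹) with hk
        have hkt : k * C.t = C.t * k := by
          have h2 : g'⁻¹ * (C.t * C.b (ι K (σ w))) * g' = C.t := by rw [← hg't]; rw [gi']; calc
            g' * (g' * C.t * g') * g' = (g' * g') * C.t * (g' * g') := by group
            _ = C.t := by rw [hyw'.sq, one_mul, mul_one]
          calc k * C.t = g' * ((n * g * n⁻¹) * C.t * (n * g * n⁻¹)⁻¹) * g'⁻¹ * (g' * (n * g * n⁻¹)) := by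
                rw [hk]; group
            _ = (g'⁻¹ * (C.t * C.b (ι K (σ w))) * g') * (g' * (n * g * n⁻¹)) := by rw [hngt, gi']
            _ = C.t * k := by rw [h2]
        have hkQ : ∀ q ∈ AG C (WW K : Set V), k * q = q * k := by
          intro q hq
          have h2 := hyQ _ hw' q hq
          have h3 := hyQ _ hw _ ((mem_normalizer_iff''.1 hnQ q).1 hq)
          rw [← hg'] at h2
          rw [← hg] at h3
          calc k * q = g' * n * (g * (n⁻¹ * q * n)) * n⁻¹ := by rw [hk]; group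
            _ = (g' * q) * n * g * n⁻¹ := by rw [← h3]; group
            _ = q * k := by rw [← h2, hk]; group
        have hgk : n * g * n⁻¹ = g' * k := by
          rw [hk, ← mul_assoc, hyw'.sq, one_mul]
        refine ⟨k, ?_, hgk⟩
        rcases (C.cent k).1 hkt with h2 | h2
        · exact hCA k h2 hkQ
        · exfalso
          have h3 : C.t * k ∈ AG C (WW K : Set V) := by
            apply hCA _ h2
            intro q hq
            have h4 := C.commute_of_mem (AG_le C _ hq)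
            calc C.t * k * q = C.t * (k * q) := by group
              _ = (C.t * q) * k := by rw [hkQ q hq]; group
              _ = q * (C.t * k) := by rw [← h4.eq]; group
          have h4 : (g' * k) * (g' * k) = 1 := by
            rw [← hgk]
            calc (n * g * n⁻¹) * (n * g * n⁻¹) = n * (g * g) * n⁻¹ := by group
              _ = 1 := by rw [hyw.sq]; group
          -- `g' k = g' t (t k)`
          have h5 : (C.t * k) * g' = g' * (C.t * k) := hyQ _ hw' _ h3
          have h5t : (C.t * k) * C.t = C.t * (C.t * k) := C.commute_of_mem h2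
          have h6 : (g' * k) * (g' * k) = (g' * C.t * g') * C.t * ((C.t * k) * (C.t * k)) := by
            have e1 : g' * k = g' * C.t * (C.t * k) := by
              calc g' * k = g' * (C.t * C.t) * k := by rw [C.tt, mul_one]
                _ = _ := by group
            rw [e1]
            calc g' * C.t * (C.t * k) * (g' * C.t * (C.t * k)) = g' * C.t * ((C.t * k) * g') * C.t * (C.t * k) := by group
              _ = g' * C.t * g' * ((C.t * k) * C.t) * (C.t * k) := by rw [h5]; group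
              _ = _ := by rw [h5t]; group
          rw [h6, hQQ _ h3, mul_one, hg't] at h4
          have h7 : C.t * C.b (ι K (σ w)) * C.t = C.b (ι K (σ w)) := by
            have h8 := C.commute_of_mem (C.b_mem (ι K (σ w)))
            calc C.t * C.b (ι K (σ w)) * C.t = C.t * (C.b (ι K (σ w)) * C.t) := by group
              _ = (C.t * C.t) * C.b (ι K (σ w)) := by rw [h8.eq]; group
              _ = _ := by rw [C.tt, one_mul]
          rw [h7] at h4
          apply ι_ne K hw'
          apply C.b_inj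
          rw [h4, C.b_zero]
    wit := by
      intro σ
      obtain ⟨g, hg⟩ := exists_g K σ
      have hb : ∀ w, (g : G) * C.b (ι K w) * (g : G)⁻¹ = C.b (ι K (σ w)) := by
        intro w
        rw [← hg]
        exact C.b_conj g _
      refine ⟨g, g.2, ?_, hb⟩
      rw [mem_normalizer_AG, mem_normalizer_iff]
      apply QLevel.Data.conj_mem_iff_of_le
      intro a ha
      apply mem_AW_ι
      intro w
      have h2 : C.S.ρ g (ι K (σ.symm w)) = ι K w := by rw [hg, AddEquiv.apply_symm_apply]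
      rw [C.S.ρ_mul, C.S.ρ_mul, ← h2, C.S.ρ_inv_apply, fix_ι K ha] }

variable {C} in
/-- `eps = 1` -/
theorem exists_hom [Finite G] (hL : ∀ x ∈ C.L, x ∉ C.D) (hall : ∀ x ∈ C.L, x * x = 1 → C.t * x ∈ C.D)
    (y : V → G) (hy : ∀ u, u ≠ 0 → IsY C u (y u))
    (h1 : ∀ u v, u ≠ 0 → v ≠ 0 → u ≠ v → C.S.B u v = 0 → (y u * y v) * (y u * y v) = C.b (u + v)) :
    ∃ m : G →* ℤˣ, m C.t = -1 := by
  obtain ⟨K⟩ := Model.exists_coord C.S C.cardV
  have F := QLevelSp.facts_AW C.S C.cardV (WW K) (card_WW K) (ti_WW K)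
  obtain ⟨θ, hθ, hk⟩ := F.quo
  set D := wdata K hL hall y hy h1 with hD
  have hDQ : D.Q = AG C (WW K : Set V) := rfl
  have hDL : D.L = C.L := rfl
  have hDN : ∀ g : G, g ∈ D.L ⊓ normalizer (D.Q : Set G) →
      ∃ h : g ∈ C.L, (⟨g, h⟩ : C.L) ∈ normalizer (AW C.S (WW K) : Set C.L) := by
    intro g hg
    have h1 : g ∈ C.L := (mem_inf.1 hg).1
    exact ⟨h1, (mem_normalizer_AG C).1 (mem_inf.1 hg).2⟩
  let φ : (D.L ⊓ normalizer (D.Q : Set G) : Subgroup G) →* normalizer (AW C.S (WW K) : Set C.L) :=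
    { toFun := fun g => ⟨⟨g, (hDN g g.2).1⟩, (hDN g g.2).2⟩
      map_one' := rfl
      map_mul' := fun _ _ => rfl }
  refine D.main (θ.comp φ) ?_ ?_
  · intro U
    obtain ⟨n, rfl⟩ := hθ U
    exact ⟨⟨((n : C.L) : G), mem_inf.2 ⟨(n : C.L).2, (mem_normalizer_AG C).2 n.2⟩⟩, rfl⟩
  · intro n
    change θ (φ n) = 1 ↔ _
    rw [hk]
    exact (mem_AG_coe C).symm

end ctx

end Cfsg.Agent.StdSpSix.EpsFin
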