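import Cfsg.Agent.StdSpSix.EpsY

/-!
# Case II: all `y w` are conjugate to `t`

`N₀ = {g ∈ C_G(Q) : y x ^ g ∈ y (x + c) Q}` has order `2¹⁶`, `R = C_{N₀}(Z)` has order `2¹⁵`, `N₀ = R⟨t⟩`.
-/

set_option autoImplicit false
set_option synthInstance.maxSize 2000

namespace Cfsg.Agent.StdSpSix.Eps

open Subgroup
open Cfsg.Agent.StdSpSix.QLevel (card_le_two_mul card_sub_eq inv_of_sq comm_of_sq mem_inf_cent card_le_sq)
open Cfsg.Agent.StdSpSix.QLevel.Data (card_conj_of_iff mem_map_conj conj_mem_iff_of_le)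
open Cfsg.Agent.StdSpSix.RLevel

namespace WData

variable {G : Type*} [Group G] (D : WData G)

theorem O_y {m : G} (hm : m ∈ D.O) (w : F3) : ∃ q ∈ D.Q, m * D.y w * m⁻¹ = D.y w * q := by
  have key : ∀ n ∈ D.Y1, ∃ q ∈ D.Q, n * D.y w * n⁻¹ = D.y w * q := by
    intro n hn
    refine ⟨_, mul_mem hn.1.2 (D.aQ (D.p n) w), ?_⟩
    rw [D.Y1_y hn, D.yQ w _ (mul_mem hn.1.2 (D.aQ (D.p n) w))]
  rcases D.Y1_or hm with h | h
  · exact key m h
  · obtain ⟨q, hq, h1⟩ := key _ h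
    refine ⟨D.b w * q, mul_mem (D.bQ w) hq, ?_⟩
    calc m * D.y w * m⁻¹ = (D.t * D.t) * m * D.y w * m⁻¹ * (D.t * D.t)⁻¹ := by rw [D.tt]; group
      _ = D.t * (D.t * m * D.y w * (D.t * m)⁻¹) * D.t⁻¹ := by group
      _ = D.t * D.y w * (q * D.t) := by rw [h1, D.t_inv]; group
      _ = D.b w * (D.y w * D.t) * (D.t * q) := by rw [D.Qt hq, D.t_y]
      _ = D.b w * D.y w * (D.t * D.t) * q := by group
      _ = D.y w * (D.b w * q) := by rw [D.tt, D.yQ w _ (D.bQ w)]; group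

/-- the cosets `y w Q` are different -/
theorem p_y (w : F3) {q : G} (hq : q ∈ D.Q) : D.p (D.t * (D.y w * q)) = w := by
  rw [← mul_assoc]
  change D.p (D.r w * q) = w
  rw [D.p_mul (D.rO w) (D.QO hq), D.p_r, D.p_q hq, add_zero]

/-- `D ∩ O` -/
theorem DO [Finite G] {g : G} (h : g * D.t * g⁻¹ ∈ D.O) : ∃ x, ∃ q ∈ D.Q, g * D.t * g⁻¹ = D.y x * q := by
  rcases D.Y1_or h with h1 | h1
  · exfalso
    exact D.false_of_cent (fun z hz => D.ZZ hz) D.card_Z g (fun z hz => D.Z_comm hz h1)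
  · have h2 : D.t * (D.t * (g * D.t * g⁻¹)) = g * D.t * g⁻¹ := by rw [← mul_assoc, D.tt, one_mul]
    obtain ⟨q, hq, h3⟩ := D.inv_tY h1 (by rw [h2]; exact D.conj_inv_t g)
    rw [h2] at h3
    exact ⟨_, q, hq, h3⟩

/-- all `y w` are in `D` -/
theorem all_y (h : ∃ w, w ≠ 0 ∧ ∃ g, D.y w = g * D.t * g⁻¹) (w : F3) : ∃ g, D.y w = g * D.t * g⁻¹ := by
  by_cases hw : w = 0
  · refine ⟨1, ?_⟩
    rw [hw, D.y0]; group
  · obtain ⟨w0, hw0, g, hg⟩ := h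
    have h1 : ∀ u v : F3, u ≠ 0 → v ≠ 0 → ∃ k : F3, dot k u = 1 ∧ dot k (u + v) = 0 := by decide +kernel
    obtain ⟨k, h2, h3⟩ := h1 w0 w hw0 hw
    obtain ⟨n, hn, hnQ, h4⟩ := D.wit (tv k (w0 + w) h3)
    obtain ⟨q, hq, h5⟩ := D.acts_y (σ := tv k (w0 + w) h3) ⟨hn, hnQ, h4⟩ w0
    rw [tv_apply, h2, one_smul, F3.add_add_self] at h5
    obtain ⟨m, -, h6⟩ := D.Y1_y_surj w hq
    refine ⟨m⁻¹ * n * g, ?_⟩
    calc D.y w = m⁻¹ * (m * D.y w * m⁻¹) * m := by group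
      _ = m⁻¹ * (n * D.y w0 * n⁻¹) * m := by rw [h6, h5]
      _ = _ := by rw [hg]; group

/-! ### `N₀` -/

/-- `N₀` -/
def N0 : Subgroup G where
  carrier := {g | g ∈ D.M ∧ ∃ c, ∀ x, ∃ q ∈ D.Q, g * D.y x * g⁻¹ = D.y (x + c) * q}
  one_mem' := ⟨one_mem _, 0, fun x => ⟨1, one_mem _, by rw [add_zero]; group⟩⟩
  mul_mem' := by
    rintro g h ⟨hg, c, hg1⟩ ⟨hh, d, hh1⟩
    refine ⟨mul_mem hg hh, c + d, fun x => ?_⟩
    obtain ⟨q, hq, h1⟩ := hh1 x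
    obtain ⟨q', hq', h2⟩ := hg1 (x + d)
    refine ⟨q' * q, mul_mem hq' hq, ?_⟩
    have h3 := D.conj_q hg hq
    calc g * h * D.y x * (g * h)⁻¹ = g * (h * D.y x * h⁻¹) * g⁻¹ := by group
      _ = (g * D.y (x + d) * g⁻¹) * (g * q * g⁻¹) := by rw [h1]; group
      _ = _ := by rw [h2, h3, add_assoc, add_comm d c]; group
  inv_mem' := by
    rintro g ⟨hg, c, hg1⟩
    refine ⟨inv_mem hg, c, fun x => ?_⟩
    obtain ⟨q, hq, h1⟩ := hg1 (x + c)
    rw [add_assoc, F3.add_self, add_zero] at h1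
    refine ⟨q⁻¹, inv_mem hq, ?_⟩
    have h3 := D.conj_q (inv_mem hg) (inv_mem hq)
    rw [inv_inv] at h3 ⊢
    have h4 : D.y x = (g * D.y (x + c) * g⁻¹) * q⁻¹ := by rw [h1]; group
    calc g⁻¹ * D.y x * g = D.y (x + c) * (g⁻¹ * q⁻¹ * g) := by rw [h4]; group
      _ = _ := by rw [h3]

/-- the translation part -/
def cc (g : G) : F3 := D.p (D.t * (g * D.t * g⁻¹))

theorem cc_eq {g q : G} {c : F3} (hq : q ∈ D.Q) (h : g * D.t * g⁻¹ = D.y c * q) : D.cc g = c := by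
  unfold cc
  rw [h, D.p_y c hq]

theorem N0_y {g : G} (hg : g ∈ D.N0) (x : F3) : ∃ q ∈ D.Q, g * D.y x * g⁻¹ = D.y (x + D.cc g) * q := by
  obtain ⟨hg1, c, h⟩ := hg
  obtain ⟨q, hq, h1⟩ := h 0
  rw [D.y0, zero_add] at h1
  rw [D.cc_eq hq h1]
  exact h x

theorem N0_t {g : G} (hg : g ∈ D.N0) : ∃ q ∈ D.Q, g * D.t * g⁻¹ = D.y (D.cc g) * q := by
  have := D.N0_y hg 0
  rwa [D.y0, zero_add] at this

theorem cc_mul {g h : G} (hg : g ∈ D.N0) (hh : h ∈ D.N0) : D.cc (g * h) = D.cc g + D.cc h := by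
  obtain ⟨q, hq, h1⟩ := D.N0_t hh
  obtain ⟨q', hq', h2⟩ := D.N0_y hg (D.cc h)
  apply D.cc_eq (mul_mem hq' hq)
  have h3 := D.conj_q hg.1 hq
  calc g * h * D.t * (g * h)⁻¹ = g * (h * D.t * h⁻¹) * g⁻¹ := by group
    _ = (g * D.y (D.cc h) * g⁻¹) * (g * q * g⁻¹) := by rw [h1]; group
    _ = _ := by rw [h2, h3, add_comm (D.cc h)]; group

theorem cc_one : D.cc 1 = 0 := D.cc_eq (one_mem _) (by rw [D.y0]; group)

theorem cc_inv {g : G} (hg : g ∈ D.N0) : D.cc g⁻¹ = D.cc g := by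
  have h := D.cc_mul hg (inv_mem hg)
  rw [mul_inv_cancel, D.cc_one] at h
  exact (F3.eq_of_add h.symm).symm

theorem O_N0 {m : G} (hm : m ∈ D.O) : m ∈ D.N0 :=
  ⟨hm.1, 0, fun x => by rw [add_zero]; exact D.O_y hm x⟩

theorem cc_O {m : G} (hm : m ∈ D.O) : D.cc m = 0 := by
  obtain ⟨q, hq, h⟩ := D.O_y hm 0
  apply D.cc_eq hq
  rw [← h, D.y0]

theorem O_of_cc {g : G} (hg : g ∈ D.N0) (h : D.cc g = 0) : g ∈ D.O := by
  refine ⟨hg.1, ?_⟩
  obtain ⟨q, hq, h1⟩ := D.N0_t hg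
  rw [h, D.y0, D.conj_t, ← D.Qt hq] at h1
  rw [mul_right_cancel h1]
  exact hq

theorem N0_r {g : G} (hg : g ∈ D.N0) (x : F3) : g * D.r x * g⁻¹ ∈ D.Y1 := by
  obtain ⟨q, hq, h1⟩ := D.N0_t hg
  obtain ⟨q', hq', h2⟩ := D.N0_y hg x
  have h3 : g * D.r x * g⁻¹ = (D.r (D.cc g))⁻¹ * D.r (x + D.cc g) * (q * q') := by
    unfold r
    rw [mul_inv_rev, D.y_inv, D.t_inv]
    calc g * (D.t * D.y x) * g⁻¹ = (g * D.t * g⁻¹) * (g * D.y x * g⁻¹) := by group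
      _ = D.y (D.cc g) * q * (D.y (x + D.cc g) * q') := by rw [h1, h2]
      _ = D.y (D.cc g) * (q * D.y (x + D.cc g)) * q' := by group
      _ = D.y (D.cc g) * (D.y (x + D.cc g) * q) * q' := by rw [D.yQ _ q hq]
      _ = D.y (D.cc g) * (1 : G) * D.y (x + D.cc g) * (q * q') := by group
      _ = D.y (D.cc g) * (D.t * D.t) * D.y (x + D.cc g) * (q * q') := by rw [D.tt]
      _ = _ := by group
  rw [h3]
  exact mul_mem (mul_mem (inv_mem (D.rY _)) (D.rY _)) (D.QY (mul_mem hq hq'))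

theorem N0_Y1 {g : G} (hg : g ∈ D.N0) {m : G} (hm : m ∈ D.Y1) : g * m * g⁻¹ ∈ D.Y1 := by
  have h1 : D.Y1 ≤ D.Y1.comap (MulAut.conj g).toMonoidHom := by
    apply D.Y1_le
    · intro q hq
      change g * q * g⁻¹ ∈ D.Y1
      rw [D.conj_q hg.1 hq]
      exact D.QY hq
    · intro w
      exact D.N0_r hg w
  exact h1 hm

theorem N0_τ {g : G} (hg : g ∈ D.N0) {m : G} (hm : m ∈ D.Y1) : D.τ (g * m * g⁻¹) = D.τ m * D.a (D.p m) (D.cc g) := by
  obtain ⟨q, hq, h1⟩ := D.N0_t (inv_mem hg)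
  rw [inv_inv, D.cc_inv hg] at h1
  -- `m t' m⁻¹ = τ m a t'`, `t' = g⁻¹ t g`
  have h2 : m * (g⁻¹ * D.t * g) * m⁻¹ = D.τ m * D.a (D.p m) (D.cc g) * (g⁻¹ * D.t * g) := by
    rw [h1]
    calc m * (D.y (D.cc g) * q) * m⁻¹ = (m * D.y (D.cc g) * m⁻¹) * (m * q * m⁻¹) := by group
      _ = _ := by rw [D.Y1_y hm, D.conj_q hm.1.1 hq]; group
  have h3 := D.conj_q hg.1 (mul_mem hm.1.2 (D.aQ (D.p m) (D.cc g)))
  unfold τ at h2 h3 ⊢
  calc g * m * g⁻¹ * D.t * (g * m * g⁻¹)⁻¹ * D.t = g * (m * (g⁻¹ * D.t * g) * m⁻¹) * g⁻¹ * D.t := by group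
    _ = g * (m * D.t * m⁻¹ * D.t * D.a (D.p m) (D.cc g) * (g⁻¹ * D.t * g)) * g⁻¹ * D.t := by rw [h2]
    _ = (g * (m * D.t * m⁻¹ * D.t * D.a (D.p m) (D.cc g)) * g⁻¹) * (D.t * D.t) := by group
    _ = _ := by rw [h3, D.tt, mul_one]

theorem N0_p {g : G} (hg : g ∈ D.N0) {m : G} (hm : m ∈ D.Y1) : D.p (g * m * g⁻¹) = D.p m := by
  change D.π _ = D.π _
  rw [D.N0_τ hg hm, D.πmul _ hm.1.2 _ (D.aQ _ _), D.π_a, add_zero]

theorem N0_Z {g : G} (hg : g ∈ D.N0) {z : G} (hz : z ∈ D.Z) : g * z * g⁻¹ ∈ D.Z :=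
  ⟨D.N0_Y1 hg hz.1, by rw [D.N0_p hg hz.1, hz.2]⟩

/-! ### the action on `Z` -/

/-- `β_g` -/
def be (g z : G) : G := g * z * g⁻¹ * z⁻¹

theorem conj_be (g z : G) : g * z * g⁻¹ = be g z * z := by unfold be; group

theorem be_mem {g z : G} (hg : g ∈ D.N0) (hz : z ∈ D.Z) : be g z ∈ D.Q := by
  have h1 : be g z ∈ D.Y1 := mul_mem (D.N0_Y1 hg hz.1) (inv_mem hz.1)
  apply D.mem_Q_of_τ h1
  unfold be
  rw [D.τ_mul (D.N0_Y1 hg hz.1).1.1 (inv_mem hz.1).1.2, D.τ_inv hz.1.1.1 hz.1.1.2, D.N0_τ hg hz.1, hz.2, D.zero_a,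
    mul_one, D.QQ _ hz.1.1.2]

theorem be_mul_left {g h z : G} (hg : g ∈ D.N0) (hh : h ∈ D.N0) (hz : z ∈ D.Z) :
    be (g * h) z = be g z * be h z := by
  have h1 := D.conj_q hg.1 (D.be_mem hh hz)
  rw [D.qc (D.be_mem hg hz) (D.be_mem hh hz)]
  calc be (g * h) z = g * (h * z * h⁻¹) * g⁻¹ * z⁻¹ := by unfold be; group
    _ = (g * be h z * g⁻¹) * (g * z * g⁻¹ * z⁻¹) := by rw [conj_be h z]; group
    _ = _ := by rw [h1]; rfl

theorem be_mul_right {g z z' : G} (hg : g ∈ D.N0) (hz : z ∈ D.Z) (hz' : z' ∈ D.Z) :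
    be g (z * z') = be g z * be g z' := by
  have h1 := D.mem_M.1 hz.1.1.1 _ (D.be_mem hg hz')
  calc be g (z * z') = (g * z * g⁻¹) * (g * z' * g⁻¹) * z'⁻¹ * z⁻¹ := by unfold be; group
    _ = be g z * (z * be g z') * z⁻¹ := by rw [conj_be g z, conj_be g z']; group
    _ = be g z * be g z' := by rw [← h1]; group

theorem be_q {g q : G} (hg : g ∈ D.N0) (hq : q ∈ D.Q) : be g q = 1 := by
  unfold be
  rw [D.conj_q hg.1 hq, mul_inv_cancel]

theorem be_eq_of_τ {g z z' : G} (hg : g ∈ D.N0) (hz : z ∈ D.Z) (hz' : z' ∈ D.Z) (h : D.τ z = D.τ z') :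
    be g z = be g z' := by
  have h1 : z⁻¹ * z' ∈ D.Q := by
    apply D.mem_Q_of_τ (mul_mem (inv_mem hz.1) hz'.1)
    rw [D.τ_mul (inv_mem hz.1.1.1) hz'.1.1.2, D.τ_inv hz.1.1.1 hz.1.1.2, h, D.QQ _ hz'.1.1.2]
  have h2 := D.be_mul_right hg hz (D.QZ h1)
  rw [mul_inv_cancel_left, D.be_q hg h1, mul_one] at h2
  exact h2.symm

theorem be_t {z : G} (hz : z ∈ D.Z) : be D.t z = D.τ z := by
  unfold be
  rw [D.t_inv, D.t_conj' hz.1.1, mul_inv_cancel_right]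

theorem be_Y1 {m z : G} (hm : m ∈ D.Y1) (hz : z ∈ D.Z) : be m z = 1 := by
  unfold be
  rw [← D.Z_comm hz hm, mul_inv_cancel_right, mul_inv_cancel]

theorem be_one {z : G} (hz : z ∈ D.Z) : be (1 : G) z = 1 := D.be_Y1 (one_mem _) hz

theorem be_inv {g z : G} (hg : g ∈ D.N0) (hz : z ∈ D.Z) : be g⁻¹ z = be g z := by
  have h1 := D.be_mul_left hg (inv_mem hg) hz
  rw [mul_inv_cancel, D.be_one hz] at h1
  have h2 := eq_inv_of_mul_eq_one_right h1.symm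
  rw [h2, D.q_inv (D.be_mem hg hz)]

/-- the alternative for elements of `O` -/
theorem be_O {m : G} (hm : m ∈ D.O) : (∀ z ∈ D.Z, be m z = 1) ∨ (∀ z ∈ D.Z, be m z = D.τ z) := by
  rcases D.Y1_or hm with h | h
  · exact Or.inl fun z hz => D.be_Y1 h hz
  · right
    intro z hz
    have h1 := D.be_mul_left (D.O_N0 D.tO) (D.O_N0 hm) hz
    rw [D.be_Y1 h hz, D.be_t hz] at h1
    have h2 := eq_inv_of_mul_eq_one_right h1.symm
    rw [h2, D.q_inv hz.1.1.2]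

theorem mem_Z_of_τ {m : G} (hm : m ∈ D.Y1) {u v : F3} (h : D.τ m = D.a u v) : m ∈ D.Z := by
  refine ⟨hm, ?_⟩
  change D.π _ = 0
  rw [h, D.π_a]

/-- elements of `Z` above `a u v` -/
theorem exists_z (u v : F3) : ∃ z ∈ D.Z, D.τ z = D.a u v := by
  obtain ⟨z, hz, h⟩ := D.τ_surj (P := ⊤) (fun _ => mem_top _) (D.aQ u v)
  exact ⟨z, D.mem_Z_of_τ (mem_inf.1 hz).1 h, h⟩

/-- `[g, m]`, `m ∈ Y₁` -/
theorem ga_mem {g m : G} (hg : g ∈ D.N0) (hm : m ∈ D.Y1) :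
    be g m ∈ D.Z ∧ D.τ (be g m) = D.a (D.p m) (D.cc g) := by
  have h1 : be g m ∈ D.Y1 := mul_mem (D.N0_Y1 hg hm) (inv_mem hm)
  have h2 : D.τ (be g m) = D.a (D.p m) (D.cc g) := by
    unfold be
    rw [D.τ_mul (D.N0_Y1 hg hm).1.1 (inv_mem hm).1.2, D.τ_inv hm.1.1 hm.1.2, D.N0_τ hg hm,
      D.qc hm.1.2 (D.aQ _ _), mul_assoc, D.QQ _ hm.1.2, mul_one]
  exact ⟨D.mem_Z_of_τ h1 h2, h2⟩

theorem gg_conj {g m : G} (hg : g ∈ D.N0) (hm : m ∈ D.Y1) : g * g * m * (g * g)⁻¹ = be g (be g m) * m := by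
  have h1 := D.ga_mem hg hm
  calc g * g * m * (g * g)⁻¹ = g * (g * m * g⁻¹) * g⁻¹ := by group
    _ = g * (be g m * m) * g⁻¹ := by rw [conj_be g m]
    _ = (g * be g m * g⁻¹) * (g * m * g⁻¹) := by group
    _ = be g (be g m) * be g m * (be g m * m) := by rw [conj_be g (be g m), conj_be g m]
    _ = be g (be g m) * (be g m * be g m) * m := by group
    _ = _ := by rw [D.ZZ h1.1, mul_one]

/-- an element of `Z` not centralised by `t` -/
theorem exists_ne : ∃ z ∈ D.Z, D.τ z ≠ 1 := by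
  obtain ⟨z, hz, h⟩ := D.exists_z (1, 0, 0) (0, 1, 0)
  refine ⟨z, hz, ?_⟩
  rw [h]
  intro h1
  have := D.a_eq_one h1
  revert this
  decide

theorem gg_O {g : G} (hg : g ∈ D.N0) : g * g ∈ D.O := by
  apply D.O_of_cc (mul_mem hg hg)
  rw [D.cc_mul hg hg, F3.add_self]

theorem gg_Y1 {g : G} (hg : g ∈ D.N0) : g * g ∈ D.Y1 := by
  rcases D.Y1_or (D.gg_O hg) with h | h
  · exact h
  · exfalso
    obtain ⟨z, hz, h1⟩ := D.exists_ne
    have h2 := D.gg_conj hg hz.1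
    rw [D.be_q hg (D.be_mem hg hz), one_mul] at h2
    have h3 : be (g * g) z = 1 := by
      unfold be
      rw [h2, mul_inv_cancel]
    have h4 := D.be_mul_left (D.O_N0 D.tO) (D.O_N0 (D.gg_O hg)) hz
    rw [D.be_Y1 h hz, D.be_t hz, h3, mul_one] at h4
    exact h1 h4.symm

/-- `β_g (a c x) = a s x`, `s = p (g²)` -/
theorem be_ac {g z : G} (hg : g ∈ D.N0) (hz : z ∈ D.Z) {x : F3} (h : D.τ z = D.a x (D.cc g)) :
    be g z = D.a (D.p (g * g)) x := by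
  have h1 := D.ga_mem hg (D.rY x)
  rw [D.p_r] at h1
  rw [D.be_eq_of_τ hg hz h1.1 (by rw [h, h1.2])]
  have h2 := D.gg_conj hg (D.rY x)
  rw [D.Y1_comm (D.gg_Y1 hg) (D.rY x), D.p_r] at h2
  exact (mul_right_cancel h2).symm

theorem p_gg {g : G} (hg : g ∈ D.N0) (hc : D.cc g ≠ 0) : D.p (g * g) = 0 ∨ D.p (g * g) = D.cc g := by
  have h := D.be_ac hg (one_mem D.Z) (x := D.cc g) (by rw [D.τ_one, D.a_self])
  have h1 : be g (1 : G) = 1 := by unfold be; group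
  rw [h1] at h
  rcases D.a_eq_one h.symm with h2 | h2 | h2
  · exact Or.inl h2
  · exact absurd h2 hc
  · exact Or.inr h2

/-- the normalised elements -/
def Nrm (g : G) : Prop := g ∈ D.N0 ∧ ∀ z ∈ D.Z, ∀ x, D.τ z = D.a x (D.cc g) → be g z = 1

theorem cc_t_mul {g : G} (hg : g ∈ D.N0) : D.cc (D.t * g) = D.cc g := by
  rw [D.cc_mul (D.O_N0 D.tO) hg, D.cc_O D.tO, zero_add]

theorem nrm_or {g : G} (hg : g ∈ D.N0) (hc : D.cc g ≠ 0) : D.Nrm g ∨ D.Nrm (D.t * g) := by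
  rcases D.p_gg hg hc with h | h
  · left
    refine ⟨hg, fun z hz x hx => ?_⟩
    rw [D.be_ac hg hz hx, h, D.zero_a]
  · right
    refine ⟨mul_mem (D.O_N0 D.tO) hg, fun z hz x hx => ?_⟩
    rw [D.cc_t_mul hg] at hx
    rw [D.be_mul_left (D.O_N0 D.tO) hg hz, D.be_t hz, D.be_ac hg hz hx, h, hx, D.a_comm, D.QQ _ (D.aQ _ _)]

theorem b_inj {u v : F3} (h : D.b u = D.b v) : u = v := by rw [← D.πb u, h, D.πb]

theorem acts_symm {n : G} {σ : F3 ≃+ F3} (h : D.Acts n σ) : D.Acts n⁻¹ σ.symm := by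
  refine ⟨inv_mem h.1, inv_mem h.2.1, fun w => ?_⟩
  have h1 := h.2.2 (σ.symm w)
  rw [AddEquiv.apply_symm_apply] at h1
  rw [← h1]
  group

/-- an element of `C_G(Q)` acting as the translation by `c` -/
theorem exists_N0 [Finite G] (hy : ∀ w, ∃ g, D.y w = g * D.t * g⁻¹) (c : F3) : ∃ g ∈ D.N0, D.cc g = c := by
  obtain ⟨g0, hg0⟩ := hy c
  obtain ⟨k, hk, hkQ⟩ := (D.small (g := g0) (B := D.Q) D.QQ (fun q hq => by rw [← hg0]; exact D.yQ c q hq)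
    (fun q hq k hk => D.DL k (hk ▸ D.QL hq))).2 (by rw [D.cardQ])
  rw [← hg0] at hk
  have hkN : k ∈ normalizer (D.Q : Set G) := mem_normalizer_iff''.2 hkQ
  -- `k` normalises `O`
  have hkt : k * D.t = D.y c * k := by rw [← hk]; group
  have h1 : ∀ m ∈ D.O, k⁻¹ * m * k⁻¹⁻¹ ∈ D.O := by
    intro m hm
    refine ⟨D.norm_M (inv_mem hkN) hm.1, ?_⟩
    obtain ⟨q, hq, h2⟩ := D.O_y hm c
    have h3 : D.τ (k⁻¹ * m * k⁻¹⁻¹) = k⁻¹ * (m * D.y c * m⁻¹ * D.y c) * k := by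
      unfold τ
      have h4 : D.t = k⁻¹ * D.y c * k := by rw [← hk]; group
      calc k⁻¹ * m * k⁻¹⁻¹ * D.t * (k⁻¹ * m * k⁻¹⁻¹)⁻¹ * D.t =
          k⁻¹ * m * (k * D.t) * k⁻¹ * m⁻¹ * (k * D.t) := by group
        _ = k⁻¹ * m * (D.y c * k) * k⁻¹ * m⁻¹ * (D.y c * k) := by rw [hkt]
        _ = k⁻¹ * (m * D.y c * m⁻¹ * D.y c) * k := by group
    rw [h3, h2]
    have h5 : D.y c * q * D.y c = q := by rw [← D.yQ c q hq, mul_assoc, D.y2, mul_one]
    rw [h5]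
    exact D.norm_Q' hkN hq
  have h2 : ∀ m, m ∈ D.O ↔ k⁻¹ * m * k⁻¹⁻¹ ∈ D.O := conj_mem_iff_of_le h1
  have h3 : ∀ x, ∃ z, ∃ q ∈ D.Q, k * D.y x * k⁻¹ = D.y z * q := by
    intro x
    obtain ⟨g1, hg1⟩ := hy x
    have h4 : k * D.y x * k⁻¹ = (k * g1) * D.t * (k * g1)⁻¹ := by rw [hg1]; group
    rw [h4]
    apply D.DO
    rw [← h4, h2]
    have h5 : k⁻¹ * (k * D.y x * k⁻¹) * k⁻¹⁻¹ = D.y x := by group
    rw [h5]
    have h6 := mul_mem D.tO (D.rO x)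
    unfold r at h6
    rwa [← mul_assoc, D.tt, one_mul] at h6
  choose σ hσ using h3
  -- the linear part
  have h4 : ∀ x x', k * D.b (x + x') * k⁻¹ = D.b (σ x + σ x') := by
    intro x x'
    obtain ⟨q, hq, h5⟩ := hσ x
    obtain ⟨q', hq', h6⟩ := hσ x'
    have hc1 : q * D.y (σ x') = D.y (σ x') * q := D.yQ _ q hq
    rw [← D.yy, ← D.yy]
    have h7 : k * (D.y x * D.y x') * k⁻¹ = D.y (σ x) * D.y (σ x') * (q * q') := by
      calc k * (D.y x * D.y x') * k⁻¹ = (k * D.y x * k⁻¹) * (k * D.y x' * k⁻¹) := by group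
        _ = D.y (σ x) * (q * D.y (σ x')) * q' := by rw [h5, h6]; group
        _ = _ := by rw [hc1]; group
    have h8 : ∀ w, (q * q') * D.y w = D.y w * (q * q') := fun w => D.yQ w _ (mul_mem hq hq')
    calc k * (D.y x * D.y x' * (D.y x * D.y x')) * k⁻¹ = (k * (D.y x * D.y x') * k⁻¹) * (k * (D.y x * D.y x') * k⁻¹) := by group
      _ = D.y (σ x) * D.y (σ x') * ((q * q') * D.y (σ x)) * D.y (σ x') * (q * q') := by rw [h7]; group
      _ = D.y (σ x) * D.y (σ x') * D.y (σ x) * ((q * q') * D.y (σ x')) * (q * q') := by rw [h8]; group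
      _ = D.y (σ x) * D.y (σ x') * (D.y (σ x) * D.y (σ x')) * ((q * q') * (q * q')) := by rw [h8]; group
      _ = _ := by rw [D.QQ _ (mul_mem hq hq'), mul_one]
  have h0 : σ 0 = c := by
    obtain ⟨q, hq, h5⟩ := hσ 0
    rw [D.y0, hk] at h5
    have h6 := D.p_y c (one_mem D.Q)
    rw [mul_one, h5, D.p_y _ hq] at h6
    exact h6
  have hψ : ∀ x, k * D.b x * k⁻¹ = D.b (σ x + c) := by
    intro x
    have := h4 x 0
    rwa [add_zero, h0] at this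
  let ψ0 : F3 →+ F3 :=
    { toFun := fun x => σ x + c
      map_zero' := by rw [h0, F3.add_self]
      map_add' := fun x x' => by
        apply D.b_inj
        rw [← hψ, h4]
        congr 1
        have : ∀ a b c : F3, a + b = a + c + (b + c) := by decide +kernel
        exact this _ _ _ }
  have hψ0 : Function.Injective ψ0 := by
    rw [injective_iff_map_eq_zero]
    intro x hx
    have h5 := hψ x
    have h6 : σ x + c = 0 := hx
    rw [h6, D.b0] at h5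
    have h7 : D.b x = D.b 0 := by
      rw [D.b0]
      calc D.b x = k⁻¹ * (k * D.b x * k⁻¹) * k := by group
        _ = 1 := by rw [h5]; group
    exact D.b_inj h7
  let ψ : F3 ≃+ F3 := AddEquiv.ofBijective ψ0 (Finite.injective_iff_bijective.1 hψ0)
  have hψa : ∀ x, ψ x = σ x + c := fun x => rfl
  obtain ⟨n, hn, hnQ, hnb⟩ := D.wit ψ
  have hnA : D.Acts n ψ := ⟨hn, hnQ, hnb⟩
  have hni := D.acts_symm hnA
  have hgN : k * n⁻¹ ∈ D.N0 := by
    refine ⟨?_, c, fun x => ?_⟩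
    · -- `k n⁻¹ ∈ C_G(Q)`
      let K : Subgroup G := centralizer ({k * n⁻¹} : Set G)
      have h2 : D.Q ≤ K := D.gen K fun w => by
        rw [mem_centralizer_singleton_iff]
        have h3 : k * n⁻¹ * D.b w * (k * n⁻¹)⁻¹ = D.b w := by
          have h5 := hni.2.2 w
          rw [inv_inv] at h5
          calc k * n⁻¹ * D.b w * (k * n⁻¹)⁻¹ = k * (n⁻¹ * D.b w * n) * k⁻¹ := by group
            _ = D.b w := by rw [h5, hψ, ← hψa, AddEquiv.apply_symm_apply]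
        exact (mul_inv_eq_iff_eq_mul.1 h3).symm
      rw [D.mem_M]
      intro q hq
      exact mem_centralizer_singleton_iff.1 (h2 hq)
    · obtain ⟨q, hq, h5⟩ := D.acts_y hni x
      obtain ⟨q', hq', h6⟩ := hσ (ψ.symm x)
      refine ⟨q' * (k * q * k⁻¹), mul_mem hq' (D.norm_Q hkN hq), ?_⟩
      have h7 : σ (ψ.symm x) = x + c := by
        have h8 := hψa (ψ.symm x)
        rw [AddEquiv.apply_symm_apply] at h8
        conv_rhs => rw [h8]
        rw [add_assoc, F3.add_self, add_zero]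
      rw [h7] at h6
      rw [inv_inv] at h5
      calc k * n⁻¹ * D.y x * (k * n⁻¹)⁻¹ = k * (n⁻¹ * D.y x * n) * k⁻¹ := by group
        _ = (k * D.y (ψ.symm x) * k⁻¹) * (k * q * k⁻¹) := by rw [h5]; group
        _ = _ := by rw [h6]; group
  refine ⟨k * n⁻¹, hgN, ?_⟩
  apply D.cc_eq (one_mem _)
  rw [mul_one, ← hk]
  calc k * n⁻¹ * D.t * (k * n⁻¹)⁻¹ = k * (n⁻¹ * D.t) * n * k⁻¹ := by group
    _ = k * (D.t * n⁻¹) * n * k⁻¹ := by rw [D.Lt (inv_mem hn)]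
    _ = k * D.t * k⁻¹ := by group

/-! ### coordinates on `Λ` -/

/-- powers -/
def pw (x : G) (s : ZMod 2) : G := if s = 1 then x else 1

omit [Group G] in
theorem _root_.Cfsg.Agent.StdSpSix.Eps.zmod2 (s : ZMod 2) : s = 0 ∨ s = 1 := by revert s; decide

theorem pw_mem {H : Subgroup G} {x : G} (hx : x ∈ H) (s : ZMod 2) : pw x s ∈ H := by
  unfold pw
  split_ifs
  · exact hx
  · exact one_mem _

@[simp] theorem pw_zero (x : G) : pw x 0 = 1 := by unfold pw; rw [if_neg (by decide)]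

@[simp] theorem pw_one (x : G) : pw x 1 = x := by unfold pw; rw [if_pos rfl]

theorem pw_add {x : G} (hx : x * x = 1) (s s' : ZMod 2) : pw x (s + s') = pw x s * pw x s' := by
  rcases zmod2 s with h | h <;> rcases zmod2 s' with h' | h' <;> subst h <;> subst h'
  · rw [add_zero, pw_zero, one_mul]
  · rw [zero_add, pw_zero, one_mul]
  · rw [add_zero, pw_zero, mul_one]
  · have : (1 : ZMod 2) + 1 = 0 := rfl
    rw [this, pw_zero, pw_one, hx]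

/-- the cross product -/
def cross (u v : F3) : F3 :=
  (u.2.1 * v.2.2 + u.2.2 * v.2.1, u.1 * v.2.2 + u.2.2 * v.1, u.1 * v.2.1 + u.2.1 * v.1)

/-- the elements of `Λ` -/
def A (v : F3) : G :=
  pw (D.a (0, 1, 0) (0, 0, 1)) v.1 * (pw (D.a (1, 0, 0) (0, 0, 1)) v.2.1 * pw (D.a (1, 0, 0) (0, 1, 0)) v.2.2)

theorem A_mem (v : F3) : D.A v ∈ D.Q :=
  mul_mem (pw_mem (D.aQ _ _) _) (mul_mem (pw_mem (D.aQ _ _) _) (pw_mem (D.aQ _ _) _))

theorem A_zero : D.A 0 = 1 := by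
  unfold A
  rw [Prod.fst_zero, Prod.snd_zero, Prod.fst_zero, Prod.snd_zero, pw_zero, pw_zero, pw_zero, mul_one, mul_one]

theorem A_add (u v : F3) : D.A (u + v) = D.A u * D.A v := by
  unfold A
  rw [Prod.fst_add, Prod.snd_add, Prod.fst_add, Prod.snd_add, pw_add (D.QQ _ (D.aQ _ _)),
    pw_add (D.QQ _ (D.aQ _ _)), pw_add (D.QQ _ (D.aQ _ _))]
  set x := pw (D.a (0, 1, 0) (0, 0, 1)) u.1
  set x' := pw (D.a (0, 1, 0) (0, 0, 1)) v.1 with hx'
  set z := pw (D.a (1, 0, 0) (0, 0, 1)) u.2.1 with hz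
  set z' := pw (D.a (1, 0, 0) (0, 0, 1)) v.2.1 with hz'
  set w := pw (D.a (1, 0, 0) (0, 1, 0)) u.2.2 with hw
  set w' := pw (D.a (1, 0, 0) (0, 1, 0)) v.2.2
  have mx' : x' ∈ D.Q := pw_mem (D.aQ _ _) _
  have mz : z ∈ D.Q := pw_mem (D.aQ _ _) _
  have mz' : z' ∈ D.Q := pw_mem (D.aQ _ _) _
  have mw : w ∈ D.Q := pw_mem (D.aQ _ _) _
  calc x * x' * (z * z' * (w * w')) = x * (x' * z) * (z' * w) * w' := by group
    _ = x * z * (x' * w) * z' * w' := by rw [D.qc mx' mz, D.qc mz' mw]; group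
    _ = _ := by rw [D.qc mx' mw]; group

/-- induction on `F3` -/
theorem ind3 {P : F3 → Prop} (h0 : P 0) (h1 : P (1, 0, 0)) (h2 : P (0, 1, 0)) (h3 : P (0, 0, 1))
    (ha : ∀ u v, P u → P v → P (u + v)) (u : F3) : P u := by
  have h4 : u = (u.1, 0, 0) + (0, u.2.1, 0) + (0, 0, u.2.2) := by
    revert u; decide
  rw [h4]
  have h5 : ∀ s : ZMod 2, P (s, 0, 0) := by
    intro s
    rcases zmod2 s with h | h <;> subst h
    · exact h0
    · exact h1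
  have h6 : ∀ s : ZMod 2, P (0, s, 0) := by
    intro s
    rcases zmod2 s with h | h <;> subst h
    · exact h0
    · exact h2
  have h7 : ∀ s : ZMod 2, P (0, 0, s) := by
    intro s
    rcases zmod2 s with h | h <;> subst h
    · exact h0
    · exact h3
  exact ha _ _ (ha _ _ (h5 _) (h6 _)) (h7 _)

theorem cross_add (u v w : F3) : cross u (v + w) = cross u v + cross u w := by
  revert u v w; decide +kernel

theorem cross_comm (u v : F3) : cross u v = cross v u := by revert u v; decide +kernel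

theorem cross_zero (u : F3) : cross u 0 = 0 := by revert u; decide +kernel

theorem zero_cross (u : F3) : cross 0 u = 0 := by revert u; decide +kernel

theorem a_eq_A (u v : F3) : D.a u v = D.A (cross u v) := by
  have key : ∀ e : F3, (D.a e (1, 0, 0) = D.A (cross e (1, 0, 0))) → (D.a e (0, 1, 0) = D.A (cross e (0, 1, 0))) →
      (D.a e (0, 0, 1) = D.A (cross e (0, 0, 1))) → ∀ v, D.a e v = D.A (cross e v) := by
    intro e h1 h2 h3
    refine ind3 ?_ h1 h2 h3 ?_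
    · rw [cross_zero, D.a_zero, D.A_zero]
    · intro u v hu hv
      rw [D.a_add, cross_add, D.A_add, hu, hv]
  have e1 : cross (1, 0, 0) (1, 0, 0) = 0 := by decide
  have e2 : cross (0, 1, 0) (0, 1, 0) = 0 := by decide
  have e3 : cross (0, 0, 1) (0, 0, 1) = 0 := by decide
  have f12 : cross (1, 0, 0) (0, 1, 0) = (0, 0, 1) := by decide
  have f13 : cross (1, 0, 0) (0, 0, 1) = (0, 1, 0) := by decide
  have f23 : cross (0, 1, 0) (0, 0, 1) = (1, 0, 0) := by decide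
  have g12 : D.A (0, 0, 1) = D.a (1, 0, 0) (0, 1, 0) := by
    unfold A; rw [pw_zero, pw_zero, pw_one, one_mul, one_mul]
  have g13 : D.A (0, 1, 0) = D.a (1, 0, 0) (0, 0, 1) := by
    unfold A; rw [pw_zero, pw_zero, pw_one, one_mul, mul_one]
  have g23 : D.A (1, 0, 0) = D.a (0, 1, 0) (0, 0, 1) := by
    unfold A; rw [pw_zero, pw_zero, pw_one, mul_one, mul_one]
  refine ind3 (P := fun u => D.a u v = D.A (cross u v)) ?_ ?_ ?_ ?_ ?_ u
  · rw [zero_cross, D.zero_a, D.A_zero]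
  · apply key
    · rw [e1, D.a_self, D.A_zero]
    · rw [f12, g12]
    · rw [f13, g13]
  · apply key
    · rw [cross_comm, f12, g12, D.a_comm]
    · rw [e2, D.a_self, D.A_zero]
    · rw [f23, g23]
  · apply key
    · rw [cross_comm, f13, g13, D.a_comm]
    · rw [cross_comm, f23, g23, D.a_comm]
    · rw [e3, D.a_self, D.A_zero]
  · intro u w hu hw
    rw [D.add_a, cross_comm, cross_add, D.A_add, hu, hw, cross_comm v u, cross_comm v w]

theorem A_ne {v : F3} (hv : v ≠ 0) : D.A v ≠ 1 := by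
  have h : ∀ v : F3, v ≠ 0 → ∃ u w : F3, cross u w = v ∧ u ≠ 0 ∧ w ≠ 0 ∧ u ≠ w := by decide +kernel
  obtain ⟨u, w, h1, h2, h3, h4⟩ := h v hv
  rw [← h1, ← D.a_eq_A]
  intro h5
  rcases D.a_eq_one h5 with h6 | h6 | h6
  · exact h2 h6
  · exact h3 h6
  · exact h4 h6

theorem A_inj {u v : F3} (h : D.A u = D.A v) : u = v := by
  apply F3.eq_of_add
  by_contra hne
  apply D.A_ne hne
  rw [D.A_add, h, D.QQ _ (D.A_mem _)]

theorem π_A (v : F3) : D.π (D.A v) = 0 := by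
  have h : ∀ v : F3, ∃ u w : F3, cross u w = v := by decide +kernel
  obtain ⟨u, w, h1⟩ := h v
  rw [← h1, ← D.a_eq_A, D.π_a]

/-- normal form of the elements of `Q` -/
theorem normal_form {q : G} (hq : q ∈ D.Q) : ∃ v, q = D.b (D.π q) * D.A v := by
  let K : Subgroup G :=
    { carrier := {q | q ∈ D.Q ∧ ∃ v, q = D.b (D.π q) * D.A v}
      one_mem' := ⟨one_mem _, 0, by rw [D.π_one, D.b0, D.A_zero, mul_one]⟩
      mul_mem' := by
        rintro x z ⟨hx, v, hv⟩ ⟨hz, w, hw⟩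
        refine ⟨mul_mem hx hz, cross (D.π x) (D.π z) + v + w, ?_⟩
        rw [D.πmul _ hx _ hz, D.A_add, D.A_add, ← D.a_eq_A]
        have h1 := D.qc (D.A_mem v) (D.bQ (D.π z))
        have h2 := D.qc (D.aQ (D.π x) (D.π z)) (D.bQ (D.π x + D.π z))
        calc x * z = D.b (D.π x) * D.A v * (D.b (D.π z) * D.A w) := by rw [← hv, ← hw]
          _ = D.b (D.π x) * (D.A v * D.b (D.π z)) * D.A w := by group
          _ = D.b (D.π x) * D.b (D.π z) * D.A v * D.A w := by rw [h1]; group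
          _ = D.b (D.π x) * D.b (D.π z) * (D.a (D.π x) (D.π z) * D.a (D.π x) (D.π z)) * D.A v * D.A w := by
            rw [D.QQ _ (D.aQ _ _), mul_one]
          _ = (D.b (D.π x) * D.b (D.π z) * D.a (D.π x) (D.π z)) * D.a (D.π x) (D.π z) * D.A v * D.A w := by group
          _ = _ := by rw [D.b_mul]; group
      inv_mem' := by
        rintro x ⟨hx, hv⟩
        rw [D.q_inv hx]
        exact ⟨hx, hv⟩ }
  have h : D.Q ≤ K := D.gen K fun w => ⟨D.bQ w, 0, by rw [D.πb, D.A_zero, mul_one]⟩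
  exact (h hq).2

theorem eq_A {q : G} (hq : q ∈ D.Q) (h : D.π q = 0) : ∃ v, q = D.A v := by
  obtain ⟨v, hv⟩ := D.normal_form hq
  rw [h, D.b0, one_mul] at hv
  exact ⟨v, hv⟩

theorem τ_Z {z : G} (hz : z ∈ D.Z) : ∃ v, D.τ z = D.A v := D.eq_A hz.1.1.2 hz.2

theorem exists_zA (v : F3) : ∃ z ∈ D.Z, D.τ z = D.A v := by
  have h : ∀ v : F3, ∃ u w : F3, cross u w = v := by decide +kernel
  obtain ⟨u, w, h1⟩ := h v
  rw [← h1, ← D.a_eq_A]
  exact D.exists_z u w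

theorem acts_a {n : G} {σ : F3 ≃+ F3} (h : D.Acts n σ) (u v : F3) : n * D.a u v * n⁻¹ = D.a (σ u) (σ v) := by
  unfold a
  rw [← map_add, ← h.2.2, ← h.2.2, ← h.2.2]
  group

/-- `C_Q(N_L(Q)) = 1` -/
theorem eq_one_of_inv {k : G} (hk : k ∈ D.Q) (h : ∀ n σ, D.Acts n σ → n * k * n⁻¹ = k) : k = 1 := by
  have h1 : D.π k = 0 := by
    by_contra hne
    have h2 : ∀ w : F3, w ≠ 0 → ∃ k c : F3, dot k c = 0 ∧ dot k w = 1 ∧ c ≠ 0 := by decide +kernel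
    obtain ⟨e, c, h3, h4, h5⟩ := h2 _ hne
    obtain ⟨n, hn, hnQ, h6⟩ := D.wit (tv e c h3)
    have h7 := D.acts_π (σ := tv e c h3) ⟨hn, hnQ, h6⟩ hk
    rw [h n (tv e c h3) ⟨hn, hnQ, h6⟩, tv_apply, h4, one_smul] at h7
    exact h5 (left_eq_add.1 h7)
  obtain ⟨v, hv⟩ := D.eq_A hk h1
  by_contra hne
  have hv0 : v ≠ 0 := by
    rintro rfl
    exact hne (by rw [hv, D.A_zero])
  have h2 : ∀ v : F3, v ≠ 0 → ∃ u w e c : F3, cross u w = v ∧ dot e c = 0 ∧ dot e u = 0 ∧ dot e w = 1 ∧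
      cross u c ≠ 0 := by decide +kernel
  obtain ⟨u, w, e, c, h3, h4, h5, h6, h7⟩ := h2 v hv0
  obtain ⟨n, hn, hnQ, h8⟩ := D.wit (tv e c h4)
  have h9 := h n (tv e c h4) ⟨hn, hnQ, h8⟩
  rw [hv, ← h3, ← D.a_eq_A, D.acts_a (σ := tv e c h4) ⟨hn, hnQ, h8⟩, tv_apply, tv_apply, h5, h6, one_smul, zero_smul,
    add_zero, D.a_add] at h9
  apply D.A_ne h7
  rw [← D.a_eq_A]
  exact mul_eq_left.1 h9

end WData

end Cfsg.Agent.StdSpSix.Eps
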