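import Cfsg.Agent.StdSpSix.EpsII

/-!
# The group `R` of order `2¹⁵` and the sign
-/

set_option autoImplicit false
set_option synthInstance.maxSize 2000

namespace Cfsg.Agent.StdSpSix.Eps

open Subgroup
open Cfsg.Agent.StdSpSix.QLevel (card_le_two_mul card_sub_eq inv_of_sq comm_of_sq mem_inf_cent card_le_sq)
open Cfsg.Agent.StdSpSix.QLevel.Data (card_conj_of_iff mem_map_conj conj_mem_iff_of_le)
open Cfsg.Agent.StdSpSix.RLevel

theorem exists_x {c : F3} (hc : c ≠ 0) : ∃ x : F3, x ≠ 0 ∧ x ≠ c := by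
  revert c; decide +kernel

theorem exists_cross {c v : F3} (hc : c ≠ 0) (h : dot c v = 0) : ∃ x : F3, WData.cross x c = v := by
  revert c v; decide +kernel

theorem dot_cross (x c : F3) : dot c (WData.cross x c) = 0 := by revert x c; decide +kernel

theorem add_dot (c d v : F3) : dot (c + d) v = dot c v + dot d v := by revert c d v; decide +kernel

namespace WData

variable {G : Type*} [Group G] (D : WData G)

theorem exists_nrm [Finite G] (hy : ∀ w, ∃ g, D.y w = g * D.t * g⁻¹) {c : F3} (hc : c ≠ 0) :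
    ∃ g, D.Nrm g ∧ D.cc g = c := by
  obtain ⟨g, hg, rfl⟩ := D.exists_N0 hy c
  rcases D.nrm_or hg hc with h | h
  · exact ⟨g, h, rfl⟩
  · exact ⟨_, h, D.cc_t_mul hg⟩

theorem nrm_uniq {g h : G} (hg : D.Nrm g) (hh : D.Nrm h) (hc : D.cc g ≠ 0) (hgh : D.cc g = D.cc h) :
    ∀ z ∈ D.Z, be g z = be h z := by
  have hm : g * h ∈ D.O := by
    apply D.O_of_cc (mul_mem hg.1 hh.1)
    rw [D.cc_mul hg.1 hh.1, hgh, F3.add_self]
  rcases D.be_O hm with h1 | h1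
  · intro z hz
    have h2 := h1 z hz
    rw [D.be_mul_left hg.1 hh.1 hz] at h2
    rw [eq_inv_of_mul_eq_one_left h2, D.q_inv (D.be_mem hh.1 hz)]
  · exfalso
    obtain ⟨x, hx, hx'⟩ := exists_x hc
    obtain ⟨z, hz, hz1⟩ := D.exists_z x (D.cc g)
    have h2 := h1 z hz
    rw [D.be_mul_left hg.1 hh.1 hz, hg.2 z hz x hz1, hh.2 z hz x (by rw [← hgh]; exact hz1), one_mul, hz1] at h2
    rcases D.a_eq_one h2.symm with h3 | h3 | h3
    · exact hx h3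
    · exact hc h3
    · exact hx' h3

theorem nrm_zero {g z : G} {v : F3} (hg : D.Nrm g) (hc : D.cc g ≠ 0) (hz : z ∈ D.Z) (h : D.τ z = D.A v)
    (hv : dot (D.cc g) v = 0) : be g z = 1 := by
  obtain ⟨x, hx⟩ := exists_cross hc hv
  apply hg.2 z hz x
  rw [h, ← hx, D.a_eq_A]

theorem nrm_k {g z z' : G} {v v' : F3} (hg : D.Nrm g) (hc : D.cc g ≠ 0) (hz : z ∈ D.Z) (hz' : z' ∈ D.Z)
    (h : D.τ z = D.A v) (h' : D.τ z' = D.A v') (hv : dot (D.cc g) v = 1) (hv' : dot (D.cc g) v' = 1) :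
    be g z = be g z' := by
  have h1 : be g (z * z') = 1 := by
    apply D.nrm_zero (v := v + v') hg hc (mul_mem hz hz')
    · rw [D.τ_mul hz.1.1.1 hz'.1.1.2, h, h', D.A_add]
    · rw [dot_add, hv, hv']; rfl
  rw [D.be_mul_right hg.1 hz hz'] at h1
  rw [eq_inv_of_mul_eq_one_left h1, D.q_inv (D.be_mem hg.1 hz')]

theorem nrm_sum {g h k : G} (hg : D.Nrm g) (hh : D.Nrm h) (hk : D.Nrm k) (hc : D.cc g ≠ 0) (hd : D.cc h ≠ 0)
    (hcd : D.cc g ≠ D.cc h) (hk1 : D.cc k = D.cc g + D.cc h) {z : G} (hz : z ∈ D.Z) :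
    be g z * be h z * be k z = 1 := by
  have hm : g * h * k ∈ D.O := by
    apply D.O_of_cc (mul_mem (mul_mem hg.1 hh.1) hk.1)
    rw [D.cc_mul (mul_mem hg.1 hh.1) hk.1, D.cc_mul hg.1 hh.1, hk1, F3.add_self]
  have hb : ∀ z ∈ D.Z, be (g * h * k) z = be g z * be h z * be k z := by
    intro z hz
    rw [D.be_mul_left (mul_mem hg.1 hh.1) hk.1 hz, D.be_mul_left hg.1 hh.1 hz]
  rcases D.be_O hm with h1 | h1
  · rw [← hb z hz, h1 z hz]
  · exfalso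
    obtain ⟨z, hz, hz1⟩ := D.exists_z (D.cc h) (D.cc g)
    have h2 := h1 z hz
    have e1 : be g z = 1 := hg.2 z hz _ hz1
    have e2 : be h z = 1 := hh.2 z hz (D.cc g) (by rw [hz1, D.a_comm])
    have e3 : be k z = 1 := hk.2 z hz (D.cc h) (by rw [hz1, hk1, D.a_add, D.a_self, mul_one])
    rw [hb z hz, e1, e2, e3, one_mul, one_mul, hz1] at h2
    rcases D.a_eq_one h2.symm with h3 | h3 | h3
    · exact hd h3
    · exact hc h3
    · exact hcd h3.symm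

/-- the constant `k` -/
theorem exists_k [Finite G] (hy : ∀ w, ∃ g, D.y w = g * D.t * g⁻¹) :
    ∃ k ∈ D.Q, ∀ g, D.Nrm g → D.cc g ≠ 0 → ∀ z ∈ D.Z, ∀ v, D.τ z = D.A v → dot (D.cc g) v = 1 → be g z = k := by
  have he : ((1, 0, 0) : F3) ≠ 0 := by decide
  obtain ⟨g1, hg1, hc1⟩ := D.exists_nrm hy he
  obtain ⟨z1, hz1, hz2⟩ := D.exists_zA (1, 0, 0)
  have hd1 : dot (D.cc g1) (1, 0, 0) = 1 := by rw [hc1]; decide
  have hc1' : D.cc g1 ≠ 0 := by rw [hc1]; exact he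
  refine ⟨be g1 z1, D.be_mem hg1.1 hz1, fun g hg hc z hz v hv hdv => ?_⟩
  by_cases hce : D.cc g = (1, 0, 0)
  · rw [D.nrm_uniq hg hg1 hc (by rw [hce, hc1]) z hz]
    exact D.nrm_k hg1 hc1' hz hz1 hv hz2 (by rw [hc1, ← hce]; exact hdv) hd1
  · have h1 : D.cc g + (1, 0, 0) ≠ 0 := fun h => hce (F3.eq_of_add h)
    obtain ⟨h, hh, hch⟩ := D.exists_nrm hy h1
    have h2 : ∀ c : F3, c ≠ 0 → c ≠ (1, 0, 0) → ∃ v : F3, dot (c + (1, 0, 0)) v = 0 ∧ dot (1, 0, 0) v = 1 := by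
      decide +kernel
    obtain ⟨v', h3, h4⟩ := h2 _ hc hce
    obtain ⟨z', hz', hz'v⟩ := D.exists_zA v'
    have h5 := D.nrm_sum hh hg1 hg (by rw [hch]; exact h1) hc1' (by
      rw [hch, hc1]
      intro h6
      apply hc
      have : ∀ c : F3, c + (1, 0, 0) = (1, 0, 0) → c = 0 := by decide
      exact this _ h6) (by rw [hch, hc1, add_assoc, F3.add_self, add_zero]) hz'
    rw [D.nrm_zero hh (by rw [hch]; exact h1) hz' hz'v (by rw [hch]; exact h3), one_mul] at h5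
    have h6 : dot (D.cc g) v' = 1 := by
      rw [add_dot, h4] at h3
      have : ∀ s : ZMod 2, s + 1 = 0 → s = 1 := by decide
      exact this _ h3
    rw [D.nrm_k hg hc hz hz' hv hz'v hdv h6, D.nrm_k hg1 hc1' hz1 hz' hz2 hz'v hd1 (by rw [hc1]; exact h4),
      eq_inv_of_mul_eq_one_right h5, D.q_inv (D.be_mem hg1.1 hz')]

/-! ### `N_L(Q)` acts on `N₀` -/

theorem acts_N0 {n g : G} {σ : F3 ≃+ F3} (h : D.Acts n σ) (hg : g ∈ D.N0) :
    n * g * n⁻¹ ∈ D.N0 ∧ D.cc (n * g * n⁻¹) = σ (D.cc g) := by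
  have key : ∀ x, ∃ q ∈ D.Q, (n * g * n⁻¹) * D.y x * (n * g * n⁻¹)⁻¹ = D.y (x + σ (D.cc g)) * q := by
    intro x
    obtain ⟨q1, hq1, h1⟩ := D.acts_y (D.acts_symm h) x
    obtain ⟨q2, hq2, h2⟩ := D.N0_y hg (σ.symm x)
    obtain ⟨q3, hq3, h3⟩ := D.acts_y h (σ.symm x + D.cc g)
    rw [map_add, AddEquiv.apply_symm_apply] at h3
    rw [inv_inv] at h1
    refine ⟨q3 * (n * (q2 * q1) * n⁻¹), mul_mem hq3 (D.norm_Q h.2.1 (mul_mem hq2 hq1)), ?_⟩
    have h4 := D.conj_q hg.1 hq1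
    calc (n * g * n⁻¹) * D.y x * (n * g * n⁻¹)⁻¹ = n * g * (n⁻¹ * D.y x * n) * g⁻¹ * n⁻¹ := by group
      _ = n * (g * D.y (σ.symm x) * g⁻¹) * (g * q1 * g⁻¹) * n⁻¹ := by rw [h1]; group
      _ = n * (D.y (σ.symm x + D.cc g) * q2) * q1 * n⁻¹ := by rw [h2, h4]
      _ = (n * D.y (σ.symm x + D.cc g) * n⁻¹) * (n * (q2 * q1) * n⁻¹) := by group
      _ = _ := by rw [h3]; group
  refine ⟨⟨D.norm_M h.2.1 hg.1, _, key⟩, ?_⟩
  obtain ⟨q, hq, h1⟩ := key 0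
  rw [D.y0, zero_add] at h1
  exact D.cc_eq hq h1

theorem acts_Z {n z : G} {σ : F3 ≃+ F3} (h : D.Acts n σ) (hz : z ∈ D.Z) : n * z * n⁻¹ ∈ D.Z :=
  ⟨D.acts_Y1 h hz.1, by rw [D.acts_p h hz.1.1, hz.2, map_zero]⟩

theorem conj_be_conj (n g z : G) : n * be g z * n⁻¹ = be (n * g * n⁻¹) (n * z * n⁻¹) := by
  unfold be; group

theorem acts_Nrm {n g : G} {σ : F3 ≃+ F3} (h : D.Acts n σ) (hg : D.Nrm g) : D.Nrm (n * g * n⁻¹) := by
  have h1 := D.acts_N0 h hg.1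
  refine ⟨h1.1, fun z hz x hx => ?_⟩
  rw [h1.2] at hx
  have hs := D.acts_symm h
  have h2 : n⁻¹ * z * n⁻¹⁻¹ ∈ D.Z := D.acts_Z hs hz
  have h3 : D.τ (n⁻¹ * z * n⁻¹⁻¹) = D.a (σ.symm x) (D.cc g) := by
    rw [D.norm_τ hs.1, hx, D.acts_a hs, AddEquiv.symm_apply_apply]
  have h4 := hg.2 _ h2 _ h3
  have h5 := conj_be_conj n g (n⁻¹ * z * n⁻¹⁻¹)
  have h6 : n * (n⁻¹ * z * n⁻¹⁻¹) * n⁻¹ = z := by group
  rw [h4, h6, mul_one, mul_inv_cancel] at h5
  exact h5.symm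

theorem be_nrm_eq_one [Finite G] (hy : ∀ w, ∃ g, D.y w = g * D.t * g⁻¹) {g z : G} (hg : D.Nrm g) (hc : D.cc g ≠ 0)
    (hz : z ∈ D.Z) : be g z = 1 := by
  obtain ⟨k, hk, h⟩ := D.exists_k hy
  have hk1 : k = 1 := by
    apply D.eq_one_of_inv hk
    intro n σ hn
    have he : ((1, 0, 0) : F3) ≠ 0 := by decide
    obtain ⟨g1, hg1, hc1⟩ := D.exists_nrm hy he
    obtain ⟨z1, hz1, hz2⟩ := D.exists_zA (1, 0, 0)
    have hd1 : dot (D.cc g1) (1, 0, 0) = 1 := by rw [hc1]; decide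
    have hc1' : D.cc g1 ≠ 0 := by rw [hc1]; exact he
    have h1 := h g1 hg1 hc1' z1 hz1 _ hz2 hd1
    have h2 := D.acts_N0 hn hg1.1
    have h3 := D.acts_Nrm hn hg1
    have h4 := D.acts_Z hn hz1
    obtain ⟨v', hv'⟩ := D.τ_Z h4
    have hσ : σ (D.cc g1) ≠ 0 := fun h5 => hc1' ((AddEquiv.map_eq_zero_iff σ).1 h5)
    have h5 : dot (D.cc (n * g1 * n⁻¹)) v' = 1 := by
      rcases zmod2 (dot (D.cc (n * g1 * n⁻¹)) v') with h6 | h6
      · exfalso
        rw [h2.2] at h6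
        obtain ⟨x, hx⟩ := exists_cross hσ h6
        rw [D.norm_τ hn.1, hz2, ← hx, ← D.a_eq_A] at hv'
        have h7 := D.acts_a (D.acts_symm hn) x (σ (D.cc g1))
        rw [← hv', AddEquiv.symm_apply_apply, D.a_eq_A] at h7
        have h8 : n⁻¹ * (n * D.A (1, 0, 0) * n⁻¹) * n⁻¹⁻¹ = D.A (1, 0, 0) := by group
        rw [h8] at h7
        have h9 := D.A_inj h7
        rw [h9, dot_cross] at hd1
        exact absurd hd1 (by decide)
      · exact h6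
    have h6 := h _ h3 (by rw [h2.2]; exact hσ) _ h4 v' hv' h5
    rw [← conj_be_conj, h1] at h6
    exact h6
  obtain ⟨v, hv⟩ := D.τ_Z hz
  rcases zmod2 (dot (D.cc g) v) with h1 | h1
  · exact D.nrm_zero hg hc hz hv h1
  · rw [h g hg hc z hz v hv h1, hk1]

/-! ### `R` -/

/-- `R` -/
def R : Subgroup G := D.N0 ⊓ centralizer (D.Z : Set G)

theorem mem_R {g : G} : g ∈ D.R ↔ g ∈ D.N0 ∧ ∀ z ∈ D.Z, be g z = 1 := by
  unfold R be
  rw [mem_inf, mem_centralizer_iff]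
  constructor
  · rintro ⟨h1, h2⟩
    refine ⟨h1, fun z hz => ?_⟩
    rw [← h2 z hz, mul_inv_cancel_right, mul_inv_cancel]
  · rintro ⟨h1, h2⟩
    refine ⟨h1, fun z hz => ?_⟩
    have h3 := h2 z hz
    rw [mul_inv_eq_one, mul_inv_eq_iff_eq_mul] at h3
    exact h3.symm

theorem R_comm {g z : G} (hg : g ∈ D.R) (hz : z ∈ D.Z) : z * g = g * z := by
  unfold R at hg
  rw [mem_inf, mem_centralizer_iff] at hg
  exact hg.2 z hz

theorem RN {g : G} (hg : g ∈ D.R) : g ∈ D.N0 := (D.mem_R.1 hg).1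

theorem YR {m : G} (hm : m ∈ D.Y1) : m ∈ D.R := D.mem_R.2 ⟨D.O_N0 hm.1, fun _ hz => D.be_Y1 hm hz⟩

theorem RY {g : G} (hg : g ∈ D.R) (hc : D.cc g = 0) : g ∈ D.Y1 := by
  have hO := D.O_of_cc (D.RN hg) hc
  rcases D.Y1_or hO with h | h
  · exact h
  · exfalso
    obtain ⟨z, hz, h1⟩ := D.exists_ne
    have h2 := D.be_mul_left (D.O_N0 D.tO) (D.RN hg) hz
    rw [D.be_Y1 h hz, D.be_t hz, (D.mem_R.1 hg).2 z hz, mul_one] at h2
    exact h1 h2.symm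

theorem exists_R [Finite G] (hy : ∀ w, ∃ g, D.y w = g * D.t * g⁻¹) (c : F3) : ∃ g ∈ D.R, D.cc g = c := by
  by_cases hc : c = 0
  · exact ⟨1, one_mem _, by rw [D.cc_one, hc]⟩
  · obtain ⟨g, hg, rfl⟩ := D.exists_nrm hy hc
    exact ⟨g, D.mem_R.2 ⟨hg.1, fun z hz => D.be_nrm_eq_one hy hg hc hz⟩, rfl⟩

theorem sq_R {g : G} (hg : g ∈ D.R) : g * g ∈ D.Z := by
  refine ⟨D.gg_Y1 (D.RN hg), ?_⟩
  by_contra hp
  obtain ⟨x, hx, hx'⟩ := exists_x hp
  obtain ⟨z, hz, h1⟩ := D.exists_z x (D.cc g)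
  have h2 := D.be_ac (D.RN hg) hz h1
  rw [(D.mem_R.1 hg).2 z hz] at h2
  rcases D.a_eq_one h2.symm with h3 | h3 | h3
  · exact hp h3
  · exact hx h3
  · exact hx' h3.symm

theorem tR {g : G} (hg : g ∈ D.R) : D.t * g * D.t ∈ D.R := by
  rw [D.mem_R]
  have ht := D.O_N0 D.tO
  refine ⟨mul_mem (mul_mem ht (D.RN hg)) ht, fun z hz => ?_⟩
  rw [D.be_mul_left (mul_mem ht (D.RN hg)) ht hz, D.be_mul_left ht (D.RN hg) hz, (D.mem_R.1 hg).2 z hz, D.be_t hz,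
    mul_one, D.QQ _ hz.1.1.2]

theorem card_R [Finite G] (hy : ∀ w, ∃ g, D.y w = g * D.t * g⁻¹) : Nat.card D.R = 2 ^ 15 := by
  let f : D.R →* Multiplicative F3 := MonoidHom.mk' (fun m => Multiplicative.ofAdd (D.cc m))
    (fun m n => congrArg Multiplicative.ofAdd (D.cc_mul (D.RN m.2) (D.RN n.2)))
  have hYR : D.Y1 ≤ D.R := fun z hz => D.YR hz
  have h1 : f.ker = D.Y1.subgroupOf D.R := by
    ext m
    rw [MonoidHom.mem_ker, mem_subgroupOf]
    constructor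
    · intro h
      exact D.RY m.2 (Multiplicative.ofAdd.injective h)
    · intro h
      exact congrArg Multiplicative.ofAdd (D.cc_O h.1)
  have h2 : f.range = ⊤ := by
    rw [MonoidHom.range_eq_top]
    intro w
    obtain ⟨g, hg, h⟩ := D.exists_R hy (Multiplicative.toAdd w)
    exact ⟨⟨g, hg⟩, congrArg Multiplicative.ofAdd h⟩
  have h3 : Nat.card f.ker * Nat.card f.range = Nat.card D.R := by
    rw [← index_ker, card_mul_index]
  rw [h1, h2, card_sub_eq hYR, card_top, card_F3, D.card_Y1] at h3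
  rw [← h3]
  norm_num

/-- involutions of `t R` -/
theorem inv_tR [Finite G] (hy : ∀ w, ∃ g, D.y w = g * D.t * g⁻¹) {n : G} (hn : n ∈ D.R)
    (h : (D.t * n) * (D.t * n) = 1) : ∃ r ∈ D.R, D.t * n = r * D.t * r⁻¹ := by
  have hc : D.cc n = 0 := by
    have h1 : D.t * (D.t * (n * D.t * n⁻¹)) * D.t = n * n := by
      have h2 : n⁻¹ = D.t * n * D.t := by
        rw [inv_eq_iff_mul_eq_one]
        calc n * (D.t * n * D.t) = D.t⁻¹ * (D.t * n * (D.t * n)) * D.t := by group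
          _ = 1 := by rw [h]; group
      rw [h2, ← mul_assoc, D.tt, one_mul]
      calc n * D.t * (D.t * n * D.t) * D.t = n * (D.t * D.t) * n * (D.t * D.t) := by group
        _ = n * n := by rw [D.tt]; group
    have h2 := (D.sq_R hn)
    rw [← h1] at h2
    -- `t (t (n t n⁻¹)) t ∈ Z`
    have h3 : D.t * (n * D.t * n⁻¹) ∈ D.O := by
      have := mul_mem (mul_mem D.tO h2.1.1) D.tO
      have h4 : D.t * (D.t * (D.t * (n * D.t * n⁻¹)) * D.t) * D.t =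
          (D.t * D.t) * (D.t * (n * D.t * n⁻¹)) * (D.t * D.t) := by group
      rwa [h4, D.tt, one_mul, mul_one] at this
    have h4 := h2.2
    rw [D.p_mul (mul_mem D.tO h3) D.tO, D.p_mul D.tO h3, D.p_t, zero_add, add_zero] at h4
    exact h4
  have hnY := D.RY hn hc
  obtain ⟨q, hq, h1⟩ := D.inv_tY hnY h
  obtain ⟨g, hg, h2⟩ := D.exists_R hy (D.p n)
  obtain ⟨q1, hq1, h3⟩ := D.N0_t (D.RN hg)
  rw [h2] at h3
  obtain ⟨m, hm, h4⟩ := D.Y1_y_surj (D.p n) (mul_mem hq hq1)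
  refine ⟨m * g, mul_mem (D.YR hm) hg, ?_⟩
  have h5 := D.conj_q hm.1.1 hq1
  calc D.t * n = D.y (D.p n) * q * (q1 * q1) := by rw [h1, D.QQ _ hq1, mul_one]
    _ = (D.y (D.p n) * (q * q1)) * q1 := by group
    _ = (m * D.y (D.p n) * m⁻¹) * (m * q1 * m⁻¹) := by rw [h4, h5]
    _ = m * (g * D.t * g⁻¹) * m⁻¹ := by rw [h3]; group
    _ = m * g * D.t * (m * g)⁻¹ := by group

theorem norm_R [Finite G] {n : G} (hn : n ∈ D.L) (hnQ : n ∈ normalizer (D.Q : Set G)) :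
    n ∈ normalizer (D.R : Set G) := by
  obtain ⟨σ, h⟩ := D.exists_acts hn hnQ
  rw [mem_normalizer_iff]
  apply conj_mem_iff_of_le
  intro g hg
  rw [D.mem_R]
  refine ⟨(D.acts_N0 h (D.RN hg)).1, fun z hz => ?_⟩
  have h2 : n⁻¹ * z * n⁻¹⁻¹ ∈ D.Z := D.acts_Z (D.acts_symm h) hz
  have h5 := conj_be_conj n g (n⁻¹ * z * n⁻¹⁻¹)
  have h6 : n * (n⁻¹ * z * n⁻¹⁻¹) * n⁻¹ = z := by group
  rw [(D.mem_R.1 hg).2 _ h2, h6, mul_one, mul_inv_cancel] at h5
  exact h5.symm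

theorem cen2_R [Finite G] (hy : ∀ w, ∃ g, D.y w = g * D.t * g⁻¹) {e : G} (he : e ∈ D.R) {M : Subgroup G}
    (hM : M ≤ D.R) (hc : Nat.card D.R ≤ 2 * Nat.card M) (hcom : ∀ m ∈ M, e * m = m * e) : e ∈ D.Z := by
  have hcc : D.cc e = 0 := by
    by_contra hp
    have h1 : ∀ m ∈ M, m ∈ D.Y1 → D.p m = 0 ∨ D.p m = D.cc e := by
      intro m hm hmY
      have h2 := D.N0_τ (D.RN he) hmY
      rw [hcom m hm, mul_inv_cancel_right] at h2
      rcases D.a_eq_one (mul_eq_left.1 h2.symm) with h4 | h4 | h4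
      · exact Or.inl h4
      · exact absurd h4 hp
      · exact Or.inr h4
    have h2 : ∀ p : F3, p ≠ 0 → ∃ v w : F3, v ≠ 0 ∧ v ≠ p ∧ w ≠ 0 ∧ w ≠ p ∧ v + w ≠ 0 ∧ v + w ≠ p := by decide
    obtain ⟨v, w, h3, h4, h5, h6, h7, h8⟩ := h2 _ hp
    have hv : D.r v ∉ M := fun h => by
      have := h1 _ h (D.rY v)
      rw [D.p_r] at this
      tauto
    have hw : D.r w ∉ M := fun h => by
      have := h1 _ h (D.rY w)
      rw [D.p_r] at this
      tauto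
    have h9 := h1 _ (mem_of_index hM hc (D.YR (D.rY v)) (D.YR (D.rY w)) hv hw)
      (mul_mem (inv_mem (D.rY v)) (D.rY w))
    rw [D.p_mul (inv_mem (D.rO v)) (D.rO w), D.p_inv (D.rO v), D.p_r, D.p_r] at h9
    tauto
  have heY := D.RY he hcc
  refine ⟨heY, ?_⟩
  by_contra hp
  have h1 : ∀ m ∈ M, D.cc m = 0 ∨ D.cc m = D.p e := by
    intro m hm
    have h2 := D.N0_τ (D.RN (hM hm)) heY
    rw [← hcom m hm, mul_inv_cancel_right] at h2
    rcases D.a_eq_one (mul_eq_left.1 h2.symm) with h4 | h4 | h4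
    · exact absurd h4 hp
    · exact Or.inl h4
    · exact Or.inr h4.symm
  have h2 : ∀ p : F3, p ≠ 0 → ∃ v w : F3, v ≠ 0 ∧ v ≠ p ∧ w ≠ 0 ∧ w ≠ p ∧ v + w ≠ 0 ∧ v + w ≠ p := by decide
  obtain ⟨v, w, h3, h4, h5, h6, h7, h8⟩ := h2 _ hp
  obtain ⟨gv, hgv, hv1⟩ := D.exists_R hy v
  obtain ⟨gw, hgw, hw1⟩ := D.exists_R hy w
  have hv : gv ∉ M := fun h => by
    have := h1 _ h
    rw [hv1] at this
    tauto
  have hw : gw ∉ M := fun h => by
    have := h1 _ h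
    rw [hw1] at this
    tauto
  have h9 := h1 _ (mem_of_index hM hc hgv hgw hv hw)
  rw [D.cc_mul (inv_mem (D.RN hgv)) (D.RN hgw), D.cc_inv (D.RN hgv), hv1, hw1] at h9
  tauto

/-- `eps = 1`: a sign on `G` -/
theorem main [Finite G] (θ : (D.L ⊓ normalizer (D.Q : Set G) : Subgroup G) →* Matrix.GeneralLinearGroup (Fin 3) (ZMod 2))
    (hθ : Function.Surjective θ) (hθk : ∀ n, θ n = 1 ↔ (n : G) ∈ D.Q) : ∃ m : G →* ℤˣ, m D.t = -1 := by
  by_cases h : ∃ w, w ≠ 0 ∧ ∃ g, D.y w = g * D.t * g⁻¹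
  · have hy := D.all_y h
    let R : RData G :=
      { toCore := D.toCore
        Z := D.Z
        R := D.R
        QZ := fun q hq => D.QZ hq
        ZR := fun z hz => D.YR hz.1
        ZZ := fun z hz => D.ZZ hz
        cardZ := D.card_Z
        Zc := fun z hz m hm => D.R_comm hm hz
        tR := fun m hm => D.tR hm
        NR := fun n hn hnQ => D.norm_R hn hnQ
        RQ := fun m hm h => by
          have h1 : D.τ m = 1 := by
            unfold τ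
            rw [h, mul_inv_cancel_right, D.tt]
          have h2 : m ∈ D.O := ⟨(D.RN hm).1, by rw [h1]; exact one_mem _⟩
          exact D.mem_Q_of_τ (D.RY hm (D.cc_O h2)) h1
        conjR := by
          rintro n hn ⟨g, hg⟩
          exact D.inv_tR hy hn (by rw [hg]; exact D.conj_inv_t g)
        cen2 := fun e he M hM hc hcom => D.cen2_R hy he hM hc hcom
        sqR := fun m hm => D.sq_R hm
        size := Or.inl (D.card_R hy) }
    exact R.main (fun n hn h => D.inv_tR hy hn h) θ hθ hθk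
  · exfalso
    push Not at h
    exact D.false_of_I h

end WData

end Cfsg.Agent.StdSpSix.Eps
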