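import Cfsg.Agent.StdSpSix.RLevel

/-!
# The group `Y₁` of order `2¹²`

`Q ≤ L` elementary abelian of order `64`, generated by the `b w`, `w` in a space `W` with 8 elements; `y w`
centralises `Q`, `y 0 = t`, `(y v * y w)² = b (v + w)`.  `τ m = [m, t]`, `r w = t * y w`,
`Y₁ = ⟨r w, Q⟩ = {m ∈ C_G(Q) : τ m ∈ Q, [m, r w] = a (p m) w}`, `p m = π (τ m)`: for `m, m' ∈ Y₁`,
`[m, m'] = a (p m) (p m')`, `m² = b (p m)`; `Z = {m ∈ Y₁ : p m = 0}` is elementary abelian of order `512`.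
-/

set_option autoImplicit false

namespace Cfsg.Agent.StdSpSix.Eps

open Subgroup
open Cfsg.Agent.StdSpSix.QLevel (card_le_two_mul card_sub_eq inv_of_sq comm_of_sq mem_inf_cent card_le_sq)
open Cfsg.Agent.StdSpSix.QLevel.Data (card_conj_of_iff mem_map_conj conj_mem_iff_of_le)
open Cfsg.Agent.StdSpSix.RLevel

/-- a space with eight elements -/
abbrev F3 : Type := ZMod 2 × ZMod 2 × ZMod 2

theorem F3.add_self (u : F3) : u + u = 0 := by revert u; decide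

theorem F3.add_add_self (u v : F3) : u + (u + v) = v := by revert u v; decide

theorem F3.eq_of_add {u v : F3} (h : u + v = 0) : u = v := by revert u v; decide

/-- the standard form -/
def dot (k v : F3) : ZMod 2 := k.1 * v.1 + k.2.1 * v.2.1 + k.2.2 * v.2.2

theorem dot_add (k u v : F3) : dot k (u + v) = dot k u + dot k v := by revert k u v; decide +kernel

/-- transvections -/
def tv (k c : F3) (h : dot k c = 0) : F3 ≃+ F3 where
  toFun v := v + dot k v • c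
  invFun v := v + dot k v • c
  left_inv v := by revert k c v; decide +kernel
  right_inv v := by revert k c v; decide +kernel
  map_add' u v := by rw [dot_add]; module

theorem tv_apply (k c : F3) (h : dot k c = 0) (v : F3) : tv k c h v = v + dot k v • c := rfl

/-- The data. -/
structure WData (G : Type*) [Group G] extends Core G where
  b : F3 → G
  y : F3 → G
  π : G → F3
  b0 : b 0 = 1
  y0 : y 0 = t
  QQ : ∀ x ∈ Q, x * x = 1
  bQ : ∀ w, b w ∈ Q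
  gen : ∀ P : Subgroup G, (∀ w, b w ∈ P) → Q ≤ P
  πmul : ∀ x ∈ Q, ∀ z ∈ Q, π (x * z) = π x + π z
  πb : ∀ w, π (b w) = w
  y2 : ∀ w, y w * y w = 1
  yQ : ∀ w, ∀ q ∈ Q, q * y w = y w * q
  yy : ∀ v w, (y v * y w) * (y v * y w) = b (v + w)
  bil : ∀ u v w, b u * b (v + w) * b (u + (v + w)) = (b u * b v * b (u + v)) * (b u * b w * b (u + w))
  a1 : ∀ u v, b u * b v * b (u + v) = 1 → u = 0 ∨ v = 0 ∨ u = v
  act : ∀ n ∈ L, n ∈ normalizer (Q : Set G) → ∃ σ : F3 ≃+ F3, (∀ w, n * b w * n⁻¹ = b (σ w)) ∧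
    ∀ w, ∃ q ∈ Q, n * y w * n⁻¹ = y (σ w) * q
  wit : ∀ σ : F3 ≃+ F3, ∃ n ∈ L, n ∈ normalizer (Q : Set G) ∧ ∀ w, n * b w * n⁻¹ = b (σ w)

namespace WData

variable {G : Type*} [Group G] (D : WData G)

theorem qc {x z : G} (hx : x ∈ D.Q) (hz : z ∈ D.Q) : x * z = z * x := comm_of_sq D.QQ hx hz

theorem q_inv {x : G} (hx : x ∈ D.Q) : x⁻¹ = x := inv_of_sq (D.QQ x hx)

theorem y_inv (w : F3) : (D.y w)⁻¹ = D.y w := inv_of_sq (D.y2 w)

/-- `a u v = b u b v b (u + v)` -/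
def a (u v : F3) : G := D.b u * D.b v * D.b (u + v)

theorem aQ (u v : F3) : D.a u v ∈ D.Q := mul_mem (mul_mem (D.bQ u) (D.bQ v)) (D.bQ _)

theorem b2 (u : F3) : D.b u * D.b u = 1 := D.QQ _ (D.bQ u)

theorem a_comm (u v : F3) : D.a u v = D.a v u := by
  unfold a
  rw [D.qc (D.bQ u) (D.bQ v), add_comm]

@[simp] theorem a_zero (u : F3) : D.a u 0 = 1 := by
  unfold a
  rw [D.b0, mul_one, add_zero, D.b2]

@[simp] theorem zero_a (u : F3) : D.a 0 u = 1 := by rw [a_comm, a_zero]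

@[simp] theorem a_self (u : F3) : D.a u u = 1 := by
  unfold a
  rw [D.b2, one_mul, F3.add_self, D.b0]

theorem a_add (u v w : F3) : D.a u (v + w) = D.a u v * D.a u w := D.bil u v w

theorem add_a (u v w : F3) : D.a (u + v) w = D.a u w * D.a v w := by
  rw [a_comm, a_add, a_comm, D.a_comm w v]

theorem a_eq_one {u v : F3} (h : D.a u v = 1) : u = 0 ∨ v = 0 ∨ u = v := D.a1 u v h

theorem b_mul (u v : F3) : D.b u * D.b v * D.a u v = D.b (u + v) := by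
  unfold a
  have h1 := D.QQ _ (mul_mem (D.bQ u) (D.bQ v))
  rw [← mul_assoc (D.b u * D.b v), h1, one_mul]

theorem π_one : D.π 1 = 0 := by rw [← D.b0, D.πb]

theorem π_a (u v : F3) : D.π (D.a u v) = 0 := by
  unfold a
  rw [D.πmul _ (mul_mem (D.bQ u) (D.bQ v)) _ (D.bQ _), D.πmul _ (D.bQ u) _ (D.bQ v), D.πb, D.πb, D.πb, F3.add_self]

theorem b_ne {w : F3} (hw : w ≠ 0) : D.b w ≠ 1 := by
  intro h
  apply hw
  rw [← D.πb w, h, D.π_one]

/-- `C_G(Q)` -/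
def M : Subgroup G := centralizer (D.Q : Set G)

theorem mem_M {x : G} : x ∈ D.M ↔ ∀ q ∈ D.Q, q * x = x * q := by
  unfold M
  rw [mem_centralizer_iff]
  rfl

theorem QM {q : G} (hq : q ∈ D.Q) : q ∈ D.M := D.mem_M.2 fun _ hz => D.qc hz hq

theorem yM (w : F3) : D.y w ∈ D.M := D.mem_M.2 (D.yQ w)

theorem tM : D.t ∈ D.M := by rw [← D.y0]; exact D.yM 0

theorem conj_q {x q : G} (hx : x ∈ D.M) (hq : q ∈ D.Q) : x * q * x⁻¹ = q := by
  rw [← D.mem_M.1 hx q hq, mul_inv_cancel_right]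

/-- `r w = t * y w` -/
def r (w : F3) : G := D.t * D.y w

theorem rM (w : F3) : D.r w ∈ D.M := mul_mem D.tM (D.yM w)

@[simp] theorem r_zero : D.r 0 = 1 := by
  unfold r
  rw [D.y0, D.tt]

/-- `τ m = [m, t]` -/
def τ (m : G) : G := m * D.t * m⁻¹ * D.t

theorem conj_t (m : G) : m * D.t * m⁻¹ = D.τ m * D.t := by
  unfold τ
  rw [mul_assoc (m * D.t * m⁻¹), D.tt, mul_one]

theorem τ_mul {m n : G} (hm : m ∈ D.M) (hn : D.τ n ∈ D.Q) : D.τ (m * n) = D.τ m * D.τ n := by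
  have h1 : m * n * D.t * (m * n)⁻¹ = D.τ n * (m * D.t * m⁻¹) := by
    calc m * n * D.t * (m * n)⁻¹ = m * (n * D.t * n⁻¹) * m⁻¹ := by group
      _ = m * (D.τ n * D.t) * m⁻¹ := by rw [D.conj_t]
      _ = (m * D.τ n * m⁻¹) * (m * D.t * m⁻¹) := by group
      _ = D.τ n * (m * D.t * m⁻¹) := by rw [D.conj_q hm hn]
  have h2 : D.τ n * (m * D.t * m⁻¹) * D.t = D.τ n * D.τ m := by
    rw [D.conj_t, mul_assoc, mul_assoc, D.tt, mul_one]
  change m * n * D.t * (m * n)⁻¹ * D.t = _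
  rw [h1, h2]
  -- `τ n` commutes with `τ m`
  have h3 : D.τ n * D.τ m = D.τ m * D.τ n := by
    have h4 : D.τ m ∈ D.M := mul_mem (mul_mem (mul_mem hm D.tM) (inv_mem hm)) D.tM
    exact D.mem_M.1 h4 _ hn
  exact h3

@[simp] theorem τ_one : D.τ 1 = 1 := by
  unfold τ
  rw [one_mul, inv_one, mul_one, D.tt]

theorem τ_inv {m : G} (hm : m ∈ D.M) (h : D.τ m ∈ D.Q) : D.τ m⁻¹ = D.τ m := by
  have h1 : m⁻¹ * (D.τ m)⁻¹ * m = D.τ m⁻¹ := by
    unfold τ
    rw [mul_inv_rev, mul_inv_rev, mul_inv_rev, inv_inv, D.t_inv]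
    group
  rw [← h1, D.q_inv h]
  have := D.conj_q (inv_mem hm) h
  rwa [inv_inv] at this

theorem τ_q {q : G} (hq : q ∈ D.Q) : D.τ q = 1 := by
  unfold τ
  rw [D.Qt hq, mul_inv_cancel_right, D.tt]

theorem τ_t : D.τ D.t = 1 := by
  unfold τ
  rw [mul_inv_cancel_right, D.tt]

theorem τ_r (w : F3) : D.τ (D.r w) = D.b w := by
  have h := D.yy 0 w
  rw [zero_add, D.y0] at h
  rw [← h]
  unfold τ r
  rw [mul_inv_rev, D.y_inv, D.t_inv]
  calc D.t * D.y w * D.t * (D.y w * D.t) * D.t = D.t * D.y w * D.t * D.y w * (D.t * D.t) := by group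
    _ = D.t * D.y w * (D.t * D.y w) := by rw [D.tt]; group

/-- `{m ∈ C_G(Q) : [m, t] ∈ Q}` -/
def O : Subgroup G where
  carrier := {m | m ∈ D.M ∧ D.τ m ∈ D.Q}
  one_mem' := ⟨one_mem _, by rw [D.τ_one]; exact one_mem _⟩
  mul_mem' := by
    rintro m n ⟨hm, hm1⟩ ⟨hn, hn1⟩
    exact ⟨mul_mem hm hn, by rw [D.τ_mul hm hn1]; exact mul_mem hm1 hn1⟩
  inv_mem' := by
    rintro m ⟨hm, hm1⟩
    exact ⟨inv_mem hm, by rw [D.τ_inv hm hm1]; exact hm1⟩

theorem mem_O {m : G} : m ∈ D.O ↔ m ∈ D.M ∧ D.τ m ∈ D.Q := Iff.rfl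

theorem rO (w : F3) : D.r w ∈ D.O := ⟨D.rM w, by rw [D.τ_r]; exact D.bQ w⟩

theorem QO {q : G} (hq : q ∈ D.Q) : q ∈ D.O := ⟨D.QM hq, by rw [D.τ_q hq]; exact one_mem _⟩

theorem tO : D.t ∈ D.O := ⟨D.tM, by rw [D.τ_t]; exact one_mem _⟩

/-- the kernel of `τ` -/
theorem mem_or_of_τ {m : G} (hm : m ∈ D.M) (h : D.τ m = 1) : m ∈ D.Q ∨ D.t * m ∈ D.Q := by
  have h1 := D.conj_t m
  rw [h, one_mul] at h1
  apply D.mem_Q_of_comm hm
  calc m * D.t = m * D.t * m⁻¹ * m := by group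
    _ = D.t * m := by rw [h1]

theorem y_comm (v w : F3) : D.y v * D.y w = D.b (v + w) * (D.y w * D.y v) := by
  have h := D.yy v w
  have h1 : (D.y v * D.y w)⁻¹ = D.y w * D.y v := by rw [mul_inv_rev, D.y_inv, D.y_inv]
  rw [← h, ← h1]
  group

theorem t_y (w : F3) : D.t * D.y w = D.b w * (D.y w * D.t) := by
  have := D.y_comm 0 w
  rwa [zero_add, D.y0] at this

/-- `[r v, r w] = a v w` -/
theorem r_comm (v w : F3) : D.r v * D.r w * (D.r v)⁻¹ = D.a v w * D.r w := by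
  rw [mul_inv_eq_iff_eq_mul]
  unfold r a
  have hb : ∀ u w, D.b u * D.y w = D.y w * D.b u := fun u w => D.yQ w _ (D.bQ u)
  have ht : ∀ u, D.b u * D.t = D.t * D.b u := fun u => D.Qt (D.bQ u)
  have e1 : D.t * D.y v * (D.t * D.y w) = D.b v * (D.y v * D.y w) := by
    calc D.t * D.y v * (D.t * D.y w) = (D.t * D.y v) * D.t * D.y w := by group
      _ = (D.b v * (D.y v * D.t)) * D.t * D.y w := by rw [D.t_y v]
      _ = D.b v * (D.y v * (D.t * D.t) * D.y w) := by group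
      _ = D.b v * (D.y v * D.y w) := by rw [D.tt, mul_one]
  have e2 : D.t * D.y w * (D.t * D.y v) = D.b w * (D.y w * D.y v) := by
    calc D.t * D.y w * (D.t * D.y v) = (D.t * D.y w) * D.t * D.y v := by group
      _ = (D.b w * (D.y w * D.t)) * D.t * D.y v := by rw [D.t_y w]
      _ = D.b w * (D.y w * (D.t * D.t) * D.y v) := by group
      _ = D.b w * (D.y w * D.y v) := by rw [D.tt, mul_one]
  rw [e1, D.y_comm v w]
  have e3 : D.b v * D.b w * D.b (v + w) * (D.t * D.y w) * (D.t * D.y v) =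
      D.b v * D.b w * D.b (v + w) * (D.t * D.y w * (D.t * D.y v)) := by group
  rw [e3, e2]
  have e4 : D.b w * D.b (v + w) * D.b w = D.b (v + w) := by
    rw [mul_assoc, D.qc (D.bQ (v + w)) (D.bQ w), ← mul_assoc, D.b2, one_mul]
  calc D.b v * (D.b (v + w) * (D.y w * D.y v)) = D.b v * D.b (v + w) * (D.y w * D.y v) := by group
    _ = D.b v * (D.b w * D.b (v + w) * D.b w) * (D.y w * D.y v) := by rw [e4]
    _ = D.b v * D.b w * D.b (v + w) * (D.b w * (D.y w * D.y v)) := by group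

/-- `Y₁` -/
def Y1 : Subgroup G where
  carrier := {m | m ∈ D.O ∧ ∀ u, m * D.r u * m⁻¹ = D.a (D.π (D.τ m)) u * D.r u}
  one_mem' := ⟨one_mem _, fun u => by rw [D.τ_one, D.π_one, D.zero_a]; group⟩
  mul_mem' := by
    rintro m n ⟨hm, hm1⟩ ⟨hn, hn1⟩
    refine ⟨mul_mem hm hn, fun u => ?_⟩
    rw [D.τ_mul hm.1 hn.2, D.πmul _ hm.2 _ hn.2, D.add_a]
    calc m * n * D.r u * (m * n)⁻¹ = m * (n * D.r u * n⁻¹) * m⁻¹ := by group
      _ = m * (D.a (D.π (D.τ n)) u * D.r u) * m⁻¹ := by rw [hn1]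
      _ = (m * D.a (D.π (D.τ n)) u * m⁻¹) * (m * D.r u * m⁻¹) := by group
      _ = D.a (D.π (D.τ n)) u * (D.a (D.π (D.τ m)) u * D.r u) := by rw [D.conj_q hm.1 (D.aQ _ _), hm1]
      _ = _ := by rw [← mul_assoc, D.qc (D.aQ _ _) (D.aQ _ _)]
  inv_mem' := by
    rintro m ⟨hm, hm1⟩
    refine ⟨inv_mem hm, fun u => ?_⟩
    rw [D.τ_inv hm.1 hm.2]
    have h1 : m⁻¹ * D.a (D.π (D.τ m)) u * m = D.a (D.π (D.τ m)) u := by
      have := D.conj_q (inv_mem hm.1) (D.aQ (D.π (D.τ m)) u)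
      rwa [inv_inv] at this
    have h2 : D.r u = D.a (D.π (D.τ m)) u * (m⁻¹ * D.r u * m) := by
      calc D.r u = m⁻¹ * (m * D.r u * m⁻¹) * m := by group
        _ = m⁻¹ * (D.a (D.π (D.τ m)) u * D.r u) * m := by rw [hm1]
        _ = (m⁻¹ * D.a (D.π (D.τ m)) u * m) * (m⁻¹ * D.r u * m) := by group
        _ = _ := by rw [h1]
    rw [inv_inv]
    conv_rhs => rw [h2, ← mul_assoc, D.QQ _ (D.aQ _ _), one_mul]

/-- `p m = π (τ m)` -/
def p (m : G) : F3 := D.π (D.τ m)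

theorem mem_Y1 {m : G} : m ∈ D.Y1 ↔ m ∈ D.O ∧ ∀ u, m * D.r u * m⁻¹ = D.a (D.p m) u * D.r u := Iff.rfl

theorem Y1O {m : G} (hm : m ∈ D.Y1) : m ∈ D.O := hm.1

theorem rY (w : F3) : D.r w ∈ D.Y1 := ⟨D.rO w, fun u => by rw [D.τ_r, D.πb, D.r_comm]⟩

theorem QY {q : G} (hq : q ∈ D.Q) : q ∈ D.Y1 := ⟨D.QO hq, fun u => by
  rw [D.τ_q hq, D.π_one, D.zero_a, one_mul, D.mem_M.1 (D.rM u) q hq, mul_inv_cancel_right]⟩

theorem p_mul {m n : G} (hm : m ∈ D.O) (hn : n ∈ D.O) : D.p (m * n) = D.p m + D.p n := by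
  unfold p
  rw [D.τ_mul hm.1 hn.2, D.πmul _ hm.2 _ hn.2]

theorem p_inv {m : G} (hm : m ∈ D.O) : D.p m⁻¹ = D.p m := by
  unfold p
  rw [D.τ_inv hm.1 hm.2]

@[simp] theorem p_r (w : F3) : D.p (D.r w) = w := by
  unfold p
  rw [D.τ_r, D.πb]

theorem p_q {q : G} (hq : q ∈ D.Q) : D.p q = 0 := by
  unfold p
  rw [D.τ_q hq, D.π_one]

@[simp] theorem p_one : D.p 1 = 0 := D.p_q (one_mem _)

theorem p_t : D.p D.t = 0 := by
  unfold p
  rw [D.τ_t, D.π_one]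

theorem t_notMem_Y1 : D.t ∉ D.Y1 := by
  intro h
  have h1 := h.2 (1, 0, 0)
  rw [D.τ_t, D.π_one, D.zero_a, one_mul] at h1
  have h2 := D.t_y (1, 0, 0)
  apply D.b_ne (w := (1, 0, 0)) (by decide)
  unfold r at h1
  rw [D.t_inv] at h1
  have h3 : D.y (1, 0, 0) * D.t = D.t * D.y (1, 0, 0) := by
    calc D.y (1, 0, 0) * D.t = (D.t * D.t) * D.y (1, 0, 0) * D.t := by rw [D.tt, one_mul]
      _ = D.t * (D.t * D.y (1, 0, 0)) * D.t := by group
      _ = D.t * D.y (1, 0, 0) := h1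
  rw [h3] at h2
  exact mul_eq_right.1 h2.symm

theorem τ_surj {P : Subgroup G} (hP : ∀ w, D.r w ∈ P) {q : G} (hq : q ∈ D.Q) :
    ∃ m ∈ D.Y1 ⊓ P, D.τ m = q := by
  let K : Subgroup G :=
    { carrier := {q | ∃ m ∈ D.Y1 ⊓ P, D.τ m = q}
      one_mem' := ⟨1, one_mem _, D.τ_one⟩
      mul_mem' := by
        rintro _ _ ⟨m, hm, rfl⟩ ⟨n, hn, rfl⟩
        exact ⟨m * n, mul_mem hm hn, D.τ_mul (mem_inf.1 hm).1.1.1 (mem_inf.1 hn).1.1.2⟩
      inv_mem' := by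
        rintro _ ⟨m, hm, rfl⟩
        have h := (mem_inf.1 hm).1.1.2
        rw [D.q_inv h]
        exact ⟨m, hm, rfl⟩ }
  exact D.gen K (fun w => ⟨D.r w, mem_inf.2 ⟨D.rY w, hP w⟩, D.τ_r w⟩) hq

theorem mem_Q_of_τ {m : G} (hm : m ∈ D.Y1) (h : D.τ m = 1) : m ∈ D.Q := by
  rcases D.mem_or_of_τ hm.1.1 h with h1 | h1
  · exact h1
  · exfalso
    apply D.t_notMem_Y1
    have h2 := mul_mem (D.QY h1) (inv_mem hm)
    rwa [mul_inv_cancel_right] at h2

/-- `Y₁` is generated by `Q` and the `r w` -/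
theorem Y1_le {P : Subgroup G} (hQ : D.Q ≤ P) (hP : ∀ w, D.r w ∈ P) : D.Y1 ≤ P := by
  intro m hm
  obtain ⟨n, hn, h⟩ := D.τ_surj hP hm.1.2
  rw [mem_inf] at hn
  have h1 : n⁻¹ * m ∈ D.Q := by
    apply D.mem_Q_of_τ (mul_mem (inv_mem hn.1) hm)
    rw [D.τ_mul (inv_mem hn.1.1.1) hm.1.2, D.τ_inv hn.1.1.1 hn.1.1.2, h, D.QQ _ hm.1.2]
  have h2 := mul_mem hn.2 (hQ h1)
  rwa [mul_inv_cancel_left] at h2

/-- `[m, n] = a (p m) (p n)` -/
theorem Y1_comm {m n : G} (hm : m ∈ D.Y1) (hn : n ∈ D.Y1) : m * n * m⁻¹ = D.a (D.p m) (D.p n) * n := by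
  let K : Subgroup G :=
    { carrier := {n | n ∈ D.Y1 ∧ ∀ m ∈ D.Y1, m * n * m⁻¹ = D.a (D.p m) (D.p n) * n}
      one_mem' := ⟨one_mem _, fun m _ => by rw [D.p_one, D.a_zero]; group⟩
      mul_mem' := by
        rintro x z ⟨hx, hx1⟩ ⟨hz, hz1⟩
        refine ⟨mul_mem hx hz, fun m hm => ?_⟩
        rw [D.p_mul hx.1 hz.1, D.a_add]
        calc m * (x * z) * m⁻¹ = (m * x * m⁻¹) * (m * z * m⁻¹) := by group
          _ = (D.a (D.p m) (D.p x) * x) * (D.a (D.p m) (D.p z) * z) := by rw [hx1 m hm, hz1 m hm]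
          _ = D.a (D.p m) (D.p x) * (x * D.a (D.p m) (D.p z)) * z := by group
          _ = _ := by rw [← D.mem_M.1 hx.1.1 _ (D.aQ _ _)]; group
      inv_mem' := by
        rintro x ⟨hx, hx1⟩
        refine ⟨inv_mem hx, fun m hm => ?_⟩
        rw [D.p_inv hx.1]
        calc m * x⁻¹ * m⁻¹ = (m * x * m⁻¹)⁻¹ := by group
          _ = x⁻¹ * (D.a (D.p m) (D.p x))⁻¹ := by rw [hx1 m hm, mul_inv_rev]
          _ = _ := by rw [D.q_inv (D.aQ _ _), D.mem_M.1 (inv_mem hx.1.1) _ (D.aQ _ _)] }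
  have h : D.Y1 ≤ K := D.Y1_le
    (fun q hq => ⟨D.QY hq, fun m hm => by rw [D.p_q hq, D.a_zero, one_mul, D.conj_q hm.1.1 hq]⟩)
    (fun w => ⟨D.rY w, fun m hm => by rw [D.p_r]; exact hm.2 w⟩)
  exact (h hn).2 m hm

/-- `m² = b (p m)` -/
theorem Y1_sq {m : G} (hm : m ∈ D.Y1) : m * m = D.b (D.p m) := by
  let K : Subgroup G :=
    { carrier := {n | n ∈ D.Y1 ∧ n * n = D.b (D.p n)}
      one_mem' := ⟨one_mem _, by rw [D.p_one, D.b0, mul_one]⟩
      mul_mem' := by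
        rintro x z ⟨hx, hx1⟩ ⟨hz, hz1⟩
        refine ⟨mul_mem hx hz, ?_⟩
        rw [D.p_mul hx.1 hz.1, ← D.b_mul]
        have h1 : z * x = D.a (D.p z) (D.p x) * x * z := by
          rw [← D.Y1_comm hz hx]; group
        calc x * z * (x * z) = x * (z * x) * z := by group
          _ = x * D.a (D.p z) (D.p x) * (x * (z * z)) := by rw [h1]; group
          _ = D.a (D.p z) (D.p x) * (x * x) * (z * z) := by rw [← D.mem_M.1 hx.1.1 _ (D.aQ _ _)]; group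
          _ = D.a (D.p z) (D.p x) * (D.b (D.p x) * D.b (D.p z)) := by rw [hx1, hz1]; group
          _ = _ := by
            rw [D.a_comm, D.qc (D.aQ _ _) (mul_mem (D.bQ _) (D.bQ _))]
      inv_mem' := by
        rintro x ⟨hx, hx1⟩
        refine ⟨inv_mem hx, ?_⟩
        rw [D.p_inv hx.1, ← mul_inv_rev, hx1, D.q_inv (D.bQ _)] }
  have h : D.Y1 ≤ K := D.Y1_le
    (fun q hq => ⟨D.QY hq, by rw [D.p_q hq, D.b0, D.QQ q hq]⟩)
    (fun w => ⟨D.rY w, by
      rw [D.p_r]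
      unfold r
      have := D.yy 0 w
      rwa [zero_add, D.y0] at this⟩)
  exact (h hm).2

/-- `Z` -/
def Z : Subgroup G where
  carrier := {m | m ∈ D.Y1 ∧ D.p m = 0}
  one_mem' := ⟨one_mem _, D.p_one⟩
  mul_mem' := by
    rintro m n ⟨hm, hm1⟩ ⟨hn, hn1⟩
    exact ⟨mul_mem hm hn, by rw [D.p_mul hm.1 hn.1, hm1, hn1, add_zero]⟩
  inv_mem' := by
    rintro m ⟨hm, hm1⟩
    exact ⟨inv_mem hm, by rw [D.p_inv hm.1, hm1]⟩

theorem mem_Z {m : G} : m ∈ D.Z ↔ m ∈ D.Y1 ∧ D.p m = 0 := Iff.rfl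

theorem QZ {q : G} (hq : q ∈ D.Q) : q ∈ D.Z := ⟨D.QY hq, D.p_q hq⟩

theorem ZZ {z : G} (hz : z ∈ D.Z) : z * z = 1 := by rw [D.Y1_sq hz.1, hz.2, D.b0]

theorem Z_comm {z m : G} (hz : z ∈ D.Z) (hm : m ∈ D.Y1) : z * m = m * z := by
  have h := D.Y1_comm hz.1 hm
  rw [hz.2, D.zero_a, one_mul] at h
  exact mul_inv_eq_iff_eq_mul.1 h

theorem mem_Z_of_sq {m : G} (hm : m ∈ D.Y1) (h : m * m = 1) : m ∈ D.Z := by
  refine ⟨hm, ?_⟩
  rw [D.Y1_sq hm] at h
  by_contra hne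
  exact D.b_ne hne h

theorem t_conj (m : G) : D.t * m * D.t = (D.τ m)⁻¹ * m := by
  unfold τ
  rw [mul_inv_rev, mul_inv_rev, mul_inv_rev, inv_inv, D.t_inv]
  group

theorem t_conj' {m : G} (hm : m ∈ D.O) : D.t * m * D.t = D.τ m * m := by
  rw [D.t_conj, D.q_inv hm.2]

theorem tY {m : G} (hm : m ∈ D.Y1) : D.t * m * D.t ∈ D.Y1 := by
  rw [D.t_conj' hm.1]
  exact mul_mem (D.QY hm.1.2) hm

theorem Y1_or {m : G} (hm : m ∈ D.O) : m ∈ D.Y1 ∨ D.t * m ∈ D.Y1 := by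
  obtain ⟨n, hn, h⟩ := D.τ_surj (P := ⊤) (fun _ => mem_top _) hm.2
  have hn := (mem_inf.1 hn).1
  have h1 : n⁻¹ * m ∈ D.M := mul_mem (inv_mem hn.1.1) hm.1
  have h2 : D.τ (n⁻¹ * m) = 1 := by
    rw [D.τ_mul (inv_mem hn.1.1) hm.2, D.τ_inv hn.1.1 hn.1.2, h, D.QQ _ hm.2]
  rcases D.mem_or_of_τ h1 h2 with h3 | h3
  · left
    have := mul_mem hn (D.QY h3)
    rwa [mul_inv_cancel_left] at this
  · right
    have h4 := mul_mem (D.tY hn) (D.QY h3)
    have h5 : D.t * n * D.t * (D.t * (n⁻¹ * m)) = D.t * n * (D.t * D.t) * n⁻¹ * m := by group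
    rw [h5, D.tt, mul_one] at h4
    have h6 : D.t * n * n⁻¹ * m = D.t * m := by group
    rwa [h6] at h4

/-- involutions of `t Y₁` -/
theorem inv_tY {n : G} (hn : n ∈ D.Y1) (h : (D.t * n) * (D.t * n) = 1) : ∃ q ∈ D.Q, D.t * n = D.y (D.p n) * q := by
  have h1 : D.τ n = D.b (D.p n) := by
    have h2 : (D.t * n) * (D.t * n) = D.τ n * (n * n) := by
      calc (D.t * n) * (D.t * n) = (D.t * n * D.t) * n := by group
        _ = _ := by rw [D.t_conj' hn.1]; group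
    rw [h2, D.Y1_sq hn] at h
    rw [eq_inv_of_mul_eq_one_left h, D.q_inv (D.bQ _)]
  have h3 : (D.r (D.p n))⁻¹ * n ∈ D.Q := by
    apply D.mem_Q_of_τ (mul_mem (inv_mem (D.rY _)) hn)
    rw [D.τ_mul (inv_mem (D.rM _)) hn.1.2, D.τ_inv (D.rM _) (D.rO _).2, D.τ_r, h1, D.b2]
  refine ⟨_, h3, ?_⟩
  unfold r
  rw [mul_inv_rev, D.t_inv, D.y_inv]
  calc D.t * n = (D.y (D.p n) * D.y (D.p n)) * D.t * n := by rw [D.y2, one_mul]
    _ = _ := by group

/-- action of `Y₁` on the `y w` -/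
theorem Y1_y {m : G} (hm : m ∈ D.Y1) (w : F3) : m * D.y w * m⁻¹ = (D.τ m * D.a (D.p m) w) * D.y w := by
  have h1 : D.y w = D.t * D.r w := by unfold r; rw [← mul_assoc, D.tt, one_mul]
  rw [h1]
  calc m * (D.t * D.r w) * m⁻¹ = (m * D.t * m⁻¹) * (m * D.r w * m⁻¹) := by group
    _ = D.τ m * D.t * (D.a (D.p m) w * D.r w) := by rw [D.conj_t, hm.2]; rfl
    _ = D.τ m * (D.t * D.a (D.p m) w) * D.r w := by group
    _ = D.τ m * (D.a (D.p m) w * D.t) * D.r w := by rw [D.Qt (D.aQ _ _)]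
    _ = _ := by group

theorem Y1_y_surj (w : F3) {q : G} (hq : q ∈ D.Q) : ∃ m ∈ D.Y1, m * D.y w * m⁻¹ = D.y w * q := by
  obtain ⟨m, hm, h⟩ := D.τ_surj (P := ⊤) (fun _ => mem_top _) (mul_mem hq (D.aQ (D.π q) w))
  have hm := (mem_inf.1 hm).1
  refine ⟨m, hm, ?_⟩
  have h1 : D.p m = D.π q := by
    change D.π (D.τ m) = _
    rw [h, D.πmul _ hq _ (D.aQ _ _), D.π_a, add_zero]
  rw [D.Y1_y hm, h, h1, mul_assoc q, D.QQ _ (D.aQ _ _), mul_one, D.yQ w q hq]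

section Card

variable [Finite G]

omit [Finite G] in
theorem card_Y1 : Nat.card D.Y1 = 4096 := by
  let f : D.Y1 →* D.Q := MonoidHom.mk' (fun m => ⟨D.τ m, m.2.1.2⟩) (fun m n => Subtype.ext (D.τ_mul m.2.1.1 n.2.1.2))
  have h1 : f.ker = D.Q.subgroupOf D.Y1 := by
    ext m
    rw [MonoidHom.mem_ker, mem_subgroupOf]
    constructor
    · intro h
      exact D.mem_Q_of_τ m.2 (congrArg Subtype.val h)
    · intro h
      exact Subtype.ext (D.τ_q h)
  have h2 : f.range = ⊤ := by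
    rw [MonoidHom.range_eq_top]
    rintro ⟨q, hq⟩
    obtain ⟨n, hn, h⟩ := D.τ_surj (P := ⊤) (fun _ => mem_top _) hq
    exact ⟨⟨n, (mem_inf.1 hn).1⟩, Subtype.ext h⟩
  have h3 : Nat.card f.ker * Nat.card f.range = Nat.card D.Y1 := by
    rw [← index_ker, card_mul_index]
  rw [h1, h2, card_sub_eq (fun q hq => D.QY hq), card_top, D.cardQ] at h3
  exact h3.symm

theorem card_F3 : Nat.card (Multiplicative F3) = 8 := by
  rw [Nat.card_eq_fintype_card]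
  rfl

theorem card_Z : Nat.card D.Z = 512 := by
  let f : D.Y1 →* Multiplicative F3 := MonoidHom.mk' (fun m => Multiplicative.ofAdd (D.p m))
    (fun m n => congrArg Multiplicative.ofAdd (D.p_mul m.2.1 n.2.1))
  have hZY : D.Z ≤ D.Y1 := fun z hz => hz.1
  have h1 : f.ker = D.Z.subgroupOf D.Y1 := by
    ext m
    rw [MonoidHom.mem_ker, mem_subgroupOf]
    constructor
    · intro h
      exact ⟨m.2, Multiplicative.ofAdd.injective h⟩
    · intro h
      exact congrArg Multiplicative.ofAdd h.2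
  have h2 : f.range = ⊤ := by
    rw [MonoidHom.range_eq_top]
    intro w
    exact ⟨⟨D.r (Multiplicative.toAdd w), D.rY _⟩, congrArg Multiplicative.ofAdd (D.p_r _)⟩
  have h3 : Nat.card f.ker * Nat.card f.range = Nat.card D.Y1 := by
    rw [← index_ker, card_mul_index]
  rw [h1, h2, card_sub_eq hZY, card_top, card_F3, D.card_Y1] at h3
  omega

end Card

/-! ### the action of `N_L(Q)` -/

theorem norm_Q {n q : G} (hn : n ∈ normalizer (D.Q : Set G)) (hq : q ∈ D.Q) : n * q * n⁻¹ ∈ D.Q :=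
  (mem_normalizer_iff.1 hn q).1 hq

theorem norm_Q' {n q : G} (hn : n ∈ normalizer (D.Q : Set G)) (hq : q ∈ D.Q) : n⁻¹ * q * n ∈ D.Q :=
  (mem_normalizer_iff''.1 hn q).1 hq

theorem norm_M {n m : G} (hn : n ∈ normalizer (D.Q : Set G)) (hm : m ∈ D.M) : n * m * n⁻¹ ∈ D.M := by
  rw [D.mem_M] at hm ⊢
  intro q hq
  have h := hm _ (D.norm_Q' hn hq)
  calc q * (n * m * n⁻¹) = n * (n⁻¹ * q * n * m) * n⁻¹ := by group
    _ = n * m * n⁻¹ * q := by rw [h]; group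

theorem norm_τ {n : G} (hn : n ∈ D.L) (m : G) : D.τ (n * m * n⁻¹) = n * D.τ m * n⁻¹ := by
  have h1 := D.Lt hn
  have h2 := D.Lt (inv_mem hn)
  unfold τ
  calc n * m * n⁻¹ * D.t * (n * m * n⁻¹)⁻¹ * D.t = n * m * (n⁻¹ * D.t) * n * m⁻¹ * (n⁻¹ * D.t) := by group
    _ = n * m * (D.t * n⁻¹) * n * m⁻¹ * (D.t * n⁻¹) := by rw [h2]
    _ = n * (m * D.t * m⁻¹ * D.t) * n⁻¹ := by group

/-- `n` acts on `W` as `σ` -/
def Acts (n : G) (σ : F3 ≃+ F3) : Prop := n ∈ D.L ∧ n ∈ normalizer (D.Q : Set G) ∧ ∀ w, n * D.b w * n⁻¹ = D.b (σ w)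

theorem acts_π {n : G} {σ : F3 ≃+ F3} (h : D.Acts n σ) {q : G} (hq : q ∈ D.Q) : D.π (n * q * n⁻¹) = σ (D.π q) := by
  let K : Subgroup G :=
    { carrier := {q | q ∈ D.Q ∧ D.π (n * q * n⁻¹) = σ (D.π q)}
      one_mem' := ⟨one_mem _, by
        have : n * 1 * n⁻¹ = 1 := by group
        rw [this, D.π_one, map_zero]⟩
      mul_mem' := by
        rintro x z ⟨hx, hx1⟩ ⟨hz, hz1⟩
        refine ⟨mul_mem hx hz, ?_⟩
        have h1 : n * (x * z) * n⁻¹ = (n * x * n⁻¹) * (n * z * n⁻¹) := by group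
        rw [h1, D.πmul _ (D.norm_Q h.2.1 hx) _ (D.norm_Q h.2.1 hz), hx1, hz1, D.πmul _ hx _ hz, map_add]
      inv_mem' := by
        rintro x ⟨hx, hx1⟩
        rw [D.q_inv hx]
        exact ⟨hx, hx1⟩ }
  have h1 : D.Q ≤ K := D.gen K fun w => ⟨D.bQ w, by rw [h.2.2, D.πb, D.πb]⟩
  exact (h1 hq).2

theorem acts_y {n : G} {σ : F3 ≃+ F3} (h : D.Acts n σ) (w : F3) : ∃ q ∈ D.Q, n * D.y w * n⁻¹ = D.y (σ w) * q := by
  obtain ⟨σ', h1, h2⟩ := D.act n h.1 h.2.1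
  have h3 : ∀ w, σ' w = σ w := by
    intro w
    rw [← D.πb (σ' w), ← D.πb (σ w), ← h1, ← h.2.2]
  obtain ⟨q, hq, h4⟩ := h2 w
  rw [h3] at h4
  exact ⟨q, hq, h4⟩

theorem acts_r {n : G} {σ : F3 ≃+ F3} (h : D.Acts n σ) (w : F3) : ∃ q ∈ D.Q, n * D.r w * n⁻¹ = D.r (σ w) * q := by
  obtain ⟨q, hq, h1⟩ := D.acts_y h w
  refine ⟨q, hq, ?_⟩
  unfold r
  calc n * (D.t * D.y w) * n⁻¹ = (n * D.t) * n⁻¹ * (n * D.y w * n⁻¹) := by group
    _ = (D.t * n) * n⁻¹ * (D.y (σ w) * q) := by rw [D.Lt h.1, h1]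
    _ = D.t * D.y (σ w) * q := by group

theorem exists_acts {n : G} (hn : n ∈ D.L) (hnQ : n ∈ normalizer (D.Q : Set G)) : ∃ σ, D.Acts n σ := by
  obtain ⟨σ, h1, -⟩ := D.act n hn hnQ
  exact ⟨σ, hn, hnQ, h1⟩

theorem acts_Y1 {n : G} {σ : F3 ≃+ F3} (h : D.Acts n σ) {m : G} (hm : m ∈ D.Y1) : n * m * n⁻¹ ∈ D.Y1 := by
  have h1 : D.Y1 ≤ D.Y1.comap (MulAut.conj n).toMonoidHom := by
    apply D.Y1_le
    · intro q hq
      exact D.QY (D.norm_Q h.2.1 hq)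
    · intro w
      obtain ⟨q, hq, h2⟩ := D.acts_r h w
      change n * D.r w * n⁻¹ ∈ D.Y1
      rw [h2]
      exact mul_mem (D.rY _) (D.QY hq)
  exact h1 hm

theorem acts_p {n : G} {σ : F3 ≃+ F3} (h : D.Acts n σ) {m : G} (hm : m ∈ D.O) : D.p (n * m * n⁻¹) = σ (D.p m) := by
  unfold p
  rw [D.norm_τ h.1, D.acts_π h hm.2]

theorem norm_Y1 [Finite G] {n : G} (hn : n ∈ D.L) (hnQ : n ∈ normalizer (D.Q : Set G)) :
    n ∈ normalizer (D.Y1 : Set G) := by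
  obtain ⟨σ, h⟩ := D.exists_acts hn hnQ
  rw [mem_normalizer_iff]
  exact conj_mem_iff_of_le fun m hm => D.acts_Y1 h hm

/-- an involution of `N_L(Q)` acting as a given involution on `W` -/
theorem exists_inv (σ : F3 ≃+ F3) (hσ : ∀ w, σ (σ w) = w) : ∃ n, D.Acts n σ ∧ n * n = 1 := by
  obtain ⟨n, hn, hnQ, h⟩ := D.wit σ
  have h1 : n * n ∈ D.Q := by
    apply D.CQ _ (mul_mem hn hn)
    let K : Subgroup G := centralizer ({n * n} : Set G)
    have h2 : D.Q ≤ K := D.gen K fun w => by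
      rw [mem_centralizer_singleton_iff]
      have h3 : n * n * D.b w * (n * n)⁻¹ = D.b w := by
        calc n * n * D.b w * (n * n)⁻¹ = n * (n * D.b w * n⁻¹) * n⁻¹ := by group
          _ = D.b w := by rw [h, h, hσ]
      exact (mul_inv_eq_iff_eq_mul.1 h3).symm
    intro q hq
    exact (mem_centralizer_singleton_iff.1 (h2 hq)).symm
  obtain ⟨q, hq, h2⟩ := D.lift n hn hnQ h1
  refine ⟨n * q, ⟨mul_mem hn (D.QL hq), mul_mem hnQ (le_normalizer hq), fun w => ?_⟩, h2⟩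
  rw [← h]
  calc n * q * D.b w * (n * q)⁻¹ = n * (q * D.b w) * q⁻¹ * n⁻¹ := by group
    _ = n * (D.b w * q) * q⁻¹ * n⁻¹ := by rw [D.qc hq (D.bQ w)]
    _ = n * D.b w * n⁻¹ := by group

/-- a subgroup of index at most two contains the quotient of two elements outside -/
theorem mem_of_index {R M : Subgroup G} [Finite G] (hM : M ≤ R) (h : Nat.card R ≤ 2 * Nat.card M) {x z : G}
    (hx : x ∈ R) (hz : z ∈ R) (hxM : x ∉ M) (hzM : z ∉ M) : x⁻¹ * z ∈ M := by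
  by_contra hcon
  have h1 : Nat.card (M × Fin 3) ≤ Nat.card R := by
    refine Nat.card_le_card_of_injective
      (fun q : M × Fin 3 => (⟨(![1, x, z] q.2) * (q.1 : G), ?_⟩ : R)) ?_
    · apply mul_mem _ (hM q.1.2)
      rcases q with ⟨-, i⟩
      fin_cases i
      · exact one_mem _
      · exact hx
      · exact hz
    · rintro ⟨u, i⟩ ⟨v, j⟩ h2
      have h3 : (![1, x, z] i) * (u : G) = (![1, x, z] j) * (v : G) := congrArg (Subtype.val : R → G) h2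
      have key : ∀ g h : G, ∀ u v : M, g * (u : G) = h * v → g⁻¹ * h ∈ M := by
        intro g h u v he
        have : g⁻¹ * h = u * (v : G)⁻¹ := by
          rw [eq_mul_inv_iff_mul_eq, mul_assoc, ← he, inv_mul_cancel_left]
        rw [this]
        exact mul_mem u.2 (inv_mem v.2)
      have h4 := key _ _ _ _ h3
      have h5 := key _ _ _ _ h3.symm
      have hij : i = j := by
        fin_cases i <;> fin_cases j
        · rfl
        · exfalso; apply hxM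
          simpa using h4
        · exfalso; apply hzM
          simpa using h4
        · exfalso; apply hxM
          simpa using h5
        · rfl
        · exfalso; apply hcon
          simpa using h4
        · exfalso; apply hzM
          simpa using h5
        · exfalso; apply hcon
          simpa using h5
        · rfl
      subst hij
      have h6 := mul_left_cancel h3
      rw [Subtype.ext h6]
  rw [Nat.card_prod] at h1
  have h2 : Nat.card (Fin 3) = 3 := by simp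
  rw [h2] at h1
  have h3 : 0 < Nat.card M := Nat.card_pos
  omega

/-- **Case I** is impossible -/
theorem false_of_I [Finite G] (hy : ∀ w, w ≠ 0 → ∀ g, D.y w ≠ g * D.t * g⁻¹) : False := by
  let R : RData G :=
    { toCore := D.toCore
      Z := D.Z
      R := D.Y1
      QZ := fun q hq => D.QZ hq
      ZR := fun z hz => hz.1
      ZZ := fun z hz => D.ZZ hz
      cardZ := D.card_Z
      Zc := fun z hz m hm => D.Z_comm hz hm
      tR := fun m hm => D.tY hm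
      NR := fun n hn hnQ => D.norm_Y1 hn hnQ
      RQ := fun m hm h => by
        apply D.mem_Q_of_τ hm
        unfold τ
        rw [h, mul_inv_cancel_right, D.tt]
      conjR := by
        rintro n hn ⟨g, hg⟩
        obtain ⟨q, hq, h1⟩ := D.inv_tY hn (by rw [hg]; exact D.conj_inv_t g)
        obtain ⟨m, hm, h2⟩ := D.Y1_y_surj (D.p n) hq
        by_cases h0 : D.p n = 0
        · refine ⟨m, hm, ?_⟩
          rw [h1, ← h2, h0, D.y0]
        · exfalso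
          apply hy _ h0 (m⁻¹ * g)
          have h3 : m⁻¹ * g * D.t * (m⁻¹ * g)⁻¹ = m⁻¹ * (g * D.t * g⁻¹) * m := by group
          rw [h3, ← hg, h1, ← h2]
          group
      cen2 := by
        intro e he M hM hc hcom
        refine ⟨he, ?_⟩
        by_contra hp
        -- an element of `M` with `p ∉ {0, p e}`
        have h1 : ∀ m ∈ M, D.p m = 0 ∨ D.p m = D.p e := by
          intro m hm
          have h2 := D.Y1_comm he (hM hm)
          rw [hcom m hm, mul_inv_cancel_right] at h2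
          have h3 := mul_eq_right.1 h2.symm
          rcases D.a_eq_one h3 with h4 | h4 | h4
          · exact absurd h4 hp
          · exact Or.inl h4
          · exact Or.inr h4.symm
        have h2 : ∀ p : F3, p ≠ 0 → ∃ v w : F3, v ≠ 0 ∧ v ≠ p ∧ w ≠ 0 ∧ w ≠ p ∧ v + w ≠ 0 ∧ v + w ≠ p := by decide
        obtain ⟨v, w, h3, h4, h5, h6, h7, h8⟩ := h2 _ hp
        have hv : D.r v ∉ M := fun h => by
          have := h1 _ h
          rw [D.p_r] at this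
          tauto
        have hw : D.r w ∉ M := fun h => by
          have := h1 _ h
          rw [D.p_r] at this
          tauto
        have h9 := h1 _ (mem_of_index hM hc (D.rY v) (D.rY w) hv hw)
        rw [D.p_mul (inv_mem (D.rO v)) (D.rO w), D.p_inv (D.rO v), D.p_r, D.p_r] at h9
        tauto
      sqR := fun m hm => by rw [D.Y1_sq hm]; exact D.QZ (D.bQ _)
      size := Or.inr ⟨by rw [D.card_Y1]; norm_num, fun m hm h => D.mem_Z_of_sq hm h⟩ }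
  obtain ⟨n, hn, hnn⟩ := D.exists_inv (tv (1, 0, 0) (0, 1, 0) (by decide)) (by
    intro w
    rw [tv_apply, tv_apply]
    revert w
    decide)
  refine R.false_of_triv ?_ hn.1 hn.2.1 hnn (D.rY (1, 0, 0)) ?_
  · intro m hm
    change D.t * m * D.t * m⁻¹ ∈ D.Z
    rw [D.t_conj' hm.1, mul_inv_cancel_right]
    exact D.QZ hm.1.2
  · intro h
    have h1 := h.2
    rw [D.p_mul (D.acts_Y1 hn (D.rY _)).1 (inv_mem (D.rO _)), D.acts_p hn (D.rO _), D.p_inv (D.rO _), D.p_r,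
      tv_apply] at h1
    revert h1
    decide

end WData

end Cfsg.Agent.StdSpSix.Eps
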