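import Mathlib

/-!
# The extraspecial group of order 32 of plus type, as a model

`(i,j,k,l,m)` stands for `t ^ i * w ^ j * a ^ k * b ^ l * z ^ m`, with `w t = t w z`, `b a = a b z`.
-/

set_option autoImplicit false

namespace Cfsg.Agent.StdSpSix.ModelES

/-- The model. -/
@[ext]
structure ES where
  i : ZMod 2
  j : ZMod 2
  k : ZMod 2
  l : ZMod 2
  m : ZMod 2
deriving DecidableEq

namespace ES

instance : Mul ES := ⟨fun u v => ⟨u.i + v.i, u.j + v.j, u.k + v.k, u.l + v.l,
  u.m + v.m + u.j * v.i + u.l * v.k⟩⟩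

instance : One ES := ⟨⟨0, 0, 0, 0, 0⟩⟩

instance : Inv ES := ⟨fun v => ⟨v.i, v.j, v.k, v.l, v.m + v.j * v.i + v.l * v.k⟩⟩

@[simp] theorem mul_i (u v : ES) : (u * v).i = u.i + v.i := rfl
@[simp] theorem mul_j (u v : ES) : (u * v).j = u.j + v.j := rfl
@[simp] theorem mul_k (u v : ES) : (u * v).k = u.k + v.k := rfl
@[simp] theorem mul_l (u v : ES) : (u * v).l = u.l + v.l := rfl
@[simp] theorem mul_m (u v : ES) : (u * v).m = u.m + v.m + u.j * v.i + u.l * v.k := rfl
@[simp] theorem one_i : (1 : ES).i = 0 := rfl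
@[simp] theorem one_j : (1 : ES).j = 0 := rfl
@[simp] theorem one_k : (1 : ES).k = 0 := rfl
@[simp] theorem one_l : (1 : ES).l = 0 := rfl
@[simp] theorem one_m : (1 : ES).m = 0 := rfl
@[simp] theorem inv_i (v : ES) : (v⁻¹).i = v.i := rfl
@[simp] theorem inv_j (v : ES) : (v⁻¹).j = v.j := rfl
@[simp] theorem inv_k (v : ES) : (v⁻¹).k = v.k := rfl
@[simp] theorem inv_l (v : ES) : (v⁻¹).l = v.l := rfl
@[simp] theorem inv_m (v : ES) : (v⁻¹).m = v.m + v.j * v.i + v.l * v.k := rfl

instance : Group ES where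
  mul_assoc u v w := by ext <;> simp <;> ring
  one_mul u := by ext <;> simp
  mul_one u := by ext <;> simp
  inv_mul_cancel u := by
    ext
    · simp [CharTwo.add_self_eq_zero]
    · simp [CharTwo.add_self_eq_zero]
    · simp [CharTwo.add_self_eq_zero]
    · simp [CharTwo.add_self_eq_zero]
    · simp only [mul_m, inv_m, inv_j, inv_l, one_m]
      have h : u.m + u.j * u.i + u.l * u.k + u.m + u.j * u.i + u.l * u.k =
        (u.m + u.j * u.i + u.l * u.k) + (u.m + u.j * u.i + u.l * u.k) := by ring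
      rw [h, CharTwo.add_self_eq_zero]

/-- coordinates -/
def equivProd : ES ≃ ZMod 2 × ZMod 2 × ZMod 2 × ZMod 2 × ZMod 2 where
  toFun v := (v.i, v.j, v.k, v.l, v.m)
  invFun p := ⟨p.1, p.2.1, p.2.2.1, p.2.2.2.1, p.2.2.2.2⟩
  left_inv _ := rfl
  right_inv _ := rfl

instance : Fintype ES := Fintype.ofEquiv _ equivProd.symm

theorem card : Nat.card ES = 32 := by
  rw [Nat.card_congr equivProd]
  simp

end ES

/-- The sign of a bit. -/
def sgn (x : ZMod 2) : ℤˣ := if x = 0 then 1 else -1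

theorem sgn_add : ∀ x y : ZMod 2, sgn (x + y) = sgn x * sgn y := by decide

theorem sgn_eq : ∀ x : ZMod 2, sgn x = -1 ↔ x = 1 := by decide

/-- The sign of the model: `(-1) ^ i * nu ^ j`. -/
def lam (e : ZMod 2) : ES →* ℤˣ where
  toFun v := sgn (v.i + e * v.j)
  map_one' := by simp [sgn]
  map_mul' u v := by
    rw [← sgn_add]
    congr 1
    simp only [ES.mul_i, ES.mul_j]
    ring

theorem lam_eq (e : ZMod 2) (v : ES) : lam e v = -1 ↔ v.i + e * v.j = 1 := sgn_eq _

section Map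

variable {X : Type*} [Group X]

/-- Power of an involution. -/
def pw (x : X) (i : ZMod 2) : X := if i = 0 then 1 else x

@[simp] theorem pw_zero (x : X) : pw x 0 = 1 := rfl
@[simp] theorem pw_one (x : X) : pw x 1 = x := rfl

theorem cases2 : ∀ i : ZMod 2, i = 0 ∨ i = 1 := by decide

theorem pw_add {x : X} (hx : x * x = 1) (i j : ZMod 2) : pw x (i + j) = pw x i * pw x j := by
  rcases cases2 i with rfl | rfl <;> rcases cases2 j with rfl | rfl
  · simp
  · simp
  · simp
  · rw [CharTwo.add_self_eq_zero]; simp [hx]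

theorem pw_comm {x y : X} (h : x * y = y * x) (i j : ZMod 2) : pw x i * pw y j = pw y j * pw x i := by
  rcases cases2 i with rfl | rfl <;> rcases cases2 j with rfl | rfl <;> simp [h]

theorem pw_twist {x y z : X} (h : y * x = x * y * z) (i j : ZMod 2) :
    pw y j * pw x i = pw x i * pw y j * pw z (j * i) := by
  rcases cases2 i with rfl | rfl <;> rcases cases2 j with rfl | rfl <;> simp [h]

/-- Relations for the model. -/
structure Rel (t w a b z : X) : Prop where
  tt : t * t = 1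
  ww : w * w = 1
  aa : a * a = 1
  bb : b * b = 1
  zz : z * z = 1
  wt : w * t = t * w * z
  ba : b * a = a * b * z
  ta : t * a = a * t
  tb : t * b = b * t
  tz : t * z = z * t
  wa : w * a = a * w
  wb : w * b = b * w
  wz : w * z = z * w
  az : a * z = z * a
  bz : b * z = z * b

variable {t w a b z : X}

/-- The map of the model. -/
def mapFun (t w a b z : X) (v : ES) : X := pw t v.i * pw w v.j * (pw a v.k * pw b v.l) * pw z v.m

theorem swap3 {x y : X} (h : x * y = y * x) (q : X) : x * (y * q) = y * (x * q) := by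
  rw [← mul_assoc, h, mul_assoc]

theorem swap4 {x y r : X} (h : x * y = y * x * r) (q : X) : x * (y * q) = y * (x * (r * q)) := by
  rw [← mul_assoc, h, mul_assoc, mul_assoc]

theorem reorder {T1 T2 W1 W2 A1 A2 B1 B2 Z1 Z2 R S : X} (h1 : W1 * T2 = T2 * W1 * R)
    (h2 : B1 * A2 = A2 * B1 * S)
    (hZ : ∀ x, x = T2 ∨ x = W2 ∨ x = A2 ∨ x = B2 → Z1 * x = x * Z1)
    (hR : ∀ x, x = W2 ∨ x = A1 ∨ x = A2 ∨ x = B1 ∨ x = B2 ∨ x = Z1 ∨ x = Z2 → R * x = x * R)
    (hS : ∀ x, x = B2 ∨ x = Z1 ∨ x = Z2 ∨ x = R → S * x = x * S)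
    (hA : ∀ x, x = T2 ∨ x = W2 → A1 * x = x * A1)
    (hB : ∀ x, x = T2 ∨ x = W2 → B1 * x = x * B1) :
    T1 * T2 * (W1 * W2) * ((A1 * A2) * (B1 * B2)) * (Z1 * Z2 * R * S) =
      T1 * W1 * (A1 * B1) * Z1 * (T2 * W2 * (A2 * B2) * Z2) := by
  have e1 : Z1 * (T2 * W2 * (A2 * B2) * Z2) = (T2 * W2 * (A2 * B2)) * (Z1 * Z2) := by
    have a1 := hZ T2 (by simp)
    have a2 := hZ W2 (by simp)
    have a3 := hZ A2 (by simp)
    have a4 := hZ B2 (by simp)
    simp only [mul_assoc]
    rw [swap3 a1, swap3 a2, swap3 a3, swap3 a4]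
  have e2 : (A1 * B1) * (T2 * W2) = (T2 * W2) * (A1 * B1) := by
    have a1 := hA T2 (by simp)
    have a2 := hA W2 (by simp)
    have a3 := hB T2 (by simp)
    have a4 := hB W2 (by simp)
    simp only [mul_assoc]
    rw [swap3 a3, a4, swap3 a1, swap3 a2]
  have e3 : T1 * W1 * (T2 * W2) = T1 * T2 * (W1 * W2) * R := by
    have a1 := hR W2 (by simp)
    simp only [mul_assoc]
    rw [swap4 h1, a1]
  have e4 : A1 * B1 * (A2 * B2) = A1 * A2 * (B1 * B2) * S := by
    have a1 := hS B2 (by simp)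
    simp only [mul_assoc]
    rw [swap4 h2, a1]
  have e5 : R * (A1 * A2 * (B1 * B2) * (Z1 * Z2)) = (A1 * A2 * (B1 * B2) * (Z1 * Z2)) * R := by
    have a1 := hR A1 (by simp)
    have a2 := hR A2 (by simp)
    have a3 := hR B1 (by simp)
    have a4 := hR B2 (by simp)
    have a5 := hR Z1 (by simp)
    have a6 := hR Z2 (by simp)
    simp only [mul_assoc]
    rw [swap3 a1, swap3 a2, swap3 a3, swap3 a4, swap3 a5, a6]
  have e6 : S * (Z1 * Z2) = (Z1 * Z2) * S := by
    have a1 := hS Z1 (by simp)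
    have a2 := hS Z2 (by simp)
    simp only [mul_assoc]
    rw [swap3 a1, a2]
  have e7 : S * R = R * S := hS R (by simp)
  symm
  calc T1 * W1 * (A1 * B1) * Z1 * (T2 * W2 * (A2 * B2) * Z2)
      = T1 * W1 * (A1 * B1) * (Z1 * (T2 * W2 * (A2 * B2) * Z2)) := by simp only [mul_assoc]
    _ = T1 * W1 * ((A1 * B1) * (T2 * W2)) * (A2 * B2) * (Z1 * Z2) := by
        rw [e1]; simp only [mul_assoc]
    _ = T1 * W1 * (T2 * W2) * (A1 * B1 * (A2 * B2)) * (Z1 * Z2) := by
        rw [e2]; simp only [mul_assoc]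
    _ = T1 * T2 * (W1 * W2) * R * (A1 * A2 * (B1 * B2)) * (S * (Z1 * Z2)) := by
        rw [e3, e4]; simp only [mul_assoc]
    _ = T1 * T2 * (W1 * W2) * (R * (A1 * A2 * (B1 * B2) * (Z1 * Z2))) * S := by
        rw [e6]; simp only [mul_assoc]
    _ = T1 * T2 * (W1 * W2) * ((A1 * A2) * (B1 * B2)) * (Z1 * Z2 * R * S) := by
        rw [e5]; simp only [mul_assoc]

theorem mapFun_mul (R : Rel t w a b z) (u v : ES) :
    mapFun t w a b z (u * v) = mapFun t w a b z u * mapFun t w a b z v := by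
  unfold mapFun
  simp only [ES.mul_i, ES.mul_j, ES.mul_k, ES.mul_l, ES.mul_m]
  rw [pw_add R.tt, pw_add R.ww, pw_add R.aa, pw_add R.bb, pw_add R.zz, pw_add R.zz, pw_add R.zz]
  apply reorder (pw_twist R.wt v.i u.j) (pw_twist R.ba v.k u.l)
  · rintro x (rfl | rfl | rfl | rfl)
    · exact pw_comm R.tz.symm _ _
    · exact pw_comm R.wz.symm _ _
    · exact pw_comm R.az.symm _ _
    · exact pw_comm R.bz.symm _ _
  · rintro x (rfl | rfl | rfl | rfl | rfl | rfl | rfl)
    · exact pw_comm R.wz.symm _ _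
    · exact pw_comm R.az.symm _ _
    · exact pw_comm R.az.symm _ _
    · exact pw_comm R.bz.symm _ _
    · exact pw_comm R.bz.symm _ _
    · exact pw_comm rfl _ _
    · exact pw_comm rfl _ _
  · rintro x (rfl | rfl | rfl | rfl)
    · exact pw_comm R.bz.symm _ _
    · exact pw_comm rfl _ _
    · exact pw_comm rfl _ _
    · exact pw_comm rfl _ _
  · rintro x (rfl | rfl)
    · exact pw_comm R.ta.symm _ _
    · exact pw_comm R.wa.symm _ _
  · rintro x (rfl | rfl)
    · exact pw_comm R.tb.symm _ _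
    · exact pw_comm R.wb.symm _ _

/-- The homomorphism of the model. -/
def map (R : Rel t w a b z) : ES →* X where
  toFun := mapFun t w a b z
  map_one' := by simp [mapFun]
  map_mul' := mapFun_mul R

theorem map_apply (R : Rel t w a b z) (v : ES) :
    map R v = pw t v.i * pw w v.j * (pw a v.k * pw b v.l) * pw z v.m := rfl

end Map

end Cfsg.Agent.StdSpSix.ModelES
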