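import Cfsg.Agent.StdSpSix.TRCount
import Cfsg.Agent.StdSpSix.ModelES

/-!
# LEMMA L32: centralizer of an involution `⟨t⟩ × L3(2)`, `D ∩ C(t) = {t} ∪ t I(L3(2))`

`X` finite, `t` an involution, `Y` commutes with `t`, `C_X(t) = ⟨t⟩ Y`, `Y` has the 2-local facts of
`L3(2)`, all `t y`, `y² = 1`, are conjugate to `t` and no element of `Y` is.  Then there is a
homomorphism `X → {1,-1}` with value `-1` at `t`.
-/

set_option autoImplicit false

namespace Cfsg.Agent.StdSpSix.LThree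

open Subgroup Cfsg.Agent.StdSpSix.ModelES Cfsg.Agent.StdSpSix.TRCount

variable {X : Type*} [Group X]

/-- The 2-local facts of `L3(2)`: `a`, `b` noncentral involutions of a Sylow 2-group
`D8 = ⟨a, b⟩`, `z = abab`. -/
structure Facts (Y : Subgroup X) (a b z : X) : Prop where
  ha : a ∈ Y
  hb : b ∈ Y
  aa : a * a = 1
  bb : b * b = 1
  hz : a * b * a * b = z
  z1 : z ≠ 1
  zz : z * z = 1
  card : ∃ m, Odd m ∧ Nat.card Y = 8 * m
  cen : ∀ y ∈ Y, y * a = a * y → y * z = z * y → y = 1 ∨ y = a ∨ y = z ∨ y = a * z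
  rot : ∀ u ∈ Y, ∀ v ∈ Y, u * u = 1 → v * v = 1 → u ≠ 1 → v ≠ 1 → u ≠ v → u * v = v * u →
    ∃ y ∈ Y, y * u * y⁻¹ = v ∧ y * v * y⁻¹ = u * v

/-- `C_X(t) = ⟨t⟩ Y`, with pattern ALL. -/
structure Cent (t : X) (Y : Subgroup X) : Prop where
  tt : t * t = 1
  comm : ∀ y ∈ Y, t * y = y * t
  cent : ∀ g, g * t = t * g → g ∈ Y ∨ t * g ∈ Y
  hD1 : ∀ y ∈ Y, y * y = 1 → IsConj t (t * y)
  hD0 : ∀ y ∈ Y, ¬ IsConj t y

namespace Cent

variable {t : X} {Y : Subgroup X}

theorem t_not_mem (C : Cent t Y) : t ∉ Y := fun h => C.hD0 t h (IsConj.refl t)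

theorem t_ne (C : Cent t Y) : t ≠ 1 := fun h => C.t_not_mem (h ▸ Y.one_mem)

theorem conj_sq (C : Cent t Y) {d : X} (h : IsConj t d) : d * d = 1 := by
  obtain ⟨g, rfl⟩ := isConj_iff.1 h
  calc g * t * g⁻¹ * (g * t * g⁻¹) = g * (t * t) * g⁻¹ := by group
    _ = 1 := by rw [C.tt]; group

/-- Conjugation of commuting elements. -/
theorem comm_conj {g x y : X} (h : x * y = y * x) :
    (g * x * g⁻¹) * (g * y * g⁻¹) = (g * y * g⁻¹) * (g * x * g⁻¹) := by
  calc (g * x * g⁻¹) * (g * y * g⁻¹) = g * (x * y) * g⁻¹ := by group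
    _ = (g * y * g⁻¹) * (g * x * g⁻¹) := by rw [h]; group

theorem isConj_conj {g x y : X} (h : IsConj x y) : IsConj x (g * y * g⁻¹) :=
  h.trans (isConj_iff.2 ⟨g, rfl⟩)

theorem isConj_of_conj {g x y : X} (h : IsConj x (g * y * g⁻¹)) : IsConj x y :=
  h.trans (isConj_iff.2 ⟨g⁻¹, by group⟩)

/-- Commuting distinct conjugates of `t` have product not conjugate to `t`. -/
theorem mul_not (C : Cent t Y) {c d : X} (hc : IsConj t c) (hd : IsConj t d) (h : c * d = d * c) :
    ¬ IsConj t (c * d) := by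
  obtain ⟨g, hg⟩ := isConj_iff.1 hc.symm
  have h1 := comm_conj (g := g) h
  have h2 := isConj_conj (g := g) hd
  intro h3
  have h4 := isConj_conj (g := g) h3
  have h5 : g * (c * d) * g⁻¹ = (g * c * g⁻¹) * (g * d * g⁻¹) := by group
  rw [h5] at h4
  rw [hg] at h1 h4
  rcases C.cent _ h1.symm with h6 | h6
  · exact C.hD0 _ h6 h2
  · exact C.hD0 _ h6 h4

/-- The product of a conjugate of `t` and a commuting involution which is not conjugate to `t`. -/
theorem mul_of (C : Cent t Y) {c x : X} (hc : IsConj t c) (hx : x * x = 1) (hxt : ¬ IsConj t x)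
    (h : c * x = x * c) : IsConj t (c * x) := by
  obtain ⟨g, hg⟩ := isConj_iff.1 hc.symm
  have h1 := comm_conj (g := g) h
  rw [hg] at h1
  have hx' : (g * x * g⁻¹) * (g * x * g⁻¹) = 1 := by
    calc (g * x * g⁻¹) * (g * x * g⁻¹) = g * (x * x) * g⁻¹ := by group
      _ = 1 := by rw [hx]; group
  have h5 : g * (c * x) * g⁻¹ = t * (g * x * g⁻¹) := by rw [← hg]; group
  apply isConj_of_conj (g := g)
  rw [h5]
  rcases C.cent _ h1.symm with h6 | h6
  · exact C.hD1 _ h6 hx'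
  · exfalso
    have h7 : (t * (g * x * g⁻¹)) * (t * (g * x * g⁻¹)) = 1 := by
      calc (t * (g * x * g⁻¹)) * (t * (g * x * g⁻¹)) = t * ((g * x * g⁻¹) * t) * (g * x * g⁻¹) := by group
        _ = (t * t) * ((g * x * g⁻¹) * (g * x * g⁻¹)) := by rw [← h1]; group
        _ = 1 := by rw [hx', C.tt, one_mul]
    have h8 := C.hD1 _ h6 h7
    rw [← mul_assoc, C.tt, one_mul] at h8
    exact hxt (isConj_of_conj h8)

end Cent

variable {t : X} {Y : Subgroup X} {a b z : X}

namespace Facts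

theorem zmem (F : Facts Y a b z) : z ∈ Y := by
  rw [← F.hz]
  exact Y.mul_mem (Y.mul_mem (Y.mul_mem F.ha F.hb) F.ha) F.hb

theorem az (F : Facts Y a b z) : a * z = z * a := by
  have h1 : z * (b * a * b * a) = 1 := by
    rw [← F.hz]
    calc a * b * a * b * (b * a * b * a) = a * b * a * (b * b) * a * b * a := by group
      _ = a * b * (a * a) * b * a := by rw [F.bb]; group
      _ = a * (b * b) * a := by rw [F.aa]; group
      _ = 1 := by rw [F.bb, mul_one, F.aa]
  have h2 : b * a * b * a = z := by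
    have h3 : z * (b * a * b * a) = z * z := by rw [h1, F.zz]
    exact mul_left_cancel h3
  calc a * z = a * (b * a * b * a) := by rw [h2]
    _ = (a * b * a * b) * a := by group
    _ = z * a := by rw [F.hz]

theorem baba (F : Facts Y a b z) : b * a * b * a = z := by
  have h : a * (b * a * b * a) = a * z := by
    rw [F.az, ← F.hz]; group
  exact mul_left_cancel h

theorem bz (F : Facts Y a b z) : b * z = z * b := by
  calc b * z = b * (a * b * a * b) := by rw [F.hz]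
    _ = (b * a * b * a) * b := by group
    _ = z * b := by rw [F.baba]

theorem ba (F : Facts Y a b z) : b * a = a * b * z := by
  have h : b * a = (b * a * b * a) * (a * b) := by
    calc b * a = b * a * 1 := by rw [mul_one]
      _ = b * a * b * (a * a) * b := by rw [F.aa]; rw [mul_one, mul_one, mul_assoc, mul_assoc, F.bb, mul_one]
      _ = (b * a * b * a) * (a * b) := by group
  rw [h, F.baba, ← mul_assoc, ← F.az, mul_assoc, ← F.bz, mul_assoc]

theorem a1 (F : Facts Y a b z) : a ≠ 1 := by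
  intro h
  apply F.z1
  rw [← F.hz, h, one_mul, mul_one, F.bb]

theorem b1 (F : Facts Y a b z) : b ≠ 1 := by
  intro h
  apply F.z1
  rw [← F.hz, h, mul_one, mul_one, F.aa]

theorem nab (F : Facts Y a b z) : a * b ≠ b * a := by
  intro h
  apply F.z1
  calc z = a * (b * a) * b := by rw [← F.hz]; group
    _ = (a * a) * (b * b) := by rw [← h]; group
    _ = 1 := by rw [F.aa, F.bb, mul_one]

theorem az1 (F : Facts Y a b z) : a ≠ z := by
  intro h
  have h1 := F.bz
  rw [← h] at h1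
  exact F.nab h1.symm

end Facts

/-- Step A: an element `h` with `t ^ h = t z`, centralising `z` and `a`. -/
theorem stepA (C : Cent t Y) (F : Facts Y a b z) :
    ∃ h : X, h * t * h⁻¹ = t * z ∧ h * z = z * h ∧ h * a = a * h := by
  have hzm := F.zmem
  obtain ⟨g, hg⟩ := isConj_iff.1 (C.hD1 z hzm F.zz)
  -- elements of `⟨a, z⟩` lie in `g Y g⁻¹`
  have key : ∀ x ∈ Y, x * z = z * x → x * x = 1 → g⁻¹ * x * g ∈ Y := by
    intro x hx hxz hxx
    have h1 : (g⁻¹ * x * g) * t = t * (g⁻¹ * x * g) := by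
      have h2 : x * (t * z) = (t * z) * x := by
        rw [← mul_assoc, ← C.comm x hx, mul_assoc, hxz, mul_assoc]
      calc (g⁻¹ * x * g) * t = g⁻¹ * (x * (g * t * g⁻¹)) * g := by group
        _ = g⁻¹ * ((t * z) * x) * g := by rw [hg, h2]
        _ = t * (g⁻¹ * x * g) := by rw [← hg]; group
    rcases C.cent _ h1 with h2 | h2
    · exact h2
    · exfalso
      have h3 : t * (g⁻¹ * x * g) = g⁻¹ * (t * (z * x)) * g⁻¹⁻¹ := by
        rw [← mul_assoc t z x, ← hg]; group
      rw [h3] at h2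
      refine C.hD0 _ h2 (Cent.isConj_conj (C.hD1 _ (Y.mul_mem hzm hx) ?_))
      calc z * x * (z * x) = z * (x * z) * x := by group
        _ = (z * z) * (x * x) := by rw [hxz]; group
        _ = 1 := by rw [F.zz, hxx, one_mul]
  have hu := key z hzm rfl F.zz
  have hv := key a F.ha F.az F.aa
  have csq : ∀ x : X, x * x = 1 → (g⁻¹ * x * g) * (g⁻¹ * x * g) = 1 := by
    intro x hx
    calc (g⁻¹ * x * g) * (g⁻¹ * x * g) = g⁻¹ * (x * x) * g := by group
      _ = 1 := by rw [hx]; group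
  have cne : ∀ x : X, x ≠ 1 → g⁻¹ * x * g ≠ 1 := by
    intro x hx h
    apply hx
    calc x = g * (g⁻¹ * x * g) * g⁻¹ := by group
      _ = 1 := by rw [h]; group
  obtain ⟨y, hy, hy1, hy2⟩ := F.rot _ hu _ hv (csq z F.zz) (csq a F.aa) (cne z F.z1) (cne a F.a1)
    (by
      intro h
      apply F.az1
      calc a = g * (g⁻¹ * a * g) * g⁻¹ := by group
        _ = z := by rw [← h]; group)
    (by
      calc g⁻¹ * z * g * (g⁻¹ * a * g) = g⁻¹ * (z * a) * g := by group
        _ = g⁻¹ * a * g * (g⁻¹ * z * g) := by rw [← F.az]; group)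
  obtain ⟨r, hr, hr1, hr2⟩ := F.rot z hzm a F.ha F.zz F.aa F.z1 F.a1 F.az1.symm F.az.symm
  -- `c = g y g⁻¹`
  have c1 : (g * y * g⁻¹) * z * (g * y * g⁻¹)⁻¹ = a := by
    calc (g * y * g⁻¹) * z * (g * y * g⁻¹)⁻¹ = g * (y * (g⁻¹ * z * g) * y⁻¹) * g⁻¹ := by group
      _ = a := by rw [hy1]; group
  have c2 : (g * y * g⁻¹) * a * (g * y * g⁻¹)⁻¹ = z * a := by
    calc (g * y * g⁻¹) * a * (g * y * g⁻¹)⁻¹ = g * (y * (g⁻¹ * a * g) * y⁻¹) * g⁻¹ := by group
      _ = z * a := by rw [hy2]; group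
  have c3 : (g * y * g⁻¹) * (t * z) * (g * y * g⁻¹)⁻¹ = t * z := by
    calc (g * y * g⁻¹) * (t * z) * (g * y * g⁻¹)⁻¹ = g * (y * (g⁻¹ * (t * z) * g) * y⁻¹) * g⁻¹ := by group
      _ = g * (y * t * y⁻¹) * g⁻¹ := by rw [← hg]; group
      _ = g * t * g⁻¹ := by rw [← C.comm y hy]; group
      _ = t * z := hg
  set c := g * y * g⁻¹ with hc
  have c4 : c * t * c⁻¹ = t * z * a := by
    have : c * t * c⁻¹ = (c * (t * z) * c⁻¹) * (c * z * c⁻¹)⁻¹ := by group
    rw [this, c3, c1, inv_eq_of_mul_eq_one_left F.aa]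
  -- `h₁ = r⁻¹ c`
  have r1 : r⁻¹ * a * r = z := by rw [← hr1]; group
  have r2 : r⁻¹ * (z * a) * r = a := by rw [← hr2]; group
  have r3 : r⁻¹ * z * r = z * a := by
    have h1 : r⁻¹ * z * r = (r⁻¹ * (z * a) * r) * (r⁻¹ * a * r)⁻¹ := by group
    rw [h1, r1, r2, inv_eq_of_mul_eq_one_left F.zz, F.az]
  have r4 : ∀ x, r⁻¹ * (t * x) * r = t * (r⁻¹ * x * r) := by
    intro x
    have h1 : r⁻¹ * t = t * r⁻¹ := (C.comm r⁻¹ (Y.inv_mem hr)).symm
    calc r⁻¹ * (t * x) * r = (r⁻¹ * t) * x * r := by group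
      _ = t * (r⁻¹ * x * r) := by rw [h1]; group
  have d1 : (r⁻¹ * c) * z * (r⁻¹ * c)⁻¹ = z := by
    calc (r⁻¹ * c) * z * (r⁻¹ * c)⁻¹ = r⁻¹ * (c * z * c⁻¹) * r := by group
      _ = z := by rw [c1, r1]
  have d2 : (r⁻¹ * c) * a * (r⁻¹ * c)⁻¹ = a := by
    calc (r⁻¹ * c) * a * (r⁻¹ * c)⁻¹ = r⁻¹ * (c * a * c⁻¹) * r := by group
      _ = a := by rw [c2, r2]
  have d3 : (r⁻¹ * c) * t * (r⁻¹ * c)⁻¹ = t * a := by
    calc (r⁻¹ * c) * t * (r⁻¹ * c)⁻¹ = r⁻¹ * (c * t * c⁻¹) * r := by group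
      _ = t * a := by rw [c4, mul_assoc t, r4, r2]
  set h1 := r⁻¹ * c with hh1
  -- `h = r⁻¹ h₁ r`
  have cm : ∀ x : X, h1 * x * h1⁻¹ = x → ∀ y : X, y = r⁻¹ * x * r → (r⁻¹ * h1 * r) * y = y * (r⁻¹ * h1 * r) := by
    rintro x hx y rfl
    have h2 : h1 * x = x * h1 := by
      calc h1 * x = (h1 * x * h1⁻¹) * h1 := by group
        _ = x * h1 := by rw [hx]
    calc (r⁻¹ * h1 * r) * (r⁻¹ * x * r) = r⁻¹ * (h1 * x) * r := by group
      _ = (r⁻¹ * x * r) * (r⁻¹ * h1 * r) := by rw [h2]; group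
  have f1 := cm a d2 z r1.symm
  have f2 := cm z d1 (z * a) r3.symm
  refine ⟨r⁻¹ * h1 * r, ?_, f1, ?_⟩
  · have hrt : r * t = t * r := (C.comm r hr).symm
    calc (r⁻¹ * h1 * r) * t * (r⁻¹ * h1 * r)⁻¹ = r⁻¹ * (h1 * (r * t * r⁻¹) * h1⁻¹) * r := by group
      _ = r⁻¹ * (h1 * t * h1⁻¹) * r := by rw [hrt]; group
      _ = t * z := by rw [d3, r4, r1]
  · have : a = z * (z * a) := by rw [← mul_assoc, F.zz, one_mul]
    rw [this, ← mul_assoc, f1, mul_assoc, f2, ← mul_assoc, ← mul_assoc, ← mul_assoc]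

/-- Elements of `C(t) ∩ C(z) ∩ C(a)`. -/
theorem cen_tza (C : Cent t Y) (F : Facts Y a b z) {e : X} (h1 : e * t = t * e) (h2 : e * z = z * e)
    (h3 : e * a = a * e) :
    (e = 1 ∨ e = a ∨ e = z ∨ e = a * z) ∨
      (t * e ∈ Y ∧ (t * e = 1 ∨ t * e = a ∨ t * e = z ∨ t * e = a * z)) := by
  rcases C.cent _ h1 with h | h
  · exact Or.inl (F.cen e h h3 h2)
  · refine Or.inr ⟨h, F.cen _ h ?_ ?_⟩
    · rw [mul_assoc, h3, ← mul_assoc, C.comm a F.ha, mul_assoc]
    · rw [mul_assoc, h2, ← mul_assoc, C.comm z F.zmem, mul_assoc]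

/-- Step B: an element `w` with `t ^ w = t z`, centralising `⟨a, b⟩`. -/
theorem stepB (C : Cent t Y) (F : Facts Y a b z) :
    ∃ h : X, h * t * h⁻¹ = t * z ∧ h * z = z * h ∧ h * a = a * h ∧ h * b = b * h := by
  obtain ⟨h, h1, h2, h3⟩ := stepA C F
  have hzm := F.zmem
  have i2 : h * z * h⁻¹ = z := by rw [h2]; group
  have i3 : h * a * h⁻¹ = a := by rw [h3]; group
  have j1 : h⁻¹ * t * h = t * z := by
    have : h⁻¹ * t * h = h⁻¹ * (t * z) * h * (h⁻¹ * z * h)⁻¹ := by group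
    rw [this]
    have k1 : h⁻¹ * z * h = z := by
      calc h⁻¹ * z * h = h⁻¹ * (z * h) := by group
        _ = z := by rw [← h2]; group
    have k2 : h⁻¹ * (t * z) * h = t := by rw [← h1]; group
    rw [k1, k2, inv_eq_of_mul_eq_one_left F.zz]
  have j2 : h⁻¹ * z * h = z := by
    calc h⁻¹ * z * h = h⁻¹ * (z * h) := by group
      _ = z := by rw [← h2]; group
  have j3 : h⁻¹ * a * h = a := by
    calc h⁻¹ * a * h = h⁻¹ * (a * h) := by group
      _ = a := by rw [← h3]; group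
  have bi : b⁻¹ = b := inv_eq_of_mul_eq_one_left F.bb
  have bt : b * t * b = t := by rw [← C.comm b F.hb, mul_assoc, F.bb, mul_one]
  have bz : b * z * b = z := by rw [F.bz, mul_assoc, F.bb, mul_one]
  have bab : b * a * b = a * z := by
    calc b * a * b = b * a * b * (a * a) := by rw [F.aa, mul_one]
      _ = (b * a * b * a) * a := by group
      _ = a * z := by rw [F.baba, F.az]
  -- `e = [b, h]`
  have e1 : (b * h * b * h⁻¹) * t = t * (b * h * b * h⁻¹) := by
    have : (b * h * b * h⁻¹) * t * (b * h * b * h⁻¹)⁻¹ = t := by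
      calc (b * h * b * h⁻¹) * t * (b * h * b * h⁻¹)⁻¹
          = b * (h * (b * (h⁻¹ * t * h) * b⁻¹) * h⁻¹) * b⁻¹ := by group
        _ = b * (h * ((b * t * b⁻¹) * (b * z * b⁻¹)) * h⁻¹) * b⁻¹ := by rw [j1]; group
        _ = b * ((h * t * h⁻¹) * (h * z * h⁻¹)) * b := by rw [bi, bt, bz]; group
        _ = b * (t * (z * z)) * b := by rw [h1, i2]; group
        _ = t := by rw [F.zz, mul_one, bt]
    calc (b * h * b * h⁻¹) * t = ((b * h * b * h⁻¹) * t * (b * h * b * h⁻¹)⁻¹) * (b * h * b * h⁻¹) := by group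
      _ = t * (b * h * b * h⁻¹) := by rw [this]
  have e2 : (b * h * b * h⁻¹) * z = z * (b * h * b * h⁻¹) := by
    have : (b * h * b * h⁻¹) * z * (b * h * b * h⁻¹)⁻¹ = z := by
      calc (b * h * b * h⁻¹) * z * (b * h * b * h⁻¹)⁻¹
          = b * (h * (b * (h⁻¹ * z * h) * b⁻¹) * h⁻¹) * b⁻¹ := by group
        _ = z := by rw [j2, bi, bz, i2, bz]
    calc (b * h * b * h⁻¹) * z = ((b * h * b * h⁻¹) * z * (b * h * b * h⁻¹)⁻¹) * (b * h * b * h⁻¹) := by group
      _ = z * (b * h * b * h⁻¹) := by rw [this]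
  have e3 : (b * h * b * h⁻¹) * a = a * (b * h * b * h⁻¹) := by
    have : (b * h * b * h⁻¹) * a * (b * h * b * h⁻¹)⁻¹ = a := by
      calc (b * h * b * h⁻¹) * a * (b * h * b * h⁻¹)⁻¹
          = b * (h * (b * (h⁻¹ * a * h) * b⁻¹) * h⁻¹) * b⁻¹ := by group
        _ = b * ((h * a * h⁻¹) * (h * z * h⁻¹)) * b := by rw [j3, bi, bab]; group
        _ = (b * a * b) * (b⁻¹ * z * b⁻¹ * (b * b)) := by rw [i3, i2]; group
        _ = a * (z * z) := by rw [bab, bi, bz, F.bb, mul_one, mul_assoc]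
        _ = a := by rw [F.zz, mul_one]
    calc (b * h * b * h⁻¹) * a = ((b * h * b * h⁻¹) * a * (b * h * b * h⁻¹)⁻¹) * (b * h * b * h⁻¹) := by group
      _ = a * (b * h * b * h⁻¹) := by rw [this]
  -- `b e = h b h⁻¹`
  have be : b * (b * h * b * h⁻¹) = h * b * h⁻¹ := by
    calc b * (b * h * b * h⁻¹) = (b * b) * (h * b * h⁻¹) := by group
      _ = h * b * h⁻¹ := by rw [F.bb, one_mul]
  have be2 : (b * (b * h * b * h⁻¹)) * (b * (b * h * b * h⁻¹)) = 1 := by
    rw [be]
    calc h * b * h⁻¹ * (h * b * h⁻¹) = h * (b * b) * h⁻¹ := by group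
      _ = 1 := by rw [F.bb]; group
  have bnt : ¬ IsConj t (b * (b * h * b * h⁻¹)) := by
    rw [be]
    intro h'
    exact C.hD0 b F.hb (Cent.isConj_of_conj h')
  set e := b * h * b * h⁻¹ with he
  have he1 : e ∈ Y ∨ t * e ∈ Y := C.cent _ e1
  -- `e ∈ Y`
  have hbe : e = 1 ∨ e = a ∨ e = z ∨ e = a * z := by
    rcases cen_tza C F e1 e2 e3 with h' | ⟨h', -⟩
    · exact h'
    · exfalso
      apply bnt
      have h4 : b * e = t * (b * (t * e)) := by
        rw [← mul_assoc t b, C.comm b F.hb, mul_assoc b t, ← mul_assoc t t, C.tt, one_mul]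
      have h5 : (b * (t * e)) * (b * (t * e)) = 1 := by
        have h6 : b * (t * e) = t * (b * e) := by
          rw [← mul_assoc t b, C.comm b F.hb, mul_assoc]
        rw [h6]
        have h7 : t * (b * e) = (b * e) * t := by
          rw [← mul_assoc, C.comm b F.hb, mul_assoc, ← e1, ← mul_assoc]
        calc t * (b * e) * (t * (b * e)) = t * ((b * e) * t) * (b * e) := by group
          _ = (t * t) * ((b * e) * (b * e)) := by rw [← h7]; group
          _ = 1 := by rw [C.tt, be2, one_mul]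
      rw [h4]
      exact C.hD1 _ (Y.mul_mem F.hb h') h5
  have hna : (b * a) * (b * a) ≠ 1 := by
    intro h'
    apply F.z1
    rw [← F.baba, ← h']; group
  have hfin : e = 1 ∨ e = z := by
    rcases hbe with h' | h' | h' | h'
    · exact Or.inl h'
    · exfalso
      apply hna
      rw [h'] at be2
      exact be2
    · exact Or.inr h'
    · exfalso
      apply hna
      rw [h'] at be2
      calc (b * a) * (b * a) = (b * a) * (b * a) * (z * z) := by rw [F.zz, mul_one]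
        _ = (b * a) * b * (a * z) * z := by group
        _ = (b * a) * (b * z) * a * z := by rw [F.az]; group
        _ = b * (a * z) * b * a * z := by rw [F.bz]; group
        _ = (b * (a * z)) * (b * (a * z)) := by group
        _ = 1 := be2
  rcases hfin with h' | h'
  · refine ⟨h, h1, h2, h3, ?_⟩
    rw [h', mul_one] at be
    calc h * b = (h * b * h⁻¹) * h := by group
      _ = b * h := by rw [← be]
  · rw [h'] at be
    have aba : a * b * a = z * b := by
      calc a * b * a = a * b * a * (b * b) := by rw [F.bb, mul_one]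
        _ = (a * b * a * b) * b := by group
        _ = z * b := by rw [F.hz]
    have ai : a⁻¹ = a := inv_eq_of_mul_eq_one_left F.aa
    refine ⟨h * a, ?_, ?_, ?_, ?_⟩
    · calc h * a * t * (h * a)⁻¹ = h * (a * t) * a⁻¹ * h⁻¹ := by group
        _ = h * t * h⁻¹ := by rw [← C.comm a F.ha]; group
        _ = t * z := h1
    · rw [mul_assoc, F.az, ← mul_assoc, h2, mul_assoc]
    · rw [mul_assoc, ← mul_assoc a, ← h3, ← mul_assoc]
    · have k1 : (h * a) * b * (h * a)⁻¹ = b := by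
        calc (h * a) * b * (h * a)⁻¹ = h * (a * b * a⁻¹) * h⁻¹ := by group
          _ = (h * z * h⁻¹) * (h * b * h⁻¹) := by rw [ai, aba]; group
          _ = z * b * z := by rw [i2, ← be, mul_assoc]
          _ = b := by rw [← F.bz, mul_assoc, F.zz, mul_one]
      calc (h * a) * b = ((h * a) * b * (h * a)⁻¹) * (h * a) := by group
        _ = b * (h * a) := by rw [k1]

/-- Step C: an involution `w` with `t ^ w = t z`, centralising `⟨a, b⟩`. -/
theorem stepC (C : Cent t Y) (F : Facts Y a b z) : ∃ w : X, Rel t w a b z := by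
  obtain ⟨w, h1, h2, h3, h4⟩ := stepB C F
  have hzm := F.zmem
  have wt : w * t = t * z * w := by rw [← h1]; group
  have s1 : (w * w) * t = t * (w * w) := by
    calc (w * w) * t = w * (w * t) := by group
      _ = w * (t * z * w) := by rw [wt]
      _ = (w * t) * z * w := by group
      _ = t * z * (w * z) * w := by rw [wt]; group
      _ = t * (z * z) * w * w := by rw [h2]; group
      _ = t * (w * w) := by rw [F.zz]; group
  have s2 : (w * w) * z = z * (w * w) := by rw [mul_assoc, h2, ← mul_assoc, h2, mul_assoc]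
  have s3 : (w * w) * a = a * (w * w) := by rw [mul_assoc, h3, ← mul_assoc, h3, mul_assoc]
  have s4 : (w * w) * b = b * (w * w) := by rw [mul_assoc, h4, ← mul_assoc, h4, mul_assoc]
  have ntz : ¬ IsConj t (1 : X) := C.hD0 1 Y.one_mem
  have wnt : w * t ≠ t * w := by
    intro h'
    apply F.z1
    have : t * (z * w) = t * w := by rw [← h', wt]; group
    have := mul_left_cancel this
    exact mul_eq_right.1 this
  -- `w² ∈ {1, z}`
  have hnab : ∀ y : X, y = a ∨ y = a * z → y * b ≠ b * y := by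
    rintro y (rfl | rfl) h'
    · exact F.nab h'
    · apply F.nab
      have : a * b * z = b * a * z := by
        calc a * b * z = a * (b * z) := by group
          _ = a * z * b := by rw [F.bz]; group
          _ = b * a * z := by rw [h']; group
      exact mul_right_cancel this
  have hww : w * w = 1 ∨ w * w = z := by
    rcases cen_tza C F s1 s2 s3 with h' | ⟨-, h'⟩
    · rcases h' with h' | h' | h' | h'
      · exact Or.inl h'
      · exact absurd s4 (hnab _ (Or.inl h'))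
      · exact Or.inr h'
      · exact absurd s4 (hnab _ (Or.inr h'))
    · exfalso
      have s5 : (t * (w * w)) * b = b * (t * (w * w)) := by
        rw [mul_assoc, s4, ← mul_assoc, C.comm b F.hb, mul_assoc]
      have hc : ∀ y : X, y * w = w * y → t * (w * w) = y → False := by
        intro y hy hy'
        apply wnt
        have h5 : t = y * (w * w)⁻¹ := by rw [← hy']; group
        have h6 : w * y = y * w := hy.symm
        calc w * t = w * (y * (w * w)⁻¹) := by rw [← h5]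
          _ = (w * y) * (w * w)⁻¹ := by group
          _ = (y * (w * w)⁻¹) * w := by rw [h6]; group
          _ = t * w := by rw [← h5]
      rcases h' with h' | h' | h' | h'
      · exact hc 1 (by simp) h'
      · exact absurd s5 (hnab _ (Or.inl h'))
      · exact hc z h2.symm h'
      · exact absurd s5 (hnab _ (Or.inr h'))
  have tz := C.comm z hzm
  have hw : ∃ w : X, w * w = 1 ∧ w * t = t * w * z ∧ w * z = z * w ∧ w * a = a * w ∧ w * b = b * w := by
    rcases hww with h' | h'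
    · exact ⟨w, h', by rw [wt, mul_assoc, ← h2, mul_assoc], h2, h3, h4⟩
    · refine ⟨w * t, ?_, ?_, ?_, ?_, ?_⟩
      · calc w * t * (w * t) = (w * t) * w * t := by group
          _ = t * z * (w * w) * t := by rw [wt]; group
          _ = t * (z * z) * t := by rw [h']; group
          _ = 1 := by rw [F.zz, mul_one, C.tt]
      · calc w * t * t = w * (t * t) := by group
          _ = (t * t) * w * (z * z) := by rw [C.tt, F.zz]; group
          _ = t * (t * (w * z)) * z := by group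
          _ = t * (t * z * w) * z := by rw [h2]; group
          _ = t * (w * t) * z := by rw [wt]
      · rw [mul_assoc, tz, ← mul_assoc, h2, mul_assoc]
      · rw [mul_assoc, C.comm a F.ha, ← mul_assoc, h3, mul_assoc]
      · rw [mul_assoc, C.comm b F.hb, ← mul_assoc, h4, mul_assoc]
  obtain ⟨w, k1, k2, k3, k4, k5⟩ := hw
  exact ⟨w, ⟨C.tt, k1, F.aa, F.bb, F.zz, k2, F.ba, C.comm a F.ha, C.comm b F.hb, tz, k4, k5, k3,
    F.az, F.bz⟩⟩

theorem es_comm (u v : ES) :
    u * v = v * u * ⟨0, 0, 0, 0, u.j * v.i + u.l * v.k + v.j * u.i + v.l * u.k⟩ := by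
  ext
  · simp [add_comm]
  · simp [add_comm]
  · simp [add_comm]
  · simp [add_comm]
  · simp only [ES.mul_m, ES.mul_j, ES.mul_l]
    have h : ∀ x y p q : ZMod 2, ∀ r s : ZMod 2,
      x + y + p + q = y + x + r + s + (p + q + r + s) + 0 + 0 := by decide
    have h' := h u.m v.m (u.j * v.i) (u.l * v.k) (v.j * u.i) (v.l * u.k)
    rw [h']
    ring

theorem map_zeta {w : X} (R : Rel t w a b z) (n : ZMod 2) : map R ⟨0, 0, 0, 0, n⟩ = pw z n := by
  rw [map_apply]; simp

theorem map_inj {w : X} (R : Rel t w a b z) (hz : z ≠ 1) : Function.Injective (map R) := by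
  rw [injective_iff_map_eq_one]
  intro v hv
  have hpw : ∀ n : ZMod 2, pw z n = 1 → n = 0 := by
    intro n hn
    rcases cases2 n with h | h
    · exact h
    · rw [h] at hn; exact absurd hn hz
  have key : ∀ u : ES, u.j * v.i + u.l * v.k + v.j * u.i + v.l * u.k = 0 := by
    intro u
    apply hpw
    have h := congrArg (map R) (es_comm u v)
    rw [map_mul, map_mul, map_mul, hv, mul_one, one_mul, map_zeta] at h
    exact (mul_eq_left.1 h.symm)
  have hi := key ⟨0, 1, 0, 0, 0⟩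
  have hj := key ⟨1, 0, 0, 0, 0⟩
  have hk := key ⟨0, 0, 0, 1, 0⟩
  have hl := key ⟨0, 0, 1, 0, 0⟩
  simp only [one_mul, zero_mul, mul_zero, add_zero, zero_add, mul_one] at hi hj hk hl
  obtain ⟨i, j, k, l, m⟩ := v
  simp only at hi hj hk hl
  subst hi hj hk hl
  rw [map_zeta] at hv
  rw [hpw m hv]
  rfl

theorem map_t {w : X} (R : Rel t w a b z) : map R ⟨1, 0, 0, 0, 0⟩ = t := by
  rw [map_apply]; simp

theorem map_a {w : X} (R : Rel t w a b z) : map R ⟨0, 0, 1, 0, 0⟩ = a := by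
  rw [map_apply]; simp

theorem map_mem {w : X} (R : Rel t w a b z) (F : Facts Y a b z) (k l m : ZMod 2) :
    map R ⟨0, 0, k, l, m⟩ ∈ Y := by
  have hpw : ∀ x ∈ Y, ∀ n : ZMod 2, pw x n ∈ Y := by
    intro x hx n
    rcases cases2 n with h | h
    · rw [h]; exact Y.one_mem
    · rw [h]; exact hx
  rw [map_apply]
  simp only [pw_zero, one_mul]
  exact Y.mul_mem (Y.mul_mem (hpw a F.ha k) (hpw b F.hb l)) (hpw z F.zmem m)

section Count

variable {w : X}

/-- Being conjugate to `t`, in the model. -/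
def InD (R : Rel t w a b z) (v : ES) : Prop := IsConj t (map R v)

theorem InD.sq {R : Rel t w a b z} (C : Cent t Y) (hz : z ≠ 1) {v : ES} (h : InD R v) :
    v.j * v.i + v.l * v.k = 0 := by
  have h1 := C.conj_sq h
  rw [← map_mul, ← map_one (map R)] at h1
  have h2 := congrArg ES.m (map_inj R hz h1)
  rw [ES.mul_m, ES.one_m, CharTwo.add_self_eq_zero, zero_add] at h2
  exact h2

theorem InD.conj {R : Rel t w a b z} {v : ES} (u : ES) (h : InD R v) : InD R (u * v * u⁻¹) := by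
  unfold InD
  rw [map_mul, map_mul, map_inv]
  exact Cent.isConj_conj h

theorem inD_t {R : Rel t w a b z} (C : Cent t Y) (F : Facts Y a b z) {k l : ZMod 2} (h : k * l = 0)
    (m : ZMod 2) : InD R ⟨1, 0, k, l, m⟩ := by
  have h1 : (⟨1, 0, k, l, m⟩ : ES) = ⟨1, 0, 0, 0, 0⟩ * ⟨0, 0, k, l, m⟩ := by
    ext <;> simp
  unfold InD
  rw [h1, map_mul, map_t]
  apply C.hD1 _ (map_mem R F k l m)
  rw [← map_mul, ← map_one (map R)]
  congr 1
  ext
  · simp
  · simp
  · simp [CharTwo.add_self_eq_zero]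
  · simp [CharTwo.add_self_eq_zero]
  · simp [CharTwo.add_self_eq_zero, mul_comm l k, h]

theorem caseA (R : Rel t w a b z) (C : Cent t Y) (F : Facts Y a b z)
    (h0 : ¬ InD R ⟨1, 1, 1, 1, 0⟩) (v : ES) (hv : v.i + 0 * v.j = 1) :
    InD R v ↔ (v.j = 0 ∧ v.k * v.l = 0) := by
  have hi : v.i = 1 := by rw [← hv]; ring
  obtain ⟨i, j, k, l, m⟩ := v
  simp only at hi ⊢
  subst hi
  constructor
  · intro h
    have h1 := InD.sq C F.z1 h
    simp only [mul_one] at h1
    rcases cases2 j with rfl | rfl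
    · refine ⟨rfl, ?_⟩
      rw [zero_add, mul_comm] at h1
      exact h1
    · exfalso
      have h2 : ∀ k l : ZMod 2, 1 + l * k = 0 → k = 1 ∧ l = 1 := by decide
      obtain ⟨rfl, rfl⟩ := h2 k l h1
      apply h0
      rcases cases2 m with rfl | rfl
      · exact h
      · have h3 := InD.conj ⟨1, 0, 0, 0, 0⟩ h
        have h4 : (⟨1, 0, 0, 0, 0⟩ : ES) * ⟨1, 1, 1, 1, 1⟩ * (⟨1, 0, 0, 0, 0⟩ : ES)⁻¹ = ⟨1, 1, 1, 1, 0⟩ := by
          decide
        rw [h4] at h3
        exact h3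
  · rintro ⟨rfl, h⟩
    exact inD_t C F h m

theorem caseB (R : Rel t w a b z) (C : Cent t Y) (F : Facts Y a b z)
    (h0 : InD R ⟨1, 1, 1, 1, 0⟩) (v : ES) (hv : v.i + 1 * v.j = 1) :
    InD R v ↔ (v.j = 0 ∧ v.k * v.l = 0) := by
  obtain ⟨i, j, k, l, m⟩ := v
  simp only [one_mul] at hv ⊢
  have nwb : ¬ InD R ⟨0, 1, 0, 1, 0⟩ := by
    intro h
    have h1 := inD_t (R := R) C F (k := 1) (l := 0) (by decide) 0
    have h2 : (⟨1, 0, 1, 0, 0⟩ : ES) * ⟨0, 1, 0, 1, 0⟩ = ⟨1, 1, 1, 1, 0⟩ := by decide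
    have h3 : (⟨1, 0, 1, 0, 0⟩ : ES) * ⟨0, 1, 0, 1, 0⟩ = ⟨0, 1, 0, 1, 0⟩ * ⟨1, 0, 1, 0, 0⟩ := by decide
    apply C.mul_not h1 h (by rw [← map_mul, ← map_mul, h3])
    rw [← map_mul, h2]
    exact h0
  have nwa : ¬ InD R ⟨0, 1, 1, 0, 1⟩ := by
    intro h
    have h1 := inD_t (R := R) C F (k := 0) (l := 1) (by decide) 0
    have h2 : (⟨1, 0, 0, 1, 0⟩ : ES) * ⟨0, 1, 1, 0, 1⟩ = ⟨1, 1, 1, 1, 0⟩ := by decide
    have h3 : (⟨1, 0, 0, 1, 0⟩ : ES) * ⟨0, 1, 1, 0, 1⟩ = ⟨0, 1, 1, 0, 1⟩ * ⟨1, 0, 0, 1, 0⟩ := by decide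
    apply C.mul_not h1 h (by rw [← map_mul, ← map_mul, h3])
    rw [← map_mul, h2]
    exact h0
  have nw : ¬ InD R ⟨0, 1, 0, 0, 1⟩ := by
    intro h
    apply nwa
    have h2 : (⟨0, 1, 0, 0, 1⟩ : ES) * ⟨0, 0, 1, 0, 0⟩ = ⟨0, 1, 1, 0, 1⟩ := by decide
    have h3 : (⟨0, 1, 0, 0, 1⟩ : ES) * ⟨0, 0, 1, 0, 0⟩ = ⟨0, 0, 1, 0, 0⟩ * ⟨0, 1, 0, 0, 1⟩ := by decide
    have h4 : map R ⟨0, 1, 0, 0, 1⟩ * a = a * map R ⟨0, 1, 0, 0, 1⟩ := by
      have h4 := congrArg (map R) h3
      rw [map_mul, map_mul, map_a] at h4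
      exact h4
    have h5 := C.mul_of h F.aa (C.hD0 a F.ha) h4
    unfold InD
    rw [← h2, map_mul, map_a]
    exact h5
  have cj : ∀ k l m : ZMod 2, InD R ⟨0, 1, k, l, m⟩ → InD R ⟨0, 1, k, l, m + 1⟩ := by
    intro k l m h
    have h3 := InD.conj ⟨1, 0, 0, 0, 0⟩ h
    have h4 : ∀ k l m : ZMod 2, (⟨1, 0, 0, 0, 0⟩ : ES) * ⟨0, 1, k, l, m⟩ * (⟨1, 0, 0, 0, 0⟩ : ES)⁻¹ =
      ⟨0, 1, k, l, m + 1⟩ := by decide
    rw [h4] at h3
    exact h3
  have cj' : ∀ k l m n : ZMod 2, InD R ⟨0, 1, k, l, m⟩ → InD R ⟨0, 1, k, l, n⟩ := by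
    intro k l m n h
    have h1 : ∀ m n : ZMod 2, n = m ∨ n = m + 1 := by decide
    rcases h1 m n with rfl | rfl
    · exact h
    · exact cj _ _ _ h
  constructor
  · intro h
    have h1 := InD.sq C F.z1 h
    simp only at h1
    rcases cases2 j with rfl | rfl
    · refine ⟨rfl, ?_⟩
      rw [zero_mul, zero_add, mul_comm] at h1
      exact h1
    · exfalso
      have hi : i = 0 := by
        have h2 : ∀ i : ZMod 2, i + 1 = 1 → i = 0 := by decide
        exact h2 i hv
      subst hi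
      have h2 : ∀ k l : ZMod 2, 1 * 0 + l * k = 0 → (k = 0 ∧ l = 0) ∨ (k = 1 ∧ l = 0) ∨ (k = 0 ∧ l = 1) := by
        decide
      rcases h2 k l h1 with ⟨rfl, rfl⟩ | ⟨rfl, rfl⟩ | ⟨rfl, rfl⟩
      · exact nw (cj' _ _ _ _ h)
      · exact nwa (cj' _ _ _ _ h)
      · exact nwb (cj' _ _ _ _ h)
  · rintro ⟨rfl, h⟩
    have hi : i = 1 := by rw [← hv, add_zero]
    subst hi
    exact inD_t C F h m

theorem card_cent [Finite X] (C : Cent t Y) : Nat.card (centralizer ({t} : Set X)) = 2 * Nat.card Y := by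
  have : Nat.card (ZMod 2 × Y) = 2 * Nat.card Y := by
    rw [Nat.card_prod, Nat.card_zmod]
  rw [← this]
  symm
  refine Nat.card_congr (Equiv.ofBijective (fun p : ZMod 2 × Y => ⟨pw t p.1 * (p.2 : X), ?_⟩) ⟨?_, ?_⟩)
  · rw [mem_centralizer_singleton_iff]
    have h1 := C.comm p.2 p.2.2
    rcases cases2 p.1 with h | h
    · rw [h, pw_zero, one_mul, h1]
    · rw [h, pw_one, mul_assoc, ← h1]
  · rintro ⟨i, y⟩ ⟨j, y'⟩ h
    have h1 : pw t i * (y : X) = pw t j * (y' : X) := congrArg Subtype.val h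
    have h2 : ∀ y y' : Y, t * (y : X) ≠ y' := by
      intro y y' h2
      apply C.t_not_mem
      rw [eq_mul_inv_of_mul_eq h2]
      exact Y.mul_mem y'.2 (Y.inv_mem y.2)
    rcases cases2 i with rfl | rfl <;> rcases cases2 j with rfl | rfl
    · simp only [pw_zero, one_mul] at h1
      rw [Subtype.ext h1]
    · simp only [pw_zero, pw_one, one_mul] at h1
      exact absurd h1.symm (h2 _ _)
    · simp only [pw_zero, pw_one, one_mul] at h1
      exact absurd h1 (h2 _ _)
    · simp only [pw_one] at h1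
      rw [Subtype.ext (mul_left_cancel h1)]
  · rintro ⟨x, hx⟩
    rcases C.cent x (mem_centralizer_singleton_iff.1 hx) with h | h
    · exact ⟨(0, ⟨x, h⟩), Subtype.ext (by simp)⟩
    · refine ⟨(1, ⟨t * x, h⟩), Subtype.ext ?_⟩
      simp only [pw_one]
      rw [← mul_assoc, C.tt, one_mul]

end Count

/-- LEMMA L32. -/
theorem exists_hom [Finite X] (C : Cent t Y) (F : Facts Y a b z) : ∃ f : X →* ℤˣ, f t = -1 := by
  classical
  obtain ⟨w, R⟩ := stepC C F
  have hinj := map_inj R F.z1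
  have he : ∃ e : ZMod 2, ∀ v : ES, v.i + e * v.j = 1 → (InD R v ↔ (v.j = 0 ∧ v.k * v.l = 0)) := by
    by_cases h : InD R ⟨1, 1, 1, 1, 0⟩
    · exact ⟨1, caseB R C F h⟩
    · exact ⟨0, caseA R C F h⟩
  obtain ⟨e, he⟩ := he
  let E : ES ≃* (map R).range := MonoidHom.ofInjective hinj
  have hE : ∀ v, ((E v : (map R).range) : X) = map R v := fun v => rfl
  let l : (map R).range →* ℤˣ := (lam e).comp E.symm.toMonoidHom
  have hl : ∀ v, l (E v) = lam e v := by
    intro v
    change lam e (E.symm (E v)) = lam e v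
    rw [MulEquiv.symm_apply_apply]
  obtain ⟨m, hm, hY⟩ := F.card
  apply exists_hom_of_count l C.tt (m := 3 * m) (by
    exact Odd.mul (by decide) hm)
  have c1 : Nat.card (map R).range = 32 := by
    rw [← Nat.card_congr E.toEquiv, ES.card]
  have c2 : Nat.card {d : X // Neg l t d} = 6 := by
    have : Nat.card {d : X // Neg l t d} = Nat.card {v : ES // v.i = 1 ∧ v.j = 0 ∧ v.k * v.l = 0} := by
      symm
      refine Nat.card_congr (Equiv.ofBijective (fun v => ⟨map R v.1, ?_⟩) ⟨?_, ?_⟩)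
      · obtain ⟨v, h1, h2, h3⟩ := v
        have h4 : v.i + e * v.j = 1 := by rw [h1, h2, mul_zero, add_zero]
        refine ⟨(he v h4).2 ⟨h2, h3⟩, ⟨v, rfl⟩, ?_⟩
        have h5 := hl v
        rw [(lam_eq e v).2 h4] at h5
        exact h5
      · intro v v' h
        exact Subtype.ext (hinj (congrArg Subtype.val h))
      · rintro ⟨d, h1, ⟨v, rfl⟩, h2⟩
        have h5 : lam e v = -1 := by
          rw [← hl v]
          exact h2
        rw [lam_eq] at h5
        obtain ⟨h6, h7⟩ := (he v h5).1 h1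
        refine ⟨⟨v, ?_, h6, h7⟩, rfl⟩
        rw [h6, mul_zero, add_zero] at h5
        exact h5
    rw [this, Nat.card_eq_fintype_card]
    decide
  rw [c1, c2, card_cent C, hY]
  ring

end Cfsg.Agent.StdSpSix.LThree
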