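import Cfsg.Agent.StdSpSix.PatOneRel

/-!
# Pattern `{b₁}`, part 4: an element of `D` normalising a component of the commuting graph belongs to it
-/

set_option autoImplicit false

namespace Cfsg.Agent.StdSpSix.PatOneAlien

open Cfsg.Agent.StandardComponent.SpTwo
open Cfsg.Agent.StdSpSix.PatOneForm
open Cfsg.Agent.StdSpSix.PatOneRel

variable {G V : Type*} [Group G] [AddCommGroup V] [Module (ZMod 2) V]

/-- `y` is not in the component of `x` but normalises it -/
structure Al (D : Set G) (y x : G) : Prop where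
  hx : x ∈ D
  hy : y ∈ D
  nrel : ¬ Rel D x y
  norm : Rel D x (y * x * y⁻¹)

variable {C : Ctx G V} [Fintype G] [Fintype V]

theorem Al.comm (P : Pat C) (hV : Fintype.card V = 64) {x y : G} (h : Al C.D y x) :
    Commute x (y * x * y⁻¹) := by
  by_contra hc
  have hyi := D_inv h.hy
  have hxi := D_inv h.hx
  have hyy := C.D_sq h.hy
  have hxx := C.D_sq h.hx
  have hb := P.braid h.hx (C.D_conj h.hx y) h.norm hc
  rw [hyi] at hb
  have hz : y * x * y * (y * x)⁻¹ ∈ C.D := C.D_conj h.hy (y * x)
  have hz' : y * x * y * (y * x)⁻¹ = y * x * y * x * y := by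
    rw [mul_inv_rev, hxi, hyi]
    simp only [mul_assoc]
  have hxz : Commute x (y * x * y * (y * x)⁻¹) := by
    rw [hz']
    change x * (y * x * y * x * y) = y * x * y * x * y * x
    calc x * (y * x * y * x * y) = (x * (y * x * y) * x) * y := by simp only [mul_assoc]
      _ = (y * x * y) * x * (y * x * y) * y := by rw [hb]
      _ = y * x * y * x * y * x * (y * y) := by simp only [mul_assoc]
      _ = y * x * y * x * y * x := by rw [hyy, mul_one]
  have h1 := conj_rel (C := C) (g := x * y) (rel_of_commute h.hx hxz)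
  have e1 : x * y * (y * x * y * (y * x)⁻¹) * (x * y)⁻¹ = y := by
    have e : (x * y) * (y * x) = 1 := by
      calc (x * y) * (y * x) = x * (y * y) * x := by simp only [mul_assoc]
        _ = 1 := by rw [hyy, mul_one, hxx]
    calc x * y * (y * x * y * (y * x)⁻¹) * (x * y)⁻¹
        = ((x * y) * (y * x)) * y * ((x * y) * (y * x))⁻¹ := by group
      _ = y := by rw [e]; simp
  rw [e1] at h1
  have h2 := conj_rel (C := C) (g := x) h.norm
  have e2 : x * x * x⁻¹ = x := by group
  have e3 : x * (y * x * y⁻¹) * x⁻¹ = x * y * x * (x * y)⁻¹ := by group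
  rw [e2, e3] at h2
  exact h.nrel (P.trans hV h.hx (C.D_conj h.hx _) h.hy h2 h1)

theorem Al.swap (P : Pat C) (hV : Fintype.card V = 64) {x y : G} (h : Al C.D y x) : Al C.D x y where
  hx := h.hy
  hy := h.hx
  nrel h' := h.nrel (rel_symm h')
  norm := by
    apply rel_of_commute h.hy
    have h1 : x * (y * x * y⁻¹) = y * x * y⁻¹ * x := h.comm P hV
    rw [D_inv h.hy] at h1
    rw [D_inv h.hx]
    change y * (x * y * x) = x * y * x * y
    calc y * (x * y * x) = y * x * y * x := by simp only [mul_assoc]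
      _ = x * (y * x * y) := h1.symm
      _ = _ := by simp only [mul_assoc]

/-- an alien normalises the whole component -/
theorem Al.stab (P : Pat C) (hV : Fintype.card V = 64) {x y x' : G} (h : Al C.D y x) (hx' : x' ∈ C.D)
    (hr : Rel C.D x x') : Rel C.D x (y * x' * y⁻¹) :=
  P.trans hV h.hx (C.D_conj h.hx y) (C.D_conj hx' y) h.norm (conj_rel hr)

theorem Al.move (P : Pat C) (hV : Fintype.card V = 64) {x y x' : G} (h : Al C.D y x) (hx' : x' ∈ C.D)
    (hr : Rel C.D x x') : Al C.D y x' where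
  hx := hx'
  hy := h.hy
  nrel h' := h.nrel (P.trans hV h.hx hx' h.hy hr h')
  norm := P.trans hV hx' h.hx (C.D_conj hx' y) (rel_symm hr) (h.stab P hV hx' hr)

theorem Al.move' (P : Pat C) (hV : Fintype.card V = 64) {x y y' : G} (h : Al C.D y x) (hy' : y' ∈ C.D)
    (hr : Rel C.D y y') : Al C.D y' x :=
  ((h.swap P hV).move P hV hy' hr).swap P hV

open scoped Classical in
theorem no_alien_t (P : Pat C) (hV : Fintype.card V = 64) {y : G} (h : Al C.D y C.t) : False := by
  obtain ⟨C', P', ht, hD⟩ := P.exists_ctx h.hy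
  set T : V → Finset G := fun v => (Gam C).filter (fun x => x * y * x⁻¹ = s C' v) with hT
  have hal : ∀ x ∈ Gam C, Al C.D y x := fun x hx => h.move P hV (mem_Gam.1 hx).1 (mem_Gam.1 hx).2
  have hex : ∀ x ∈ Gam C, ∃ v, x * y * x⁻¹ = s C' v := by
    intro x hx
    apply P'.exists_s (by rw [hD]; exact C.D_conj h.hy x)
    rw [ht]
    exact (((hal x hx).swap P hV).comm P hV).symm
  have h0 : T 0 = ∅ := by
    rw [hT, Finset.filter_eq_empty_iff]
    intro x hx e
    rw [s_zero, ht] at e
    have e' : x * y = y * x := mul_inv_eq_iff_eq_mul.1 e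
    exact (hal x hx).nrel (rel_of_commute (hal x hx).hx e')
  have htot : (Gam C).card = ∑ v, (T v).card := by
    rw [← Finset.card_biUnion]
    · congr 1
      ext x
      simp only [hT, Finset.mem_biUnion, Finset.mem_univ, true_and, Finset.mem_filter]
      constructor
      · intro hx
        obtain ⟨v, hv⟩ := hex x hx
        exact ⟨v, hx, hv⟩
      · rintro ⟨v, hx, -⟩
        exact hx
    · intro v _ v' _ hne
      rw [Function.onFun, Finset.disjoint_left]
      intro x hx hx'
      simp only [hT, Finset.mem_filter] at hx hx'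
      exact hne (s_inj (hx.2.symm.trans hx'.2))
  have hle : ∀ v v' : V, C'.S.B v v' = 1 → (T v).card ≤ (T v').card := by
    intro v v' hB
    set w : V := v + v' with hw
    have hBw : C'.S.B v w = 1 := by
      rw [hw, map_add, C'.S.alt, hB, zero_add]
    refine Finset.card_le_card_of_injOn (fun x => C'.b w * x * (C'.b w)⁻¹) ?_ ?_
    · intro x hx
      simp only [hT, Finset.coe_filter, Set.mem_ofPred_eq] at hx ⊢
      obtain ⟨hx1, hx2⟩ := hx
      have hy2 : s C' w ∈ C.D := by
        rw [← hD]; exact P'.s_mem w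
      have hal2 : Al C.D (s C' w) C.t := h.move' P hV hy2 (rel_of_commute h.hy (by
        rw [← ht]; exact (s_comm_t w).symm))
      have e1 : C'.b w * x * (C'.b w)⁻¹ = y * (s C' w * x * (s C' w)⁻¹) * y⁻¹ := by
        rw [← t_mul_s, ht]; group
      refine ⟨?_, ?_⟩
      · rw [mem_Gam] at hx1 ⊢
        refine ⟨C.D_conj hx1.1 _, ?_⟩
        rw [e1]
        exact h.stab P hV (C.D_conj hx1.1 _) (hal2.stab P hV hx1.1 hx1.2)
      · have e2 : (C'.b w)⁻¹ * y * C'.b w = y := by
          rw [mul_assoc, ← ht, ← (b_comm_t w).eq]; group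
        calc C'.b w * x * (C'.b w)⁻¹ * y * (C'.b w * x * (C'.b w)⁻¹)⁻¹
            = C'.b w * (x * ((C'.b w)⁻¹ * y * C'.b w) * x⁻¹) * (C'.b w)⁻¹ := by group
          _ = C'.b w * s C' v * (C'.b w)⁻¹ := by rw [e2, hx2]
          _ = s C' v' := by rw [b_s, hBw, one_smul, hw, aac]
    · intro x _ x' _ e
      exact mul_left_cancel (mul_right_cancel e)
  have heq1 : ∀ v v' : V, C'.S.B v v' = 1 → (T v).card = (T v').card := fun v v' hB =>
    le_antisymm (hle v v' hB) (hle v' v ((C'.S.symm _ _).trans hB))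
  have heq : ∀ v v' : V, v ≠ 0 → v' ≠ 0 → (T v).card = (T v').card := by
    intro v v' hv hv'
    obtain ⟨x, h1, h2⟩ := exists_partner C'.S hv hv'
    exact (heq1 x v h1).symm.trans (heq1 x v' h2)
  obtain ⟨v0, hv0⟩ : ∃ v : V, v ≠ 0 := by
    by_contra hn
    push Not at hn
    have : Fintype.card V ≤ 1 := Fintype.card_le_one_iff.2 (fun a b => (hn a).trans (hn b).symm)
    omega
  rw [← Finset.add_sum_erase _ _ (Finset.mem_univ (0 : V)), h0, Finset.card_empty, zero_add,
    Finset.sum_congr rfl (fun v hv => heq v v0 (Finset.ne_of_mem_erase hv) hv0), Finset.sum_const,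
    Finset.card_erase_of_mem (Finset.mem_univ _), Finset.card_univ, hV, smul_eq_mul] at htot
  rcases card_Gam P hV with h1 | h1 <;> omega

theorem no_alien (P : Pat C) (hV : Fintype.card V = 64) {x y : G} (hx : x ∈ C.D) (hy : y ∈ C.D)
    (h : Rel C.D x (y * x * y⁻¹)) : Rel C.D x y := by
  by_contra hn
  obtain ⟨C', P', rfl, hD⟩ := P.exists_ctx hx
  rw [← hD] at hn h hy
  exact no_alien_t P' hV ⟨C'.t_mem_D, hy, hn, h⟩

end Cfsg.Agent.StdSpSix.PatOneAlien
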