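import Cfsg.Agent.StandardComponent.SpTwo

/-!
# Pattern `{b₁}`, part 1: functions on the symplectic space which are additive on perpendicular pairs

A function `f : V → ZMod 2` (`|V| = 64`) with `f (u + v) = f u + f v` for all perpendicular `u, v` is additive
or a quadratic form polarizing to `B`.  `count` is the resulting counting statement for families of such
functions.
-/

set_option autoImplicit false

namespace Cfsg.Agent.StdSpSix.PatOneForm

open Cfsg.Agent.StandardComponent.SpTwo

variable {X V : Type*} [Group X] [AddCommGroup V] [Module (ZMod 2) V] (D : SpData X V)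

/-- three independent vectors are separated -/
theorem exists_sep3 {u v w : V} (h0 : w ≠ 0) (hu : w ≠ u) (hv : w ≠ v) (huv : w ≠ u + v) :
    ∃ x, D.B x u = 0 ∧ D.B x v = 0 ∧ D.B x w = 1 := by
  obtain ⟨x1, a1, a2⟩ := D.exists_sep h0 hu
  obtain ⟨x2, b1, b2⟩ := D.exists_sep h0 hv
  obtain ⟨x3, c1, c2⟩ := D.exists_sep h0 huv
  rcases z2 (D.B x1 v) with h1 | h1
  · exact ⟨x1, a2, h1, a1⟩
  rcases z2 (D.B x2 u) with h2 | h2
  · exact ⟨x2, h2, b2, b1⟩
  rw [map_add] at c2
  rcases z2 (D.B x3 u) with h3 | h3 <;> rcases z2 (D.B x3 v) with h4 | h4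
  · exact ⟨x3, h3, h4, c1⟩
  · rw [h3, h4] at c2; exact absurd c2 (by decide)
  · rw [h3, h4] at c2; exact absurd c2 (by decide)
  · refine ⟨x1 + x2 + x3, ?_, ?_, ?_⟩ <;> simp only [map_add, LinearMap.add_apply] <;>
      simp only [a1, a2, b1, b2, c1, h1, h2, h3, h4] <;> decide

/-- two nonzero vectors have a common partner -/
theorem exists_partner {u v : V} (hu : u ≠ 0) (hv : v ≠ 0) : ∃ x, D.B x u = 1 ∧ D.B x v = 1 := by
  by_cases huv : u = v
  · subst huv
    obtain ⟨x, h, -⟩ := D.exists_sep hu hu
    exact ⟨x, h, h⟩
  · obtain ⟨x, h1, h2⟩ := D.exists_sep hu huv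
    obtain ⟨y, h3, h4⟩ := D.exists_sep hv (Ne.symm huv)
    refine ⟨x + y, ?_, ?_⟩ <;> simp only [map_add, LinearMap.add_apply, h1, h2, h3, h4] <;> decide

section Perp

variable {f : V → ZMod 2} (hf : ∀ u v, D.B u v = 0 → f (u + v) = f u + f v)

include hf

theorem perp_zero : f 0 = 0 := by
  have := hf 0 0 (by simp)
  rw [add_zero] at this
  rcases z2 (f 0) with h | h
  · exact h
  · rw [h] at this; exact absurd this (by decide)

/-- `f (u + v) + f u + f v` does not change when a vector perpendicular to both is added to `v` -/
theorem beta_add {u v p : V} (h1 : D.B u p = 0) (h2 : D.B v p = 0) :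
    f (u + (v + p)) + f u + f (v + p) = f (u + v) + f u + f v := by
  have e1 := hf (u + v) p (by rw [map_add, LinearMap.add_apply, h1, h2, add_zero])
  have e2 := hf v p h2
  rw [← add_assoc, e1, e2]
  generalize f (u + v) = a
  generalize f p = b
  generalize f u = c
  generalize f v = d
  revert a b c d
  decide

omit hf in
theorem beta_self (u v : V) : f (u + (u + v)) + f u + f (u + v) = f (u + v) + f u + f v := by
  rw [aac]
  ring

theorem beta_const_left {u v v' : V} (h1 : D.B u v = 1) (h2 : D.B u v' = 1) :
    f (u + v) + f u + f v = f (u + v') + f u + f v' := by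
  have key : ∀ y : V, D.B u y = 1 → D.B v y = 0 → f (u + v) + f u + f v = f (u + y) + f u + f y := by
    intro y h3 h4
    have := beta_add D hf (u := u) (v := v) (p := v + y) (by rw [map_add, h1, h3]; decide)
      (by rw [map_add, h4, D.alt, add_zero])
    rw [aac] at this
    exact this.symm
  rcases z2 (D.B v v') with h | h
  · exact key v' h2 h
  · have := key (u + v') (by rw [map_add, D.alt, h2, zero_add])
      (by rw [map_add, D.symm v u, h1, h]; decide)
    rw [this]
    exact beta_self u v'

theorem beta_const {u v u' v' : V} (h1 : D.B u v = 1) (h2 : D.B u' v' = 1) :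
    f (u + v) + f u + f v = f (u' + v') + f u' + f v' := by
  have hu : u ≠ 0 := by
    rintro rfl
    simp at h1
  have hu' : u' ≠ 0 := by
    rintro rfl
    simp at h2
  obtain ⟨x, hx, hx'⟩ := exists_partner D hu hu'
  have e1 := beta_const_left D hf h1 ((D.symm u x).trans hx)
  have e2 := beta_const_left D hf h2 ((D.symm u' x).trans hx')
  have e3 := beta_const_left D hf hx hx'
  have s1 : f (u + x) + f u + f x = f (x + u) + f x + f u := by
    rw [add_comm u x]; ring
  have s2 : f (u' + x) + f u' + f x = f (x + u') + f x + f u' := by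
    rw [add_comm u' x]; ring
  rw [e1, s1, e3, ← s2, ← e2]

/-- the dichotomy -/
theorem perp_dichotomy : (∀ u v, f (u + v) = f u + f v) ∨
    (∀ u v, f (u + v) = f u + f v + D.B u v) := by
  by_cases h : ∃ u v, D.B u v = 1 ∧ f (u + v) + f u + f v = 1
  · obtain ⟨u, v, h1, h2⟩ := h
    right
    intro u' v'
    rcases z2 (D.B u' v') with h3 | h3
    · rw [hf u' v' h3, h3, add_zero]
    · have := beta_const D hf h1 h3
      rw [h2] at this
      rw [h3]
      generalize f (u' + v') = a at *
      generalize f u' = b at *
      generalize f v' = c at *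
      clear * - this
      revert a b c
      decide
  · push Not at h
    left
    intro u' v'
    rcases z2 (D.B u' v') with h3 | h3
    · exact hf u' v' h3
    · have := h u' v' h3
      generalize f (u' + v') = a at *
      generalize f u' = b at *
      generalize f v' = c at *
      clear * - this
      revert a b c
      decide

end Perp

/-! ### counting -/

theorem card_half (A : Finset V) (w : V) (φ : V → ZMod 2) (h1 : ∀ x ∈ A, x + w ∈ A)
    (h2 : ∀ x ∈ A, φ (x + w) = φ x + 1) : 2 * (A.filter (fun x => φ x = 0)).card = A.card := by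
  have e : (A.filter (fun x => φ x = 0)).card = (A.filter (fun x => ¬ φ x = 0)).card := by
    apply Finset.card_bij (fun x _ => x + w)
    · intro x hx
      simp only [Finset.mem_filter] at hx ⊢
      exact ⟨h1 x hx.1, by rw [h2 x hx.1, hx.2]; decide⟩
    · intro x _ y _ h
      exact add_right_cancel h
    · intro y hy
      simp only [Finset.mem_filter] at hy
      refine ⟨y + w, ?_, aab y w⟩
      simp only [Finset.mem_filter]
      refine ⟨h1 y hy.1, ?_⟩
      rw [h2 y hy.1]
      rcases z2 (φ y) with h | h
      · exact absurd h hy.2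
      · rw [h]; decide
  have e2 := Finset.card_filter_add_card_filter_not (s := A) (fun x => φ x = 0)
  omega

variable [Fintype V]

theorem card_perp1 (hV : Fintype.card V = 64) {u : V} (hu : u ≠ 0) :
    (Finset.univ.filter (fun x => D.B x u = 0)).card = 32 := by
  obtain ⟨w, hw, -⟩ := D.exists_sep hu hu
  have := card_half (Finset.univ : Finset V) w (fun x => D.B x u) (fun _ _ => Finset.mem_univ _)
    (fun x _ => by simp only [map_add, LinearMap.add_apply, hw])
  rw [Finset.card_univ, hV] at this
  omega

theorem card_perp1' (hV : Fintype.card V = 64) {u : V} (hu : u ≠ 0) :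
    (Finset.univ.filter (fun x => D.B x u = 1)).card = 32 := by
  have h1 := card_perp1 D hV hu
  have e2 := Finset.card_filter_add_card_filter_not (s := (Finset.univ : Finset V)) (fun x => D.B x u = 0)
  have e3 : (Finset.univ.filter (fun x => D.B x u = 1)) = Finset.univ.filter (fun x => ¬ D.B x u = 0) := by
    apply Finset.filter_congr
    intro x _
    rcases z2 (D.B x u) with h | h <;> rw [h] <;> decide
  rw [Finset.card_univ, hV] at e2
  rw [e3]
  omega

theorem card_perp2 (hV : Fintype.card V = 64) {u v : V} (hu : u ≠ 0) (hv : v ≠ 0) (huv : u ≠ v) :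
    (Finset.univ.filter (fun x => D.B x u = 0 ∧ D.B x v = 0)).card = 16 := by
  obtain ⟨w, hw, hw'⟩ := D.exists_sep hv (Ne.symm huv)
  have := card_half (Finset.univ.filter (fun x => D.B x u = 0)) w (fun x => D.B x v) (fun x hx => by
    simp only [Finset.mem_filter, Finset.mem_univ, true_and, map_add, LinearMap.add_apply] at hx ⊢
    rw [hx, hw', add_zero])
    (fun x _ => by simp only [map_add, LinearMap.add_apply, hw])
  rw [Finset.filter_filter, card_perp1 D hV hu] at this
  omega

theorem card_perp3 (hV : Fintype.card V = 64) {u v w : V} (hu : u ≠ 0) (hv : v ≠ 0) (huv : u ≠ v)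
    (h0 : w ≠ 0) (hwu : w ≠ u) (hwv : w ≠ v) (hwuv : w ≠ u + v) :
    (Finset.univ.filter (fun x => (D.B x u = 0 ∧ D.B x v = 0) ∧ D.B x w = 0)).card = 8 := by
  obtain ⟨y, hy1, hy2, hy3⟩ := exists_sep3 D h0 hwu hwv hwuv
  have := card_half (Finset.univ.filter (fun x => D.B x u = 0 ∧ D.B x v = 0)) y (fun x => D.B x w)
    (fun x hx => by
      simp only [Finset.mem_filter, Finset.mem_univ, true_and, map_add, LinearMap.add_apply] at hx ⊢
      rw [hx.1, hx.2, hy1, hy2, add_zero]
      exact ⟨rfl, rfl⟩)
    (fun x _ => by simp only [map_add, LinearMap.add_apply, hy3])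
  rw [Finset.filter_filter, card_perp2 D hV hu hv huv] at this
  omega

/-- number of ones of a nonzero additive function -/
theorem card_ones_additive (hV : Fintype.card V = 64) {f : V → ZMod 2}
    (hf : ∀ u v, f (u + v) = f u + f v) (h1 : ∃ u, f u = 1) :
    (Finset.univ.filter (fun x => f x = 1)).card = 32 := by
  obtain ⟨w, hw⟩ := h1
  have h1 := card_half (Finset.univ : Finset V) w f (fun _ _ => Finset.mem_univ _)
    (fun x _ => by rw [hf, hw])
  rw [Finset.card_univ, hV] at h1
  have e2 := Finset.card_filter_add_card_filter_not (s := (Finset.univ : Finset V)) (fun x => f x = 0)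
  have e3 : (Finset.univ.filter (fun x => f x = 1)) = Finset.univ.filter (fun x => ¬ f x = 0) := by
    apply Finset.filter_congr
    intro x _
    rcases z2 (f x) with h | h <;> rw [h] <;> decide
  rw [Finset.card_univ, hV] at e2
  rw [e3]
  omega

/-- the sign character -/
def chi (a : ZMod 2) : ℤ := if a = 0 then 1 else -1

theorem chi_add (a b : ZMod 2) : chi (a + b) = chi a * chi b := by
  revert a b
  decide

omit [AddCommGroup V] [Module (ZMod 2) V] in
theorem sum_chi (hV : Fintype.card V = 64) (f : V → ZMod 2) :
    ∑ x, chi (f x) = 64 - 2 * ((Finset.univ.filter (fun x => f x = 1)).card : ℤ) := by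
  have h : ∀ x, chi (f x) = 1 - 2 * (if f x = 1 then 1 else 0) := by
    intro x
    rcases z2 (f x) with h | h <;> rw [h] <;> decide
  simp_rw [h]
  rw [Finset.sum_sub_distrib, ← Finset.mul_sum, Finset.sum_boole]
  simp only [Finset.sum_const, Finset.card_univ, hV]
  norm_num

theorem sum_chi_B (hV : Fintype.card V = 64) {d : V} (hd : d ≠ 0) : ∑ x, chi (D.B x d) = 0 := by
  rw [sum_chi hV, card_perp1' D hV hd]
  norm_num

/-- a quadratic form has 28 or 36 ones -/
theorem card_ones_quadratic (hV : Fintype.card V = 64) {q : V → ZMod 2}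
    (hq : ∀ u v, q (u + v) = q u + q v + D.B u v) :
    (Finset.univ.filter (fun x => q x = 1)).card = 28 ∨
      (Finset.univ.filter (fun x => q x = 1)).card = 36 := by
  classical
  have h0 : q 0 = 0 := by
    have := hq 0 0
    rw [add_zero, map_zero, add_zero] at this
    rcases z2 (q 0) with h | h
    · exact h
    · rw [h] at this; exact absurd this (by decide)
  have hS : (∑ x, chi (q x)) * (∑ x, chi (q x)) = 64 := by
    calc (∑ x, chi (q x)) * (∑ x, chi (q x)) = ∑ x, chi (q x) * ∑ y, chi (q y) := by
          rw [Finset.sum_mul]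
      _ = ∑ x, ∑ d, chi (q d) * chi (D.B x d) := by
          apply Finset.sum_congr rfl
          intro x _
          rw [← Equiv.sum_comp (Equiv.addLeft x), Finset.mul_sum]
          apply Finset.sum_congr rfl
          intro d _
          rw [Equiv.coe_addLeft, hq, ← chi_add, ← chi_add]
          congr 1
          generalize q x = a
          generalize q d = b
          generalize D.B x d = c
          revert a b c
          decide
      _ = ∑ d, chi (q d) * ∑ x, chi (D.B x d) := by
          rw [Finset.sum_comm]
          apply Finset.sum_congr rfl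
          intro d _
          rw [Finset.mul_sum]
      _ = chi (q 0) * ∑ x, chi (D.B x 0) := by
          apply Finset.sum_eq_single
          · intro d _ hd
            rw [sum_chi_B D hV hd, mul_zero]
          · intro h; exact absurd (Finset.mem_univ _) h
      _ = 64 := by
          rw [h0]
          simp [chi, hV]
  rw [sum_chi hV q] at hS
  have hle : (Finset.univ.filter (fun x => q x = 1)).card ≤ 64 := by
    rw [← hV]; exact Finset.card_le_univ _
  generalize (Finset.univ.filter (fun x => q x = 1)).card = a at *
  interval_cases a <;> simp_all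

section Count

variable {R : Type*} [Fintype R] (F : R → V → ZMod 2)

omit [Fintype R] in
open scoped Classical in
/-- the orbit bound -/
theorem orbit_bound (σ : R → R) (hσ : ∀ r, σ r ≠ r) (hσF : ∀ r, F (σ r) = F r)
    (π : V → R → R) (hπF : ∀ w r x, F (π w r) x = F r (x + D.B x w • w))
    (r0 : R) (W0 : Finset V) (hW : ∀ w ∈ W0, ∀ x, F r0 (x + D.B x w • w) = F r0 x + D.B x w) :
    ∃ U : Finset R, 2 * W0.card ≤ U.card ∧
      ∀ r ∈ U, (Finset.univ.filter (fun x => F r x = 1)).card =
        (Finset.univ.filter (fun x => F r0 x = 1)).card := by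
  have hinv : ∀ w : V, Function.Involutive (fun x : V => x + D.B x w • w) := by
    intro w x
    simp only [map_add, LinearMap.add_apply, map_smul, LinearMap.smul_apply, D.alt, smul_zero, add_zero]
    exact aab _ _
  refine ⟨W0.biUnion (fun w => {π w r0, σ (π w r0)}), ?_, ?_⟩
  · rw [Finset.card_biUnion]
    · rw [mul_comm, ← smul_eq_mul, ← Finset.sum_const]
      apply Finset.sum_le_sum
      intro w _
      rw [Finset.card_pair (Ne.symm (hσ _))]
    · intro w hw w' hw' hne
      rw [Function.onFun, Finset.disjoint_left]
      intro r hr hr'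
      apply hne
      have e1 : ∀ v ∈ W0, r ∈ ({π v r0, σ (π v r0)} : Finset R) → ∀ x, F r x = F r0 x + D.B x v := by
        intro v hv h x
        rw [Finset.mem_insert, Finset.mem_singleton] at h
        rcases h with rfl | rfl
        · rw [hπF, hW v hv]
        · rw [hσF, hπF, hW v hv]
      apply eq_of_add
      apply D.nondeg
      intro x
      rw [D.symm, map_add]
      have e2 := (e1 w hw hr x).symm.trans (e1 w' hw' hr' x)
      rw [add_left_cancel e2]
      generalize D.B x w' = a
      revert a
      decide
  · intro r hr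
    rw [Finset.mem_biUnion] at hr
    obtain ⟨w, hw, hr⟩ := hr
    have e1 : ∀ x, F r x = F r0 (x + D.B x w • w) := by
      intro x
      rw [Finset.mem_insert, Finset.mem_singleton] at hr
      rcases hr with rfl | rfl
      · rw [hπF]
      · rw [hσF, hπF]
    simp_rw [e1]
    refine Finset.card_bij (fun x _ => x + D.B x w • w) ?_ ?_ ?_
    · intro x hx
      simpa using hx
    · intro x _ y _ h
      exact (hinv w).injective h
    · intro y hy
      refine ⟨y + D.B y w • w, ?_, hinv w y⟩
      simp only [Finset.mem_filter, Finset.mem_univ, true_and] at hy ⊢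
      have := hinv w y
      simp only at this
      rw [this]
      exact hy

/-- the counting statement -/
theorem count (hV : Fintype.card V = 64)
    (hP : ∀ r u v, D.B u v = 0 → F r (u + v) = F r u + F r v)
    (hne : ∀ r, ∃ u, F r u = 1)
    (σ : R → R) (hσ : ∀ r, σ r ≠ r) (hσF : ∀ r, F (σ r) = F r)
    (π : V → R → R) (hπF : ∀ w r x, F (π w r) x = F r (x + D.B x w • w))
    (hsum : ∑ r, (Finset.univ.filter (fun u => F r u = 1)).card = 2016) :
    (Fintype.card R = 72 ∨ Fintype.card R = 56) ∧
      ∀ r u v, F r (u + v) = F r u + F r v + D.B u v := by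
  classical
  have hq : ∀ r u v, F r (u + v) = F r u + F r v + D.B u v := by
    intro r0
    rcases perp_dichotomy D (hP r0) with hadd | hq
    · exfalso
      obtain ⟨U, hU1, hU2⟩ := orbit_bound D F σ hσ hσF π hπF r0
        (Finset.univ.filter (fun w => F r0 w = 1)) (by
          intro w hw x
          simp only [Finset.mem_filter, Finset.mem_univ, true_and] at hw
          rcases z2 (D.B x w) with h | h
          · rw [h, zero_smul, add_zero, add_zero]
          · rw [h, one_smul, hadd, hw])
      have h32 := card_ones_additive hV hadd (hne r0)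
      rw [h32] at hU1 hU2
      have h1 : ∑ r ∈ U, (Finset.univ.filter (fun u => F r u = 1)).card ≤ 2016 := by
        rw [← hsum]
        exact Finset.sum_le_sum_of_subset (Finset.subset_univ _)
      rw [Finset.sum_congr rfl hU2, Finset.sum_const, smul_eq_mul] at h1
      omega
    · exact hq
  refine ⟨?_, hq⟩
  have hR : Nonempty R := by
    by_contra h
    rw [not_nonempty_iff] at h
    rw [Finset.univ_eq_empty, Finset.sum_empty] at hsum
    omega
  obtain ⟨r0⟩ := hR
  obtain ⟨U, hU1, hU2⟩ := orbit_bound D F σ hσ hσF π hπF r0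
    (Finset.univ.filter (fun w => ¬ F r0 w = 1)) (by
      intro w hw x
      simp only [Finset.mem_filter, Finset.mem_univ, true_and] at hw
      rcases z2 (D.B x w) with h | h
      · rw [h, zero_smul, add_zero, add_zero]
      · rw [h, one_smul, hq, h]
        rcases z2 (F r0 w) with h' | h'
        · rw [h', add_zero]
        · exact absurd h' hw)
  have hsplit := Finset.card_filter_add_card_filter_not (s := (Finset.univ : Finset V))
    (fun x => F r0 x = 1)
  rw [Finset.card_univ, hV] at hsplit
  have h28 := card_ones_quadratic D hV (hq r0)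
  have h1 : ∑ r ∈ U, (Finset.univ.filter (fun u => F r u = 1)).card +
      ∑ r ∈ Uᶜ, (Finset.univ.filter (fun u => F r u = 1)).card = 2016 := by
    rw [← hsum]
    exact Finset.sum_add_sum_compl U _
  rw [Finset.sum_congr rfl hU2, Finset.sum_const, smul_eq_mul] at h1
  have h2 : Uᶜ.card ≤ ∑ r ∈ Uᶜ, (Finset.univ.filter (fun u => F r u = 1)).card := by
    rw [Finset.card_eq_sum_ones]
    apply Finset.sum_le_sum
    intro r _
    obtain ⟨u, hu⟩ := hne r
    rw [Nat.one_le_iff_ne_zero, Finset.card_ne_zero]
    exact ⟨u, by simpa using hu⟩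
  have h3 := Finset.card_add_card_compl U
  generalize (Finset.univ.filter (fun x => F r0 x = 1)).card = a at *
  generalize (Finset.univ.filter (fun w => ¬ F r0 w = 1)).card = b at *
  rcases h28 with rfl | rfl
  · left; omega
  · right; omega

/-- a quadratic form does not vanish on a hyperplane `w^⊥` -/
theorem exists_one_perp {q : V → ZMod 2} (hV : Fintype.card V = 64)
    (hq : ∀ u v, q (u + v) = q u + q v + D.B u v) (w : V) : ∃ v, D.B v w = 0 ∧ q v = 1 := by
  by_contra hcon
  push Not at hcon
  have h0 : ∀ v, D.B v w = 0 → q v = 0 := by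
    intro v hv
    rcases z2 (q v) with h | h
    · exact h
    · exact absurd h (hcon v hv)
  have h1 : ∀ u v, D.B u w = 0 → D.B v w = 0 → D.B u v = 0 := by
    intro u v hu hv
    have := hq u v
    rw [h0 _ hu, h0 _ hv, h0 (u + v) (by rw [map_add, LinearMap.add_apply, hu, hv, add_zero])] at this
    simpa using this.symm
  -- choose `u` outside `{0, w}` perpendicular to `w`
  by_cases hw : w = 0
  · subst hw
    have h2 : ∀ u v : V, D.B u v = 0 := fun u v => h1 u v (map_zero _) (map_zero _)
    have h3 : ∀ u : V, u = 0 := fun u => D.nondeg u (h2 u)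
    have : Fintype.card V ≤ 1 := Fintype.card_le_one_iff.2 (fun a b => (h3 a).trans (h3 b).symm)
    omega
  · have h32 := card_perp1 D hV hw
    have : ∃ u ∈ Finset.univ.filter (fun x => D.B x w = 0), u ≠ 0 ∧ u ≠ w := by
      classical
      by_contra hn
      push Not at hn
      have : Finset.univ.filter (fun x => D.B x w = 0) ⊆ {0, w} := by
        intro u hu
        rw [Finset.mem_insert, Finset.mem_singleton]
        by_cases h : u = 0
        · exact Or.inl h
        · exact Or.inr (hn u hu h)
      have h4 := (Finset.card_le_card this).trans Finset.card_le_two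
      omega
    obtain ⟨u, hu, hu0, huw⟩ := this
    simp only [Finset.mem_filter, Finset.mem_univ, true_and] at hu
    obtain ⟨x, hx1, hx2⟩ := D.exists_sep hu0 huw
    have := h1 x u hx2 hu
    rw [hx1] at this
    exact absurd this (by decide)

end Count

end Cfsg.Agent.StdSpSix.PatOneForm
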