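import Cfsg.Agent.StdSpSix.Defs
import Cfsg.Agent.StdSpSix.PatOneForm

/-!
# Pattern `{b₁}`, part 3: the commuting graph on `D = t^G` has components of diameter 2

`s C u = t b_u` are the neighbours of `t` in the commuting graph.
-/

set_option autoImplicit false

namespace Cfsg.Agent.StdSpSix.PatOneRel

open Cfsg.Agent.StandardComponent.SpTwo
open Cfsg.Agent.StdSpSix.PatOneForm

variable {G V : Type*} [Group G] [AddCommGroup V] [Module (ZMod 2) V]

/-- Pattern `{b₁}`: the elements of `D` commuting with `t` are `t` and the `t b_u`, `u ≠ 0`. -/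
structure Pat (C : Ctx G V) : Prop where
  out : ∀ x ∈ C.D, Commute x C.t → x = C.t ∨ ∃ u, u ≠ 0 ∧ x = C.t * C.b u
  mem : ∀ u, u ≠ 0 → C.t * C.b u ∈ C.D

/-- the elements `t b_u` -/
def s (C : Ctx G V) (u : V) : G := C.t * C.b u

/-- distance at most two in the commuting graph on `D` -/
def Rel (D : Set G) (x y : G) : Prop := ∃ z ∈ D, Commute x z ∧ Commute z y

variable {C : Ctx G V}

theorem s_zero : s C 0 = C.t := by rw [s, C.b_zero, mul_one]

theorem s_inj {u v : V} (h : s C u = s C v) : u = v := C.b_inj (mul_left_cancel h)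

theorem b_comm_t (u : V) : Commute (C.b u) C.t := C.commute_of_mem (C.b_mem u)

theorem s_comm_t (u : V) : Commute (s C u) C.t := (Commute.refl C.t).mul_left (b_comm_t u)

theorem b_inv (u : V) : (C.b u)⁻¹ = C.b u := inv_eq_of_mul_eq_one_right (C.b_sq u)

theorem D_inv {x : G} (hx : x ∈ C.D) : x⁻¹ = x := inv_eq_of_mul_eq_one_right (C.D_sq hx)

theorem t_mul_s (u : V) : C.t * s C u = C.b u := by
  rw [s, ← mul_assoc, C.tt, one_mul]

theorem s_commute_iff {u v : V} : Commute (s C u) (s C v) ↔ C.S.B u v = 0 := by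
  rw [← C.b_commute_iff]
  constructor
  · intro h
    have h1 : Commute (C.t * s C u) (s C v) := (s_comm_t v).symm.mul_left h
    have h2 : Commute (C.t * s C u) (C.t * s C v) := by
      refine Commute.mul_right ?_ h1
      exact (Commute.refl _).mul_left (s_comm_t u)
    rwa [t_mul_s, t_mul_s] at h2
  · intro h
    have h1 : Commute (C.t * C.b u) (C.b v) := (b_comm_t v).symm.mul_left h
    exact (s_comm_t u).mul_right h1

/-- conjugation of `s x` by a transvection -/
theorem b_s (w x : V) : C.b w * s C x * (C.b w)⁻¹ = s C (x + C.S.B x w • w) := by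
  have h1 : C.b w * C.b x * (C.b w)⁻¹ = C.b (x + C.S.B x w • w) := by
    have := C.b_conj (C.S.τ w) x
    rw [C.S.hτ] at this
    exact this
  have h2 : C.b w * C.t = C.t * C.b w := b_comm_t w
  rw [s, s, ← h1]
  calc C.b w * (C.t * C.b x) * (C.b w)⁻¹ = (C.b w * C.t) * C.b x * (C.b w)⁻¹ := by group
    _ = C.t * (C.b w * C.b x * (C.b w)⁻¹) := by rw [h2]; group

/-- conjugation of `s x` by `s w` -/
theorem s_s (w x : V) : s C w * s C x * (s C w)⁻¹ = s C (x + C.S.B x w • w) := by
  rw [← b_s]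
  have h : C.t * s C x = s C x * C.t := (s_comm_t x).symm
  have h1 : s C w = C.b w * C.t := (b_comm_t w).symm
  calc s C w * s C x * (s C w)⁻¹ = C.b w * (C.t * s C x) * C.t⁻¹ * (C.b w)⁻¹ := by
        rw [h1]; group
    _ = C.b w * s C x * (C.b w)⁻¹ := by rw [h]; group

theorem z_one {a : ZMod 2} (h : a ≠ 0) : a = 1 := (z2 a).resolve_left h

namespace Pat

variable (P : Pat C)

include P

theorem s_mem (u : V) : s C u ∈ C.D := by
  by_cases h : u = 0
  · subst h
    rw [s_zero]
    exact C.t_mem_D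
  · exact P.mem u h

theorem exists_s {x : G} (hx : x ∈ C.D) (h : Commute x C.t) : ∃ u, x = s C u := by
  rcases P.out x hx h with rfl | ⟨u, -, rfl⟩
  · exact ⟨0, s_zero.symm⟩
  · exact ⟨u, rfl⟩

theorem conj (g : G) : Pat (C.conj g) := by
  constructor
  · intro x hx hc
    rw [C.conj_D] at hx
    have h1 : g⁻¹ * x * g ∈ C.D := by
      have := C.D_conj hx g⁻¹
      rwa [inv_inv] at this
    have h2 : Commute (g⁻¹ * x * g) C.t := by
      have h3 : x * (g * C.t * g⁻¹) = g * C.t * g⁻¹ * x := hc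
      change g⁻¹ * x * g * C.t = C.t * (g⁻¹ * x * g)
      calc g⁻¹ * x * g * C.t = g⁻¹ * (x * (g * C.t * g⁻¹)) * g := by group
        _ = C.t * (g⁻¹ * x * g) := by rw [h3]; group
    rcases P.out _ h1 h2 with h | ⟨u, hu, h⟩
    · left
      rw [C.conj_t, ← h]; group
    · right
      refine ⟨u, hu, ?_⟩
      rw [C.conj_t, C.conj_b]
      calc x = g * (g⁻¹ * x * g) * g⁻¹ := by group
        _ = _ := by rw [h]; group
  · intro u hu
    rw [C.conj_D, C.conj_t, C.conj_b]
    have := C.D_conj (P.mem u hu) g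
    have e : g * C.t * g⁻¹ * (g * C.b u * g⁻¹) = g * (C.t * C.b u) * g⁻¹ := by group
    rw [e]
    exact this

/-- a context with pattern at every element of `D` -/
theorem exists_ctx {x : G} (hx : x ∈ C.D) : ∃ C' : Ctx G V, Pat C' ∧ C'.t = x ∧ C'.D = C.D := by
  obtain ⟨g, hg⟩ := C.exists_ctx hx
  exact ⟨C.conj g, P.conj g, hg, C.conj_D g⟩

/-- the braid relation -/
theorem braid {x y : G} (hx : x ∈ C.D) (hy : y ∈ C.D) (h : Rel C.D x y) (hc : ¬ Commute x y) :
    x * y * x = y * x * y := by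
  obtain ⟨z, hz, h1, h2⟩ := h
  obtain ⟨C', P', rfl, hD⟩ := P.exists_ctx hz
  obtain ⟨c, rfl⟩ := P'.exists_s (hD ▸ hx) h1
  obtain ⟨d, rfl⟩ := P'.exists_s (hD ▸ hy) h2.symm
  rw [s_commute_iff] at hc
  have h3 := z_one hc
  have e1 := s_s (C := C') c d
  have e2 := s_s (C := C') d c
  rw [D_inv (hD ▸ hx)] at e1
  rw [D_inv (hD ▸ hy)] at e2
  rw [e1, e2, C'.S.symm d c, h3, one_smul, one_smul, add_comm]

/-- on a line `{u, v, u + v}` with `s u` commuting with `r`, exactly one of the other two commutes with `r` -/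
theorem kay {r : G} (hr : r ∈ C.D) (hrt : ¬ Commute r C.t) {u v : V} (hu : u ≠ 0) (hv : v ≠ 0)
    (huv : u ≠ v) (hB : C.S.B u v = 0) (hru : Commute r (s C u)) :
    Commute r (s C v) ↔ ¬ Commute r (s C (u + v)) := by
  obtain ⟨C', P', ht, hD⟩ := P.exists_ctx (P.s_mem u)
  have huv0 : u + v ≠ 0 := fun h => huv (eq_of_add _ _ h)
  obtain ⟨w0, hw0⟩ := P'.exists_s (hD ▸ C.t_mem_D) (by rw [ht]; exact (s_comm_t u).symm)
  obtain ⟨c, hc⟩ := P'.exists_s (hD ▸ hr) (by rw [ht]; exact hru)
  obtain ⟨a, ha⟩ := P'.exists_s (hD ▸ P.s_mem v) (by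
    rw [ht, s_commute_iff, C.S.symm]; exact hB)
  obtain ⟨a', ha'⟩ := P'.exists_s (hD ▸ P.s_mem (u + v)) (by
    rw [ht, s_commute_iff, map_add, LinearMap.add_apply, C.S.alt, C.S.symm v u, hB, add_zero])
  have h0 : a' ≠ 0 := by
    rintro rfl
    rw [s_zero, ht] at ha'
    exact hv (by simpa using s_inj ha')
  have h1 : a' ≠ w0 := by
    rintro rfl
    rw [← hw0, ← s_zero] at ha'
    exact huv0 (s_inj ha')
  have h2 : a' ≠ a := by
    rintro rfl
    rw [← ha] at ha'
    exact hu (by simpa using s_inj ha')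
  have h3 : a' = w0 + a := by
    by_contra h3
    obtain ⟨x, hx1, hx2, hx3⟩ := exists_sep3 C'.S h0 h1 h2 h3
    obtain ⟨y', hy'⟩ := P.exists_s (hD ▸ P'.s_mem x) (by
      rw [hw0, s_commute_iff]; exact hx1)
    have h4 : Commute (s C y') (s C u) := by
      rw [← hy', ← ht]; exact s_comm_t x
    have h5 : Commute (s C y') (s C v) := by
      rw [← hy', ha, s_commute_iff]; exact hx2
    have h6 : Commute (s C y') (s C (u + v)) := by
      rw [s_commute_iff] at h4 h5 ⊢
      rw [map_add, h4, h5, add_zero]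
    rw [← hy', ha', s_commute_iff, hx3] at h6
    exact absurd h6 (by decide)
  rw [ha, ha', hc, s_commute_iff, s_commute_iff, h3, map_add]
  rw [hw0, hc, s_commute_iff] at hrt
  rw [z_one hrt]
  generalize C'.S.B c a = b
  revert b
  decide

end Pat

open scoped Classical in
/-- the indicator function of the neighbours of `t` commuting with `r` -/
noncomputable def fr (C : Ctx G V) (r : G) (u : V) : ZMod 2 := if Commute r (s C u) then 1 else 0

theorem fr_eq_one {r : G} {u : V} : fr C r u = 1 ↔ Commute r (s C u) := by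
  unfold fr
  split_ifs with h
  · simp [h]
  · simp [h]

theorem fr_eq_zero {r : G} {u : V} : fr C r u = 0 ↔ ¬ Commute r (s C u) := by
  unfold fr
  split_ifs with h
  · simp [h]
  · simp [h]

theorem fr_congr {C' : Ctx G V} {r r' : G} {u u' : V} (h : Commute r (s C u) ↔ Commute r' (s C' u')) :
    fr C r u = fr C' r' u' := by
  rcases z2 (fr C r u) with h1 | h1
  · rw [h1, eq_comm, fr_eq_zero, ← h]
    exact fr_eq_zero.1 h1
  · rw [h1, eq_comm, fr_eq_one, ← h]
    exact fr_eq_one.1 h1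

theorem fr_perp (P : Pat C) {r : G} (hr : r ∈ C.D) (hrt : ¬ Commute r C.t) (u v : V)
    (hB : C.S.B u v = 0) : fr C r (u + v) = fr C r u + fr C r v := by
  have h0 : fr C r 0 = 0 := by
    rw [fr_eq_zero, s_zero]; exact hrt
  by_cases hu : u = 0
  · rw [hu, h0, zero_add, zero_add]
  by_cases hv : v = 0
  · rw [hv, h0, add_zero, add_zero]
  by_cases huv : u = v
  · subst huv
    rw [aa, h0]
    generalize fr C r u = b
    revert b
    decide
  have huv0 : u + v ≠ 0 := fun h => huv (eq_of_add _ _ h)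
  rcases z2 (fr C r u) with h1 | h1
  · rcases z2 (fr C r v) with h2 | h2
    · rw [h1, h2, add_zero, fr_eq_zero]
      intro h3
      have h4 := P.kay hr hrt huv0 hu (fun h => hv (by simpa using h))
        (by rw [map_add, LinearMap.add_apply, C.S.alt, C.S.symm v u, hB, add_zero]) h3
      rw [add_comm u v, aab] at h4
      exact fr_eq_zero.1 h1 (h4.2 (fr_eq_zero.1 h2))
    · have h4 := P.kay hr hrt hv hu (Ne.symm huv) ((C.S.symm v u).trans hB) (fr_eq_one.1 h2)
      rw [h1, h2, zero_add, add_comm u v, fr_eq_one]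
      by_contra h5
      exact fr_eq_zero.1 h1 (h4.2 h5)
  · have h4 := P.kay hr hrt hu hv huv hB (fr_eq_one.1 h1)
    rcases z2 (fr C r v) with h2 | h2
    · rw [h1, h2, add_zero, fr_eq_one]
      by_contra h5
      exact fr_eq_zero.1 h2 (h4.2 h5)
    · rw [h1, h2, show (1 : ZMod 2) + 1 = 0 from by decide, fr_eq_zero]
      exact h4.1 (fr_eq_one.1 h2)

theorem conj_rel {g x y : G} (h : Rel C.D x y) : Rel C.D (g * x * g⁻¹) (g * y * g⁻¹) := by
  obtain ⟨z, hz, h1, h2⟩ := h
  have key : ∀ a b : G, Commute a b → Commute (g * a * g⁻¹) (g * b * g⁻¹) := by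
    intro a b h
    have h' : a * b = b * a := h
    change g * a * g⁻¹ * (g * b * g⁻¹) = g * b * g⁻¹ * (g * a * g⁻¹)
    calc g * a * g⁻¹ * (g * b * g⁻¹) = g * (a * b) * g⁻¹ := by group
      _ = _ := by rw [h']; group
  exact ⟨g * z * g⁻¹, C.D_conj hz g, key _ _ h1, key _ _ h2⟩

theorem conj_commute_iff {g x y : G} : Commute (g * x * g⁻¹) y ↔ Commute x (g⁻¹ * y * g) := by
  constructor
  · intro h
    have h' : g * x * g⁻¹ * y = y * (g * x * g⁻¹) := h
    change x * (g⁻¹ * y * g) = g⁻¹ * y * g * x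
    calc x * (g⁻¹ * y * g) = g⁻¹ * (g * x * g⁻¹ * y) * g := by group
      _ = _ := by rw [h']; group
  · intro h
    have h' : x * (g⁻¹ * y * g) = g⁻¹ * y * g * x := h
    change g * x * g⁻¹ * y = y * (g * x * g⁻¹)
    calc g * x * g⁻¹ * y = g * (x * (g⁻¹ * y * g)) * g⁻¹ := by group
      _ = _ := by rw [h']; group

theorem rel_symm {D : Set G} {x y : G} (h : Rel D x y) : Rel D y x := by
  obtain ⟨z, hz, h1, h2⟩ := h
  exact ⟨z, hz, h2.symm, h1.symm⟩

theorem rel_of_commute {D : Set G} {x y : G} (hx : x ∈ D) (h : Commute x y) : Rel D x y :=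
  ⟨x, hx, Commute.refl x, h⟩

section Finite

variable [Fintype G] [Fintype V]

open scoped Classical

/-- the elements at distance two from `t` -/
abbrev Two (C : Ctx G V) : Type _ := {r : G // r ∈ C.D ∧ Rel C.D C.t r ∧ ¬ Commute r C.t}

/-- conjugation by an element centralising `t` -/
def conjTwo {g : G} (hg : Commute g C.t) (r : Two C) : Two C :=
  ⟨g * r.1 * g⁻¹, C.D_conj r.2.1 g, by
    have := conj_rel (g := g) r.2.2.1
    have e : g * C.t * g⁻¹ = C.t := by rw [hg.eq]; group
    rwa [e] at this, by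
    rw [conj_commute_iff]
    have e : g⁻¹ * C.t * g = C.t := by
      rw [mul_assoc, ← hg.eq]; group
    rw [e]
    exact r.2.2.2⟩

theorem card_two_u (P : Pat C) (hV : Fintype.card V = 64) {u : V} (hu : u ≠ 0) :
    (Finset.univ.filter (fun r : Two C => fr C r.1 u = 1)).card = 32 := by
  obtain ⟨C', P', ht, hD⟩ := P.exists_ctx (P.s_mem u)
  obtain ⟨w0, hw0⟩ := P'.exists_s (hD ▸ C.t_mem_D) (by rw [ht]; exact (s_comm_t u).symm)
  have hw : w0 ≠ 0 := by
    rintro rfl
    rw [s_zero, ht, ← s_zero] at hw0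
    exact hu (s_inj hw0).symm
  have hm : ∀ c, s C' c ∈ C.D := by
    intro c
    rw [← hD]
    exact P'.s_mem c
  rw [← card_perp1' C'.S hV hw]
  symm
  refine Finset.card_bij (fun c hc => ⟨s C' c, hm c, ⟨s C u, P.s_mem u, (s_comm_t u).symm, ?_⟩, ?_⟩)
    ?_ ?_ ?_
  · rw [← ht]
    exact (s_comm_t c).symm
  · rw [hw0, s_commute_iff]
    simp only [Finset.mem_filter, Finset.mem_univ, true_and] at hc
    rw [hc]
    decide
  · intro c hc
    simp only [Finset.mem_filter, Finset.mem_univ, true_and]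
    rw [fr_eq_one, ← ht]
    exact s_comm_t c
  · intro c _ d _ h
    exact s_inj (congrArg Subtype.val h)
  · intro r hr
    simp only [Finset.mem_filter, Finset.mem_univ, true_and] at hr
    rw [fr_eq_one, ← ht] at hr
    obtain ⟨c, hc⟩ := P'.exists_s (by rw [hD]; exact r.2.1) hr
    refine ⟨c, ?_, Subtype.ext hc.symm⟩
    simp only [Finset.mem_filter, Finset.mem_univ, true_and]
    have := r.2.2.2
    rw [hc, hw0, s_commute_iff] at this
    exact z_one this

theorem sum_ones (P : Pat C) (hV : Fintype.card V = 64) :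
    ∑ r : Two C, (Finset.univ.filter (fun u => fr C r.1 u = 1)).card = 2016 := by
  have h1 : ∑ r : Two C, (Finset.univ.filter (fun u => fr C r.1 u = 1)).card =
      ∑ u : V, (Finset.univ.filter (fun r : Two C => fr C r.1 u = 1)).card :=
    Finset.sum_card_bipartiteAbove_eq_sum_card_bipartiteBelow
      (fun (r : Two C) (u : V) => fr C r.1 u = 1)
  rw [h1]
  have h2 : ∀ u ∈ (Finset.univ : Finset V).erase 0,
      (Finset.univ.filter (fun r : Two C => fr C r.1 u = 1)).card = 32 := by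
    intro u hu
    exact card_two_u P hV (Finset.ne_of_mem_erase hu)
  have h3 : (Finset.univ.filter (fun r : Two C => fr C r.1 0 = 1)).card = 0 := by
    rw [Finset.card_eq_zero, Finset.filter_eq_empty_iff]
    intro r _
    rw [fr_eq_one, s_zero]
    exact r.2.2.2
  rw [← Finset.add_sum_erase _ _ (Finset.mem_univ (0 : V)), h3, Finset.sum_congr rfl h2,
    Finset.sum_const, Finset.card_erase_of_mem (Finset.mem_univ _), Finset.card_univ, hV]
  norm_num

theorem count_two (P : Pat C) (hV : Fintype.card V = 64) :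
    (Fintype.card (Two C) = 72 ∨ Fintype.card (Two C) = 56) ∧
      ∀ (r : Two C) u v, fr C r.1 (u + v) = fr C r.1 u + fr C r.1 v + C.S.B u v := by
  refine count C.S (fun r : Two C => fr C r.1) hV (fun r => fr_perp P r.2.1 r.2.2.2) ?_
    (fun r => conjTwo (Commute.refl C.t) r) ?_ ?_ (fun w r => conjTwo (b_comm_t w) r) ?_ (sum_ones P hV)
  · intro r
    obtain ⟨z, hz, h1, h2⟩ := r.2.2.1
    obtain ⟨u, rfl⟩ := P.exists_s hz h1.symm
    exact ⟨u, fr_eq_one.2 h2.symm⟩
  · intro r h
    have h1 : C.t * r.1 * C.t⁻¹ = r.1 := congrArg Subtype.val h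
    exact r.2.2.2 (mul_inv_eq_iff_eq_mul.1 h1).symm
  · intro r
    funext u
    apply fr_congr
    change Commute (C.t * r.1 * C.t⁻¹) (s C u) ↔ _
    rw [conj_commute_iff]
    have e : C.t⁻¹ * s C u * C.t = s C u := by
      rw [mul_assoc, (s_comm_t u).eq]; group
    rw [e]
  · intro w r x
    apply fr_congr
    change Commute (C.b w * r.1 * (C.b w)⁻¹) (s C x) ↔ _
    rw [conj_commute_iff, ← b_s w x, b_inv]

/-- `r` at distance two from `t`: the function is a quadratic form -/
theorem Pat.quad (P : Pat C) (hV : Fintype.card V = 64) {r : G} (hr : r ∈ C.D) (h : Rel C.D C.t r)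
    (hrt : ¬ Commute r C.t) (u v : V) : fr C r (u + v) = fr C r u + fr C r v + C.S.B u v :=
  (count_two P hV).2 ⟨r, hr, h, hrt⟩ u v

/-- diameter two -/
theorem Pat.step (P : Pat C) (hV : Fintype.card V = 64) {x r y : G} (hx : x ∈ C.D) (hr : r ∈ C.D)
    (hy : y ∈ C.D) (h : Rel C.D x r) (hry : Commute r y) : Rel C.D x y := by
  by_cases hc : Commute x r
  · exact ⟨r, hr, hc, hry⟩
  obtain ⟨C', P', rfl, hD⟩ := P.exists_ctx hr
  obtain ⟨w, rfl⟩ := P'.exists_s (hD ▸ hy) hry.symm
  have hrel : Rel C'.D C'.t x := by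
    obtain ⟨z, hz, h1, h2⟩ := h
    exact ⟨z, hD ▸ hz, h2.symm, h1.symm⟩
  obtain ⟨v, hv1, hv2⟩ := exists_one_perp C'.S hV
    (fun u v => P'.quad hV (hD ▸ hx) hrel hc u v) w
  refine ⟨s C' v, hD ▸ P'.s_mem v, fr_eq_one.1 hv2, ?_⟩
  rw [s_commute_iff]
  exact hv1

theorem Pat.trans (P : Pat C) (hV : Fintype.card V = 64) {x y z : G} (hx : x ∈ C.D) (hy : y ∈ C.D)
    (hz : z ∈ C.D) (h1 : Rel C.D x y) (h2 : Rel C.D y z) : Rel C.D x z := by
  obtain ⟨w, hw, a, b⟩ := h2
  exact P.step hV hx hw hz (P.step hV hx hy hw h1 a) b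

/-- the component of `t` -/
noncomputable def Gam (C : Ctx G V) : Finset G := Finset.univ.filter (fun y => y ∈ C.D ∧ Rel C.D C.t y)

omit [Fintype V] in
theorem mem_Gam {y : G} : y ∈ Gam C ↔ y ∈ C.D ∧ Rel C.D C.t y := by
  simp [Gam]

theorem card_Gam (P : Pat C) (hV : Fintype.card V = 64) : (Gam C).card = 136 ∨ (Gam C).card = 120 := by
  have h1 := (count_two P hV).1
  have h2 := Finset.card_filter_add_card_filter_not (s := Gam C) (fun y => Commute y C.t)
  have h3 : ((Gam C).filter (fun y => Commute y C.t)).card = 64 := by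
    rw [← hV, ← Finset.card_univ]
    symm
    refine Finset.card_bij (fun u _ => s C u) ?_ ?_ ?_
    · intro u _
      rw [Finset.mem_filter, mem_Gam]
      exact ⟨⟨P.s_mem u, rel_of_commute C.t_mem_D (s_comm_t u).symm⟩, s_comm_t u⟩
    · intro u _ v _ h
      exact s_inj h
    · intro y hy
      rw [Finset.mem_filter, mem_Gam] at hy
      obtain ⟨u, hu⟩ := P.exists_s hy.1.1 hy.2
      exact ⟨u, Finset.mem_univ _, hu.symm⟩
  have h4 : ((Gam C).filter (fun y => ¬ Commute y C.t)).card = Fintype.card (Two C) := by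
    rw [Fintype.card_subtype]
    congr 1
    ext y
    rw [Finset.mem_filter, mem_Gam, Finset.mem_filter]
    simp only [Finset.mem_univ, true_and]
    tauto
  omega

end Finite

end Cfsg.Agent.StdSpSix.PatOneRel
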