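import Cfsg.Agent.StdSpSix.PatTwoFin

/-!
Pattern `{a2}`: the class of `t` in `H`.
-/

set_option autoImplicit false

namespace Cfsg.Agent.StdSpSix.PatTwo

open V

namespace Std

open Six

variable {G : Type*} [Group G] (S : Std G)

theorem lam_one_of {g : G} (hg : g ∈ S.HH) (h : S.Lam g false) (hl : S.lam ⟨g, hg⟩ = -1) : False := by
  rw [S.lam_eq hg h] at hl
  exact absurd hl (by decide)

/-- Case of a fixed point. -/
theorem cls_fix {g : G} (hx : g⁻¹ * S.t * g ∈ S.HH) (hl : S.lam ⟨_, hx⟩ = -1) {v : V} (hv : InU v)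
    (hfix : g⁻¹ * S.t * g * (S.t * S.Z e1 v) = S.t * S.Z e1 v * (g⁻¹ * S.t * g)) :
    ∃ k ∈ S.HH, g⁻¹ * S.t * g = k * S.t * k⁻¹ := by
  obtain ⟨r, hr⟩ := S.exists_Ov hv
  have hrH := S.mem_HH_of_Ov hr
  have h1 : r⁻¹ * (S.t * S.Z e1 v) * r = S.t := by
    calc r⁻¹ * (S.t * S.Z e1 v) * r = r⁻¹ * (S.t * S.Z e1 v * r) := by group
      _ = S.t := by rw [← hr.ht]; group
  set x := g⁻¹ * S.t * g with hxd
  have hc : Commute (r⁻¹ * x * r) S.t := by
    unfold Commute SemiconjBy
    conv_lhs => rw [← h1]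
    conv_rhs => rw [← h1]
    calc r⁻¹ * x * r * (r⁻¹ * (S.t * S.Z e1 v) * r) = r⁻¹ * (x * (S.t * S.Z e1 v)) * r := by group
      _ = r⁻¹ * (S.t * S.Z e1 v * x) * r := by rw [hfix]
      _ = _ := by group
  have h2 : r⁻¹ * x * r = (r⁻¹ * g⁻¹) * S.t * (r⁻¹ * g⁻¹)⁻¹ := by rw [hxd]; group
  rcases S.D2 (r⁻¹ * g⁻¹) (by rw [← h2]; exact hc) with h3 | ⟨z, hz, h3⟩
  · refine ⟨r, hrH, ?_⟩
    rw [← h2] at h3
    rw [← h3]; group
  · rw [← h2] at h3
    have hx' : r⁻¹ * x * r ∈ S.HH := S.HH.mul_mem (S.HH.mul_mem (S.HH.inv_mem hrH) hx) hrH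
    have hzH : z ∈ S.HH := by
      have : z = S.t * (r⁻¹ * x * r) := by rw [h3, ← mul_assoc, S.tt, one_mul]
      rw [this]
      exact S.HH.mul_mem S.t_mem_HH hx'
    have hzK : S.Ku z := by
      obtain ⟨h, w, k, hh, hk, he⟩ := hzH
      have : h ∈ S.L := by
        have : h = z * k⁻¹ := by rw [he]; group
        rw [this]
        exact S.L.mul_mem hz.mem (S.L.inv_mem hk.p.mem)
      obtain ⟨-, u, d, hu, hem⟩ := hh.of_mem S this
      rw [he, hem]
      exact (S.Ku_em hu d).mul S hk
    rcases S.IsA2_Ku hz hzK with ⟨u, hu, hzu⟩ | hchi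
    · obtain ⟨r', hr'⟩ := S.exists_Ov hu
      refine ⟨r * r', S.HH.mul_mem hrH (S.mem_HH_of_Ov hr'), ?_⟩
      have h4 : r' * S.t * r'⁻¹ = S.t * S.Z e1 u := by rw [hr'.ht]; group
      calc x = r * (r⁻¹ * x * r) * r⁻¹ := by group
        _ = r * (r' * S.t * r'⁻¹) * r⁻¹ := by rw [h3, h4, hzu]
        _ = _ := by group
    · exfalso
      have h4 := S.Lam_mul S.Lam_t (S.Lam_Ku hzK)
      rw [← h3, hchi, Bool.xor_self] at h4
      refine S.lam_one_of hx' h4 ?_
      have h5 : (⟨r⁻¹ * x * r, hx'⟩ : S.HH) = ⟨r, hrH⟩⁻¹ * ⟨x, hx⟩ * ⟨r, hrH⟩ := Subtype.ext rfl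
      rw [h5, map_mul, map_mul, map_inv, hl, mul_assoc, mul_comm (-1 : ℤˣ), ← mul_assoc,
        inv_mul_cancel, one_mul]

/-- Main lemma on the class of `t` in `H`. -/
theorem cls {g : G} (hx : g⁻¹ * S.t * g ∈ S.HH) (hl : S.lam ⟨_, hx⟩ = -1) :
    ∃ k ∈ S.HH, g⁻¹ * S.t * g = k * S.t * k⁻¹ := by
  obtain ⟨h, w, k, hh, hk, he⟩ := id hx
  by_cases hF : ∃ v, InU v ∧ prj (S.act k v) + w = v
  · obtain ⟨v, hv, hv2⟩ := hF
    refine S.cls_fix hx hl hv ?_
    have := S.act_tY hh hk.p hv
    rw [hv2, ← he] at this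
    exact this
  push Not at hF
  have hxx : h * k * (h * k) = 1 := by
    rw [← he]
    calc g⁻¹ * S.t * g * (g⁻¹ * S.t * g) = g⁻¹ * (S.t * S.t) * g := by group
      _ = 1 := by rw [S.tt]; group
  have kU : ∀ v, InU v → InU (prj (S.act k v)) := fun v hv => inU_prj _ (hk.p.perp S hv.perp)
  have kadd : ∀ u v, prj (S.act k (u + v)) = prj (S.act k u) + prj (S.act k v) := by
    intro u v; rw [S.act_add k hk.p.mem, prj_add]
  have kform : ∀ u v, InU u → InU v → form (prj (S.act k u)) (prj (S.act k v)) = form u v := by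
    intro u v hu hv
    rw [form_prj_left (kU v hv).perp, form_comm, form_prj_left (hk.p.perp S hu.perp),
      S.act_form k hk.p.mem, form_comm]
  -- the square
  have hσ : ∀ v, InU v → prj (S.act k (prj (S.act k v) + w)) + w = v := by
    intro v hv
    have h1 := S.act_tY hh hk.p hv
    have hi : InU (prj (S.act k v) + w) := (kU v hv).add hh.hw
    have h2 := S.act_tY hh hk.p hi
    have h3 : S.t * S.Z e1 v = S.t * S.Z e1 (prj (S.act k (prj (S.act k v) + w)) + w) := by
      calc S.t * S.Z e1 v = h * k * (h * k) * (S.t * S.Z e1 v) := by rw [hxx, one_mul]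
        _ = h * k * (h * k * (S.t * S.Z e1 v)) := by group
        _ = (h * k * (S.t * S.Z e1 (prj (S.act k v) + w))) * (h * k) := by rw [h1]; group
        _ = S.t * S.Z e1 (prj (S.act k (prj (S.act k v) + w)) + w) * (h * k * (h * k)) := by
            rw [h2]; group
        _ = _ := by rw [hxx, mul_one]
    exact (S.Y_inj hv ((kU _ hi).add hh.hw) (mul_left_cancel h3)).symm
  have k0 : prj (S.act k 0) = 0 := by rw [S.act_zero hk.p.mem]; decide
  have kw : prj (S.act k w) = w := by
    have := hσ 0 inU_zero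
    rw [k0, zero_add] at this
    exact eq_of_add this
  have kk : ∀ v, InU v → prj (S.act k (prj (S.act k v))) = v := by
    intro v hv
    have := hσ v hv
    rwa [kadd, kw, aba] at this
  have hw0 : w ≠ 0 := by
    intro h0
    exact hF 0 inU_zero (by rw [k0, h0]; rfl)
  set n : V → V := fun v => prj (S.act k v) + v with hn
  have nU : ∀ v, InU v → InU (n v) := fun v hv => (kU v hv).add hv
  have nadd : ∀ u v, n (u + v) = n u + n v := by
    intro u v
    simp only [hn]
    rw [kadd]; abel
  have nw : n w = 0 := by simp only [hn]; rw [kw, aa]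
  have nn : ∀ v, InU v → n (n v) = 0 := by
    intro v hv
    simp only [hn]
    rw [kadd, kk v hv, ← add_assoc, aba, add_comm v, aa]
  have nself : ∀ u v, InU u → InU v → form (n u) v = form u (n v) := by
    intro u v hu hv
    simp only [hn]
    rw [form_add_left, form_add_right]
    congr 1
    rw [← kform _ _ (kU u hu) hv, kk u hu]
  have nne : ∀ v, InU v → n v ≠ w := by
    intro v hv h1
    apply hF v hv
    simp only [hn] at h1
    rw [← h1, aab]
  have nsm : ∀ c v, n (sm c v) = sm c (n v) := by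
    intro c v
    cases c
    · rw [sm_false, sm_false]; simp only [hn]; rw [k0, add_zero]
    · rfl
  have hx2 : ∀ v, InU v → h * k * (S.t * S.Z e1 v) = S.t * S.Z e1 (v + n v + w) * (h * k) := by
    intro v hv
    have : v + n v = prj (S.act k v) := by
      simp only [hn]; rw [add_comm (prj _), aab]
    rw [this]
    exact S.act_tY hh hk.p hv
  by_cases hB1 : ∀ v, InU v → n v = 0
  · -- trivial action: an element of `K1`
    exfalso
    have hA : S.IsA1 k := by
      have key : ∀ v, InU v → S.act k v = v ∨ S.act k v = v + e1 := by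
        intro v hv
        have h1 := eq_of_add (hB1 v hv)
        unfold prj at h1
        cases hc : form (S.act k v) f1
        · left
          rw [hc, sm_false, add_zero] at h1
          exact h1
        · right
          rw [hc, sm_true] at h1
          calc S.act k v = S.act k v + e1 + e1 := (aba _ _).symm
            _ = v + e1 := by rw [h1]
      exact ⟨hk.p.mem, hk.p.h, key e2 (by decide), key e3 (by decide), key f2 (by decide),
        key f3 (by decide)⟩
    obtain ⟨u, hu, d, hkd⟩ := hA.form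
    have hke : k = S.em false u d := by
      rw [hkd]; unfold Std.em; rw [pw_false, one_mul]
    have ho := hh.mul S (Ov.em S hu false d)
    rw [← hke, add_zero] at ho
    have hK : S.InK (h * k) w := ⟨ho, ⟨false, by rw [hxx, pw_false]⟩, fun h => absurd h hw0⟩
    have hLam : S.Lam (g⁻¹ * S.t * g) false := by
      refine ⟨h * k, w, 1, false, ?_, Ku.one S, by rw [mul_one, he], ?_⟩
      · rw [pw_false, one_mul]; exact hK
      · rw [S.chi_one]; rfl
    exact S.lam_one_of hx hLam hl
  · push Not at hB1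
    obtain ⟨v0, hv0, hp0⟩ := hB1
    set p := n v0 with hp
    have hpU : InU p := nU v0 hv0
    have hwp : form w p = false := by
      rw [hp, ← nself w v0 hh.hw hv0, nw, form_zero_left]
    by_cases hB2 : ∀ v, InU v → n v = 0 ∨ n v = p
    · exfalso
      have hsm : ∀ v, InU v → ∃ c, n v = sm c p := by
        intro v hv
        rcases hB2 v hv with h1 | h1
        · exact ⟨false, h1⟩
        · exact ⟨true, h1⟩
      have hform : ∀ v, InU v → n v = sm (form v p) p := by
        intro v hv
        obtain ⟨c, hc⟩ := hsm v hv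
        have h1 := nself v0 v hv0 hv
        rw [← hp, hc, form_sm_right] at h1
        have h2 : form v0 p = true := by
          by_contra h3
          rw [Bool.not_eq_true] at h3
          obtain ⟨u, hu, hu2⟩ := dec_third' p hpU hp0
          obtain ⟨c', hc'⟩ := hsm u hu
          have h4 := nself v0 u hv0 hu
          rw [← hp, hc', form_sm_right, h3, Bool.and_false, hu2] at h4
          cases h4
        rw [h2, Bool.and_true] at h1
        rw [hc, form_comm v p, h1]
      refine S.no_transvection (g := g) (x := h * k) (p := p) (w := w) he.symm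
        (hh.hb.mul_left hk.p.b_comm) hpU hh.hw hwp hp0 hw0 (fun h1 => nne v0 hv0 h1.symm) ?_
      intro v hv
      rw [← hform v hv]
      exact hx2 v hv
    · push Not at hB2
      obtain ⟨v1, hv1, hq0, hqp⟩ := hB2
      exfalso
      have hpq : form (n v1) p = false := by
        rw [hp, ← nself _ v0 (nU v1 hv1) hv0, nn v1 hv1, form_zero_left]
      have hwq : form w (n v1) = false := by
        rw [← nself w v1 hh.hw hv1, nw, form_zero_left]
      obtain ⟨a, c, hac⟩ := dec_span hpU (nU v1 hv1) hh.hw hpq hp0 hq0 hqp hwp hwq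
      refine nne (sm a v1 + sm c v0) ((inU_sm hv1 a).add (inU_sm hv0 c)) ?_
      rw [nadd, nsm, nsm, ← hp, ← hac]

end Std

end Cfsg.Agent.StdSpSix.PatTwo
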