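import Mathlib

/-!
Coordinates for the six-dimensional symplectic space over the field with two elements:
vectors are codes `0, …, 63` (bits `e1 e2 e3 f1 f2 f3`), addition is xor.
-/

set_option autoImplicit false

namespace Cfsg.Agent.StdSpSix.PatTwo

/-- The symplectic space `F_2^6`, as codes. -/
def V : Type := Fin 64

namespace V

instance : DecidableEq V := inferInstanceAs (DecidableEq (Fin 64))
instance : Fintype V := inferInstanceAs (Fintype (Fin 64))
instance : Inhabited V := ⟨(⟨0, by decide⟩ : Fin 64)⟩
instance decAll {p : V → Prop} [h : DecidablePred p] : Decidable (∀ x : V, p x) :=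
  @Nat.decidableForallFin 64 p h
instance decEx {p : V → Prop} [h : DecidablePred p] : Decidable (∃ x : V, p x) :=
  @decidable_of_iff _ (¬ ∀ x : V, ¬ p x) (by simp) (@instDecidableNot _ (@decAll (fun x => ¬ p x)
    (fun x => @instDecidableNot _ (h x))))

/-- The underlying number of a code. -/
def num (x : V) : ℕ := Fin.val (n := 64) x

theorem ext {x y : V} (h : x.num = y.num) : x = y := Fin.val_injective h

theorem num_lt (x : V) : x.num < 64 := Fin.isLt (n := 64) x

/-- The code with a given number. -/
def mk (n : ℕ) (h : n < 64) : V := (⟨n, h⟩ : Fin 64)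

theorem num_mk (n : ℕ) (h : n < 64) : (mk n h).num = n := rfl

/-- Addition of codes is xor. -/
def add (x y : V) : V := mk (x.num ^^^ y.num) (Nat.xor_lt_two_pow (n := 6) x.num_lt y.num_lt)

instance : Zero V := ⟨mk 0 (by decide)⟩
instance : Add V := ⟨add⟩
instance : Neg V := ⟨fun x => x⟩

theorem num_add (x y : V) : (x + y).num = x.num ^^^ y.num := rfl
theorem num_zero : (0 : V).num = 0 := rfl
theorem neg_eq (x : V) : -x = x := rfl

instance : AddCommGroup V where
  add_assoc x y z := ext (by simp only [num_add]; exact Nat.xor_assoc _ _ _)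
  zero_add x := ext (by rw [num_add, num_zero]; exact Nat.zero_xor _)
  add_zero x := ext (by rw [num_add, num_zero]; exact Nat.xor_zero _)
  nsmul := nsmulRec
  zsmul := zsmulRec
  neg_add_cancel x := ext (by rw [num_add, neg_eq, num_zero]; exact Nat.xor_self _)
  add_comm x y := ext (by simp only [num_add]; exact Nat.xor_comm _ _)

theorem aa (x : V) : x + x = 0 := by
  have := neg_add_cancel x
  rwa [neg_eq] at this

theorem aab (x y : V) : x + (x + y) = y := by rw [← add_assoc, aa, zero_add]
theorem aba (x y : V) : x + y + y = x := by rw [add_assoc, aa, add_zero]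
theorem abb (x y : V) : x + y + x = y := by rw [add_comm x y, aba]
theorem eq_of_add {x y : V} (h : x + y = 0) : x = y := by
  have := congrArg (· + y) h
  simpa only [aba, zero_add] using this
theorem add_eq_zero_iff' {x y : V} : x + y = 0 ↔ x = y :=
  ⟨eq_of_add, fun h => by rw [h, aa]⟩

/-- Swap the two halves of a code. -/
def swp (x : ℕ) : ℕ := (x >>> 3) ||| ((x &&& 7) <<< 3)

/-- Parity of a number `< 64`. -/
def par (x : ℕ) : Bool := Nat.testBit 0x6996966996696996 x

/-- The symplectic form. -/
def form (x y : V) : Bool := par (x.num &&& swp y.num)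

theorem par_xor : ∀ x y : V, par (x.num ^^^ y.num) = (par x.num ^^ par y.num) := by
  decide +kernel

theorem and_lt (x : V) (n : ℕ) : x.num &&& n < 64 := lt_of_le_of_lt Nat.and_le_left x.num_lt

theorem form_add_left (x y z : V) : form (x + y) z = (form x z ^^ form y z) := by
  have := par_xor (mk (x.num &&& swp z.num) (and_lt _ _)) (mk (y.num &&& swp z.num) (and_lt _ _))
  simp only [num_mk] at this
  unfold form
  rw [num_add, Nat.and_xor_distrib_right, this]

theorem form_comm : ∀ x y : V, form x y = form y x := by decide +kernel

theorem form_self : ∀ x : V, form x x = false := by decide +kernel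

theorem form_add_right (x y z : V) : form x (y + z) = (form x y ^^ form x z) := by
  rw [form_comm, form_add_left, form_comm y, form_comm z]

theorem form_zero_left : ∀ x : V, form 0 x = false := by decide +kernel
theorem form_zero_right : ∀ x : V, form x 0 = false := by decide +kernel

/-- The basis vectors. -/
def e1 : V := mk 1 (by decide)
def e2 : V := mk 2 (by decide)
def e3 : V := mk 4 (by decide)
def f1 : V := mk 8 (by decide)
def f2 : V := mk 16 (by decide)
def f3 : V := mk 32 (by decide)

/-- The transvection with centre `v`, as a function. -/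
def trf (v x : V) : V := bif form x v then x + v else x

/-- Scalar multiple by a Boolean. -/
def sm (c : Bool) (v : V) : V := bif c then v else 0

theorem sm_true (v : V) : sm true v = v := rfl
theorem sm_false (v : V) : sm false v = 0 := rfl
theorem sm_zero (c : Bool) : sm c 0 = 0 := by cases c <;> rfl
theorem sm_add (c : Bool) (v w : V) : sm c (v + w) = sm c v + sm c w := by
  cases c
  · simp [sm_false]
  · rfl
theorem sm_xor (c d : Bool) (v : V) : sm (c ^^ d) v = sm c v + sm d v := by
  cases c <;> cases d <;> simp [sm_true, sm_false, aa]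

theorem trf_eq (v x : V) : trf v x = x + sm (form x v) v := by
  unfold trf sm
  cases form x v <;> simp

/-- Linear combination of six vectors with the bits of a code. -/
def lin (a1 a2 a3 b1 b2 b3 x : V) : V :=
  sm (x.num.testBit 0) a1 + sm (x.num.testBit 1) a2 + sm (x.num.testBit 2) a3 +
    sm (x.num.testBit 3) b1 + sm (x.num.testBit 4) b2 + sm (x.num.testBit 5) b3

theorem lin_basis : ∀ x : V, x = lin e1 e2 e3 f1 f2 f3 x := by decide +kernel

theorem map_lin {φ : V → V} (h : ∀ x y, φ (x + y) = φ x + φ y) (x : V) :
    φ x = lin (φ e1) (φ e2) (φ e3) (φ f1) (φ f2) (φ f3) x := by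
  have h0 : φ 0 = 0 := by
    have := h 0 0
    rw [aa] at this
    rw [this, aa]
  have hs : ∀ (c : Bool) (v : V), φ (sm c v) = sm c (φ v) := by
    intro c v
    cases c
    · exact h0
    · rfl
  conv_lhs => rw [lin_basis x]
  unfold lin
  rw [h, h, h, h, h, hs, hs, hs, hs, hs, hs]

/-- The function of a short root element: `x ↦ x + (x,c) a + (x,a) c`. -/
def zf (a c x : V) : V := x + sm (form x c) a + sm (form x a) c

end V

end Cfsg.Agent.StdSpSix.PatTwo
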