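import Cfsg.Agent.StdSpSix.PatTwoSix

/-!
Facts about `Sp_6(2)`: centralisers of some subgroups of unipotent radicals, and
transitivity on triples generating a short-root-pure subgroup of order eight.
-/

set_option autoImplicit false

namespace Cfsg.Agent.StdSpSix.PatTwo

open V

namespace Six

variable {G : Type*} [Group G] (S : Six G)

/-- Boolean power. -/
def pw (c : Bool) (g : G) : G := bif c then g else 1

theorem pw_true (g : G) : pw true g = g := rfl
theorem pw_false (g : G) : pw false g = 1 := rfl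

theorem pw_mem {H : Subgroup G} {g : G} (h : g ∈ H) (c : Bool) : pw c g ∈ H := by
  cases c
  · exact H.one_mem
  · exact h

theorem act_pw (c : Bool) (g : G) (x : V) : S.act (pw c g) x = bif c then S.act g x else x := by
  cases c
  · exact S.act_one x
  · rfl

theorem pw_xor {g : G} (h : g * g = 1) (c d : Bool) : pw (c ^^ d) g = pw c g * pw d g := by
  cases c <;> cases d <;> simp [pw_true, pw_false, h]

theorem pw_comm {g h : G} (hh : g * h = h * g) (c : Bool) : pw c g * h = h * pw c g := by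
  cases c
  · rw [pw_false, one_mul, mul_one]
  · exact hh

/-! ### The radical of a point stabiliser -/

/-- The central involution of the point stabiliser. -/
def b : G := S.T e1

theorem b_mem : S.b ∈ S.L := S.T_mem _
theorem b_sq : S.b * S.b = 1 := S.T_sq _

theorem Y_mul {u v : V} (hu : form e1 u = false) (hv : form e1 v = false) :
    S.Z e1 u * S.Z e1 v = S.Z e1 (u + v) * pw (form u v) S.b := by
  have huv : form e1 (u + v) = false := by rw [form_add_right, hu, hv]; rfl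
  have hu' : form u e1 = false := by rw [form_comm, hu]
  have hv' : form v e1 = false := by rw [form_comm, hv]
  refine S.act_inj _ (S.L.mul_mem (S.Z_mem _ _) (S.Z_mem _ _)) _
    (S.L.mul_mem (S.Z_mem _ _) (pw_mem S.b_mem _)) fun x => ?_
  rw [S.act_mul _ (S.Z_mem _ _) _ (S.Z_mem _ _), S.act_mul _ (S.Z_mem _ _) _ (pw_mem S.b_mem _),
    S.act_Z hv, S.act_Z hu, S.act_Z huv, S.act_pw]
  unfold b zf
  rw [S.act_T']
  have hvu : form v u = form u v := form_comm _ _
  cases h1 : form x e1 <;> cases h2 : form x u <;> cases h3 : form x v <;> cases h4 : form u v <;>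
    simp [form_add_left, form_add_right, h1, h2, h3, h4, hu, hv, hu', hv', hvu, sm_true, sm_false,
      form_self] <;> vnorm

theorem Y_e1 {u : V} (hu : form e1 u = false) : S.Z e1 (u + e1) = S.Z e1 u := by
  rw [add_comm, S.Z_add_right hu]

theorem b_comm_Y {u : V} (hu : form e1 u = false) : S.b * S.Z e1 u = S.Z e1 u * S.b :=
  S.T_comm_Z (form_self _) hu

/-- `u` lies in the complement `⟨e2, e3, f2, f3⟩`. -/
def InU (u : V) : Prop := form u e1 = false ∧ form u f1 = false

instance (u : V) : Decidable (InU u) := by unfold InU; infer_instance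

theorem InU.perp {u : V} (h : InU u) : form e1 u = false := by rw [form_comm, h.1]

theorem InU.add {u v : V} (hu : InU u) (hv : InU v) : InU (u + v) :=
  ⟨by rw [form_add_left, hu.1, hv.1]; rfl, by rw [form_add_left, hu.2, hv.2]; rfl⟩

/-- Projection of `e1^⊥` to the complement. -/
def prj (x : V) : V := x + sm (form x f1) e1

theorem inU_prj : ∀ x : V, form e1 x = false → InU (prj x) := by decide +kernel

theorem prj_add (x y : V) : prj (x + y) = prj x + prj y := by
  unfold prj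
  rw [form_add_left, sm_xor]
  vnorm

theorem prj_of_inU {x : V} (h : InU x) : prj x = x := by
  unfold prj
  rw [h.2, sm_false, add_zero]

theorem prj_e1 : prj e1 = 0 := by decide

theorem Y_prj {u : V} (hu : form e1 u = false) : S.Z e1 (prj u) = S.Z e1 u := by
  unfold prj
  cases h : form u f1
  · rw [sm_false, add_zero]
  · rw [sm_true, S.Y_e1 hu]

theorem form_prj_left {u v : V} (hv : form e1 v = false) : form (prj u) v = form u v := by
  unfold prj
  rw [form_add_left]
  cases h : form u f1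
  · rw [sm_false, form_zero_left, Bool.xor_false]
  · rw [sm_true, hv, Bool.xor_false]

theorem Y_mul' {u v : V} (hu : InU u) (hv : InU v) :
    S.Z e1 u * S.Z e1 v = S.Z e1 (u + v) * pw (form u v) S.b := S.Y_mul hu.perp hv.perp

theorem Y_comm {u v : V} (hu : form e1 u = false) (hv : form e1 v = false) :
    S.Z e1 u * S.Z e1 v = S.Z e1 v * S.Z e1 u := by
  rw [S.Y_mul hu hv, S.Y_mul hv hu, add_comm, form_comm]

theorem act_Y_f1 {u : V} (hu : form e1 u = false) : S.act (S.Z e1 u) f1 = f1 + sm (form f1 u) e1 + u := by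
  rw [S.act_Z hu]
  rfl

theorem dec_yinj : ∀ u v : V, InU u → InU v → zf e1 u f1 = zf e1 v f1 → u = v := by decide +kernel

theorem Y_inj {u v : V} (hu : InU u) (hv : InU v) (h : S.Z e1 u = S.Z e1 v) : u = v := by
  apply dec_yinj u v hu hv
  rw [← S.act_Z hu.perp, ← S.act_Z hv.perp, h]

theorem dec_ynb : ∀ u v : V, InU u → InU v → zf e1 u (trf e1 f1) = zf e1 v f1 → False := by
  decide +kernel

theorem Y_b_ne {u v : V} (hu : InU u) (hv : InU v) : S.Z e1 u * S.b ≠ S.Z e1 v := by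
  intro h
  apply dec_ynb u v hu hv
  rw [← S.act_Z hu.perp, ← S.act_Z hv.perp, ← h, S.act_mul _ (S.Z_mem _ _) _ S.b_mem, b, S.act_T]

theorem dec_yalt : ∀ u : V, InU u → form f1 (zf e1 u (trf e1 f1)) = true := by decide +kernel

theorem not_alt {u : V} (hu : InU u) : form f1 (S.act (S.Z e1 u * S.b) f1) = true := by
  rw [S.act_mul _ (S.Z_mem _ _) _ S.b_mem, b, S.act_T, S.act_Z hu.perp]
  exact dec_yalt u hu

/-- Elements acting trivially on `e1` and on `e1^⊥ / e1`. -/
structure IsA1 (g : G) : Prop where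
  mem : g ∈ S.L
  h1 : S.act g e1 = e1
  h2 : S.act g e2 = e2 ∨ S.act g e2 = e2 + e1
  h3 : S.act g e3 = e3 ∨ S.act g e3 = e3 + e1
  h4 : S.act g f2 = f2 ∨ S.act g f2 = f2 + e1
  h5 : S.act g f3 = f3 ∨ S.act g f3 = f3 + e1

theorem dec_a1 : ∀ x : V, form x e1 = true → ∀ i j k l : Bool,
    form x (e2 + sm i e1) = false → form x (e3 + sm j e1) = false →
    form x (f2 + sm k e1) = false → form x (f3 + sm l e1) = false →
      InU (prj (x + f1)) ∧
      (∃ s : Bool, x = zf e1 (prj (x + f1)) (bif s then trf e1 f1 else f1)) ∧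
      e2 + sm i e1 = zf e1 (prj (x + f1)) e2 ∧ e3 + sm j e1 = zf e1 (prj (x + f1)) e3 ∧
      f2 + sm k e1 = zf e1 (prj (x + f1)) f2 ∧ f3 + sm l e1 = zf e1 (prj (x + f1)) f3 := by
  decide +kernel

theorem dec_a1e : ∀ u : V, InU u → ∀ s : Bool, zf e1 u (bif s then trf e1 e1 else e1) = e1 := by
  decide +kernel

theorem or_sm {x y z : V} (h : x = y ∨ x = y + z) : ∃ c : Bool, x = y + sm c z := by
  rcases h with h | h
  · exact ⟨false, by rw [sm_false, add_zero, h]⟩
  · exact ⟨true, h⟩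

theorem IsA1.form {g : G} (h : S.IsA1 g) : ∃ u, InU u ∧ ∃ c, g = S.Z e1 u * pw c S.b := by
  obtain ⟨i, hi⟩ := or_sm h.h2
  obtain ⟨j, hj⟩ := or_sm h.h3
  obtain ⟨k, hk⟩ := or_sm h.h4
  obtain ⟨l, hl⟩ := or_sm h.h5
  have hg := h.mem
  obtain ⟨hU, ⟨s, hs⟩, k2, k3, k4, k5⟩ := dec_a1 (S.act g f1)
    (by rw [← h.h1, S.act_form g hg]; decide) i j k l
    (by rw [← hi, S.act_form g hg]; decide) (by rw [← hj, S.act_form g hg]; decide)
    (by rw [← hk, S.act_form g hg]; decide) (by rw [← hl, S.act_form g hg]; decide)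
  refine ⟨_, hU, s, ?_⟩
  have hb := pw_mem S.b_mem s
  have key : ∀ x, S.act (S.Z e1 (prj (S.act g f1 + f1)) * pw s S.b) x =
      zf e1 (prj (S.act g f1 + f1)) (bif s then trf e1 x else x) := by
    intro x
    rw [S.act_mul _ (S.Z_mem _ _) _ hb, S.act_Z hU.perp, S.act_pw, b, S.act_T]
  refine S.ext_basis hg (S.L.mul_mem (S.Z_mem _ _) hb) ?_ ?_ ?_ ?_ ?_ ?_
  · rw [key, h.h1, dec_a1e _ hU]
  · rw [key, hi, k2]; cases s <;> rfl
  · rw [key, hj, k3]; cases s <;> rfl
  · rw [key]; exact hs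
  · rw [key, hk, k4]; cases s <;> rfl
  · rw [key, hl, k5]; cases s <;> rfl

theorem dec_yc : ∀ x w : V, form e1 x = false → form e1 w = false →
    zf e1 x f1 = zf e1 w f1 → x = w ∨ x = w + e1 := by decide +kernel

theorem act_of_Y_comm {g : G} (hg : g ∈ S.L) (h1 : S.act g e1 = e1) {w : V}
    (hw : V.form e1 w = false) (hc : g * S.Z e1 w = S.Z e1 w * g) :
    S.act g w = w ∨ S.act g w = w + e1 := by
  have hw' : V.form e1 (S.act g w) = false := by
    conv_lhs => rw [← h1]
    rw [S.act_form g hg, hw]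
  refine dec_yc _ _ hw' hw ?_
  rw [← S.act_Z hw', ← S.act_Z hw]
  congr 1
  rw [S.mul_Z hg, h1] at hc
  exact mul_right_cancel hc

theorem isA1_of_comm {g : G} (hg : g ∈ S.L) (h1 : g * S.b = S.b * g)
    (h2 : g * S.Z e1 e2 = S.Z e1 e2 * g) (h3 : g * S.Z e1 e3 = S.Z e1 e3 * g)
    (h4 : g * S.Z e1 f2 = S.Z e1 f2 * g) (h5 : g * S.Z e1 f3 = S.Z e1 f3 * g) : S.IsA1 g := by
  have h := S.act_of_T_comm hg h1
  exact ⟨hg, h, S.act_of_Y_comm hg h (by decide) h2, S.act_of_Y_comm hg h (by decide) h3,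
    S.act_of_Y_comm hg h (by decide) h4, S.act_of_Y_comm hg h (by decide) h5⟩

theorem dec_a4 : ∀ x : V, ∀ i j k : Bool, form x e1 = false → form x (e2 + sm i e1) = true →
    form x (e3 + sm j e1) = false → form x (f3 + sm k e1) = false →
    x = f2 ∨ x = f2 + e1 ∨ x = f2 + e2 ∨ x = f2 + e2 + e1 := by decide +kernel

theorem isA1_of_comm4 {g : G} (hg : g ∈ S.L) (h1 : g * S.b = S.b * g)
    (h2 : g * S.Z e1 e2 = S.Z e1 e2 * g) (h3 : g * S.Z e1 e3 = S.Z e1 e3 * g)
    (h5 : g * S.Z e1 f3 = S.Z e1 f3 * g) : S.IsA1 g ∨ S.IsA1 (g * S.T e2) := by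
  have h := S.act_of_T_comm hg h1
  have k2 := S.act_of_Y_comm hg h (by decide) h2
  have k3 := S.act_of_Y_comm hg h (by decide) h3
  have k5 := S.act_of_Y_comm hg h (by decide) h5
  obtain ⟨i, hi⟩ := or_sm k2
  obtain ⟨j, hj⟩ := or_sm k3
  obtain ⟨k, hk⟩ := or_sm k5
  have hT : ∀ x, S.act (g * S.T e2) x = S.act g (trf e2 x) := by
    intro x
    rw [S.act_mul _ hg _ (S.T_mem _), S.act_T]
  have hgT := S.L.mul_mem hg (S.T_mem e2)
  have t1 : trf e2 e1 = e1 := by decide
  have t2 : trf e2 e2 = e2 := by decide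
  have t3 : trf e2 e3 = e3 := by decide
  have t4 : trf e2 f2 = f2 + e2 := by decide
  have t5 : trf e2 f3 = f3 := by decide
  have hc : S.act g e2 = e2 + sm i e1 := hi
  rcases dec_a4 (S.act g f2) i j k
    (by conv_lhs => rw [← h]
        rw [S.act_form g hg]; decide)
    (by rw [← hi, S.act_form g hg]; decide) (by rw [← hj, S.act_form g hg]; decide)
    (by rw [← hk, S.act_form g hg]; decide) with h4 | h4 | h4 | h4
  · exact Or.inl ⟨hg, h, k2, k3, Or.inl h4, k5⟩
  · exact Or.inl ⟨hg, h, k2, k3, Or.inr h4, k5⟩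
  · refine Or.inr ⟨hgT, by rw [hT, t1, h], by rw [hT, t2]; exact k2, by rw [hT, t3]; exact k3, ?_,
      by rw [hT, t5]; exact k5⟩
    rw [hT, t4, S.act_add g hg, h4, hc]
    cases i
    · left; decide
    · right; decide
  · refine Or.inr ⟨hgT, by rw [hT, t1, h], by rw [hT, t2]; exact k2, by rw [hT, t3]; exact k3, ?_,
      by rw [hT, t5]; exact k5⟩
    rw [hT, t4, S.act_add g hg, h4, hc]
    cases i
    · right; decide
    · left; decide

/-! ### The radical of a plane stabiliser -/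

/-- Elements fixing the plane `⟨e1, e2, e3⟩` pointwise. -/
structure IsAW (g : G) : Prop where
  mem : g ∈ S.L
  h1 : S.act g e1 = e1
  h2 : S.act g e2 = e2
  h3 : S.act g e3 = e3

theorem dec_aw : ∀ x y : V, form x y = false → zf x y f1 = zf e1 e2 f1 → zf x y f2 = zf e1 e2 f2 →
    zf x y f3 = f3 → (x = e1 ∨ x = e2 ∨ x = e1 + e2) ∧ (y = e1 ∨ y = e2 ∨ y = e1 + e2) := by
  decide +kernel

theorem dec_aw3 : ∀ x y : V, form x y = false → zf x y f1 = zf e1 e3 f1 → zf x y f3 = zf e1 e3 f3 →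
    zf x y f2 = f2 → (x = e1 ∨ x = e3 ∨ x = e1 + e3) ∧ (y = e1 ∨ y = e3 ∨ y = e1 + e3) := by
  decide +kernel

theorem dec_aw23 : ∀ x y : V, form x y = false → zf x y f2 = zf e2 e3 f2 → zf x y f3 = zf e2 e3 f3 →
    zf x y f1 = f1 → (x = e2 ∨ x = e3 ∨ x = e2 + e3) ∧ (y = e2 ∨ y = e3 ∨ y = e2 + e3) := by
  decide +kernel

theorem zf_of_comm {g : G} (hg : g ∈ S.L) {a c : V} (hac : V.form a c = false)
    (h : g * S.Z a c = S.Z a c * g) (x : V) : zf (S.act g a) (S.act g c) x = zf a c x := by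
  have hac' : V.form (S.act g a) (S.act g c) = false := by rw [S.act_form g hg, hac]
  rw [← S.act_Z hac, ← S.act_Z hac']
  congr 1
  rw [S.mul_Z hg] at h
  exact mul_right_cancel h

theorem isAW_of_comm {g : G} (hg : g ∈ S.L) (h1 : g * S.Z e1 e2 = S.Z e1 e2 * g)
    (h2 : g * S.Z e1 e3 = S.Z e1 e3 * g) (h3 : g * S.Z e2 e3 = S.Z e2 e3 * g) : S.IsAW g := by
  have k1 := S.zf_of_comm hg (by decide) h1
  have k2 := S.zf_of_comm hg (by decide) h2
  have k3 := S.zf_of_comm hg (by decide) h3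
  obtain ⟨a1, a2⟩ := dec_aw _ _ (by rw [S.act_form g hg]; decide) (k1 f1) (k1 f2)
    (by rw [k1 f3]; decide)
  obtain ⟨a3, a4⟩ := dec_aw3 _ _ (by rw [S.act_form g hg]; decide) (k2 f1) (k2 f3)
    (by rw [k2 f2]; decide)
  obtain ⟨a5, a6⟩ := dec_aw23 _ _ (by rw [S.act_form g hg]; decide) (k3 f2) (k3 f3)
    (by rw [k3 f1]; decide)
  have d1 : ∀ x : V, (x = e1 ∨ x = e2 ∨ x = e1 + e2) → (x = e1 ∨ x = e3 ∨ x = e1 + e3) → x = e1 := by
    decide +kernel
  have d2 : ∀ x : V, (x = e1 ∨ x = e2 ∨ x = e1 + e2) → (x = e2 ∨ x = e3 ∨ x = e2 + e3) → x = e2 := by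
    decide +kernel
  have d3 : ∀ x : V, (x = e1 ∨ x = e3 ∨ x = e1 + e3) → (x = e2 ∨ x = e3 ∨ x = e2 + e3) → x = e3 := by
    decide +kernel
  exact ⟨hg, d1 _ a1 a3, d2 _ a2 a5, d3 _ a4 a6⟩

/-- The vectors of the plane. -/
def wv (i : Fin 8) : V := sm (i.val.testBit 0) e1 + sm (i.val.testBit 1) e2 + sm (i.val.testBit 2) e3

theorem IsAW.act_wv {g : G} (h : S.IsAW g) (i : Fin 8) : S.act g (wv i) = wv i := by
  unfold wv
  have hg := h.mem
  rw [S.act_add g hg, S.act_add g hg, S.act_sm hg, S.act_sm hg, S.act_sm hg, h.h1, h.h2, h.h3]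

theorem IsAW.comm_T {g : G} (h : S.IsAW g) (i : Fin 8) : g * S.T (wv i) = S.T (wv i) * g :=
  S.T_comm_of_act h.mem (h.act_wv S i)

theorem IsAW.comm_Z {g : G} (h : S.IsAW g) (i j : Fin 8) :
    g * S.Z (wv i) (wv j) = S.Z (wv i) (wv j) * g := by
  rw [S.mul_Z h.mem, h.act_wv S, h.act_wv S]

theorem dec_f1 : ∀ x : V, form x e1 = true → form x e2 = false → form x e3 = false →
    ∃ i : Fin 8, x = f1 + wv i := by decide +kernel
theorem dec_f2 : ∀ x : V, form x e1 = false → form x e2 = true → form x e3 = false →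
    ∃ i : Fin 8, x = f2 + wv i := by decide +kernel
theorem dec_f3 : ∀ x : V, form x e1 = false → form x e2 = false → form x e3 = true →
    ∃ i : Fin 8, x = f3 + wv i := by decide +kernel

/-- The action of an element of the radical. -/
def awf (i j k : Fin 8) (x : V) : V := lin e1 e2 e3 (f1 + wv i) (f2 + wv j) (f3 + wv k) x

theorem IsAW.exists_awf {g : G} (h : S.IsAW g) : ∃ i j k, ∀ x, S.act g x = awf i j k x := by
  have hg := h.mem
  have key : ∀ x y, V.form (S.act g x) (S.act g y) = V.form x y := S.act_form g hg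
  have q11 := key f1 e1
  have q12 := key f1 e2
  have q13 := key f1 e3
  have q21 := key f2 e1
  have q22 := key f2 e2
  have q23 := key f2 e3
  have q31 := key f3 e1
  have q32 := key f3 e2
  have q33 := key f3 e3
  rw [h.h1] at q11 q21 q31
  rw [h.h2] at q12 q22 q32
  rw [h.h3] at q13 q23 q33
  obtain ⟨i, hi⟩ := dec_f1 _ q11 q12 q13
  obtain ⟨j, hj⟩ := dec_f2 _ q21 q22 q23
  obtain ⟨k, hk⟩ := dec_f3 _ q31 q32 q33
  refine ⟨i, j, k, fun x => ?_⟩
  rw [map_lin (S.act_add g hg) x, h.h1, h.h2, h.h3, hi, hj, hk]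
  rfl

/-- Commutation of `awf i j k` with `zf a c` on the vectors `f1, f2, f3`. -/
def cm (i j k : Fin 8) (a c : V) : Prop :=
  awf i j k (zf a c f1) = zf a c (awf i j k f1) ∧ awf i j k (zf a c f2) = zf a c (awf i j k f2) ∧
    awf i j k (zf a c f3) = zf a c (awf i j k f3)

instance (i j k : Fin 8) (a c : V) : Decidable (cm i j k a c) := by unfold cm; infer_instance

/-- The element `T v ^ c * Z e1 e2 ^ d` as a function. -/
def imf (v : V) (c d : Bool) (x : V) : V :=
  bif c then trf v (bif d then zf e1 e2 x else x) else (bif d then zf e1 e2 x else x)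

theorem dec_flag : ∀ i j k : Fin 8, cm i j k e1 f2 → cm i j k e1 f3 → cm i j k e2 f3 →
    form (awf i j k f1) (awf i j k f2) = false → form (awf i j k f1) (awf i j k f3) = false →
    form (awf i j k f2) (awf i j k f3) = false →
    ∃ c d : Bool, awf i j k f1 = imf e1 c d f1 ∧ awf i j k f2 = imf e1 c d f2 ∧
      awf i j k f3 = imf e1 c d f3 := by
  decide +kernel

theorem dec_anti : ∀ i j k : Fin 8, cm i j k e1 f2 → cm i j k e2 f1 →
    form (awf i j k f1) (awf i j k f2) = false → form (awf i j k f1) (awf i j k f3) = false →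
    form (awf i j k f2) (awf i j k f3) = false →
    ∃ c d : Bool, awf i j k f1 = imf e3 c d f1 ∧ awf i j k f2 = imf e3 c d f2 ∧
      awf i j k f3 = imf e3 c d f3 := by
  decide +kernel

theorem cm_of_comm {g : G} (hg : g ∈ S.L) {i j k : Fin 8} (h : ∀ x, S.act g x = awf i j k x)
    {a c : V} (hac : V.form a c = false) (hc : g * S.Z a c = S.Z a c * g) : cm i j k a c := by
  have key : ∀ x, awf i j k (zf a c x) = zf a c (awf i j k x) := by
    intro x
    rw [← h, ← h, ← S.act_Z hac, ← S.act_Z hac, ← S.act_mul _ hg _ (S.Z_mem _ _), hc,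
      S.act_mul _ (S.Z_mem _ _) _ hg]
  exact ⟨key _, key _, key _⟩

theorem act_im (v : V) (c d : Bool) (x : V) :
    S.act (pw c (S.T v) * pw d (S.Z e1 e2)) x = imf v c d x := by
  rw [S.act_mul _ (pw_mem (S.T_mem _) _) _ (pw_mem (S.Z_mem _ _) _), S.act_pw, S.act_pw,
    S.act_T, S.act_Z (by decide)]
  rfl

theorem IsAW.eq_im {g : G} (h : S.IsAW g) {i j k : Fin 8} (h0 : ∀ x, S.act g x = awf i j k x)
    {v : V} (h1 : V.form e1 v = false) (h2 : V.form e2 v = false) (h3 : V.form e3 v = false)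
    {c d : Bool} (k1 : awf i j k f1 = imf v c d f1) (k2 : awf i j k f2 = imf v c d f2)
    (k3 : awf i j k f3 = imf v c d f3) : g = pw c (S.T v) * pw d (S.Z e1 e2) := by
  have hm := S.L.mul_mem (pw_mem (S.T_mem v) c) (pw_mem (S.Z_mem e1 e2) d)
  have e1' : ∀ d : Bool, (bif d then zf e1 e2 e1 else e1) = e1 := by decide
  have e2' : ∀ d : Bool, (bif d then zf e1 e2 e2 else e2) = e2 := by decide
  have e3' : ∀ d : Bool, (bif d then zf e1 e2 e3 else e3) = e3 := by decide
  refine S.ext_basis h.mem hm ?_ ?_ ?_ ?_ ?_ ?_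
  · rw [S.act_im, h.h1]
    unfold imf
    rw [e1']
    cases c
    · rfl
    · rw [cond_true, trf_eq, h1, sm_false, add_zero]
  · rw [S.act_im, h.h2]
    unfold imf
    rw [e2']
    cases c
    · rfl
    · rw [cond_true, trf_eq, h2, sm_false, add_zero]
  · rw [S.act_im, h.h3]
    unfold imf
    rw [e3']
    cases c
    · rfl
    · rw [cond_true, trf_eq, h3, sm_false, add_zero]
  · rw [S.act_im, h0, k1]
  · rw [S.act_im, h0, k2]
  · rw [S.act_im, h0, k3]

/-- Fixed points of the stabiliser of a flag on the radical. -/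
theorem IsAW.flag {g : G} (h : S.IsAW g) (h1 : g * S.Z e1 f2 = S.Z e1 f2 * g)
    (h2 : g * S.Z e1 f3 = S.Z e1 f3 * g) (h3 : g * S.Z e2 f3 = S.Z e2 f3 * g) :
    ∃ c d, g = pw c (S.T e1) * pw d (S.Z e1 e2) := by
  obtain ⟨i, j, k, h0⟩ := h.exists_awf S
  have hf : ∀ x y, V.form (awf i j k x) (awf i j k y) = V.form x y := by
    intro x y
    rw [← h0, ← h0, S.act_form g h.mem]
  obtain ⟨c, d, k1, k2, k3⟩ := dec_flag i j k (S.cm_of_comm h.mem h0 (by decide) h1)
    (S.cm_of_comm h.mem h0 (by decide) h2) (S.cm_of_comm h.mem h0 (by decide) h3)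
    (by rw [hf]; decide) (by rw [hf]; decide) (by rw [hf]; decide)
  exact ⟨c, d, h.eq_im S h0 (by decide) (by decide) (by decide) k1 k2 k3⟩

/-- Fixed points of the stabiliser of an antiflag on the radical. -/
theorem IsAW.anti {g : G} (h : S.IsAW g) (h1 : g * S.Z e1 f2 = S.Z e1 f2 * g)
    (h2 : g * S.Z e2 f1 = S.Z e2 f1 * g) :
    ∃ c d, g = pw c (S.T e3) * pw d (S.Z e1 e2) := by
  obtain ⟨i, j, k, h0⟩ := h.exists_awf S
  have hf : ∀ x y, V.form (awf i j k x) (awf i j k y) = V.form x y := by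
    intro x y
    rw [← h0, ← h0, S.act_form g h.mem]
  obtain ⟨c, d, k1, k2, k3⟩ := dec_anti i j k (S.cm_of_comm h.mem h0 (by decide) h1)
    (S.cm_of_comm h.mem h0 (by decide) h2)
    (by rw [hf]; decide) (by rw [hf]; decide) (by rw [hf]; decide)
  exact ⟨c, d, h.eq_im S h0 (by decide) (by decide) (by decide) k1 k2 k3⟩

end Six

end Cfsg.Agent.StdSpSix.PatTwo
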