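import Cfsg.Agent.StdSpSix.PatTwoH

/-!
Pattern `{a2}`: the conjugates of `t` in `H` with sign `-1` are the `16` elements of `D ∩ E1`.
-/

set_option autoImplicit false

namespace Cfsg.Agent.StdSpSix.PatTwo

open V

namespace Std

open Six

variable {G : Type*} [Group G] (S : Std G)

theorem Ov.tY {h : G} {w v : V} (H : S.Ov h w) (hv : InU v) :
    h * (S.t * S.Z e1 v) = S.t * S.Z e1 (v + w) * h := by
  calc h * (S.t * S.Z e1 v) = (h * S.t) * S.Z e1 v := by group
    _ = S.t * S.Z e1 w * (h * S.Z e1 v) := by rw [H.ht]; group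
    _ = S.t * (S.Z e1 w * S.Z e1 v * pw (form v w) S.b) * h := by rw [H.hY v hv]; group
    _ = S.t * S.Z e1 (v + w) * h := by
        have : S.Z e1 w * S.Z e1 v * pw (form v w) S.b = S.Z e1 (v + w) := by
          rw [S.Y_mul' H.hw hv, mul_assoc, ← pw_xor S.b_sq, form_comm v w, Bool.xor_self, pw_false,
            mul_one, add_comm]
        rw [this]

/-- The action of an element of `H` on `D ∩ E1`. -/
theorem act_tY {h k : G} {w v : V} (H : S.Ov h w) (hk : S.Pk k) (hv : InU v) :
    h * k * (S.t * S.Z e1 v) = S.t * S.Z e1 (prj (S.act k v) + w) * (h * k) := by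
  have h1 := (S.comm k hk.mem).eq
  calc h * k * (S.t * S.Z e1 v) = h * (k * S.t) * S.Z e1 v := by group
    _ = h * S.t * (k * S.Z e1 v) := by rw [h1]; group
    _ = h * (S.t * S.Z e1 (prj (S.act k v))) * k := by rw [hk.Y S hv]; group
    _ = _ := by rw [H.tY S (inU_prj _ (hk.perp S hv.perp))]; group

theorem dec_e1line : ∀ a c : V, Line a c → zf a c e1 = e1 → prj (zf a c e2) = e2 →
    (a = e1 ∨ c = e1 ∨ a + c = e1) ∨ qf (zf a c f2) = true := by
  decide +kernel

/-- A short root involution in `Ku` is of the form `Z e1 u` or has character `-1`. -/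
theorem IsA2_Ku {z : G} (hz : S.IsA2 z) (hk : S.Ku z) :
    (∃ u, InU u ∧ z = S.Z e1 u) ∨ S.chi z = true := by
  obtain ⟨a, c, h, rfl⟩ := hz
  have h1 := hk.p.h
  have h2 := hk.h
  rw [S.act_Z h.1] at h1 h2
  rcases dec_e1line a c h h1 h2 with h3 | h3
  · left
    have : ∃ v, form e1 v = false ∧ S.Z a c = S.Z e1 v := by
      rcases h3 with rfl | rfl | h3
      · exact ⟨c, h.1, rfl⟩
      · exact ⟨a, by rw [form_comm]; exact h.1, S.Z_comm' h.1⟩
      · have h4 : form e1 a = false := by rw [← h3, form_add_left, form_self, form_comm c a, h.1]; rfl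
        refine ⟨a, h4, ?_⟩
        rw [← S.Z_line h (p := e1) (q := a) (by rw [mem_pts, h3]; simp) (by rw [mem_pts]; simp) ?_]
        rintro h5
        rw [← h5] at h3
        apply h.2.2.1
        have : e1 + (e1 + c) = e1 + e1 := by rw [h3]
        rwa [aab, aa] at this
    obtain ⟨v, hv, h4⟩ := this
    exact ⟨prj v, inU_prj _ hv, by rw [S.Y_prj hv, h4]⟩
  · right
    unfold chi
    rw [S.act_Z h.1]
    exact h3

/-- The vectors of the complement. -/
def uv (i : Fin 16) : V := sm (i.val.testBit 0) e2 + sm (i.val.testBit 1) e3 +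
  sm (i.val.testBit 2) f2 + sm (i.val.testBit 3) f3

theorem dec_uv : ∀ x : V, InU x → ∃ i : Fin 16, x = uv i := by decide +kernel
theorem inU_uv : ∀ i : Fin 16, InU (uv i) := by decide +kernel

theorem dec_sel' : ∀ i j : Fin 16, form (uv j) (uv i) = false → uv i ≠ 0 → uv j ≠ 0 → uv j ≠ uv i →
    ∀ c2 c3 : Bool, ∃ k : Fin 16, form (uv k) (uv i) = c2 ∧ form (uv k) (uv j) = c3 := by
  decide +kernel

theorem dec_sel {p w : V} (hp : InU p) (hw : InU w) (h : form w p = false) (hp0 : p ≠ 0)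
    (hw0 : w ≠ 0) (hwp : w ≠ p) (c2 c3 : Bool) : ∃ v : V, InU v ∧ form v p = c2 ∧ form v w = c3 := by
  obtain ⟨i, rfl⟩ := dec_uv p hp
  obtain ⟨j, rfl⟩ := dec_uv w hw
  obtain ⟨k, hk⟩ := dec_sel' i j h hp0 hw0 hwp c2 c3
  exact ⟨uv k, inU_uv k, hk⟩

theorem dec_span' : ∀ i j k : Fin 16, form (uv j) (uv i) = false → uv i ≠ 0 → uv j ≠ 0 →
    uv j ≠ uv i → form (uv k) (uv i) = false → form (uv k) (uv j) = false →
    ∃ a c : Bool, uv k = sm a (uv j) + sm c (uv i) := by
  decide +kernel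

theorem dec_span {p w v : V} (hp : InU p) (hw : InU w) (hv : InU v) (h : form w p = false)
    (hp0 : p ≠ 0) (hw0 : w ≠ 0) (hwp : w ≠ p) (h1 : form v p = false) (h2 : form v w = false) :
    ∃ a c : Bool, v = sm a w + sm c p := by
  obtain ⟨i, rfl⟩ := dec_uv p hp
  obtain ⟨j, rfl⟩ := dec_uv w hw
  obtain ⟨k, rfl⟩ := dec_uv v hv
  exact dec_span' i j k h hp0 hw0 hwp h1 h2

theorem T_ne_zw (c1 c2 c3 : Bool) : S.T e1 ≠ S.zw c1 c2 c3 := by
  intro h
  rcases S.zw_line c1 c2 c3 with h1 | ⟨i, j, hl, h1⟩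
  · rw [h1] at h
    have := S.T_wv_ne 1 (by decide)
    rw [show wv 1 = e1 by decide] at this
    exact this h
  · rw [h1] at h
    have h2 : S.IsA2 (S.T e1) := ⟨_, _, hl, h⟩
    have h3 := h2.form S.toSix f1
    rw [S.act_T] at h3
    exact absurd h3 (by decide)

theorem form_sm_right (x y : V) (c : Bool) : form x (sm c y) = (c && form x y) := by
  cases c
  · rw [sm_false, form_zero_right]; rfl
  · rw [sm_true]; rfl

/-- No conjugate of `t` acts on `D ∩ E1` as a transvection without fixed points. -/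
theorem no_transvection {g x : G} {p w : V} (hx : x = g⁻¹ * S.t * g) (hxb : Commute x S.b)
    (hp : InU p) (hw : InU w) (hwp : form w p = false) (hp0 : p ≠ 0) (hw0 : w ≠ 0) (hne : w ≠ p)
    (hact : ∀ v, InU v → x * (S.t * S.Z e1 v) = S.t * S.Z e1 (v + sm (form v p) p + w) * x) :
    False := by
  have hxx : x * x = 1 := by
    rw [hx]
    calc g⁻¹ * S.t * g * (g⁻¹ * S.t * g) = g⁻¹ * (S.t * S.t) * g := by group
      _ = 1 := by rw [S.tt]; group
  have hxt : x * S.t = S.t * S.Z e1 w * x := by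
    have := hact 0 inU_zero
    rw [S.Z_zero, mul_one, form_zero_left, sm_false, add_zero, zero_add] at this
    exact this
  have hvU : ∀ v, InU v → InU (v + sm (form v p) p) := fun v hv => hv.add (inU_sm hp _)
  have hform : ∀ v, form w (v + sm (form v p) p) = form v w := by
    intro v
    rw [form_add_right, form_comm w v]
    cases form v p
    · rw [sm_false, form_zero_right, Bool.xor_false]
    · rw [sm_true, hwp, Bool.xor_false]
  -- the action on `E1`
  have hxe : ∀ c v d, InU v → x * S.em c v d =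
      S.em c (v + sm (form v p) p + sm c w) (d ^^ (!c && form v w)) * x := by
    intro c v d hv
    have h1 : x * pw c S.t = pw c S.t * S.Z e1 (sm c w) * x := by
      cases c
      · rw [pw_false, sm_false, S.Z_zero]; group
      · exact hxt
    have h2 : x * S.Z e1 v = S.Z e1 (v + sm (form v p) p) * pw (form v w) S.b * x := by
      have h3 : S.Z e1 w * S.Z e1 (v + sm (form v p) p + w) =
          S.Z e1 (v + sm (form v p) p) * pw (form v w) S.b := by
        rw [S.Y_mul' hw ((hvU v hv).add hw), form_add_right, form_self, hform, Bool.xor_false,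
          add_comm w, aba]
      calc x * S.Z e1 v = x * (S.t * S.t) * S.Z e1 v := by rw [S.tt, mul_one]
        _ = (x * S.t) * (S.t * S.Z e1 v) := by group
        _ = S.t * S.Z e1 w * (x * (S.t * S.Z e1 v)) := by rw [hxt]; group
        _ = S.t * (S.Z e1 w * S.t) * S.Z e1 (v + sm (form v p) p + w) * x := by rw [hact v hv]; group
        _ = (S.t * S.t) * (S.Z e1 w * S.Z e1 (v + sm (form v p) p + w)) * x := by
            rw [(S.comm _ (S.Z_mem e1 w)).eq]; group
        _ = _ := by rw [S.tt, one_mul, h3]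
    have h4 : S.Z e1 (sm c w) * (S.Z e1 (v + sm (form v p) p) * pw (form v w) S.b * pw d S.b) =
        S.Z e1 (v + sm (form v p) p + sm c w) * pw (d ^^ (!c && form v w)) S.b := by
      have e3' : S.Z e1 (sm c w) * (S.Z e1 (v + sm (form v p) p) * pw (form v w) S.b * pw d S.b) =
          S.em false (sm c w) false * (S.em false (v + sm (form v p) p) (form v w) * S.em false 0 d) := by
        unfold Std.em
        rw [S.Z_zero]
        simp only [pw_false]
        group
      have e4' : S.Z e1 (v + sm (form v p) p + sm c w) * pw (d ^^ (!c && form v w)) S.b =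
          S.em false (v + sm (form v p) p + sm c w) (d ^^ (!c && form v w)) := by
        unfold Std.em
        rw [pw_false, one_mul]
      rw [e3', e4', S.em_mul (hvU v hv) inU_zero, S.em_mul (inU_sm hw c) ((hvU v hv).add inU_zero),
        add_zero, form_zero_right, add_comm (sm c w)]
      congr 1
      cases c
      · rw [sm_false, form_zero_left]
        cases d <;> cases form v w <;> rfl
      · rw [sm_true, hform]
        cases d <;> cases form v w <;> rfl
    unfold Std.em at h4 ⊢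
    calc x * (pw c S.t * (S.Z e1 v * pw d S.b)) = (x * pw c S.t) * S.Z e1 v * pw d S.b := by group
      _ = pw c S.t * S.Z e1 (sm c w) * (x * S.Z e1 v) * pw d S.b := by rw [h1]; group
      _ = pw c S.t * S.Z e1 (sm c w) * S.Z e1 (v + sm (form v p) p) * pw (form v w) S.b *
            (x * pw d S.b) := by rw [h2]; group
      _ = pw c S.t * (S.Z e1 (sm c w) * (S.Z e1 (v + sm (form v p) p) * pw (form v w) S.b *
            pw d S.b)) * x := by rw [S.b_comm_pw _ hxb]; group
      _ = _ := by rw [h4]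
  -- the conjugates of `x` under `E1`
  have hex : ∀ c v d, InU v → S.em c v d * x * (S.em c v d)⁻¹ =
      S.em false (sm (form v p) p + sm c w) (form v w ^^ form v p) * x := by
    intro c v d hv
    have h1 := hxe c v d hv
    have hU : InU (v + sm (form v p) p + sm c w) := (hvU v hv).add (inU_sm hw c)
    rw [S.E1_inv (S.em_mem hv c d), mul_assoc, h1, ← mul_assoc, S.em_mul hv hU, Bool.xor_self]
    have e1' : v + (v + sm (form v p) p + sm c w) = sm (form v p) p + sm c w := by
      rw [add_assoc, aab]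
    have e2' : (d ^^ (d ^^ (!c && form v w)) ^^ form v (v + sm (form v p) p + sm c w)) =
        (form v w ^^ form v p) := by
      rw [form_add_right, form_add_right, form_self, form_sm_right, form_sm_right]
      cases c <;> cases d <;> cases form v w <;> cases form v p <;> rfl
    rw [e1', e2']
  have hyy : ∀ c1 c2 c3 : Bool, S.em false (sm c2 p + sm c1 w) c3 =
      pw c1 (S.Z e1 w) * (pw c2 (S.Z e1 p) * pw c3 S.b) := by
    intro c1 c2 c3
    have i1 := inU_sm hw c1
    have i2 := inU_sm hp c2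
    have h1 : ∀ c u, pw c (S.Z e1 u) = S.em false (sm c u) false := by
      intro c u
      rw [S.em_Y]
      cases c
      · rw [pw_false, sm_false, S.Z_zero]
      · rfl
    rw [h1, h1, ← S.em_b', S.em_mul i2 inU_zero, S.em_mul i1 (i2.add inU_zero), add_zero,
      form_zero_right, form_sm_right, form_comm (sm c1 w), form_sm_right, form_comm p w, hwp,
      add_comm (sm c2 p)]
    congr 1
    cases c1 <;> cases c2 <;> cases c3 <;> rfl
  -- every element `y` of the commutator group is a short root involution for `x`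
  have hA : ∀ c1 c2 c3 : Bool, (c1 = true ∨ c2 = true ∨ c3 = true) →
      S.IsA2 (g * (pw c1 (S.Z e1 w) * (pw c2 (S.Z e1 p) * pw c3 S.b)) * g⁻¹) := by
    intro c1 c2 c3 hc
    obtain ⟨v, hv, hv1, hv2⟩ := dec_sel hp hw hwp hp0 hw0 hne c2 (c3 ^^ c2)
    have h1 := hex c1 v false hv
    rw [hv1, hv2] at h1
    have hc3 : (c3 ^^ c2 ^^ c2) = c3 := by cases c3 <;> cases c2 <;> rfl
    rw [hc3, hyy] at h1
    have hyE := hyy c1 c2 c3
    set y := pw c1 (S.Z e1 w) * (pw c2 (S.Z e1 p) * pw c3 S.b) with hy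
    set e := S.em c1 v false with he
    have hiU : InU (sm c2 p + sm c1 w) := (inU_sm hp c2).add (inU_sm hw c1)
    have hyy2 : y * y = 1 := by
      rw [← hyE]; exact S.em_sq hiU _ _
    have hy1 : y ≠ 1 := by
      rw [← hyE, ← S.em_zero]
      intro h0
      obtain ⟨-, h2, h3⟩ := S.em_inj hiU inU_zero h0
      rcases hc with h | h | h
      · rw [h, sm_true] at h2
        cases c2
        · rw [sm_false, zero_add] at h2; exact hw0 h2
        · rw [sm_true] at h2; exact hne (eq_of_add h2).symm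
      · rw [h, sm_true] at h2
        cases c1
        · rw [sm_false, add_zero] at h2; exact hp0 h2
        · rw [sm_true] at h2; exact hne (eq_of_add h2).symm
      · rw [h] at h3; cases h3
    have hyx : y * x = x * y := by
      have h2 : (y * x) * (y * x) = 1 := by
        rw [← h1]
        calc e * x * e⁻¹ * (e * x * e⁻¹) = e * (x * x) * e⁻¹ := by group
          _ = 1 := by rw [hxx]; group
      have h3 : y * x = (y * x)⁻¹ := eq_inv_of_mul_eq_one_left h2
      rw [h3, mul_inv_rev, inv_eq_of_mul_eq_one_right hxx, inv_eq_of_mul_eq_one_right hyy2]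
    have h4 : (g * e * g⁻¹) * S.t * (g * e * g⁻¹)⁻¹ = (g * y * g⁻¹) * S.t := by
      calc (g * e * g⁻¹) * S.t * (g * e * g⁻¹)⁻¹ = g * (e * (g⁻¹ * S.t * g) * e⁻¹) * g⁻¹ := by group
        _ = g * (y * (g⁻¹ * S.t * g)) * g⁻¹ := by rw [← hx, h1]
        _ = _ := by group
    have h5 : Commute (g * y * g⁻¹) S.t := by
      unfold Commute SemiconjBy
      calc g * y * g⁻¹ * S.t = g * (y * (g⁻¹ * S.t * g)) * g⁻¹ := by group
        _ = g * ((g⁻¹ * S.t * g) * y) * g⁻¹ := by rw [← hx, hyx]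
        _ = S.t * (g * y * g⁻¹) := by group
    rcases S.D2 (g * e * g⁻¹) (by rw [h4]; exact h5.mul_left (Commute.refl _)) with h6 | ⟨z, hz, h6⟩
    · exfalso
      rw [h4] at h6
      have h7 : g * y * g⁻¹ = 1 := mul_right_cancel (h6.trans (one_mul _).symm)
      apply hy1
      calc y = g⁻¹ * (g * y * g⁻¹) * g := by group
        _ = 1 := by rw [h7]; group
    · rw [h4, h5.eq] at h6
      rw [mul_left_cancel h6]
      exact hz
  have a1 := hA true false false (by simp)
  have a2 := hA false true false (by simp)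
  have a3 := hA false false true (by simp)
  have a4 := hA true true false (by simp)
  have a5 := hA true false true (by simp)
  have a6 := hA false true true (by simp)
  have a7 := hA true true true (by simp)
  simp only [pw_true, pw_false, mul_one, one_mul] at a1 a2 a3 a4 a5 a6 a7
  have s4 : g * (S.Z e1 w * S.Z e1 p) * g⁻¹ = (g * S.Z e1 w * g⁻¹) * (g * S.Z e1 p * g⁻¹) := by group
  have s5 : g * (S.Z e1 w * S.b) * g⁻¹ = (g * S.Z e1 w * g⁻¹) * (g * S.b * g⁻¹) := by group
  have s6 : g * (S.Z e1 p * S.b) * g⁻¹ = (g * S.Z e1 p * g⁻¹) * (g * S.b * g⁻¹) := by group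
  have s7 : g * (S.Z e1 w * (S.Z e1 p * S.b)) * g⁻¹ =
      (g * S.Z e1 w * g⁻¹) * ((g * S.Z e1 p * g⁻¹) * (g * S.b * g⁻¹)) := by group
  rw [s4] at a4
  rw [s5] at a5
  rw [s6] at a6
  rw [s7] at a7
  obtain ⟨k, hk, k1, k2, k3⟩ := S.triple a1 a2 a3 a4 a5 a6 a7
  -- `g0 t g0⁻¹ = x` and `g0` maps the standard pure subgroup to the commutator group
  set g0 := g⁻¹ * k with hg0
  have q1 : g0 * S.Z e1 e2 * g0⁻¹ = S.Z e1 w := by
    calc g0 * S.Z e1 e2 * g0⁻¹ = g⁻¹ * (k * S.Z e1 e2 * k⁻¹) * g := by rw [hg0]; group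
      _ = _ := by rw [k1]; group
  have q2 : g0 * S.Z e1 e3 * g0⁻¹ = S.Z e1 p := by
    calc g0 * S.Z e1 e3 * g0⁻¹ = g⁻¹ * (k * S.Z e1 e3 * k⁻¹) * g := by rw [hg0]; group
      _ = _ := by rw [k2]; group
  have q3 : g0 * S.Z e2 e3 * g0⁻¹ = S.b := by
    calc g0 * S.Z e2 e3 * g0⁻¹ = g⁻¹ * (k * S.Z e2 e3 * k⁻¹) * g := by rw [hg0]; group
      _ = _ := by rw [k3]; group
  have qt : g0 * S.t * g0⁻¹ = x := by
    have h1 : k * S.t * k⁻¹ = S.t := by rw [(S.comm k hk).eq, mul_inv_cancel_right]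
    calc g0 * S.t * g0⁻¹ = g⁻¹ * (k * S.t * k⁻¹) * g := by rw [hg0]; group
      _ = x := by rw [h1, hx]
  have qzw : ∀ c1 c2 c3 : Bool, g0 * S.zw c1 c2 c3 * g0⁻¹ =
      pw c1 (S.Z e1 w) * (pw c2 (S.Z e1 p) * pw c3 S.b) := by
    intro c1 c2 c3
    have hpw : ∀ (c : Bool) (y z : G), g0 * y * g0⁻¹ = z → g0 * pw c y * g0⁻¹ = pw c z := by
      intro c y z h
      cases c
      · rw [pw_false, pw_false]; group
      · exact h
    unfold zw
    calc g0 * (pw c1 (S.Z e1 e2) * (pw c2 (S.Z e1 e3) * pw c3 (S.Z e2 e3))) * g0⁻¹ =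
        (g0 * pw c1 (S.Z e1 e2) * g0⁻¹) * ((g0 * pw c2 (S.Z e1 e3) * g0⁻¹) *
          (g0 * pw c3 (S.Z e2 e3) * g0⁻¹)) := by group
      _ = _ := by rw [hpw _ _ _ q1, hpw _ _ _ q2, hpw _ _ _ q3]
  -- the transvection
  have hτ : ∀ e, e ∈ S.E1 → Commute (g0 * S.T e1 * g0⁻¹) e := by
    rintro e ⟨c, v, d, hv, he⟩
    have hcomm : ∀ y z, y ∈ S.E1 → g0 * z * g0⁻¹ = y → Commute (g0⁻¹ * e * g0) z := by
      intro y z hy hz
      have h1 := (S.E1_comm (show e ∈ S.E1 by rw [he]; exact S.em_mem hv c d) hy).eq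
      rw [← hz] at h1
      unfold Commute SemiconjBy
      calc g0⁻¹ * e * g0 * z = g0⁻¹ * (e * (g0 * z * g0⁻¹)) * g0 := by group
        _ = z * (g0⁻¹ * e * g0) := by rw [h1]; group
    have hXW : S.XW (S.zw c (form v p) (form v w ^^ form v p)) (g0⁻¹ * e * g0) := by
      refine ⟨⟨hcomm _ _ (S.Y_mem_E1 hw) q1, hcomm _ _ (S.Y_mem_E1 hp) q2,
        hcomm _ _ S.b_mem_E1 q3⟩, ?_⟩
      have h1 := hex c v d hv
      rw [hyy, ← qzw, ← he] at h1
      have h2 := (S.comm _ (show S.zw c (form v p) (form v w ^^ form v p) ∈ S.L from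
        S.L.mul_mem (pw_mem (S.Z_mem _ _) _) (S.L.mul_mem (pw_mem (S.Z_mem _ _) _)
          (pw_mem (S.Z_mem _ _) _)))).eq
      calc g0⁻¹ * e * g0 * S.t * (g0⁻¹ * e * g0)⁻¹ = g0⁻¹ * (e * (g0 * S.t * g0⁻¹) * e⁻¹) * g0 := by
            group
        _ = g0⁻¹ * (g0 * S.zw c (form v p) (form v w ^^ form v p) * g0⁻¹ *
              (g0 * S.t * g0⁻¹)) * g0 := by rw [qt, h1]
        _ = S.zw c (form v p) (form v w ^^ form v p) * S.t := by group
        _ = _ := h2
    have h3 := (hXW.comm_all S 1).eq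
    rw [show wv 1 = e1 by decide] at h3
    unfold Commute SemiconjBy
    calc g0 * S.T e1 * g0⁻¹ * e = g0 * (S.T e1 * (g0⁻¹ * e * g0)) * g0⁻¹ := by group
      _ = e * (g0 * S.T e1 * g0⁻¹) := by rw [← h3]; group
  have hOv : S.Ov (g0 * S.T e1 * g0⁻¹) 0 := by
    refine ⟨inU_zero, hτ _ S.b_mem_E1, fun u hu => ?_, ?_⟩
    · rw [form_zero_right, pw_false, mul_one]
      exact (hτ _ (S.Y_mem_E1 hu)).eq
    · rw [S.Z_zero, mul_one]
      exact (hτ _ S.t_mem_E1).eq
  obtain ⟨c, v, d, hv, hcv⟩ := hOv.ker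
  have hτx : Commute (g0 * S.T e1 * g0⁻¹) x := by
    have h1 := (S.comm _ (S.T_mem e1)).eq
    unfold Commute SemiconjBy
    rw [← qt]
    calc g0 * S.T e1 * g0⁻¹ * (g0 * S.t * g0⁻¹) = g0 * (S.T e1 * S.t) * g0⁻¹ := by group
      _ = g0 * S.t * g0⁻¹ * (g0 * S.T e1 * g0⁻¹) := by rw [h1]; group
  have h1 := hex c v d hv
  rw [← hcv, hτx.eq, mul_inv_cancel_right] at h1
  have h2 : S.em false (sm (form v p) p + sm c w) (form v w ^^ form v p) = S.em false 0 false := by
    rw [S.em_zero]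
    exact mul_right_cancel (h1.symm.trans (one_mul x).symm)
  obtain ⟨-, h3, h4⟩ := S.em_inj ((inU_sm hp _).add (inU_sm hw c)) inU_zero h2
  have h5 : form v p = false ∧ c = false := by
    cases h6 : form v p <;> cases c <;> rw [h6] at h3
    · exact ⟨rfl, rfl⟩
    · rw [sm_false, sm_true, zero_add] at h3; exact absurd h3 hw0
    · rw [sm_false, sm_true, add_zero] at h3; exact absurd h3 hp0
    · rw [sm_true, sm_true] at h3; exact absurd (eq_of_add h3).symm hne
  obtain ⟨h5, rfl⟩ := h5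
  rw [h5, Bool.xor_false] at h4
  obtain ⟨a, c2, hac⟩ := dec_span hp hw hv hwp hp0 hw0 hne h5 h4
  have h6 : g0 * S.T e1 * g0⁻¹ = g0 * S.zw a c2 d * g0⁻¹ := by
    rw [qzw, hcv, hac, add_comm, hyy]
  exact S.T_ne_zw a c2 d (mul_left_cancel (mul_right_cancel h6))

end Std

end Cfsg.Agent.StdSpSix.PatTwo
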