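import Cfsg.Agent.StdSpSix.PatTwoK1

/-!
Pattern `{a2}`: the subgroup `H = R1 · Stab_L(e1, ⟨e1, e2⟩)` and its sign.
-/

set_option autoImplicit false

namespace Cfsg.Agent.StdSpSix.PatTwo

open V

namespace Std

open Six

variable {G : Type*} [Group G] (S : Std G)

/-- A quadratic form of minus type on `e1^⊥ / e1`. -/
def qf (x : V) : Bool := (form x f2 && form x e2) ^^ (form x e3 || form x f3)

theorem qf_add : ∀ x y : V, form e1 x = false → form e1 y = false →
    qf (x + y) = (qf x ^^ qf y ^^ form x y) := by decide +kernel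

/-- Stabiliser of the flag `e1 < ⟨e1, e2⟩`. -/
structure Ku (k : G) : Prop where
  p : S.Pk k
  h : prj (S.act k e2) = e2

theorem e2_perp : form e1 e2 = false := by decide

theorem Ku.mul {k l : G} (hk : S.Ku k) (hl : S.Ku l) : S.Ku (k * l) := by
  refine ⟨hk.p.mul S hl.p, ?_⟩
  rw [S.act_mul _ hk.p.mem _ hl.p.mem, ← S.act_prj hk.p (hl.p.perp S e2_perp), hl.h, hk.h]

theorem Ku.inv {k : G} (hk : S.Ku k) : S.Ku k⁻¹ := by
  refine ⟨hk.p.inv S, ?_⟩
  have h1 := S.act_prj (hk.p.inv S) (hk.p.perp S e2_perp)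
  rw [hk.h, S.act_inv_act hk.p.mem] at h1
  rw [h1]
  decide

theorem Ku.one : S.Ku 1 := ⟨⟨S.L.one_mem, S.act_one _⟩, by rw [S.act_one]; decide⟩

/-- The character of the flag stabiliser. -/
def chi (k : G) : Bool := qf (S.act k f2)

theorem dec_qf3 : ∀ y z : V, form e1 y = false → form y e2 = false → form e1 z = false →
    form z e2 = false → form y z = true → qf y = true ∧ qf z = true := by decide +kernel

theorem dec_e2k : ∀ x : V, form e1 x = false → prj x = e2 → x = e2 ∨ x = e2 + e1 := by decide +kernel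

theorem Ku.form_e2 {k : G} (hk : S.Ku k) {x : V} (hx : V.form e1 x = false) :
    V.form (S.act k x) e2 = V.form x e2 := by
  have h1 := hk.p.perp S hx
  rw [form_comm] at h1
  rcases dec_e2k _ (hk.p.perp S e2_perp) hk.h with h | h
  · conv_lhs => rw [← h]
    exact S.act_form k hk.p.mem _ _
  · have h2 := S.act_form k hk.p.mem x e2
    rw [h, form_add_right, h1, Bool.xor_false] at h2
    exact h2

theorem chi_key {k : G} (hk : S.Ku k) {x : V} (hx : form e1 x = false) :
    qf (S.act k x) = (qf x ^^ (S.chi k && form x e2)) := by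
  have hkm := hk.p.mem
  let P : V → Prop := fun x => qf (S.act k x) = (qf x ^^ (S.chi k && form x e2))
  have hadd : ∀ x y, form e1 x = false → form e1 y = false → P x → P y → P (x + y) := by
    intro x y hx hy px py
    change qf (S.act k (x + y)) = (qf (x + y) ^^ (S.chi k && form (x + y) e2))
    rw [S.act_add k hkm, qf_add _ _ (hk.p.perp S hx) (hk.p.perp S hy), px, py, qf_add _ _ hx hy,
      S.act_form k hkm, form_add_left]
    cases qf x <;> cases qf y <;> cases form x y <;> cases form x e2 <;> cases form y e2 <;>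
      cases S.chi k <;> rfl
  have h0 : P 0 := by
    change qf (S.act k 0) = (qf 0 ^^ (S.chi k && form 0 e2))
    rw [S.act_zero hkm, form_zero_left]
    cases S.chi k <;> decide
  have hsm : ∀ c u, P u → P (sm c u) := by
    intro c u pu
    cases c
    · exact h0
    · exact pu
  have p1 : P e1 := by
    change qf (S.act k e1) = (qf e1 ^^ (S.chi k && form e1 e2))
    rw [hk.p.h]
    cases S.chi k <;> decide
  have p2 : P e2 := by
    change qf (S.act k e2) = (qf e2 ^^ (S.chi k && form e2 e2))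
    rcases dec_e2k _ (hk.p.perp S e2_perp) hk.h with h | h <;> rw [h] <;>
      cases S.chi k <;> decide
  have p4 : P f2 := by
    change qf (S.act k f2) = (qf f2 ^^ (S.chi k && form f2 e2))
    rw [show form f2 e2 = true by decide, show qf f2 = false by decide, Bool.and_true, Bool.false_xor]
    rfl
  obtain ⟨h3, h5⟩ := dec_qf3 (S.act k e3) (S.act k f3) (hk.p.perp S (by decide))
    (by rw [hk.form_e2 S (by decide)]; decide) (hk.p.perp S (by decide))
    (by rw [hk.form_e2 S (by decide)]; decide) (by rw [S.act_form k hkm]; decide)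
  have p3 : P e3 := by
    change qf (S.act k e3) = (qf e3 ^^ (S.chi k && form e3 e2))
    rw [h3]
    cases S.chi k <;> decide
  have p5 : P f3 := by
    change qf (S.act k f3) = (qf f3 ^^ (S.chi k && form f3 e2))
    rw [h5]
    cases S.chi k <;> decide
  have : ∃ a b c d e : Bool, x = sm a e1 + (sm b e2 + (sm c e3 + (sm d f2 + sm e f3))) := by
    clear * - hx
    revert x
    decide +kernel
  obtain ⟨a, b', c, d, e, rfl⟩ := this
  have ps : ∀ c u, form e1 u = false → form e1 (sm c u) = false := by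
    intro c u hu
    cases c
    · exact form_zero_right _
    · exact hu
  have pa : ∀ u v, form e1 u = false → form e1 v = false → form e1 (u + v) = false := by
    intro u v hu hv
    rw [form_add_right, hu, hv]; rfl
  have s1 := ps a e1 (by decide)
  have s2 := ps b' e2 (by decide)
  have s3 := ps c e3 (by decide)
  have s4 := ps d f2 (by decide)
  have s5 := ps e f3 (by decide)
  exact hadd _ _ s1 (pa _ _ s2 (pa _ _ s3 (pa _ _ s4 s5))) (hsm _ _ p1)
    (hadd _ _ s2 (pa _ _ s3 (pa _ _ s4 s5)) (hsm _ _ p2)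
      (hadd _ _ s3 (pa _ _ s4 s5) (hsm _ _ p3) (hadd _ _ s4 s5 (hsm _ _ p4) (hsm _ _ p5))))

theorem chi_mul {k l : G} (hk : S.Ku k) (hl : S.Ku l) : S.chi (k * l) = (S.chi k ^^ S.chi l) := by
  unfold chi
  have h2 := S.chi_key hk (hl.p.perp S (show form e1 f2 = false by decide))
  rw [S.act_mul _ hk.p.mem _ hl.p.mem, h2, hl.form_e2 S (by decide), show form f2 e2 = true by decide,
    Bool.and_true, Bool.xor_comm]
  rfl

theorem act_em_false {v : V} (hv : InU v) (d : Bool) {x : V} (hx : form e1 x = false) :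
    S.act (S.em false v d) x = zf e1 v x := by
  unfold em
  rw [pw_false, one_mul, S.act_mul _ (S.Z_mem _ _) _ (pw_mem S.b_mem _), S.act_pw, b, S.act_T,
    trf_eq, form_comm, hx, sm_false, add_zero]
  cases d <;> exact S.act_Z hv.perp x

theorem dec_ku : ∀ v : V, InU v → prj (zf e1 v e2) = e2 ∧ zf e1 v e1 = e1 ∧ qf (zf e1 v f2) = false := by
  decide +kernel

theorem Ku_em {v : V} (hv : InU v) (d : Bool) : S.Ku (S.em false v d) := by
  refine ⟨⟨S.em_false_mem _ _, ?_⟩, ?_⟩
  · rw [S.act_em_false hv d (by decide)]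
    exact (dec_ku v hv).2.1
  · rw [S.act_em_false hv d (by decide)]
    exact (dec_ku v hv).1

theorem chi_em {v : V} (hv : InU v) (d : Bool) : S.chi (S.em false v d) = false := by
  unfold chi
  rw [S.act_em_false hv d (by decide)]
  exact (dec_ku v hv).2.2

theorem chi_one : S.chi 1 = false := by
  rw [← S.em_zero]
  exact S.chi_em inU_zero _

/-- Elements over a translation which lie in `L`. -/
theorem Ov.of_mem {h : G} {w : V} (H : S.Ov h w) (hL : h ∈ S.L) :
    w = 0 ∧ ∃ v d, InU v ∧ h = S.em false v d := by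
  have h1 : w = 0 := by
    have h2 := H.ht
    rw [(S.comm h hL).eq] at h2
    have h3 : S.t * 1 = S.t * S.Z e1 w := by
      rw [mul_one]; exact mul_right_cancel h2
    have h4 := mul_left_cancel h3
    rw [← S.Z_zero e1] at h4
    exact (S.Y_inj inU_zero H.hw h4).symm
  subst h1
  obtain ⟨c, v, d, hv, hh⟩ := H.ker
  have hc : c = false := S.em_of_mem (by rw [← hh]; exact hL)
  subst hc
  exact ⟨rfl, v, d, hv, hh⟩

/-- The subgroup `H`. -/
def HH : Subgroup G where
  carrier := {g | ∃ h w k, S.Ov h w ∧ S.Ku k ∧ g = h * k}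
  mul_mem' := by
    rintro _ _ ⟨h, w, k, hh, hk, rfl⟩ ⟨h', w', k', hh', hk', rfl⟩
    exact ⟨h * (k * h' * k⁻¹), _, k * k', hh.mul S (hh'.conj S hk.p), hk.mul S hk', by group⟩
  one_mem' := ⟨1, 0, 1, Ov.one S, Ku.one S, by group⟩
  inv_mem' := by
    rintro _ ⟨h, w, k, hh, hk, rfl⟩
    exact ⟨k⁻¹ * h⁻¹ * k⁻¹⁻¹, _, k⁻¹, (hh.inv S).conj S (hk.p.inv S), hk.inv S, by group⟩

theorem mem_HH_of_Ov {h : G} {w : V} (H : S.Ov h w) : h ∈ S.HH := ⟨h, w, 1, H, Ku.one S, by group⟩
theorem mem_HH_of_Ku {k : G} (H : S.Ku k) : k ∈ S.HH := ⟨1, 0, k, Ov.one S, H, by group⟩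

/-- Graph of the sign of `H`. -/
def Lam (g : G) (c : Bool) : Prop :=
  ∃ h w k d, S.InK (pw d S.t * h) w ∧ S.Ku k ∧ g = h * k ∧ c = (d ^^ S.chi k)

theorem Ov_of_pw {h : G} {w : V} {d : Bool} (H : S.InK (pw d S.t * h) w) : S.Ov h w := by
  have h1 : S.Ov (pw d S.t) 0 := by
    cases d
    · exact Ov.one S
    · exact Ov.t S
  have h2 := (h1.inv S).mul S H.1
  rwa [inv_mul_cancel_left, zero_add] at h2

theorem exists_Lam {g : G} (hg : g ∈ S.HH) : ∃ c, S.Lam g c := by
  obtain ⟨h, w, k, hh, hk, rfl⟩ := hg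
  rcases S.dich hh with h1 | h1
  · exact ⟨_, h, w, k, false, by rw [pw_false, one_mul]; exact h1, hk, rfl, rfl⟩
  · exact ⟨_, h, w, k, true, h1, hk, rfl, rfl⟩

theorem not_both' {h : G} {w : V} {d d' : Bool} (H : S.InK (pw d S.t * h) w)
    (H' : S.InK (pw d' S.t * h) w) : d = d' := by
  cases d <;> cases d'
  · rfl
  · exfalso
    rw [pw_false, one_mul] at H
    exact S.not_both H H'
  · exfalso
    rw [pw_false, one_mul] at H'
    exact S.not_both H' H
  · rfl

theorem Lam_unique {g : G} {c c' : Bool} (H : S.Lam g c) (H' : S.Lam g c') : c = c' := by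
  obtain ⟨h, w, k, d, h1, h2, h3, rfl⟩ := H
  obtain ⟨h', w', k', d', h1', h2', h3', rfl⟩ := H'
  have o := S.Ov_of_pw h1
  have o' := S.Ov_of_pw h1'
  have e : h'⁻¹ * h = k' * k⁻¹ := by
    have : h * k = h' * k' := by rw [← h3, ← h3']
    rw [inv_mul_eq_iff_eq_mul, ← mul_assoc, ← this]; group
  have hz := (o'.inv S).mul S o
  obtain ⟨hw, v, e0, hv, hem⟩ := hz.of_mem S (by
    rw [e]; exact S.L.mul_mem h2'.p.mem (S.L.inv_mem h2.p.mem))
  have hww : w' = w := eq_of_add hw
  subst hww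
  have hk : k' = S.em false v e0 * k := by rw [← hem, e]; group
  have hh : h = h' * S.em false v e0 := by rw [← hem]; group
  have hchi : S.chi k' = S.chi k := by
    rw [hk, S.chi_mul (S.Ku_em hv e0) h2, S.chi_em hv, Bool.false_xor]
  have h4 := h1'.mul_right S (S.inK_em hv e0)
  rw [mul_assoc, ← hh] at h4
  rw [hchi, S.not_both' h1 h4]

theorem Ov.pw_t {h : G} {w : V} (H : S.Ov h w) (c : Bool) :
    h * pw c S.t = S.Z e1 (sm c w) * (pw c S.t * h) := by
  cases c
  · rw [pw_false, sm_false, S.Z_zero]; group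
  · rw [pw_true, sm_true, H.ht]
    have := (S.comm _ (S.Z_mem e1 w)).eq
    rw [← this]; group

theorem InK.pw_mul {h h' : G} {w w' : V} {c c' : Bool} (H : S.InK (pw c S.t * h) w)
    (H' : S.InK (pw c' S.t * h') w') : S.InK (pw (c ^^ c') S.t * (h * h')) (w + w') := by
  have o := S.Ov_of_pw H
  have h1 := H.mul S H'
  have hY := S.inK_em (inU_sm o.hw c') false
  rw [S.em_Y] at hY
  have h2 := (hY.inv S).mul_left S h1
  have e : (S.Z e1 (sm c' w))⁻¹ * (pw c S.t * h * (pw c' S.t * h')) =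
      pw (c ^^ c') S.t * (h * h') := by
    have h3 := S.t_comm (S.L.inv_mem (S.Z_mem e1 (sm c' w))) c
    calc (S.Z e1 (sm c' w))⁻¹ * (pw c S.t * h * (pw c' S.t * h')) =
        ((S.Z e1 (sm c' w))⁻¹ * pw c S.t) * (h * pw c' S.t) * h' := by group
      _ = pw c S.t * pw c' S.t * (h * h') := by rw [h3, o.pw_t S]; group
      _ = _ := by rw [← pw_xor S.tt]
  rw [e] at h2
  exact h2

theorem InK.pw_conj {h k : G} {w : V} {c : Bool} (H : S.InK (pw c S.t * h) w) (hk : S.Pk k) :
    S.InK (pw c S.t * (k * h * k⁻¹)) (prj (S.act k w)) := by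
  have h1 := H.conj S hk
  have : k * (pw c S.t * h) * k⁻¹ = pw c S.t * (k * h * k⁻¹) := by
    rw [← mul_assoc, S.t_comm hk.mem c]; group
  rwa [this] at h1

theorem Lam_mul {g g' : G} {c c' : Bool} (H : S.Lam g c) (H' : S.Lam g' c') :
    S.Lam (g * g') (c ^^ c') := by
  obtain ⟨h, w, k, d, h1, h2, rfl, rfl⟩ := H
  obtain ⟨h', w', k', d', h1', h2', rfl, rfl⟩ := H'
  refine ⟨h * (k * h' * k⁻¹), _, k * k', d ^^ d', h1.pw_mul S (h1'.pw_conj S h2.p), h2.mul S h2',
    by group, ?_⟩
  rw [S.chi_mul h2 h2']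
  cases d <;> cases d' <;> cases S.chi k <;> cases S.chi k' <;> rfl

/-- The sign of `H`. -/
noncomputable def lam : S.HH →* ℤˣ where
  toFun g := bif (S.exists_Lam g.2).choose then -1 else 1
  map_one' := by
    have h1 := (S.exists_Lam (1 : S.HH).2).choose_spec
    have h2 : S.Lam ((1 : S.HH) : G) false := by
      refine ⟨1, 0, 1, false, ?_, Ku.one S, by simp, ?_⟩
      · rw [pw_false, one_mul, ← S.em_zero]
        exact S.inK_em inU_zero _
      · rw [S.chi_one]; rfl
    rw [S.Lam_unique h1 h2]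
    rfl
  map_mul' g g' := by
    have h1 := (S.exists_Lam g.2).choose_spec
    have h2 := (S.exists_Lam g'.2).choose_spec
    have h3 := (S.exists_Lam (g * g').2).choose_spec
    rw [S.Lam_unique h3 (S.Lam_mul h1 h2)]
    cases (S.exists_Lam g.2).choose <;> cases (S.exists_Lam g'.2).choose <;> rfl

theorem lam_eq {g : G} (hg : g ∈ S.HH) {c : Bool} (H : S.Lam g c) :
    S.lam ⟨g, hg⟩ = bif c then -1 else 1 := by
  have h1 := (S.exists_Lam hg).choose_spec
  change (bif (S.exists_Lam hg).choose then (-1 : ℤˣ) else 1) = _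
  rw [S.Lam_unique h1 H]

theorem Lam_t : S.Lam S.t true := by
  refine ⟨S.t, 0, 1, true, ?_, Ku.one S, by rw [mul_one], ?_⟩
  · rw [pw_true, S.tt, ← S.em_zero]
    exact S.inK_em inU_zero _
  · rw [S.chi_one]; rfl

theorem Lam_Ku {k : G} (hk : S.Ku k) : S.Lam k (S.chi k) := by
  refine ⟨1, 0, k, false, ?_, hk, by rw [one_mul], ?_⟩
  · rw [pw_false, one_mul, ← S.em_zero]
    exact S.inK_em inU_zero _
  · rw [Bool.false_xor]

theorem t_mem_HH : S.t ∈ S.HH := S.mem_HH_of_Ov (Ov.t S)

theorem lam_t : S.lam ⟨S.t, S.t_mem_HH⟩ = -1 := S.lam_eq _ S.Lam_t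

end Std

end Cfsg.Agent.StdSpSix.PatTwo
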