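import Cfsg.Agent.StdSpSix.PatTwoCls
import Cfsg.Agent.StdSpSix.TR

/-!
Pattern `{a2}`: `|C_G(t) : C_H(t)|` is odd, and the main theorem for `Std G`.
-/

set_option autoImplicit false

namespace Cfsg.Agent.StdSpSix.PatTwo

open Subgroup

/-- Orbit-stabiliser, for conjugation. -/
theorem relIndex_centralizer_eq {G : Type*} [Group G] (A : Subgroup G) (x : G) {ι : Type*}
    [Fintype ι] (f : ι → G) (hf : Function.Injective f)
    (h1 : ∀ a ∈ A, ∃ i, f i = a * x * a⁻¹) (h2 : ∀ i, ∃ a ∈ A, f i = a * x * a⁻¹) :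
    (centralizer ({x} : Set G)).relIndex A = Fintype.card ι := by
  rw [relIndex, index, ← Nat.card_eq_fintype_card]
  choose φ hφ using fun a : A => h1 a a.2
  have key : ∀ a c : A, φ a = φ c ↔ a⁻¹ * c ∈ (centralizer ({x} : Set G)).subgroupOf A := by
    intro a c
    rw [mem_subgroupOf, mem_centralizer_singleton_iff, ← hf.eq_iff, hφ, hφ]
    push_cast
    constructor
    · intro h
      calc (a : G)⁻¹ * c * x = (a : G)⁻¹ * (c * x * (c : G)⁻¹) * c := by group
        _ = (a : G)⁻¹ * (a * x * (a : G)⁻¹) * c := by rw [h]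
        _ = _ := by group
    · intro h
      calc (a : G) * x * (a : G)⁻¹ = a * (x * ((a : G)⁻¹ * c)) * (c : G)⁻¹ := by group
        _ = a * ((a : G)⁻¹ * c * x) * (c : G)⁻¹ := by rw [h]
        _ = _ := by group
  refine Nat.card_congr (Equiv.ofBijective (Quotient.lift φ fun a c h =>
    (key a c).2 (QuotientGroup.leftRel_apply.1 h)) ⟨?_, ?_⟩)
  · intro p q
    induction p using Quotient.inductionOn
    induction q using Quotient.inductionOn
    rename_i a c
    intro h
    exact Quotient.sound (QuotientGroup.leftRel_apply.2 ((key a c).1 h))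
  · intro i
    obtain ⟨a, ha, h⟩ := h2 i
    refine ⟨Quotient.mk _ ⟨a, ha⟩, hf ?_⟩
    change f (φ ⟨a, ha⟩) = f i
    rw [hφ, h]

open V

namespace Std

open Six

variable {G : Type*} [Group G] (S : Std G)

theorem pw_conj_L {a x : G} (ha : Commute a S.t) (hx : x ∈ S.L) :
    ∃ l ∈ S.L, (∀ y ∈ S.L, a * y * a⁻¹ = l * y * l⁻¹) ∧ ∃ c, a = pw c S.t * l := by
  obtain ⟨c, l, hl, rfl⟩ := S.cent' ha
  refine ⟨l, hl, fun y hy => ?_, c, rfl⟩
  have h := S.t_comm (S.L.mul_mem (S.L.mul_mem hl hy) (S.L.inv_mem hl)) c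
  calc pw c S.t * l * y * (pw c S.t * l)⁻¹ = pw c S.t * (l * y * l⁻¹) * (pw c S.t)⁻¹ := by group
    _ = (l * y * l⁻¹) * pw c S.t * (pw c S.t)⁻¹ := by rw [h]
    _ = _ := by group

theorem card_nz : Fintype.card {v : V // v ≠ 0} = 63 := by decide +kernel

instance : DecidablePred InU := fun u => inferInstanceAs (Decidable (_ ∧ _))

theorem card_U : Fintype.card {v : V // InU v ∧ v ≠ 0} = 15 := by decide +kernel

theorem odd_index : Odd (S.HH.relIndex (centralizer ({S.t} : Set G))) := by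
  set C1 := centralizer ({S.t} : Set G) with hC1
  set C2 := centralizer ({S.b} : Set G) ⊓ C1 with hC2
  set C3 := centralizer ({S.Z e1 e2} : Set G) ⊓ C2 with hC3
  have i1 : C2.relIndex C1 = 63 := by
    rw [hC2, inf_relIndex_right, relIndex_centralizer_eq C1 S.b
      (fun v : {v : V // v ≠ 0} => S.T v.1) (fun v w h => Subtype.ext (S.T_injective h)), card_nz]
    · intro a ha
      obtain ⟨l, hl, h1, -⟩ := S.pw_conj_L (mem_centralizer_singleton_iff.1 ha) S.b_mem
      refine ⟨⟨S.act l e1, fun h => ?_⟩, ?_⟩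
      · exact absurd (S.act_eq_zero hl h) (by decide)
      · change S.T (S.act l e1) = a * S.T e1 * a⁻¹
        rw [← S.conj_T hl]
        exact (h1 _ S.b_mem).symm
    · rintro ⟨v, hv⟩
      obtain ⟨l, hl, h1⟩ := S.witt1 hv
      refine ⟨l, mem_centralizer_singleton_iff.2 (S.comm l hl).eq, ?_⟩
      change S.T v = l * S.T e1 * l⁻¹
      rw [S.conj_T hl, h1]
  have i2 : C3.relIndex C2 = 15 := by
    rw [hC3, inf_relIndex_right, relIndex_centralizer_eq C2 (S.Z e1 e2)
      (fun v : {v : V // InU v ∧ v ≠ 0} => S.Z e1 v.1)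
      (fun v w h => Subtype.ext (S.Y_inj v.2.1 w.2.1 h)), card_U]
    · rintro a ⟨ha1, ha2⟩
      obtain ⟨l, hl, h1, c, hc⟩ := S.pw_conj_L (mem_centralizer_singleton_iff.1 ha2) S.b_mem
      have hlb : l * S.b = S.b * l := by
        have h2 := h1 S.b S.b_mem
        have h3 : a * S.b * a⁻¹ = S.b := by
          rw [mem_centralizer_singleton_iff.1 ha1]; group
        rw [h3] at h2
        calc l * S.b = l * S.b * l⁻¹ * l := by group
          _ = S.b * l := by rw [← h2]
      have he := S.act_of_T_comm hl hlb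
      have hp : S.Pk l := ⟨hl, he⟩
      have hZ : S.Z e1 (prj (S.act l e2)) = l * S.Z e1 e2 * l⁻¹ := by
        rw [hp.Y S (by decide)]; group
      refine ⟨⟨prj (S.act l e2), inU_prj _ (hp.perp S (by decide)), fun h => ?_⟩, ?_⟩
      · rw [h, S.Z_zero] at hZ
        have h4 : S.Z e1 e2 = S.Z e1 0 := by
          rw [S.Z_zero]
          calc S.Z e1 e2 = l⁻¹ * (l * S.Z e1 e2 * l⁻¹) * l := by group
            _ = 1 := by rw [← hZ]; group
        exact absurd (S.Y_inj (by decide) inU_zero h4) (by decide)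
      · change S.Z e1 (prj (S.act l e2)) = _
        rw [hZ]
        exact (h1 _ (S.Z_mem _ _)).symm
    · rintro ⟨v, hv, hv0⟩
      obtain ⟨k, hk, h1⟩ := S.exists_to_e2 hv hv0
      refine ⟨k, ⟨mem_centralizer_singleton_iff.2 hk.b_comm.eq,
        mem_centralizer_singleton_iff.2 (S.comm k hk.mem).eq⟩, ?_⟩
      change S.Z e1 v = k * S.Z e1 e2 * k⁻¹
      rw [hk.Y S (by decide), h1, prj_of_inU hv]; group
  have hle : C3 ≤ S.HH := by
    rintro a ⟨ha0, ha1, ha2⟩
    obtain ⟨c, l, hl, rfl⟩ := S.cent' (mem_centralizer_singleton_iff.1 ha2)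
    have hred : ∀ y ∈ S.L, pw c S.t * l * y = y * (pw c S.t * l) → l * y = y * l := by
      intro y hy h
      have h5 : pw c S.t * (l * y) = pw c S.t * (y * l) := by
        calc pw c S.t * (l * y) = pw c S.t * l * y := by group
          _ = y * pw c S.t * l := by rw [h]; group
          _ = pw c S.t * (y * l) := by rw [S.t_comm hy c]; group
      exact mul_left_cancel h5
    have hb := hred _ S.b_mem (mem_centralizer_singleton_iff.1 ha1)
    have hz := hred _ (S.Z_mem e1 e2) (mem_centralizer_singleton_iff.1 ha0)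
    have he := S.act_of_T_comm hl hb
    refine S.HH.mul_mem (pw_mem S.t_mem_HH c) (S.mem_HH_of_Ku ⟨⟨hl, he⟩, ?_⟩)
    rcases S.act_of_Y_comm hl he (show form e1 e2 = false by decide) hz with h | h <;> rw [h] <;> decide
  have h12 : C3.relIndex C1 = 945 := by
    have := relIndex_mul_relIndex C3 C2 C1 inf_le_right inf_le_right
    rw [i1, i2] at this
    rw [← this]
  have hd := relIndex_dvd_of_le_left C1 hle
  rw [h12] at hd
  exact Odd.of_dvd_nat (by decide) hd

/-- Main theorem for pattern `{a2}`. -/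
theorem main [Finite G] : ∃ m : G →* ℤˣ, m S.t = -1 :=
  TR.exists_hom_of_class S.lam S.tt S.t_mem_HH S.lam_t (fun _ h hl => S.cls h hl) S.odd_index

end Std

end Cfsg.Agent.StdSpSix.PatTwo
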