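import Cfsg.Agent.StdSpSix.PatTwoXW

/-!
Pattern `{a2}`: an element centralising `Λ² W` and moving `t` inside `t Λ² W` centralises
all transvections with centre in `W`.
-/

set_option autoImplicit false

namespace Cfsg.Agent.StdSpSix.PatTwo

open V

namespace Std

open Six

variable {G : Type*} [Group G] (S : Std G)

theorem sq_t : S.t * (S.t * S.t) = S.t := by rw [S.tt, mul_one]

theorem XW.conj {z x k : G} (hx : S.XW z x) (hk : S.StW k) : S.XW (k * z * k⁻¹) (k * x * k⁻¹) := by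
  refine ⟨hk.conj_CZ S hx.cz, ?_⟩
  have h1 : k⁻¹ * S.t = S.t * k⁻¹ := (S.comm _ (S.L.inv_mem hk.mem)).eq
  have h2 : k * S.t = S.t * k := (S.comm _ hk.mem).eq
  calc k * x * k⁻¹ * S.t * (k * x * k⁻¹)⁻¹ = k * x * (k⁻¹ * S.t) * k * x⁻¹ * k⁻¹ := by group
    _ = k * (x * S.t * x⁻¹) * k⁻¹ := by rw [h1]; group
    _ = (k * S.t) * z * k⁻¹ := by rw [hx.ht]; group
    _ = S.t * (k * z * k⁻¹) := by rw [h2]; group

theorem XW.coset {z x x' : G} (hx : S.XW z x) (hx' : S.XW z x') (i : Fin 8) :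
    x * S.T (wv i) * x⁻¹ = x' * S.T (wv i) * x'⁻¹ := by
  have h1 : Commute (x'⁻¹ * x) S.t := by
    unfold Commute SemiconjBy
    calc x'⁻¹ * x * S.t = x'⁻¹ * (x * S.t * x⁻¹) * x := by group
      _ = x'⁻¹ * (x' * S.t * x'⁻¹) * x := by rw [hx.ht, hx'.ht]
      _ = S.t * (x'⁻¹ * x) := by group
  obtain ⟨c, a, ha, h2⟩ := S.aw_of ((hx'.cz.inv S).mul S hx.cz) h1
  have h3 : Commute (x'⁻¹ * x) (S.T (wv i)) := by
    rw [h2]
    refine Commute.mul_left ?_ (ha.comm_T S.toSix i)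
    exact (commute_pw (S.comm _ (S.T_mem _)) c).symm
  calc x * S.T (wv i) * x⁻¹ = x' * ((x'⁻¹ * x) * S.T (wv i)) * x⁻¹ := by group
    _ = x' * S.T (wv i) * x'⁻¹ := by rw [h3.eq]; group

theorem XW.inv_ht {x : G} {i j : Fin 8} (hx : S.XW (S.Z (wv i) (wv j)) x) :
    x⁻¹ * S.t * x = S.t * S.Z (wv i) (wv j) := by
  have h1 := (hx.cz.all S i j).eq
  have h2 := S.Z_sq (form_wv i j)
  have h3 : x * S.t = S.t * S.Z (wv i) (wv j) * x := by rw [← hx.ht]; group
  calc x⁻¹ * S.t * x = x⁻¹ * (S.t * S.Z (wv i) (wv j) * x) * (x⁻¹ * (S.Z (wv i) (wv j))⁻¹ * x) := by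
        group
    _ = S.t * (x⁻¹ * (S.Z (wv i) (wv j))⁻¹ * x) := by rw [← h3]; group
    _ = S.t * (S.Z (wv i) (wv j)) := by
        rw [S.Z_inv (form_wv i j), mul_assoc x⁻¹, ← h1]
        group

theorem XW.E {x : G} {i j : Fin 8} (hx : S.XW (S.Z (wv i) (wv j)) x) (l : Fin 8) :
    S.CZ (x * S.T (wv l) * x⁻¹) ∧ Commute (x * S.T (wv l) * x⁻¹) S.t := by
  refine ⟨(hx.cz.mul S (S.CZ_T l)).mul S (hx.cz.inv S), ?_⟩
  have h1 : Commute (S.T (wv l)) (S.t * S.Z (wv i) (wv j)) :=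
    (S.comm _ (S.T_mem _)).mul_right ((S.CZ_T l).all S i j)
  have h2 := hx.inv_ht S
  unfold Commute SemiconjBy at h1 ⊢
  calc x * S.T (wv l) * x⁻¹ * S.t = x * (S.T (wv l) * (x⁻¹ * S.t * x)) * x⁻¹ := by group
    _ = x * (x⁻¹ * S.t * x * S.T (wv l)) * x⁻¹ := by rw [h2, h1]
    _ = S.t * (x * S.T (wv l) * x⁻¹) := by group

theorem XW.sq_comm {x : G} {i j : Fin 8} (hx : S.XW (S.Z (wv i) (wv j)) x) (l : Fin 8) :
    x * (x * S.T (wv l) * x⁻¹) * x⁻¹ = S.T (wv l) := by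
  have h1 := hx.inv_ht S
  have h2 : Commute (x * x) S.t := by
    have h3 : x * S.t * x⁻¹ = x⁻¹ * S.t * x := by rw [hx.ht, h1]
    unfold Commute SemiconjBy
    calc x * x * S.t = x * (x * S.t * x⁻¹) * x := by group
      _ = x * (x⁻¹ * S.t * x) * x := by rw [h3]
      _ = S.t * (x * x) := by group
  obtain ⟨c, a, ha, h4⟩ := S.aw_of (hx.cz.mul S hx.cz) h2
  have h5 : Commute (x * x) (S.T (wv l)) := by
    rw [h4]
    exact Commute.mul_left (commute_pw (S.comm _ (S.T_mem _)) c).symm (ha.comm_T S.toSix l)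
  calc x * (x * S.T (wv l) * x⁻¹) * x⁻¹ = (x * x * S.T (wv l)) * (x * x)⁻¹ := by group
    _ = S.T (wv l) := by rw [h5.eq]; group

theorem XW.core {x : G} (hx : S.XW (S.Z e1 e2) x) {l : Fin 8} (h1 : S.T (wv l) ≠ 1)
    (h2 : S.T (wv l) ≠ S.Z e1 e2) {c d e : Bool}
    (h : x * S.T (wv l) * x⁻¹ = pw c S.t * (pw d (S.T (wv l)) * pw e (S.Z e1 e2))) :
    x * S.T (wv l) * x⁻¹ = S.T (wv l) * pw e (S.Z e1 e2) := by
  have w1 : e1 = wv 1 := by decide
  have w2 : e2 = wv 2 := by decide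
  have hx' : S.XW (S.Z (wv 1) (wv 2)) x := by rw [← w1, ← w2]; exact hx
  have hinv := hx'.inv_ht S
  have hsq := hx'.sq_comm S l
  rw [← w1, ← w2] at hinv
  have hZ := hx.cz.h1.eq
  have hTl := S.T_mem (wv l)
  have hZm := S.Z_mem e1 e2
  cases d
  · exfalso
    rw [pw_false, one_mul] at h
    have h3 : S.T (wv l) = x⁻¹ * (pw c S.t * pw e (S.Z e1 e2)) * x := by rw [← h]; group
    have h4 : x⁻¹ * (pw c S.t * pw e (S.Z e1 e2)) * x =
        pw c (S.t * S.Z e1 e2) * pw e (S.Z e1 e2) := by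
      have h5 : x⁻¹ * S.Z e1 e2 * x = S.Z e1 e2 := by
        rw [mul_assoc, ← hZ]; group
      cases c <;> cases e
      · simp [pw_false]
      · simp only [pw_false, pw_true, one_mul]; exact h5
      · simp only [pw_false, pw_true, mul_one]; exact hinv
      · simp only [pw_true]
        calc x⁻¹ * (S.t * S.Z e1 e2) * x = (x⁻¹ * S.t * x) * (x⁻¹ * S.Z e1 e2 * x) := by group
          _ = S.t * S.Z e1 e2 * S.Z e1 e2 := by rw [hinv, h5]
    rw [h4] at h3
    cases c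
    · rw [pw_false, one_mul] at h3
      cases e
      · exact h1 h3
      · exact h2 h3
    · apply S.tL
      have h6 : S.t = S.T (wv l) * (pw e (S.Z e1 e2))⁻¹ * (S.Z e1 e2)⁻¹ := by
        rw [h3, pw_true]; group
      rw [h6]
      exact S.L.mul_mem (S.L.mul_mem hTl (S.L.inv_mem (pw_mem hZm _))) (S.L.inv_mem hZm)
  · cases c
    · rw [h]
      simp only [pw_false, pw_true, one_mul]
    · exfalso
      rw [pw_true, pw_true] at h
      rw [h] at hsq
      have h7 : x * (S.t * (S.T (wv l) * pw e (S.Z e1 e2))) * x⁻¹ =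
          (x * S.t * x⁻¹) * (x * S.T (wv l) * x⁻¹) * (x * pw e (S.Z e1 e2) * x⁻¹) := by group
      have h8 : x * pw e (S.Z e1 e2) * x⁻¹ = pw e (S.Z e1 e2) := by
        rw [(commute_pw hx.cz.h1 e).eq, mul_inv_cancel_right]
      have hZ2 := S.Z_sq line12.1
      have hp2 : pw e (S.Z e1 e2) * pw e (S.Z e1 e2) = 1 := by
        cases e
        · rw [pw_false, mul_one]
        · exact hZ2
      have ht := (S.comm _ hZm).eq
      rw [h7, h8, hx.ht, h] at hsq
      have h9 : S.t * S.Z e1 e2 * (S.t * (S.T (wv l) * pw e (S.Z e1 e2))) * pw e (S.Z e1 e2) =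
          S.t * (S.Z e1 e2 * S.t) * S.T (wv l) * (pw e (S.Z e1 e2) * pw e (S.Z e1 e2)) := by group
      rw [h9, hp2, mul_one, ht, ← mul_assoc, S.tt, one_mul] at hsq
      have h10 : S.Z e1 e2 = 1 := mul_right_cancel (hsq.trans (one_mul _).symm)
      exact (show S.IsA2 (S.Z e1 e2) from ⟨_, _, line12, rfl⟩).ne_one S.toSix h10

theorem comm_k {x k : G} (hx : S.XW (S.Z e1 e2) x) (hk : S.StW k)
    (hkz : k * S.Z e1 e2 * k⁻¹ = S.Z e1 e2) {l : Fin 8} (hkv : S.act k (wv l) = wv l) {c : Bool} {a : G}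
    (h : x * S.T (wv l) * x⁻¹ = pw c S.t * a) : a * k = k * a := by
  have h1 := hx.conj S hk
  rw [hkz] at h1
  have h2 := h1.coset S hx l
  have h3 : k * x * k⁻¹ * S.T (wv l) * (k * x * k⁻¹)⁻¹ = k * (x * S.T (wv l) * x⁻¹) * k⁻¹ := by
    have h4 : k⁻¹ * S.T (wv l) * k = S.T (wv l) := by
      have := (S.T_comm_of_act hk.mem hkv)
      rw [mul_assoc, ← this]; group
    calc k * x * k⁻¹ * S.T (wv l) * (k * x * k⁻¹)⁻¹ = k * x * (k⁻¹ * S.T (wv l) * k) * x⁻¹ * k⁻¹ := by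
          group
      _ = k * (x * S.T (wv l) * x⁻¹) * k⁻¹ := by rw [h4]; group
  rw [h3, h] at h2
  have h5 : Commute k (pw c S.t) := commute_pw (S.comm _ hk.mem) c
  have h6 : pw c S.t * (k * a * k⁻¹) = pw c S.t * a := by
    rw [← h2, ← mul_assoc, ← mul_assoc, ← h5.eq]; group
  have h7 := mul_left_cancel h6
  calc a * k = (k * a * k⁻¹) * k := by rw [h7]
    _ = k * a := by group

/-! ### Some elements stabilising the plane -/

theorem frame {i j l : Fin 8} (h : Plane (wv i) (wv j) (wv l)) :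
    ∃ k, S.StW k ∧ S.act k e1 = wv i ∧ S.act k e2 = wv j ∧ S.act k e3 = wv l := by
  obtain ⟨k, hk, h1, h2, h3⟩ := S.witt3 h
  refine ⟨k, ⟨hk, fun m => ?_⟩, h1, h2, h3⟩
  have h4 : S.act k (wv m) = sm (m.val.testBit 0) (wv i) + sm (m.val.testBit 1) (wv j) +
      sm (m.val.testBit 2) (wv l) := by
    conv_lhs => unfold wv
    rw [S.act_add k hk, S.act_add k hk, S.act_sm hk, S.act_sm hk, S.act_sm hk, h1, h2, h3]
  rw [h4]
  revert i j l m
  intro i j l _ _ _ _ m _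
  generalize m.val.testBit 0 = a
  generalize m.val.testBit 1 = b
  generalize m.val.testBit 2 = c
  clear * -
  revert i j l a b c
  decide +kernel

theorem stW_Z {a c : V} (h0 : form a c = false) (h : ∀ i : Fin 8, ∃ j : Fin 8, zf a c (wv i) = wv j) :
    S.StW (S.Z a c) := ⟨S.Z_mem _ _, fun i => by rw [S.act_Z h0]; exact h i⟩

theorem XW.flag0 {x : G} (hx : S.XW (S.Z e1 e2) x) :
    ∃ d, x * S.T e1 * x⁻¹ = S.T e1 * pw d (S.Z e1 e2) := by
  have w1 : e1 = wv 1 := by decide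
  have w2 : e2 = wv 2 := by decide
  have hx' : S.XW (S.Z (wv 1) (wv 2)) x := by rw [← w1, ← w2]; exact hx
  obtain ⟨q1, q2⟩ := hx'.E S 1
  obtain ⟨c, a, ha, h⟩ := S.aw_of q1 q2
  have c1 : a * S.Z e1 f2 = S.Z e1 f2 * a := by
    refine S.comm_k hx (S.stW_Z (by decide) (by decide +kernel)) ?_ (l := 1) ?_ h
    · rw [S.conj_Z (S.Z_mem _ _), S.act_Z (by decide), S.act_Z (by decide)]
      exact S.Y_e1 (u := e2) (by decide)
    · rw [S.act_Z (by decide)]; decide
  have c2 : a * S.Z e1 f3 = S.Z e1 f3 * a := by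
    refine S.comm_k hx (S.stW_Z (by decide) (by decide +kernel)) ?_ (l := 1) ?_ h
    · rw [S.conj_Z (S.Z_mem _ _), S.act_Z (by decide), S.act_Z (by decide)]
      rfl
    · rw [S.act_Z (by decide)]; decide
  have c3 : a * S.Z e2 f3 = S.Z e2 f3 * a := by
    refine S.comm_k hx (S.stW_Z (by decide) (by decide +kernel)) ?_ (l := 1) ?_ h
    · rw [S.conj_Z (S.Z_mem _ _), S.act_Z (by decide), S.act_Z (by decide)]
      rfl
    · rw [S.act_Z (by decide)]; decide
  obtain ⟨d, e, hde⟩ := ha.flag S.toSix c1 c2 c3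
  rw [hde] at h
  refine ⟨e, ?_⟩
  have h1 : S.T (wv 1) ≠ 1 := by
    rw [← S.T_zero]
    intro h0
    exact absurd (S.T_injective h0) (by decide)
  have h2 : S.T (wv 1) ≠ S.Z e1 e2 := by
    intro h0
    have h3 : S.act (S.T (wv 1)) f1 = S.act (S.Z e1 e2) f1 := by rw [h0]
    rw [S.act_T, S.act_Z (by decide)] at h3
    exact absurd h3 (by decide)
  have := hx.core S h1 h2 (by rw [h, ← w1])
  rw [← w1] at this
  exact this

theorem T_wv_ne (l : Fin 8) (h : wv l ≠ 0) : S.T (wv l) ≠ 1 := by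
  rw [← S.T_zero]
  intro h0
  exact h (S.T_injective h0)

theorem XW.flag12 {x : G} (hx : S.XW (S.Z e1 e2) x) : Commute x (S.T e1) := by
  have w1 : e1 = wv 1 := by decide
  have w2 : e2 = wv 2 := by decide
  have w3 : e1 + e2 = wv 3 := by decide
  obtain ⟨d, hd⟩ := hx.flag0 S
  -- the same exponent at the other points of the line
  have key : ∀ i j : Fin 8, Plane (wv i) (wv j) (wv 4) → S.Z (wv i) (wv j) = S.Z e1 e2 →
      x * S.T (wv i) * x⁻¹ = S.T (wv i) * pw d (S.Z e1 e2) := by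
    intro i j hpl hz
    obtain ⟨k, hk, k1, k2, -⟩ := S.frame hpl
    have hkz : k * S.Z e1 e2 * k⁻¹ = S.Z e1 e2 := by
      rw [S.conj_Z hk.mem, k1, k2, hz]
    have h1 := hx.conj S hk
    rw [hkz] at h1
    rw [← h1.coset S hx i]
    have h2 : S.T (wv i) = k * S.T e1 * k⁻¹ := by rw [S.conj_T hk.mem, k1]
    rw [h2]
    calc k * x * k⁻¹ * (k * S.T e1 * k⁻¹) * (k * x * k⁻¹)⁻¹ = k * (x * S.T e1 * x⁻¹) * k⁻¹ := by group
      _ = k * S.T e1 * k⁻¹ * (k * pw d (S.Z e1 e2) * k⁻¹) := by rw [hd]; group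
      _ = k * S.T e1 * k⁻¹ * pw d (S.Z e1 e2) := by
        congr 1
        cases d
        · rw [pw_false]; group
        · exact hkz
  have k2 := key 2 1 (by decide) (by rw [← w1, ← w2]; exact S.Z_comm' (by decide))
  have k3 := key 3 1 (by decide) (by
    rw [← w1, ← w3]
    exact S.Z_line line12 (by decide) (by decide) (by decide))
  rw [← w2] at k2
  rw [← w3] at k3
  cases d
  · rw [pw_false, mul_one] at hd
    unfold Commute SemiconjBy
    calc x * S.T e1 = x * S.T e1 * x⁻¹ * x := by group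
      _ = S.T e1 * x := by rw [hd]
  · exfalso
    rw [pw_true] at hd k2 k3
    have h1 : x * S.Z e1 e2 * x⁻¹ = S.Z e1 e2 := by rw [hx.cz.h1.eq, mul_inv_cancel_right]
    have h2 : x * S.Z e1 e2 * x⁻¹ = (x * S.T e1 * x⁻¹) * (x * S.T e2 * x⁻¹) * (x * S.T (e1 + e2) * x⁻¹) := by
      unfold Six.Z
      group
    have hZ2 := S.Z_sq line12.1
    have c1 : Commute (S.Z e1 e2) (S.T e2) := (S.T_comm_Z (by decide) (by decide)).symm
    have c2 : Commute (S.Z e1 e2) (S.T (e1 + e2)) := (S.T_comm_Z (by decide) (by decide)).symm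
    rw [hd, k2, k3] at h2
    have h3 : S.T e1 * S.Z e1 e2 * (S.T e2 * S.Z e1 e2) * (S.T (e1 + e2) * S.Z e1 e2) =
        S.T e1 * S.T e2 * S.T (e1 + e2) * (S.Z e1 e2 * S.Z e1 e2 * S.Z e1 e2) := by
      calc S.T e1 * S.Z e1 e2 * (S.T e2 * S.Z e1 e2) * (S.T (e1 + e2) * S.Z e1 e2) =
          S.T e1 * (S.Z e1 e2 * S.T e2) * S.Z e1 e2 * S.T (e1 + e2) * S.Z e1 e2 := by group
        _ = S.T e1 * S.T e2 * (S.Z e1 e2 * S.Z e1 e2) * S.T (e1 + e2) * S.Z e1 e2 := by
          rw [c1.eq]; group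
        _ = S.T e1 * S.T e2 * S.T (e1 + e2) * (S.Z e1 e2 * S.Z e1 e2 * S.Z e1 e2) := by
          rw [hZ2]; group
    have h4 : S.T e1 * S.T e2 * S.T (e1 + e2) = S.Z e1 e2 := rfl
    rw [h3, hZ2, one_mul, h4, hZ2, h1] at h2
    exact (show S.IsA2 (S.Z e1 e2) from ⟨_, _, line12, rfl⟩).ne_one S.toSix h2

theorem XW.flag {x : G} {i j : Fin 8} (hl : Line (wv i) (wv j)) (hx : S.XW (S.Z (wv i) (wv j)) x) :
    Commute x (S.T (wv i)) := by
  have : ∃ l : Fin 8, Plane (wv i) (wv j) (wv l) := by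
    revert i j
    intro i j hl _
    clear * - hl
    revert i j
    decide +kernel
  obtain ⟨l, hpl⟩ := this
  obtain ⟨k, hk, k1, k2, -⟩ := S.frame hpl
  have h1 := hx.conj S (hk.inv S)
  rw [inv_inv] at h1
  have h2 : k⁻¹ * S.Z (wv i) (wv j) * k = S.Z e1 e2 := by
    rw [← k1, ← k2, ← S.conj_Z hk.mem]; group
  rw [h2] at h1
  have h3 := (h1.flag12 S).eq
  have h4 : S.T (wv i) = k * S.T e1 * k⁻¹ := by rw [S.conj_T hk.mem, k1]
  unfold Commute SemiconjBy
  rw [h4]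
  calc x * (k * S.T e1 * k⁻¹) = k * (k⁻¹ * x * k * S.T e1) * k⁻¹ := by group
    _ = k * S.T e1 * k⁻¹ * x := by rw [h3]; group

theorem XW.anti0 {x : G} (hx : S.XW (S.Z e1 e2) x) :
    ∃ d, x * S.T e3 * x⁻¹ = S.T e3 * pw d (S.Z e1 e2) := by
  have w1 : e1 = wv 1 := by decide
  have w2 : e2 = wv 2 := by decide
  have w3 : e3 = wv 4 := by decide
  have hx' : S.XW (S.Z (wv 1) (wv 2)) x := by rw [← w1, ← w2]; exact hx
  obtain ⟨q1, q2⟩ := hx'.E S 4
  obtain ⟨c, a, ha, h⟩ := S.aw_of q1 q2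
  have c1 : a * S.Z e1 f2 = S.Z e1 f2 * a := by
    refine S.comm_k hx (S.stW_Z (by decide) (by decide +kernel)) ?_ (l := 4) ?_ h
    · rw [S.conj_Z (S.Z_mem _ _), S.act_Z (by decide), S.act_Z (by decide)]
      exact S.Y_e1 (u := e2) (by decide)
    · rw [S.act_Z (by decide)]; decide
  have c2 : a * S.Z e2 f1 = S.Z e2 f1 * a := by
    refine S.comm_k hx (S.stW_Z (by decide) (by decide +kernel)) ?_ (l := 4) ?_ h
    · rw [S.conj_Z (S.Z_mem _ _), S.act_Z (by decide), S.act_Z (by decide)]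
      exact S.Z_line line12 (by decide) (by decide) (by decide)
    · rw [S.act_Z (by decide)]; decide
  obtain ⟨d, e, hde⟩ := ha.anti S.toSix c1 c2
  rw [hde] at h
  refine ⟨e, ?_⟩
  have h1 : S.T (wv 4) ≠ 1 := S.T_wv_ne 4 (by decide)
  have h2 : S.T (wv 4) ≠ S.Z e1 e2 := by
    intro h0
    have h3 : S.act (S.T (wv 4)) f1 = S.act (S.Z e1 e2) f1 := by rw [h0]
    rw [S.act_T, S.act_Z (by decide)] at h3
    exact absurd h3 (by decide)
  have := hx.core S h1 h2 (by rw [h, ← w3])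
  rw [← w3] at this
  exact this

theorem XW.anti12 {x : G} (hx : S.XW (S.Z e1 e2) x) : Commute x (S.T e3) := by
  have w1 : e1 = wv 1 := by decide
  have w3 : e3 = wv 4 := by decide
  have w6 : e2 + e3 = wv 6 := by decide
  obtain ⟨d, hd⟩ := hx.anti0 S
  -- an element for the line `⟨e1, e3⟩`
  obtain ⟨k, hk, k1, k2, k3⟩ := S.frame (show Plane (wv 1) (wv 4) (wv 2) by decide)
  have hy := hx.conj S hk
  rw [S.conj_Z hk.mem, k1, k2] at hy
  have hy' : S.XW (S.Z (wv 4) (wv 1)) (k * x * k⁻¹) := by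
    rw [S.Z_comm' (form_wv 4 1)]; exact hy
  have h1 : Commute (k * x * k⁻¹) (S.T (wv 4)) := hy'.flag S (by decide)
  set y := k * x * k⁻¹ with hydef
  -- the product
  have hm : S.Z e1 e2 * S.Z e1 e3 = S.Z (wv 1) (wv 6) := by
    rw [S.Y_mul (by decide) (by decide), show V.form e2 e3 = false by decide, pw_false, mul_one,
      ← w1, ← w6]
  have hxy : S.XW (S.Z (wv 1) (wv 6)) (x * y) := by
    refine ⟨hx.cz.mul S hy.cz, ?_⟩
    rw [← w1, ← w3] at hy
    calc x * y * S.t * (x * y)⁻¹ = x * (y * S.t * y⁻¹) * x⁻¹ := by group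
      _ = (x * S.t * x⁻¹) * (x * S.Z e1 e3 * x⁻¹) := by rw [hy.ht]; group
      _ = S.t * S.Z (wv 1) (wv 6) := by
        rw [hx.ht, hx.cz.h2.eq, mul_inv_cancel_right, ← hm, mul_assoc]
  obtain ⟨m, hm', m1, m2, m3⟩ := S.frame (show Plane (wv 1) (wv 6) (wv 4) by decide)
  have hz := hx.conj S hm'
  rw [S.conj_Z hm'.mem, m1, m2] at hz
  have h2 := hz.coset S hxy 4
  have h3 : m * x * m⁻¹ * S.T (wv 4) * (m * x * m⁻¹)⁻¹ = S.T (wv 4) * pw d (S.Z (wv 1) (wv 6)) := by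
    have h4 : S.T (wv 4) = m * S.T e3 * m⁻¹ := by rw [S.conj_T hm'.mem, m3]
    have h5 : m * pw d (S.Z e1 e2) * m⁻¹ = pw d (S.Z (wv 1) (wv 6)) := by
      cases d
      · rw [pw_false, pw_false]; group
      · rw [pw_true, pw_true, S.conj_Z hm'.mem, m1, m2]
    rw [h4]
    calc m * x * m⁻¹ * (m * S.T e3 * m⁻¹) * (m * x * m⁻¹)⁻¹ = m * (x * S.T e3 * x⁻¹) * m⁻¹ := by group
      _ = m * S.T e3 * m⁻¹ * (m * pw d (S.Z e1 e2) * m⁻¹) := by rw [hd]; group
      _ = _ := by rw [h5]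
  have h6 : x * y * S.T (wv 4) * (x * y)⁻¹ = S.T (wv 4) * pw d (S.Z e1 e2) := by
    calc x * y * S.T (wv 4) * (x * y)⁻¹ = x * (y * S.T (wv 4)) * y⁻¹ * x⁻¹ := by group
      _ = x * S.T (wv 4) * x⁻¹ := by rw [h1.eq]; group
      _ = _ := by rw [← w3, hd]
  rw [h3, h6] at h2
  have h7 := mul_left_cancel h2
  cases d
  · rw [pw_false, mul_one] at hd
    unfold Commute SemiconjBy
    calc x * S.T e3 = x * S.T e3 * x⁻¹ * x := by group
      _ = S.T e3 * x := by rw [hd]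
  · exfalso
    rw [pw_true, pw_true, ← hm] at h7
    have h8 : S.Z e1 e3 = 1 := mul_left_cancel (h7.trans (mul_one _).symm)
    exact (show S.IsA2 (S.Z e1 e3) from ⟨_, _, line13, rfl⟩).ne_one S.toSix h8

theorem T_add_of {x : G} {a c : V} (h0 : form a c = false) (h : Commute x (S.Z a c))
    (ha : Commute x (S.T a)) (hc : Commute x (S.T c)) : Commute x (S.T (a + c)) := by
  have : S.T (a + c) = (S.T a * S.T c)⁻¹ * S.Z a c := by
    unfold Six.Z
    group
  rw [this]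
  exact ((ha.mul_right hc).inv_right).mul_right h

theorem XW.comm12 {x : G} (hx : S.XW (S.Z e1 e2) x) (l : Fin 8) : Commute x (S.T (wv l)) := by
  have t1 := hx.flag12 S
  have t4 := hx.anti12 S
  have t2 : Commute x (S.T e2) := by
    have w1 : e1 = wv 1 := by decide
    have w2 : e2 = wv 2 := by decide
    have h : S.XW (S.Z (wv 2) (wv 1)) x := by
      rw [S.Z_comm' (form_wv 2 1), ← w1, ← w2]; exact hx
    have := h.flag S (by decide)
    rwa [← w2] at this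
  have t3 : Commute x (S.T (e1 + e2)) := S.T_add_of (by decide) hx.cz.h1 t1 t2
  have t5 : Commute x (S.T (e1 + e3)) := S.T_add_of (by decide) hx.cz.h2 t1 t4
  have t6 : Commute x (S.T (e2 + e3)) := S.T_add_of (by decide) hx.cz.h3 t2 t4
  have t7 : Commute x (S.T (e1 + (e2 + e3))) := by
    refine S.T_add_of (by decide) ?_ t1 t6
    have w1 : e1 = wv 1 := by decide
    have w6 : e2 + e3 = wv 6 := by decide
    rw [w1, w6]
    exact hx.cz.all S 1 6
  fin_cases l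
  · change Commute x (S.T (wv 0))
    rw [show wv 0 = 0 by decide, S.T_zero]
    exact Commute.one_right x
  · change Commute x (S.T (wv 1))
    rw [show wv 1 = e1 by decide]; exact t1
  · change Commute x (S.T (wv 2))
    rw [show wv 2 = e2 by decide]; exact t2
  · change Commute x (S.T (wv 3))
    rw [show wv 3 = e1 + e2 by decide]; exact t3
  · change Commute x (S.T (wv 4))
    rw [show wv 4 = e3 by decide]; exact t4
  · change Commute x (S.T (wv 5))
    rw [show wv 5 = e1 + e3 by decide]; exact t5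
  · change Commute x (S.T (wv 6))
    rw [show wv 6 = e2 + e3 by decide]; exact t6
  · change Commute x (S.T (wv 7))
    rw [show wv 7 = e1 + (e2 + e3) by decide]; exact t7

theorem XW.comm_all {x : G} {c1 c2 c3 : Bool} (hx : S.XW (S.zw c1 c2 c3) x) (l : Fin 8) :
    Commute x (S.T (wv l)) := by
  rcases S.zw_line c1 c2 c3 with h | ⟨i, j, hl, h⟩
  · rw [h] at hx
    have h1 : Commute x S.t := by
      have := hx.ht
      rw [mul_one] at this
      unfold Commute SemiconjBy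
      calc x * S.t = x * S.t * x⁻¹ * x := by group
        _ = S.t * x := by rw [this]
    obtain ⟨c, a, ha, h4⟩ := S.aw_of hx.cz h1
    rw [h4]
    exact Commute.mul_left (commute_pw (S.comm _ (S.T_mem _)) c).symm (ha.comm_T S.toSix l)
  · rw [h] at hx
    have : ∃ m : Fin 8, Plane (wv i) (wv j) (wv m) := by
      clear * - hl
      revert i j
      decide +kernel
    obtain ⟨m, hpl⟩ := this
    obtain ⟨k, hk, k1, k2, -⟩ := S.frame hpl
    have h1 := hx.conj S (hk.inv S)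
    rw [inv_inv] at h1
    have h2 : k⁻¹ * S.Z (wv i) (wv j) * k = S.Z e1 e2 := by
      rw [← k1, ← k2, ← S.conj_Z hk.mem]; group
    rw [h2] at h1
    obtain ⟨l', hl'⟩ := (hk.inv S).h l
    have h3 := (h1.comm12 S l').eq
    have h4 : S.T (wv l) = k * S.T (wv l') * k⁻¹ := by
      rw [S.conj_T hk.mem, ← hl', S.act_act_inv hk.mem]
    unfold Commute SemiconjBy
    rw [h4]
    calc x * (k * S.T (wv l') * k⁻¹) = k * (k⁻¹ * x * k * S.T (wv l')) * k⁻¹ := by group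
      _ = k * S.T (wv l') * k⁻¹ * x := by rw [h3]; group

end Std

end Cfsg.Agent.StdSpSix.PatTwo
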