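import Cfsg.Agent.StdSpSix.PatTwoOv

/-!
Pattern `{a2}`: the subgroup of index two of the group of translations, not containing `t`.
-/

set_option autoImplicit false

namespace Cfsg.Agent.StdSpSix.PatTwo

open V

namespace Std

open Six

variable {G : Type*} [Group G] (S : Std G)

/-- Membership in the subgroup `K1`. -/
def InK (h : G) (w : V) : Prop := S.Ov h w ∧ (∃ d, h * h = pw d S.b) ∧ (w = 0 → h ∈ S.L)

theorem em_b' (d : Bool) : S.em false 0 d = pw d S.b := by
  unfold em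
  rw [pw_false, S.Z_zero, one_mul, one_mul]

theorem em_false_mem (v : V) (d : Bool) : S.em false v d ∈ S.L := by
  unfold em
  rw [pw_false, one_mul]
  exact S.yb_mem _ _

theorem em_of_mem {c : Bool} {v : V} {d : Bool} (h : S.em c v d ∈ S.L) : c = false := by
  cases c
  · rfl
  · exfalso
    apply S.tL
    have : S.t = S.em true v d * (S.Z e1 v * pw d S.b)⁻¹ := by
      unfold em; rw [pw_true]; group
    rw [this]
    exact S.L.mul_mem h (S.L.inv_mem (S.yb_mem _ _))

theorem Ov.conj_em {h : G} {w : V} (H : S.Ov h w) {v : V} (hv : InU v) (d : Bool) :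
    h * S.em false v d = S.em false v (d ^^ form v w) * h := by
  unfold Std.em
  rw [pw_false, one_mul, one_mul]
  calc h * (S.Z e1 v * pw d S.b) = (h * S.Z e1 v) * pw d S.b := by group
    _ = S.Z e1 v * pw (form v w) S.b * (h * pw d S.b) := by rw [H.hY v hv]; group
    _ = S.Z e1 v * (pw (form v w) S.b * pw d S.b) * h := by rw [S.b_comm_pw _ H.hb]; group
    _ = _ := by rw [← pw_xor S.b_sq, Bool.xor_comm]

theorem t_mul_sq {h : G} {w : V} (H : S.Ov h w) : S.t * h * (S.t * h) = S.Z e1 w * (h * h) := by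
  calc S.t * h * (S.t * h) = S.t * (h * S.t) * h := by group
    _ = (S.t * S.t) * S.Z e1 w * h * h := by rw [H.ht]; group
    _ = S.Z e1 w * (h * h) := by rw [S.tt, one_mul, mul_assoc]

/-- One of `h`, `t h` is in `K1`. -/
theorem dich {h : G} {w : V} (H : S.Ov h w) : S.InK h w ∨ S.InK (S.t * h) w := by
  have H2 := (Ov.t S).mul S H
  rw [zero_add] at H2
  by_cases h0 : w = 0
  · subst h0
    obtain ⟨c, v, d, hv, rfl⟩ := H.ker
    cases c
    · exact Or.inl ⟨H, ⟨false, by rw [S.em_sq hv, pw_false]⟩, fun _ => S.em_false_mem _ _⟩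
    · right
      have h1 : S.t * S.em true v d = S.em false v d := by
        unfold em
        rw [pw_true, pw_false, ← mul_assoc, S.tt]
      refine ⟨H2, ⟨false, by rw [h1, S.em_sq hv, pw_false]⟩, fun _ => ?_⟩
      rw [h1]
      exact S.em_false_mem _ _
  · obtain ⟨c, d, h1⟩ := H.sq
    cases c
    · rw [sm_false] at h1
      exact Or.inl ⟨H, ⟨d, by rw [h1, S.em_b']⟩, fun h => absurd h h0⟩
    · refine Or.inr ⟨H2, ⟨d, ?_⟩, fun h => absurd h h0⟩
      rw [S.t_mul_sq H, h1, sm_true, ← S.em_Y, S.em_mul H.hw H.hw, aa, form_self, ← S.em_b']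
      cases d <;> rfl

/-- Not both. -/
theorem not_both {h : G} {w : V} (H : S.InK h w) (H2 : S.InK (S.t * h) w) : False := by
  obtain ⟨a1, ⟨d, a2⟩, a3⟩ := H
  obtain ⟨-, ⟨d', b2⟩, b3⟩ := H2
  by_cases h0 : w = 0
  · apply S.tL
    have := S.L.mul_mem (b3 h0) (S.L.inv_mem (a3 h0))
    rwa [mul_inv_cancel_right] at this
  · rw [S.t_mul_sq a1, a2, ← S.em_b', ← S.em_Y, ← S.em_b', S.em_mul a1.hw inU_zero] at b2
    obtain ⟨-, h1, -⟩ := S.em_inj (a1.hw.add inU_zero) inU_zero b2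
    rw [add_zero] at h1
    exact h0 h1

theorem InK.inv {h : G} {w : V} (H : S.InK h w) : S.InK h⁻¹ w := by
  obtain ⟨a1, ⟨d, a2⟩, a3⟩ := H
  refine ⟨a1.inv S, ⟨d, ?_⟩, fun h => S.L.inv_mem (a3 h)⟩
  rw [← mul_inv_rev, a2]
  cases d
  · rw [pw_false, inv_one]
  · rw [pw_true]
    exact inv_eq_of_mul_eq_one_right S.b_sq

theorem InK.conj {h k : G} {w : V} (H : S.InK h w) (hk : S.Pk k) :
    S.InK (k * h * k⁻¹) (prj (S.act k w)) := by
  obtain ⟨a1, ⟨d, a2⟩, a3⟩ := H
  refine ⟨a1.conj S hk, ⟨d, ?_⟩, fun h0 => ?_⟩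
  · calc k * h * k⁻¹ * (k * h * k⁻¹) = k * (h * h) * k⁻¹ := by group
      _ = pw d S.b := by rw [a2, S.b_comm_pw _ hk.b_comm, mul_inv_cancel_right]
  · refine S.L.mul_mem (S.L.mul_mem hk.mem (a3 ?_)) (S.L.inv_mem hk.mem)
    have hki := hk.inv S
    have h1 := S.act_prj hki (hk.perp S a1.hw.perp)
    rw [h0, S.act_inv_act hk.mem, prj_of_inU a1.hw, S.act_zero hki.mem] at h1
    rw [← h1]
    decide

/-- The square of a product in terms of the commutator. -/
theorem sq_mul {h h' : G} {w w' : V} (H : S.InK h w) (H' : S.InK h' w') :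
    ∃ d, h * h' * (h * h') = (h * h' * h⁻¹ * h'⁻¹) * pw d S.b := by
  obtain ⟨a1, ⟨d, a2⟩, -⟩ := H
  obtain ⟨b1, ⟨d', b2⟩, -⟩ := H'
  refine ⟨d ^^ d', ?_⟩
  calc h * h' * (h * h') = (h * h' * h⁻¹ * h'⁻¹) * (h' * (h * h)) * h' := by group
    _ = (h * h' * h⁻¹ * h'⁻¹) * (pw d S.b * (h' * h')) := by
        rw [a2, S.b_comm_pw _ b1.hb]; group
    _ = _ := by rw [b2, ← pw_xor S.b_sq]

/-- The commutator commutes with the first factor. -/
theorem comm_conj {h h' : G} {w w' : V} (H : S.InK h w) (H' : S.InK h' w')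
    (hq : (h * h' * h⁻¹ * h'⁻¹) * (h * h' * h⁻¹ * h'⁻¹) = 1) :
    h * (h * h' * h⁻¹ * h'⁻¹) = (h * h' * h⁻¹ * h'⁻¹) * h := by
  obtain ⟨a1, ⟨d, a2⟩, -⟩ := H
  have hb := H'.1.hb
  set q := h * h' * h⁻¹ * h'⁻¹ with hqdef
  have h1 : h⁻¹ * q * (h⁻¹ * q) = h⁻¹ * h⁻¹ := by
    have e : h⁻¹ * q = h' * h⁻¹ * h'⁻¹ := by rw [hqdef]; group
    have e2' : h⁻¹ * h⁻¹ = pw d S.b := by
      rw [← mul_inv_rev, a2]
      cases d
      · rw [pw_false, inv_one]
      · rw [pw_true]
        exact inv_eq_of_mul_eq_one_right S.b_sq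
    calc h⁻¹ * q * (h⁻¹ * q) = h' * (h⁻¹ * h⁻¹) * h'⁻¹ := by rw [e]; group
      _ = h⁻¹ * h⁻¹ := by rw [e2', S.b_comm_pw _ hb, mul_inv_cancel_right]
  have h2 : q * h⁻¹ * q = h⁻¹ := by
    calc q * h⁻¹ * q = h * (h⁻¹ * q * (h⁻¹ * q)) := by group
      _ = h⁻¹ := by rw [h1]; group
  have h3 : q⁻¹ = q := inv_eq_of_mul_eq_one_right hq
  calc h * q = h * (q * h⁻¹ * q) * (h * q) * 1 := by rw [h2]; group
    _ = h * (q * h⁻¹ * q) * (h * q) * (q⁻¹ * q⁻¹⁻¹) := by group
    _ = q * h := by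
      have h4 : h * q * h⁻¹ = q⁻¹ := by
        have : q * h⁻¹ = h⁻¹ * q⁻¹ := by
          rw [eq_mul_inv_iff_mul_eq]; exact h2
        rw [mul_assoc, this, mul_inv_cancel_left]
      have h5 : h * q = q⁻¹ * h := by rw [← h4]; group
      calc h * (q * h⁻¹ * q) * (h * q) * (q⁻¹ * q⁻¹⁻¹) = h * (q * h⁻¹ * q) * (h * q) := by group
        _ = h * q := by rw [h2]; group
        _ = q * h := by rw [h5, h3]

/-- Lemma A: non-orthogonal case. -/
theorem lemA {h h' : G} {w w' : V} (H : S.InK h w) (H' : S.InK h' w') (hww : form w w' = true) :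
    ∃ d, h * h' * h⁻¹ * h'⁻¹ = pw d S.b := by
  obtain ⟨d0, h0⟩ := S.sq_mul H H'
  have H2 := H.1.mul S H'.1
  obtain ⟨c, d, h1⟩ := H2.sq
  have hwU := H.1.hw
  have hwU' := H'.1.hw
  have hsmU := inU_sm (hwU.add hwU') c
  have hq : h * h' * h⁻¹ * h'⁻¹ = S.em false (sm c (w + w')) (d ^^ d0) := by
    have : h * h' * h⁻¹ * h'⁻¹ = h * h' * (h * h') * (pw d0 S.b)⁻¹ := by rw [h0]; group
    rw [this, h1, ← S.em_b', S.E1_inv (S.em_mem inU_zero _ _), S.em_mul hsmU inU_zero, add_zero,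
      form_zero_right]
    simp only [Bool.xor_false]
  cases c
  · rw [sm_false, S.em_b'] at hq
    exact ⟨_, hq⟩
  · exfalso
    have h2 := S.comm_conj H H' (by rw [hq]; exact S.em_sq hsmU _ _)
    rw [hq, H.1.conj_em S hsmU] at h2
    obtain ⟨-, -, h3⟩ := S.em_inj hsmU hsmU (mul_right_cancel h2)
    rw [sm_true, form_add_left, form_self, form_comm w', hww] at h3
    cases d <;> cases d0 <;> exact absurd h3 (by decide)

theorem dec_third' : ∀ w : V, InU w → w ≠ 0 → ∃ v : V, InU v ∧ form w v = true := by decide +kernel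

/-- The commutator of two elements of `K1`. -/
theorem lemB {h h' : G} {w w' : V} (H : S.InK h w) (H' : S.InK h' w') (h0 : w ≠ 0) (h0' : w' ≠ 0)
    (hne : w ≠ w') : ∃ d, h * h' * (h * h') = pw d S.b := by
  obtain ⟨d0, hsq⟩ := S.sq_mul H H'
  have key : (∃ d, h * h' * h⁻¹ * h'⁻¹ = pw d S.b) → ∃ d, h * h' * (h * h') = pw d S.b := by
    rintro ⟨d, hd⟩
    exact ⟨d ^^ d0, by rw [hsq, hd, ← pw_xor S.b_sq]⟩
  have hwU := H.1.hw
  have hwU' := H'.1.hw
  cases hww : form w w'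
  · have H2 := H.1.mul S H'.1
    obtain ⟨c, d, h1⟩ := H2.sq
    have hsmU := inU_sm (hwU.add hwU') c
    cases c
    · exact ⟨d, by rw [h1, sm_false, S.em_b']⟩
    · exfalso
      rw [sm_true] at h1
      have hq : h * h' * h⁻¹ * h'⁻¹ = S.em false (w + w') (d ^^ d0) := by
        have : h * h' * h⁻¹ * h'⁻¹ = h * h' * (h * h') * (pw d0 S.b)⁻¹ := by rw [hsq]; group
        rw [this, h1, ← S.em_b', S.E1_inv (S.em_mem inU_zero _ _),
          S.em_mul (hwU.add hwU') inU_zero, add_zero, form_zero_right]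
        simp only [Bool.xor_false]
      obtain ⟨v, hv, hwv⟩ := dec_third' w hwU h0
      -- an element of `K1` over `v`
      have hex : ∃ g, S.InK g v := by
        obtain ⟨g, hg⟩ := S.exists_Ov hv
        rcases S.dich hg with h | h
        · exact ⟨_, h⟩
        · exact ⟨_, h⟩
      obtain ⟨g, hg⟩ := hex
      obtain ⟨d1, hc1⟩ := S.lemA H hg hwv
      have hgen : ∀ z, h * (h' * z) * h⁻¹ * (h' * z)⁻¹ =
          (h * h' * h⁻¹ * h'⁻¹) * (h' * (h * z * h⁻¹ * z⁻¹) * h'⁻¹) := by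
        intro z; group
      have hc2 : h * (h' * g) * h⁻¹ * (h' * g)⁻¹ = S.em false (w + w') (d ^^ d0 ^^ d1) := by
        rw [hgen, hc1, S.b_comm_pw _ H'.1.hb, mul_inv_cancel_right, hq, ← S.em_b',
          S.em_mul (hwU.add hwU') inU_zero, add_zero, form_zero_right]
        simp only [Bool.xor_false]
      have hf : form w (w' + v) = true := by rw [form_add_right, hww, hwv]; rfl
      rcases S.dich (H'.1.mul S hg.1) with h5 | h5
      · obtain ⟨d2, h6⟩ := S.lemA H h5 hf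
        rw [hc2, ← S.em_b'] at h6
        obtain ⟨-, h7, -⟩ := S.em_inj (hwU.add hwU') inU_zero h6
        exact hne (eq_of_add h7)
      · obtain ⟨d2, h6⟩ := S.lemA H h5 hf
        -- `[h, t z] = Z e1 w * t [h, z] t`
        have h7 : h * (S.t * (h' * g)) * h⁻¹ * (S.t * (h' * g))⁻¹ =
            (h * S.t * h⁻¹ * S.t⁻¹) * (S.t * (h * (h' * g) * h⁻¹ * (h' * g)⁻¹) * S.t⁻¹) := by group
        have h8 : h * S.t * h⁻¹ * S.t⁻¹ = S.Z e1 w := by
          rw [H.1.ht, S.t_inv]
          have := (S.comm _ (S.Z_mem e1 w)).eq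
          calc S.t * S.Z e1 w * h * h⁻¹ * S.t = S.t * (S.Z e1 w * S.t) := by group
            _ = (S.t * S.t) * S.Z e1 w := by rw [this]; group
            _ = _ := by rw [S.tt, one_mul]
        have h9 : S.t * S.em false (w + w') (d ^^ d0 ^^ d1) * S.t⁻¹ = S.em false (w + w') (d ^^ d0 ^^ d1) := by
          rw [← (S.comm _ (S.em_false_mem _ _)).eq, mul_inv_cancel_right]
        rw [h7, h8, hc2, h9, ← S.em_b', ← S.em_Y, S.em_mul hwU (hwU.add hwU')] at h6
        obtain ⟨-, h10, -⟩ := S.em_inj (hwU.add (hwU.add hwU')) inU_zero h6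
        rw [aab] at h10
        exact h0' h10
  · exact key (S.lemA H H' hww)

theorem InK.mul_left {h h' : G} {w' : V} (H : S.InK h 0) (H' : S.InK h' w') : S.InK (h * h') w' := by
  have H2 := H.1.mul S H'.1
  rw [zero_add] at H2
  obtain ⟨c, v, d, hv, hh⟩ := H.1.ker
  have hc : c = false := S.em_of_mem (by rw [← hh]; exact H.2.2 rfl)
  subst hc
  obtain ⟨b1, ⟨d', b2⟩, b3⟩ := H'
  refine ⟨H2, ⟨form v w' ^^ d', ?_⟩, fun h1 => S.L.mul_mem (H.2.2 rfl) (b3 h1)⟩
  calc h * h' * (h * h') = h * (h' * h) * h' := by group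
    _ = S.em false v d * S.em false v (d ^^ form v w') * (h' * h') := by
        rw [hh, b1.conj_em S hv]; group
    _ = pw (form v w' ^^ d') S.b := by
        rw [b2, S.em_mul hv hv, aa, form_self, ← S.em_b', S.em_mul inU_zero inU_zero, add_zero,
          form_self, ← S.em_b']
        congr 1
        cases d <;> cases d' <;> cases form v w' <;> rfl

theorem InK.mul_right {h h' : G} {w : V} (H : S.InK h w) (H' : S.InK h' 0) : S.InK (h * h') w := by
  have H2 := H.1.mul S H'.1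
  rw [add_zero] at H2
  obtain ⟨c, v, d, hv, hh⟩ := H'.1.ker
  have hc : c = false := S.em_of_mem (by rw [← hh]; exact H'.2.2 rfl)
  subst hc
  obtain ⟨a1, ⟨d', a2⟩, a3⟩ := H
  refine ⟨H2, ⟨form v w ^^ d', ?_⟩, fun h1 => S.L.mul_mem (a3 h1) (H'.2.2 rfl)⟩
  calc h * h' * (h * h') = (h * h') * h * h' := by group
    _ = S.em false v (d ^^ form v w) * (h * h) * S.em false v d := by
        rw [hh, a1.conj_em S hv]; group
    _ = pw (form v w ^^ d') S.b := by
        rw [a2, ← S.em_b' d', S.em_mul hv inU_zero, add_zero, form_zero_right, S.em_mul hv hv, aa,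
          form_self, ← S.em_b']
        congr 1
        cases d <;> cases d' <;> cases form v w <;> rfl

theorem inK_em {v : V} (hv : InU v) (d : Bool) : S.InK (S.em false v d) 0 :=
  ⟨Ov.em S hv _ _, ⟨false, by rw [S.em_sq hv, pw_false]⟩, fun _ => S.em_false_mem _ _⟩

theorem InK.mul {h h' : G} {w w' : V} (H : S.InK h w) (H' : S.InK h' w') :
    S.InK (h * h') (w + w') := by
  have H2 := H.1.mul S H'.1
  have hwU := H.1.hw
  by_cases h0 : w = 0
  · subst h0
    rw [zero_add]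
    exact H.mul_left S H'
  by_cases h0' : w' = 0
  · subst h0'
    rw [add_zero]
    exact H.mul_right S H'
  by_cases hww : w = w'
  · subst hww
    rw [aa] at H2 ⊢
    -- `h * h'` is in `E1`; it is in `L`
    obtain ⟨c, v, d, hv, hh⟩ := H2.ker
    cases c
    · exact ⟨H2, ⟨false, by rw [hh, S.em_sq hv, pw_false]⟩, fun _ => by
        rw [hh]; exact S.em_false_mem _ _⟩
    · exfalso
      have hi := InK.inv S H
      have h1 : h' * S.em false v d = S.t * (S.Z e1 w * h⁻¹) := by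
        have h2 : S.em true v d = S.t * S.em false v d := by
          unfold Std.em; rw [pw_true, pw_false, one_mul]
        have h3 : h' = h⁻¹ * (S.t * S.em false v d) := by rw [← h2, ← hh]; group
        rw [h3]
        calc h⁻¹ * (S.t * S.em false v d) * S.em false v d =
            (h⁻¹ * S.t) * (S.em false v d * S.em false v d) := by group
          _ = S.t * (S.Z e1 w * h⁻¹) := by rw [S.em_sq hv, mul_one, hi.1.ht]; group
      have h4 := H'.mul_right S (S.inK_em hv d)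
      rw [h1] at h4
      have h5 := (S.inK_em hwU false).mul_left S hi
      rw [S.em_Y] at h5
      exact S.not_both h5 h4
  · exact ⟨H2, S.lemB H H' h0 h0' hww, fun h1 => absurd (eq_of_add h1) hww⟩

end Std

end Cfsg.Agent.StdSpSix.PatTwo
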