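import Cfsg.Agent.StdSpSix.PatTwoR

/-!
Pattern `{a2}`: elements inducing translations on `D ∩ E1`.
-/

set_option autoImplicit false

namespace Cfsg.Agent.StdSpSix.PatTwo

open V

namespace Std

open Six

variable {G : Type*} [Group G] (S : Std G)

/-- `h` induces on `D ∩ E1` the translation by `w`. -/
structure Ov (h : G) (w : V) : Prop where
  hw : InU w
  hb : Commute h S.b
  hY : ∀ u, InU u → h * S.Z e1 u = S.Z e1 u * pw (form u w) S.b * h
  ht : h * S.t = S.t * S.Z e1 w * h

theorem b_comm_pw (c : Bool) {h : G} (hb : Commute h S.b) : h * pw c S.b = pw c S.b * h :=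
  (commute_pw hb c).eq

theorem b_pw_Y (c : Bool) {u : V} (hu : InU u) : pw c S.b * S.Z e1 u = S.Z e1 u * pw c S.b :=
  (commute_pw (show Commute (S.Z e1 u) S.b from (S.b_comm_Y hu.perp).symm) c).eq.symm

theorem Ov.mul {h h' : G} {w w' : V} (H : S.Ov h w) (H' : S.Ov h' w') : S.Ov (h * h') (w + w') := by
  refine ⟨H.hw.add H'.hw, H.hb.mul_left H'.hb, fun u hu => ?_, ?_⟩
  · calc h * h' * S.Z e1 u = h * (h' * S.Z e1 u) := by group
      _ = h * S.Z e1 u * (pw (form u w') S.b * h') := by rw [H'.hY u hu]; group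
      _ = S.Z e1 u * pw (form u w) S.b * (h * pw (form u w') S.b) * h' := by rw [H.hY u hu]; group
      _ = S.Z e1 u * (pw (form u w) S.b * pw (form u w') S.b) * (h * h') := by
          rw [S.b_comm_pw _ H.hb]; group
      _ = S.Z e1 u * pw (form u (w + w')) S.b * (h * h') := by
          rw [← pw_xor S.b_sq, ← form_add_right]
  · calc h * h' * S.t = h * (h' * S.t) := by group
      _ = h * S.t * (S.Z e1 w' * h') := by rw [H'.ht]; group
      _ = S.t * S.Z e1 w * (h * S.Z e1 w') * h' := by rw [H.ht]; group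
      _ = S.t * (S.Z e1 w * S.Z e1 w') * pw (form w' w) S.b * (h * h') := by
          rw [H.hY w' H'.hw]; group
      _ = S.t * S.Z e1 (w + w') * (pw (form w w') S.b * pw (form w' w) S.b) * (h * h') := by
          rw [S.Y_mul' H.hw H'.hw]; group
      _ = S.t * S.Z e1 (w + w') * (h * h') := by
          rw [← pw_xor S.b_sq, form_comm w' w, Bool.xor_self, pw_false, mul_one]

theorem Ov.inv {h : G} {w : V} (H : S.Ov h w) : S.Ov h⁻¹ w := by
  have hp : ∀ c, pw c S.b * pw c S.b = 1 := fun c => by rw [← pw_xor S.b_sq, Bool.xor_self]; rfl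
  refine ⟨H.hw, H.hb.inv_left, fun u hu => ?_, ?_⟩
  · have h1 := H.hY u hu
    have h2 : h * (S.Z e1 u * pw (form u w) S.b) = S.Z e1 u * h := by
      calc h * (S.Z e1 u * pw (form u w) S.b) = (h * S.Z e1 u) * pw (form u w) S.b := by group
        _ = S.Z e1 u * pw (form u w) S.b * (h * pw (form u w) S.b) := by rw [h1]; group
        _ = S.Z e1 u * (pw (form u w) S.b * pw (form u w) S.b) * h := by
            rw [S.b_comm_pw _ H.hb]; group
        _ = S.Z e1 u * h := by rw [hp, mul_one]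
    calc h⁻¹ * S.Z e1 u = h⁻¹ * (S.Z e1 u * h) * h⁻¹ := by group
      _ = S.Z e1 u * pw (form u w) S.b * h⁻¹ := by rw [← h2]; group
  · have h1 := H.ht
    have h2 : h * (S.t * S.Z e1 w) = S.t * h := by
      calc h * (S.t * S.Z e1 w) = (h * S.t) * S.Z e1 w := by group
        _ = S.t * S.Z e1 w * (h * S.Z e1 w) := by rw [h1]; group
        _ = S.t * (S.Z e1 w * S.Z e1 w) * pw (form w w) S.b * h := by rw [H.hY w H.hw]; group
        _ = S.t * h := by
            rw [S.Z_sq H.hw.perp, form_self, pw_false, mul_one, mul_one]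
    calc h⁻¹ * S.t = h⁻¹ * (S.t * h) * h⁻¹ := by group
      _ = S.t * S.Z e1 w * h⁻¹ := by rw [← h2]; group

theorem Ov.em {v : V} (hv : InU v) (c d : Bool) : S.Ov (S.em c v d) 0 := by
  refine ⟨inU_zero, S.E1_comm (S.em_mem hv c d) S.b_mem_E1, fun u hu => ?_, ?_⟩
  · rw [form_zero_right, pw_false, mul_one]
    exact (S.E1_comm (S.em_mem hv c d) (S.Y_mem_E1 hu)).eq
  · rw [S.Z_zero, mul_one]
    exact (S.E1_comm (S.em_mem hv c d) S.t_mem_E1).eq

theorem Ov.one : S.Ov 1 0 := by
  rw [← S.em_zero]; exact Ov.em S inU_zero _ _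

theorem Ov.t : S.Ov S.t 0 := by
  rw [← S.em_t]; exact Ov.em S inU_zero _ _

theorem Ov.uniq {h : G} {w w' : V} (H : S.Ov h w) (H' : S.Ov h w') : w = w' := by
  have h1 := H.ht.symm.trans H'.ht
  have h2 := mul_left_cancel (mul_right_cancel h1)
  exact S.Y_inj H.hw H'.hw h2

theorem Ov.ker {h : G} (H : S.Ov h 0) : ∃ c v d, InU v ∧ h = S.em c v d := by
  have h1 : Commute h S.t := by
    have := H.ht
    rw [S.Z_zero, mul_one] at this
    exact this
  obtain ⟨c, a, ha, rfl⟩ := S.cent' h1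
  have key : ∀ z, z ∈ S.L → Commute (pw c S.t * a) z → a * z = z * a := by
    intro z hz hc
    have h4 : Commute (pw c S.t) z := (commute_pw (S.comm _ hz) c).symm
    have := h4.inv_left.mul_left hc
    rw [inv_mul_cancel_left] at this
    exact this.eq
  have keyY : ∀ u, InU u → a * S.Z e1 u = S.Z e1 u * a := by
    intro u hu
    apply key _ (S.Z_mem _ _)
    have := H.hY u hu
    rw [form_zero_right, pw_false, mul_one] at this
    exact this
  have hA := S.isA1_of_comm ha (key _ S.b_mem H.hb) (keyY e2 (by decide)) (keyY e3 (by decide))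
    (keyY f2 (by decide)) (keyY f3 (by decide))
  obtain ⟨v, hv, d, h5⟩ := hA.form
  exact ⟨c, v, d, hv, by rw [h5]; rfl⟩

/-- Stabiliser of `e1` in `L`. -/
structure Pk (k : G) : Prop where
  mem : k ∈ S.L
  h : S.act k e1 = e1

theorem Pk.inv {k : G} (hk : S.Pk k) : S.Pk k⁻¹ :=
  ⟨S.L.inv_mem hk.mem, by conv_lhs => rw [← hk.h]
                          rw [S.act_inv_act hk.mem]⟩

theorem Pk.mul {k l : G} (hk : S.Pk k) (hl : S.Pk l) : S.Pk (k * l) :=
  ⟨S.L.mul_mem hk.mem hl.mem, by rw [S.act_mul _ hk.mem _ hl.mem, hl.h, hk.h]⟩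

theorem Pk.perp {k : G} (hk : S.Pk k) {u : V} (hu : form e1 u = false) : form e1 (S.act k u) = false := by
  conv_lhs => rw [← hk.h]
  rw [S.act_form k hk.mem, hu]

theorem Pk.b_comm {k : G} (hk : S.Pk k) : Commute k S.b := S.T_comm_of_act hk.mem hk.h

theorem Pk.Y {k : G} (hk : S.Pk k) {u : V} (hu : InU u) :
    k * S.Z e1 u = S.Z e1 (prj (S.act k u)) * k := by
  rw [S.Y_prj (hk.perp S hu.perp), S.mul_Z hk.mem, hk.h]

theorem act_prj {k : G} (hk : S.Pk k) {u : V} (_ : form e1 u = false) :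
    prj (S.act k (prj u)) = prj (S.act k u) := by
  unfold prj
  cases h : form u f1
  · rw [sm_false, add_zero]
  · rw [sm_true, S.act_add k hk.mem, hk.h, form_add_left, show form e1 f1 = true by decide]
    cases form (S.act k u) f1
    · change S.act k u + e1 + e1 = S.act k u + 0
      rw [aba, add_zero]
    · change S.act k u + e1 + 0 = S.act k u + e1
      rw [add_zero]

theorem Ov.conj {h k : G} {w : V} (H : S.Ov h w) (hk : S.Pk k) :
    S.Ov (k * h * k⁻¹) (prj (S.act k w)) := by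
  have hki := hk.inv S
  have hkw := hk.perp S H.hw.perp
  refine ⟨inU_prj _ hkw, (hk.b_comm.mul_left H.hb).mul_left hki.b_comm, fun u hu => ?_, ?_⟩
  · have hpu := hki.perp S hu.perp
    have hu' : InU (prj (S.act k⁻¹ u)) := inU_prj _ hpu
    have e0 : form (prj (S.act k⁻¹ u)) w = form u (prj (S.act k w)) := by
      rw [form_prj_left H.hw.perp, form_comm u, form_prj_left hu.perp, form_comm _ u]
      have := S.act_form k hk.mem (S.act k⁻¹ u) w
      rw [S.act_act_inv hk.mem] at this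
      exact this.symm
    have e1' : prj (S.act k (prj (S.act k⁻¹ u))) = u := by
      rw [S.act_prj hk hpu, S.act_act_inv hk.mem, prj_of_inU hu]
    calc k * h * k⁻¹ * S.Z e1 u = k * h * (k⁻¹ * S.Z e1 u) := by group
      _ = k * (h * S.Z e1 (prj (S.act k⁻¹ u))) * k⁻¹ := by rw [hki.Y S hu]; group
      _ = (k * S.Z e1 (prj (S.act k⁻¹ u))) * pw (form u (prj (S.act k w))) S.b * h * k⁻¹ := by
          rw [H.hY _ hu', e0]; group
      _ = S.Z e1 u * (k * pw (form u (prj (S.act k w))) S.b) * h * k⁻¹ := by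
          rw [hk.Y S hu', e1']; group
      _ = S.Z e1 u * pw (form u (prj (S.act k w))) S.b * (k * h * k⁻¹) := by
          rw [S.b_comm_pw _ hk.b_comm]; group
  · have ht1 := (S.comm _ hk.mem).eq
    have ht2 := (S.comm _ hki.mem).eq
    calc k * h * k⁻¹ * S.t = k * h * (k⁻¹ * S.t) := by group
      _ = k * (h * S.t) * k⁻¹ := by rw [ht2]; group
      _ = (k * S.t) * S.Z e1 w * h * k⁻¹ := by rw [H.ht]; group
      _ = S.t * (k * S.Z e1 w) * h * k⁻¹ := by rw [ht1]; group
      _ = S.t * S.Z e1 (prj (S.act k w)) * (k * h * k⁻¹) := by rw [hk.Y S H.hw]; group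

theorem Ov.of_basis {h : G} {w : V} (hw : InU w) (hb : Commute h S.b)
    (h2 : h * S.Z e1 e2 = S.Z e1 e2 * pw (form e2 w) S.b * h)
    (h3 : h * S.Z e1 e3 = S.Z e1 e3 * pw (form e3 w) S.b * h)
    (h4 : h * S.Z e1 f2 = S.Z e1 f2 * pw (form f2 w) S.b * h)
    (h5 : h * S.Z e1 f3 = S.Z e1 f3 * pw (form f3 w) S.b * h)
    (ht : h * S.t = S.t * S.Z e1 w * h) : S.Ov h w := by
  refine ⟨hw, hb, ?_, ht⟩
  have i2 : InU e2 := by decide
  have i3 : InU e3 := by decide
  have i4 : InU f2 := by decide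
  have i5 : InU f3 := by decide
  let P : V → Prop := fun u => h * S.Z e1 u = S.Z e1 u * pw (form u w) S.b * h
  have hadd : ∀ u v, InU u → InU v → P u → P v → P (u + v) := by
    intro u v hu hv pu pv
    change h * S.Z e1 (u + v) = S.Z e1 (u + v) * pw (form (u + v) w) S.b * h
    have e : S.Z e1 (u + v) = S.Z e1 u * S.Z e1 v * pw (form u v) S.b := by
      rw [S.Y_mul' hu hv, mul_assoc, ← pw_xor S.b_sq, Bool.xor_self, pw_false, mul_one]
    rw [e]
    calc h * (S.Z e1 u * S.Z e1 v * pw (form u v) S.b) = (h * S.Z e1 u) * S.Z e1 v * pw (form u v) S.b := by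
          group
      _ = S.Z e1 u * pw (form u w) S.b * (h * S.Z e1 v) * pw (form u v) S.b := by rw [pu]; group
      _ = S.Z e1 u * (pw (form u w) S.b * S.Z e1 v) * pw (form v w) S.b * (h * pw (form u v) S.b) := by
          rw [pv]; group
      _ = S.Z e1 u * S.Z e1 v * (pw (form u w) S.b * pw (form v w) S.b * pw (form u v) S.b) * h := by
          rw [S.b_pw_Y _ hv, S.b_comm_pw _ hb]; group
      _ = S.Z e1 u * S.Z e1 v * (pw (form u v) S.b * pw (form (u + v) w) S.b) * h := by
          rw [← pw_xor S.b_sq, ← pw_xor S.b_sq, ← pw_xor S.b_sq, form_add_left]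
          congr 3
          cases form u w <;> cases form v w <;> cases form u v <;> rfl
      _ = _ := by group
  have hsm : ∀ c u, InU u → P u → P (sm c u) := by
    intro c u hu pu
    cases c
    · change h * S.Z e1 0 = S.Z e1 0 * pw (form 0 w) S.b * h
      rw [S.Z_zero, form_zero_left, pw_false]
      group
    · exact pu
  intro u hu
  have : ∃ a b c d : Bool, u = sm a e2 + (sm b e3 + (sm c f2 + sm d f3)) := by
    clear * - hu
    revert u
    decide +kernel
  obtain ⟨a, b', c, d, rfl⟩ := this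
  have ia := inU_sm i2 a
  have ib := inU_sm i3 b'
  have ic := inU_sm i4 c
  have id' := inU_sm i5 d
  exact hadd _ _ ia (ib.add (ic.add id')) (hsm _ _ i2 h2) (hadd _ _ ib (ic.add id') (hsm _ _ i3 h3)
    (hadd _ _ ic id' (hsm _ _ i4 h4) (hsm _ _ i5 h5)))

/-- Conjugates of `t` in `E1`. -/
theorem D_em {g : G} {c d : Bool} {v : V} (hv : InU v) (h : g * S.t * g⁻¹ = S.em c v d) :
    c = true ∧ d = false := by
  have hc : Commute (g * S.t * g⁻¹) S.t := by
    rw [h]; exact S.E1_comm (S.em_mem hv c d) S.t_mem_E1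
  have key : ∀ z, z ∈ S.L → (∀ x, form x (S.act z x) = false) → S.em c v d = S.t * z →
      c = true ∧ d = false := by
    intro z hz hz2 he
    cases c
    · exfalso
      apply S.tL
      have : S.t = (S.Z e1 v * pw d S.b) * z⁻¹ := by
        have h1 : S.em false v d = S.Z e1 v * pw d S.b := by
          unfold Std.em; rw [pw_false, one_mul]
        rw [← h1, he]; group
      rw [this]
      exact S.L.mul_mem (S.yb_mem _ _) (S.L.inv_mem hz)
    · refine ⟨rfl, ?_⟩
      cases d
      · rfl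
      · exfalso
        have h1 : S.Z e1 v * S.b = z := mul_left_cancel he
        have h2 := S.not_alt hv
        rw [h1, hz2] at h2
        cases h2
  rcases S.D2 g hc with h1 | ⟨z, hz, h1⟩
  · refine key 1 S.L.one_mem (fun x => ?_) (by rw [← h, h1, mul_one])
    rw [S.act_one, form_self]
  · exact key z hz.mem (fun x => hz.form S.toSix x) (by rw [← h, h1])

theorem dec_gt : ∀ x y : V, InU x → InU y → form x e2 = true → form x e3 = false →
    form y e2 = false → form y e3 = true → form x y = false →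
    ∃ a b c : Bool, x = f2 + sm a e2 + sm b e3 ∧ y = f3 + sm b e2 + sm c e3 := by
  decide +kernel

/-- There is an element inducing the translation by `e2`. -/
theorem exists_Ov_e2 : ∃ x, S.Ov x e2 := by
  obtain ⟨x, hx⟩ := S.exists_x12
  have i2 : InU e2 := by decide
  have i3 : InU e3 := by decide
  have i4 : InU f2 := by decide
  have i5 : InU f3 := by decide
  have hb : Commute x S.b := hx.flag12 S
  -- the images of the `Z e1 v`
  have hD : ∀ v, InU v → ∃ g, g * S.t * g⁻¹ = S.t * S.Z e1 v := by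
    intro v hv
    by_cases h0 : v = 0
    · exact ⟨1, by rw [h0, S.Z_zero]; group⟩
    · refine S.D1 _ _ ⟨hv.perp, by decide, h0, ?_⟩
      rintro rfl
      exact absurd hv.2 (by decide)
  have him : ∀ v, InU v → ∃ p, InU p ∧ x * S.Z e1 v * x⁻¹ = S.em false p (form e2 p) := by
    intro v hv
    obtain ⟨c, v', d, hv', h1⟩ := S.x12_norm hx (S.em_mem hv true false)
    obtain ⟨g, hg⟩ := hD v hv
    obtain ⟨rfl, rfl⟩ := S.D_em hv' (g := x * g) (c := c) (d := d) (by
      rw [← h1, S.em_tY, ← hg]; group)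
    refine ⟨e2 + v', i2.add hv', ?_⟩
    have h2 : x * S.Z e1 v * x⁻¹ = (x * S.t * x⁻¹)⁻¹ * (x * S.em true v false * x⁻¹) := by
      rw [S.em_tY]; group
    rw [h2, h1, hx.ht, ← S.em_tY, S.E1_inv (S.em_mem i2 _ _), S.em_mul i2 hv', form_add_right,
      form_self]
    rfl
  -- the form is preserved
  have hform : ∀ u v p q, InU u → InU v → InU p → InU q →
      x * S.Z e1 u * x⁻¹ = S.em false p (form e2 p) → x * S.Z e1 v * x⁻¹ = S.em false q (form e2 q) →
      form p q = form u v := by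
    intro u v p q hu hv hp hq h1 h2
    obtain ⟨r, hr, h3⟩ := him (u + v) (hu.add hv)
    have h4 : x * S.Z e1 u * x⁻¹ * (x * S.Z e1 v * x⁻¹) = x * S.Z e1 (u + v) * x⁻¹ * pw (form u v) S.b := by
      have h5 : x⁻¹ * pw (form u v) S.b = pw (form u v) S.b * x⁻¹ := S.b_comm_pw _ hb.inv_left
      calc x * S.Z e1 u * x⁻¹ * (x * S.Z e1 v * x⁻¹) = x * (S.Z e1 u * S.Z e1 v) * x⁻¹ := by group
        _ = x * S.Z e1 (u + v) * (pw (form u v) S.b * x⁻¹) := by rw [S.Y_mul' hu hv]; group
        _ = x * S.Z e1 (u + v) * x⁻¹ * pw (form u v) S.b := by rw [← h5]; group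
    have h6 : pw (form u v) S.b = S.em false 0 (form u v) := by
      unfold Std.em
      rw [pw_false, S.Z_zero, one_mul, one_mul]
    rw [h1, h2, h3, h6, S.em_mul hp hq, S.em_mul hr inU_zero] at h4
    obtain ⟨-, h7, h8⟩ := S.em_inj (hp.add hq) (hr.add inU_zero) h4
    rw [add_zero] at h7
    rw [← h7, form_add_right, form_zero_right, Bool.xor_false] at h8
    revert h8
    cases form e2 p <;> cases form e2 q <;> cases form p q <;> cases form u v <;> decide
  have g2 : x * S.Z e1 e2 * x⁻¹ = S.em false e2 (form e2 e2) := by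
    rw [hx.cz.h1.eq, mul_inv_cancel_right, form_self, S.em_Y]
  have g3 : x * S.Z e1 e3 * x⁻¹ = S.em false e3 (form e2 e3) := by
    rw [hx.cz.h2.eq, mul_inv_cancel_right, show form e2 e3 = false by decide, S.em_Y]
  obtain ⟨p, hp, g4⟩ := him f2 i4
  obtain ⟨q, hq, g5⟩ := him f3 i5
  obtain ⟨α, β, γ, hp', hq'⟩ := dec_gt p q hp hq
    (by rw [hform f2 e2 p e2 i4 i2 hp i2 g4 g2]; decide)
    (by rw [hform f2 e3 p e3 i4 i3 hp i3 g4 g3]; decide)
    (by rw [hform f3 e2 q e2 i5 i2 hq i2 g5 g2]; decide)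
    (by rw [hform f3 e3 q e3 i5 i3 hq i3 g5 g3]; decide)
    (by rw [hform f2 f3 p q i4 i5 hp hq g4 g5]; decide)
  -- correct by an element of the radical of the plane stabiliser
  let m : G := pw α (S.T e2) * (pw γ (S.T e3) * pw β (S.Z e2 e3))
  have m1 := pw_mem (S.T_mem e2) α
  have m2 := pw_mem (S.T_mem e3) γ
  have m3 := pw_mem (S.Z_mem e2 e3) β
  have hmL : m ∈ S.L := S.L.mul_mem m1 (S.L.mul_mem m2 m3)
  have mact : ∀ x, S.act m x = bif α then trf e2 (bif γ then trf e3 (bif β then zf e2 e3 x else x)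
      else (bif β then zf e2 e3 x else x)) else (bif γ then trf e3 (bif β then zf e2 e3 x else x)
      else (bif β then zf e2 e3 x else x)) := by
    intro x
    change S.act (pw α (S.T e2) * (pw γ (S.T e3) * pw β (S.Z e2 e3))) x = _
    rw [S.act_mul _ m1 _ (S.L.mul_mem m2 m3), S.act_mul _ m2 _ m3, S.act_pw, S.act_pw, S.act_pw,
      S.act_T, S.act_T, S.act_Z (by decide)]
  have a1 : S.act m e1 = e1 := by
    rw [mact]; clear * -; revert α β γ; decide
  have a2 : S.act m e2 = e2 := by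
    rw [mact]; clear * -; revert α β γ; decide
  have a3 : S.act m e3 = e3 := by
    rw [mact]; clear * -; revert α β γ; decide
  have a4 : S.act m f2 = p := by
    rw [mact, hp']; clear * -; revert α β γ; decide
  have a5 : S.act m f3 = q := by
    rw [mact, hq']; clear * -; revert α β γ; decide
  have hm : S.Pk m := ⟨hmL, a1⟩
  have fin : ∀ u, InU u → x * S.Z e1 u * x⁻¹ = S.em false (S.act m u) (form e2 (S.act m u)) →
      m⁻¹ * x * S.Z e1 u = S.Z e1 u * pw (form u e2) S.b * (m⁻¹ * x) := by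
    intro u hu h
    have h1 : form e2 (S.act m u) = form u e2 := by
      conv_lhs => rw [← a2]
      rw [S.act_form m hmL, form_comm]
    have h2 : x * S.Z e1 u = S.Z e1 (S.act m u) * pw (form u e2) S.b * x := by
      unfold Std.em at h
      rw [pw_false, one_mul, h1] at h
      rw [← h]; group
    have h3 : m⁻¹ * S.Z e1 (S.act m u) = S.Z e1 u * m⁻¹ := by
      have := S.mul_Z hmL e1 u
      rw [a1] at this
      rw [inv_mul_eq_iff_eq_mul, ← mul_assoc, this]; group
    calc m⁻¹ * x * S.Z e1 u = m⁻¹ * (x * S.Z e1 u) := by group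
      _ = (m⁻¹ * S.Z e1 (S.act m u)) * pw (form u e2) S.b * x := by rw [h2]; group
      _ = S.Z e1 u * (m⁻¹ * pw (form u e2) S.b) * x := by rw [h3]; group
      _ = _ := by rw [S.b_comm_pw _ (hm.inv S).b_comm]; group
  have hmb : Commute (m⁻¹ * x) S.b := Commute.mul_left ((hm.inv S).b_comm) hb
  refine ⟨m⁻¹ * x, Ov.of_basis S i2 hmb (fin _ i2 (by rw [a2]; exact g2)) (fin _ i3 (by rw [a3]; exact g3))
    (fin _ i4 (by rw [a4]; exact g4)) (fin _ i5 (by rw [a5]; exact g5)) ?_⟩
  have h1 := (S.comm _ (S.L.inv_mem hmL)).eq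
  have h2 : m⁻¹ * S.Z e1 e2 = S.Z e1 e2 * m⁻¹ := by
    have := S.mul_Z hmL e1 e2
    rw [a1, a2] at this
    rw [inv_mul_eq_iff_eq_mul, ← mul_assoc, this]; group
  have h3 : x * S.t = S.t * S.Z e1 e2 * x := by rw [← hx.ht]; group
  calc m⁻¹ * x * S.t = m⁻¹ * (x * S.t) := by group
    _ = (m⁻¹ * S.t) * S.Z e1 e2 * x := by rw [h3]; group
    _ = S.t * (m⁻¹ * S.Z e1 e2) * x := by rw [h1]; group
    _ = S.t * S.Z e1 e2 * (m⁻¹ * x) := by rw [h2]; group

/-- There are elements inducing all translations. -/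
theorem exists_Ov {w : V} (hw : InU w) : ∃ x, S.Ov x w := by
  by_cases h0 : w = 0
  · exact ⟨1, by rw [h0]; exact Ov.one S⟩
  · obtain ⟨x, hx⟩ := S.exists_Ov_e2
    have hl : Line e1 w := by
      refine ⟨hw.perp, by decide, h0, ?_⟩
      rintro rfl
      exact absurd hw.2 (by decide)
    obtain ⟨k, hk, h1, h2⟩ := S.witt2 hl
    have := hx.conj S ⟨hk, h1⟩
    rw [h2, prj_of_inU hw] at this
    exact ⟨_, this⟩

/-- Reduction to the translation by `e2`. -/
theorem exists_to_e2 {w : V} (hw : InU w) (h0 : w ≠ 0) : ∃ k, S.Pk k ∧ S.act k e2 = w := by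
  have hl : Line e1 w := by
    refine ⟨hw.perp, by decide, h0, ?_⟩
    rintro rfl
    exact absurd hw.2 (by decide)
  obtain ⟨k, hk, h1, h2⟩ := S.witt2 hl
  exact ⟨k, ⟨hk, h1⟩, h2⟩

theorem dec_v2 : ∀ v : V, InU v → form v e2 = false → (prj (trf e3 v) = v ∨ prj (trf e3 v) = v + e2) →
    (prj (trf f3 v) = v ∨ prj (trf f3 v) = v + e2) → v = 0 ∨ v = e2 := by
  decide +kernel

theorem Ov.sq_e2 {h : G} (H : S.Ov h e2) : ∃ c d, h * h = S.em false (sm c e2) d := by
  have i2 : InU e2 := by decide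
  have H2 := H.mul S H
  rw [aa] at H2
  obtain ⟨c, v, d, hv, hy⟩ := H2.ker
  -- the square commutes with `h`
  have hconj : ∀ c v d, InU v → h * S.em c v d = S.em c v d * S.em false (sm c e2) (form v e2) * h := by
    intro c v d hv
    have h1 : h * pw c S.t = pw c S.t * S.Z e1 (sm c e2) * h := by
      cases c
      · rw [pw_false, sm_false, S.Z_zero]; group
      · exact H.ht
    have h2 : S.Z e1 (sm c e2) * (S.Z e1 v * pw (form v e2) S.b * pw d S.b) =
        (S.Z e1 v * pw d S.b) * S.em false (sm c e2) (form v e2) := by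
      have e3' : S.Z e1 (sm c e2) * (S.Z e1 v * pw (form v e2) S.b * pw d S.b) =
          S.em false (sm c e2) false * (S.em false v (form v e2) * S.em false 0 d) := by
        unfold Std.em
        rw [S.Z_zero]
        simp only [pw_false]
        group
      have e4' : S.Z e1 v * pw d S.b = S.em false v d := by
        unfold Std.em
        rw [pw_false, one_mul]
      rw [e3', e4', S.em_mul hv inU_zero, S.em_mul (inU_sm i2 c) (hv.add inU_zero),
        S.em_mul hv (inU_sm i2 c), add_zero, add_comm v, form_zero_right, form_comm v (sm c e2)]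
      congr 1
      cases d <;> cases form v e2 <;> cases form (sm c e2) v <;> rfl
    unfold Std.em at h2 ⊢
    calc h * (pw c S.t * (S.Z e1 v * pw d S.b)) = (h * pw c S.t) * S.Z e1 v * pw d S.b := by group
      _ = pw c S.t * S.Z e1 (sm c e2) * (h * S.Z e1 v) * pw d S.b := by rw [h1]; group
      _ = pw c S.t * S.Z e1 (sm c e2) * S.Z e1 v * pw (form v e2) S.b * (h * pw d S.b) := by
          rw [H.hY v hv]; group
      _ = pw c S.t * (S.Z e1 (sm c e2) * (S.Z e1 v * pw (form v e2) S.b * pw d S.b)) * h := by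
          rw [S.b_comm_pw _ H.hb]; group
      _ = _ := by rw [h2]; group
  have hcomm : S.em false (sm c e2) (form v e2) = 1 := by
    have h1 := hconj c v d hv
    rw [← hy] at h1
    have h2 : h * h * S.em false (sm c e2) (form v e2) * h = h * h * 1 * h := by
      rw [← h1]; group
    exact mul_left_cancel (mul_right_cancel h2)
  rw [← S.em_zero] at hcomm
  obtain ⟨-, h1, h2⟩ := S.em_inj (inU_sm i2 c) inU_zero hcomm
  have hc : c = false := by
    cases c
    · rfl
    · exact absurd h1 (by decide)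
  subst hc
  -- now use the transvections with centres `e3`, `f3`
  have hk : ∀ k, S.Pk k → S.act k e2 = e2 → (prj (S.act k v) = v ∨ prj (S.act k v) = v + e2) := by
    intro k hk hk2
    have hc := H.conj S hk
    rw [hk2, prj_of_inU i2] at hc
    have h3 := hc.mul S (H.inv S)
    rw [aa] at h3
    obtain ⟨c1, v1, d1, hv1, h4⟩ := h3.ker
    have h5 : k * h * k⁻¹ = S.em c1 v1 d1 * h := by rw [← h4]; group
    have h6 : k * (h * h) * k⁻¹ = S.em false (sm c1 e2) (form v1 e2) * (h * h) := by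
      calc k * (h * h) * k⁻¹ = (k * h * k⁻¹) * (k * h * k⁻¹) := by group
        _ = S.em c1 v1 d1 * (h * S.em c1 v1 d1) * h := by rw [h5]; group
        _ = S.em c1 v1 d1 * S.em c1 v1 d1 * S.em false (sm c1 e2) (form v1 e2) * (h * h) := by
            rw [hconj c1 v1 d1 hv1]; group
        _ = _ := by rw [S.em_sq hv1, one_mul]
    have h7 : k * (h * h) * k⁻¹ = S.em false (prj (S.act k v)) d := by
      rw [hy]
      unfold Std.em
      rw [pw_false, one_mul, one_mul]
      calc k * (S.Z e1 v * pw d S.b) * k⁻¹ = (k * S.Z e1 v) * pw d S.b * k⁻¹ := by group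
        _ = S.Z e1 (prj (S.act k v)) * (k * pw d S.b) * k⁻¹ := by rw [hk.Y S hv]; group
        _ = _ := by rw [S.b_comm_pw _ hk.b_comm]; group
    rw [h7, hy, S.em_mul (inU_sm i2 c1) hv] at h6
    obtain ⟨-, h8, -⟩ := S.em_inj (inU_prj _ (hk.perp S hv.perp)) ((inU_sm i2 c1).add hv) h6
    rw [h8]
    cases c1
    · left; rw [sm_false, zero_add]
    · right; rw [sm_true, add_comm]
  have k3 := hk (S.T e3) ⟨S.T_mem _, by rw [S.act_T]; decide⟩ (by rw [S.act_T]; decide)
  have k5 := hk (S.T f3) ⟨S.T_mem _, by rw [S.act_T]; decide⟩ (by rw [S.act_T]; decide)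
  rw [S.act_T] at k3 k5
  rcases dec_v2 v hv h2 k3 k5 with rfl | rfl
  · exact ⟨false, d, hy⟩
  · exact ⟨true, d, hy⟩

/-- The square of an element over `w` lies in `⟨b, Z e1 w⟩`. -/
theorem Ov.sq {h : G} {w : V} (H : S.Ov h w) : ∃ c d, h * h = S.em false (sm c w) d := by
  by_cases h0 : w = 0
  · subst h0
    obtain ⟨c, v, d, hv, rfl⟩ := H.ker
    exact ⟨false, false, by rw [S.em_sq hv, sm_false, S.em_zero]⟩
  · obtain ⟨k, hk, hk2⟩ := S.exists_to_e2 H.hw h0
    have h1 := H.conj S (hk.inv S)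
    rw [← hk2, S.act_inv_act hk.mem, prj_of_inU (by decide), inv_inv] at h1
    obtain ⟨c, d, h2⟩ := h1.sq_e2
    refine ⟨c, d, ?_⟩
    have h3 : h * h = k * ((k⁻¹ * h * k) * (k⁻¹ * h * k)) * k⁻¹ := by group
    rw [h3, h2]
    have h4 : k * S.Z e1 (sm c e2) = S.Z e1 (sm c w) * k := by
      rw [hk.Y S (inU_sm (by decide) c), S.act_sm hk.mem, hk2, prj_of_inU (inU_sm H.hw c)]
    unfold Std.em
    rw [pw_false, one_mul, one_mul]
    calc k * (S.Z e1 (sm c e2) * pw d S.b) * k⁻¹ = (k * S.Z e1 (sm c e2)) * pw d S.b * k⁻¹ := by group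
      _ = S.Z e1 (sm c w) * (k * pw d S.b) * k⁻¹ := by rw [h4]; group
      _ = _ := by rw [S.b_comm_pw _ hk.b_comm]; group

end Std

end Cfsg.Agent.StdSpSix.PatTwo
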