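import Cfsg.Agent.StdSpSix.PatTwoK

/-!
Pattern `{a2}`: the normal subgroup `E1 = ⟨t⟩ × O_2(C_L(b))`, `b` a transvection, and the
elements inducing translations on `D ∩ E1`.
-/

set_option autoImplicit false

namespace Cfsg.Agent.StdSpSix.PatTwo

open V

namespace Std

open Six

variable {G : Type*} [Group G] (S : Std G)

/-- Normal form of the elements of `E1`. -/
def em (c : Bool) (v : V) (d : Bool) : G := pw c S.t * (S.Z e1 v * pw d S.b)

theorem t_comm {g : G} (hg : g ∈ S.L) (c : Bool) : g * pw c S.t = pw c S.t * g :=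
  (commute_pw (S.comm g hg) c).eq

theorem yb_mem (v : V) (d : Bool) : S.Z e1 v * pw d S.b ∈ S.L :=
  S.L.mul_mem (S.Z_mem _ _) (pw_mem S.b_mem _)

theorem em_mul {v v' : V} (hv : InU v) (hv' : InU v') (c c' d d' : Bool) :
    S.em c v d * S.em c' v' d' = S.em (c ^^ c') (v + v') (d ^^ d' ^^ form v v') := by
  unfold em
  have h1 : pw d S.b * S.Z e1 v' = S.Z e1 v' * pw d S.b :=
    (commute_pw (show Commute (S.Z e1 v') S.b from (S.b_comm_Y hv'.perp).symm) d).eq.symm
  calc pw c S.t * (S.Z e1 v * pw d S.b) * (pw c' S.t * (S.Z e1 v' * pw d' S.b))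
      = pw c S.t * ((S.Z e1 v * pw d S.b) * pw c' S.t) * (S.Z e1 v' * pw d' S.b) := by group
    _ = pw c S.t * pw c' S.t * (S.Z e1 v * (pw d S.b * S.Z e1 v') * pw d' S.b) := by
        rw [S.t_comm (S.yb_mem v d)]; group
    _ = pw c S.t * pw c' S.t * ((S.Z e1 v * S.Z e1 v') * (pw d S.b * pw d' S.b)) := by
        rw [h1]; group
    _ = pw (c ^^ c') S.t * (S.Z e1 (v + v') * pw (d ^^ d' ^^ form v v') S.b) := by
        rw [S.Y_mul' hv hv', ← pw_xor S.tt, ← pw_xor S.b_sq, mul_assoc, ← pw_xor S.b_sq]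
        congr 3
        cases d <;> cases d' <;> cases form v v' <;> rfl

theorem em_zero : S.em false 0 false = 1 := by
  unfold em
  rw [pw_false, pw_false, S.Z_zero, one_mul, mul_one]

theorem inU_zero : InU 0 := by decide

theorem inU_sm {v : V} (h : InU v) (c : Bool) : InU (sm c v) := by
  cases c
  · exact inU_zero
  · exact h

theorem em_sq {v : V} (hv : InU v) (c d : Bool) : S.em c v d * S.em c v d = 1 := by
  rw [S.em_mul hv hv, aa, form_self, Bool.xor_self, Bool.xor_self, Bool.xor_false, S.em_zero]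

theorem em_comm {v v' : V} (hv : InU v) (hv' : InU v') (c c' d d' : Bool) :
    Commute (S.em c v d) (S.em c' v' d') := by
  unfold Commute SemiconjBy
  rw [S.em_mul hv hv', S.em_mul hv' hv, Bool.xor_comm c c', add_comm v, Bool.xor_comm d d',
    form_comm v v']

theorem em_inj {v v' : V} (hv : InU v) (hv' : InU v') {c c' d d' : Bool}
    (h : S.em c v d = S.em c' v' d') : c = c' ∧ v = v' ∧ d = d' := by
  have hc : c = c' := by
    unfold em at h
    cases c <;> cases c'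
    · rfl
    · exfalso
      apply S.tL
      have : S.t = (S.Z e1 v * pw d S.b) * (S.Z e1 v' * pw d' S.b)⁻¹ := by
        rw [pw_false, one_mul, pw_true] at h
        rw [h]; group
      rw [this]
      exact S.L.mul_mem (S.yb_mem _ _) (S.L.inv_mem (S.yb_mem _ _))
    · exfalso
      apply S.tL
      have : S.t = (S.Z e1 v' * pw d' S.b) * (S.Z e1 v * pw d S.b)⁻¹ := by
        rw [pw_false, one_mul, pw_true] at h
        rw [← h]; group
      rw [this]
      exact S.L.mul_mem (S.yb_mem _ _) (S.L.inv_mem (S.yb_mem _ _))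
    · rfl
  subst hc
  have h2 := mul_left_cancel h
  cases d <;> cases d'
  · rw [pw_false, mul_one, mul_one] at h2
    exact ⟨rfl, S.Y_inj hv hv' h2, rfl⟩
  · rw [pw_false, mul_one, pw_true] at h2
    exact absurd h2.symm (S.Y_b_ne hv' hv)
  · rw [pw_false, mul_one, pw_true] at h2
    exact absurd h2 (S.Y_b_ne hv hv')
  · rw [pw_true] at h2
    exact ⟨rfl, S.Y_inj hv hv' (mul_right_cancel h2), rfl⟩

/-- The subgroup `E1`. -/
def E1 : Subgroup G where
  carrier := {g | ∃ c v d, InU v ∧ g = S.em c v d}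
  mul_mem' := by
    rintro _ _ ⟨c, v, d, hv, rfl⟩ ⟨c', v', d', hv', rfl⟩
    exact ⟨_, _, _, hv.add hv', S.em_mul hv hv' _ _ _ _⟩
  one_mem' := ⟨false, 0, false, inU_zero, S.em_zero.symm⟩
  inv_mem' := by
    rintro _ ⟨c, v, d, hv, rfl⟩
    exact ⟨c, v, d, hv, inv_eq_of_mul_eq_one_right (S.em_sq hv c d)⟩

theorem mem_E1 {g : G} : g ∈ S.E1 ↔ ∃ c v d, InU v ∧ g = S.em c v d := Iff.rfl

theorem em_mem {v : V} (hv : InU v) (c d : Bool) : S.em c v d ∈ S.E1 := ⟨c, v, d, hv, rfl⟩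

theorem em_t : S.em true 0 false = S.t := by
  unfold em
  rw [pw_false, pw_true, S.Z_zero, one_mul, mul_one]

theorem em_b : S.em false 0 true = S.b := by
  unfold em
  rw [pw_false, pw_true, S.Z_zero, one_mul, one_mul]

theorem em_Y (v : V) : S.em false v false = S.Z e1 v := by
  unfold em
  rw [pw_false, pw_false, one_mul, mul_one]

theorem em_tY (v : V) : S.em true v false = S.t * S.Z e1 v := by
  unfold em
  rw [pw_false, pw_true, mul_one]

theorem t_mem_E1 : S.t ∈ S.E1 := ⟨true, 0, false, inU_zero, S.em_t.symm⟩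
theorem b_mem_E1 : S.b ∈ S.E1 := ⟨false, 0, true, inU_zero, S.em_b.symm⟩
theorem Y_mem_E1 {v : V} (hv : InU v) : S.Z e1 v ∈ S.E1 := ⟨false, v, false, hv, (S.em_Y v).symm⟩

theorem E1_comm {x y : G} (hx : x ∈ S.E1) (hy : y ∈ S.E1) : Commute x y := by
  obtain ⟨c, v, d, hv, rfl⟩ := hx
  obtain ⟨c', v', d', hv', rfl⟩ := hy
  exact S.em_comm hv hv' _ _ _ _

theorem E1_sq {x : G} (hx : x ∈ S.E1) : x * x = 1 := by
  obtain ⟨c, v, d, hv, rfl⟩ := hx
  exact S.em_sq hv _ _

theorem E1_inv {x : G} (hx : x ∈ S.E1) : x⁻¹ = x := inv_eq_of_mul_eq_one_right (S.E1_sq hx)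

/-- Elements commuting with `t` and `b` normalise `E1`. -/
theorem E1_norm {m : G} (h1 : Commute m S.t) (h2 : Commute m S.b) {y : G} (hy : y ∈ S.E1) :
    m * y * m⁻¹ ∈ S.E1 := by
  obtain ⟨c, a, ha, rfl⟩ := S.cent' h1
  have h3 : Commute a S.b := by
    have h4 : Commute (pw c S.t) S.b := (commute_pw (S.comm _ S.b_mem) c).symm
    have := h4.inv_left.mul_left h2
    rwa [inv_mul_cancel_left] at this
  have h5 : S.act a e1 = e1 := S.act_of_T_comm ha h3.eq
  obtain ⟨c', v, d, hv, rfl⟩ := hy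
  have hv' : form e1 (S.act a v) = false := by
    conv_lhs => rw [← h5]
    rw [S.act_form a ha, hv.perp]
  refine ⟨c', prj (S.act a v), d, inU_prj _ hv', ?_⟩
  have h6 : a * S.Z e1 v = S.Z e1 (prj (S.act a v)) * a := by
    rw [S.Y_prj hv', S.mul_Z ha, h5]
  have h7 : a * pw d S.b = pw d S.b * a := (commute_pw h3 d).eq
  have h8 := S.t_comm ha c'
  have h9 := S.t_comm (S.L.mul_mem (S.yb_mem (prj (S.act a v)) d) (S.L.one_mem)) c
  unfold em
  calc pw c S.t * a * (pw c' S.t * (S.Z e1 v * pw d S.b)) * (pw c S.t * a)⁻¹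
      = pw c S.t * (a * pw c' S.t) * (S.Z e1 v * pw d S.b) * a⁻¹ * (pw c S.t)⁻¹ := by group
    _ = pw c S.t * pw c' S.t * (a * S.Z e1 v) * pw d S.b * a⁻¹ * (pw c S.t)⁻¹ := by
        rw [h8]; group
    _ = pw c S.t * pw c' S.t * S.Z e1 (prj (S.act a v)) * (a * pw d S.b) * a⁻¹ * (pw c S.t)⁻¹ := by
        rw [h6]; group
    _ = pw c S.t * pw c' S.t * ((S.Z e1 (prj (S.act a v)) * pw d S.b) * 1) * (pw c S.t)⁻¹ := by
        rw [h7]; group
    _ = pw c S.t * pw c' S.t * (pw c S.t)⁻¹ * ((S.Z e1 (prj (S.act a v)) * pw d S.b) * 1) := by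
        have : (S.Z e1 (prj (S.act a v)) * pw d S.b) * 1 * (pw c S.t)⁻¹ =
            (pw c S.t)⁻¹ * ((S.Z e1 (prj (S.act a v)) * pw d S.b) * 1) := by
          rw [eq_inv_mul_iff_mul_eq, ← mul_assoc, ← h9]; group
        rw [mul_assoc, this]; group
    _ = pw c' S.t * (S.Z e1 (prj (S.act a v)) * pw d S.b) := by
        rw [mul_one]
        cases c <;> cases c' <;> simp only [pw_true, pw_false] <;> group

theorem dec_e2 : ∀ v : V, InU v → form v e2 = false →
    ∃ a b c : Bool, v = sm a e2 + (sm b e3 + sm c f3) := by decide +kernel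

theorem dec_T2 : ∀ v : V, InU v → zf e1 v f2 ≠ trf e2 f2 := by decide +kernel

theorem T2_notin : S.T e2 ∉ S.E1 := by
  rintro ⟨c, v, d, hv, h⟩
  cases c
  · have h1 : S.act (S.T e2) f2 = S.act (S.em false v d) f2 := by rw [← h]
    unfold em at h1
    rw [pw_false, one_mul, S.act_mul _ (S.Z_mem _ _) _ (pw_mem S.b_mem _), S.act_pw, S.act_Z hv.perp,
      b, S.act_T, S.act_T] at h1
    apply dec_T2 v hv
    rw [h1]
    cases d
    · rfl
    · rfl
  · apply S.tL
    have : S.t = S.T e2 * (S.Z e1 v * pw d S.b)⁻¹ := by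
      rw [h]; unfold em; rw [pw_true]; group
    rw [this]
    exact S.L.mul_mem (S.T_mem _) (S.L.inv_mem (S.yb_mem _ _))

theorem Y_mem_of {H : Subgroup G} (hb : S.b ∈ H) {u v : V} (hu : InU u) (hv : InU v)
    (h1 : S.Z e1 u ∈ H) (h2 : S.Z e1 v ∈ H) : S.Z e1 (u + v) ∈ H := by
  have h := S.Y_mul' hu hv
  have : S.Z e1 (u + v) = S.Z e1 u * S.Z e1 v * (pw (form u v) S.b)⁻¹ := by
    rw [h]; group
  rw [this]
  exact H.mul_mem (H.mul_mem h1 h2) (H.inv_mem (pw_mem hb _))

theorem sm_mem {H : Subgroup G} {u : V} (h : S.Z e1 u ∈ H) (c : Bool) : S.Z e1 (sm c u) ∈ H := by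
  cases c
  · rw [sm_false, S.Z_zero]; exact H.one_mem
  · exact h

theorem x12_norm {x : G} (hx : S.XW (S.Z e1 e2) x) {y : G} (hy : y ∈ S.E1) :
    x * y * x⁻¹ ∈ S.E1 := by
  have w1 : e1 = wv 1 := by decide
  have w2 : e2 = wv 2 := by decide
  have hb : Commute x S.b := hx.flag12 S
  have hT2 : Commute x (S.T e2) := by
    rw [w2]; exact hx.comm12 S 2
  have hinv : x⁻¹ * S.t * x = S.t * S.Z e1 e2 := by
    have hx' : S.XW (S.Z (wv 1) (wv 2)) x := by rw [← w1, ← w2]; exact hx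
    rw [hx'.inv_ht, ← w1, ← w2]
  let F : Subgroup G := S.E1.map (MulAut.conj x).toMonoidHom
  have memF : ∀ z, z ∈ F ↔ x⁻¹ * z * x ∈ S.E1 := by
    intro z
    constructor
    · rintro ⟨a, ha, rfl⟩
      have : x⁻¹ * ((MulAut.conj x).toMonoidHom a) * x = a := by
        change x⁻¹ * (x * a * x⁻¹) * x = a
        group
      rw [this]; exact ha
    · intro h
      refine ⟨_, h, ?_⟩
      change x * (x⁻¹ * z * x) * x⁻¹ = z
      group
  have fixF : ∀ z, Commute x z → z ∈ S.E1 → z ∈ F := by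
    intro z hz h
    rw [memF, mul_assoc, ← hz.eq, inv_mul_cancel_left]
    exact h
  have i2 : InU e2 := by decide
  have i3 : InU e3 := by decide
  have i5 : InU f3 := by decide
  have F_t : S.t ∈ F := by
    rw [memF, hinv]
    exact S.E1.mul_mem S.t_mem_E1 (S.Y_mem_E1 i2)
  have F_b : S.b ∈ F := fixF _ hb S.b_mem_E1
  have F_2 : S.Z e1 e2 ∈ F := fixF _ hx.cz.h1 (S.Y_mem_E1 i2)
  have F_3 : S.Z e1 e3 ∈ F := fixF _ hx.cz.h2 (S.Y_mem_E1 i3)
  have F_comm : ∀ y ∈ F, ∀ z ∈ F, Commute y z := by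
    intro y hy z hz
    rw [memF] at hy hz
    have h := (S.E1_comm hy hz).eq
    unfold Commute SemiconjBy
    calc y * z = x * ((x⁻¹ * y * x) * (x⁻¹ * z * x)) * x⁻¹ := by group
      _ = z * y := by rw [h]; group
  have F_sq : ∀ y ∈ F, y * y = 1 := by
    intro y hy
    rw [memF] at hy
    have h := S.E1_sq hy
    calc y * y = x * ((x⁻¹ * y * x) * (x⁻¹ * y * x)) * x⁻¹ := by group
      _ = 1 := by rw [h]; group
  have F_5 : S.Z e1 f3 ∈ F := by
    -- conjugate by a transvection exchanging `e3` and `f3`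
    have hk := S.T_mem (e3 + f3)
    have hkt := S.comm _ hk
    have hkb : Commute (S.T (e3 + f3)) S.b := S.T_comm (by decide)
    have hkz : Commute (S.T (e3 + f3)) (S.Z e1 e2) := S.T_comm_Z (by decide) (by decide)
    have h1 : Commute (x⁻¹ * S.T (e3 + f3) * x) S.t := by
      have h2 : Commute (S.T (e3 + f3)) (x * S.t * x⁻¹) := by
        rw [hx.ht]; exact hkt.mul_right hkz
      have h3 := h2.eq
      unfold Commute SemiconjBy
      calc x⁻¹ * S.T (e3 + f3) * x * S.t = x⁻¹ * (S.T (e3 + f3) * (x * S.t * x⁻¹)) * x := by group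
        _ = S.t * (x⁻¹ * S.T (e3 + f3) * x) := by rw [h3]; group
    have h2 : Commute (x⁻¹ * S.T (e3 + f3) * x) S.b := (hb.inv_left.mul_left hkb).mul_left hb
    have h3 := S.E1_norm h1 h2 (S.Y_mem_E1 i3)
    rw [memF]
    have h4 : S.Z e1 f3 = S.T (e3 + f3) * S.Z e1 e3 * (S.T (e3 + f3))⁻¹ := by
      rw [S.conj_Z hk, S.act_T, S.act_T]; rfl
    have h5 : x⁻¹ * S.Z e1 f3 * x = x⁻¹ * S.T (e3 + f3) * x * S.Z e1 e3 * (x⁻¹ * S.T (e3 + f3) * x)⁻¹ := by
      have h6 : x * S.Z e1 e3 * x⁻¹ = S.Z e1 e3 := by rw [hx.cz.h2.eq, mul_inv_cancel_right]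
      rw [h4]
      conv_lhs => rw [← h6]
      group
    rw [h5]
    exact h3
  -- now the element
  have hy' : x * y * x⁻¹ ∈ F := by
    rw [memF]
    have : x⁻¹ * (x * y * x⁻¹) * x = y := by group
    rw [this]; exact hy
  set y' := x * y * x⁻¹ with hy'def
  obtain ⟨c, g, hg, hcg⟩ := S.cent' (F_comm _ hy' _ F_t)
  have gF : g ∈ F := by
    have : g = (pw c S.t)⁻¹ * y' := by rw [hcg]; group
    rw [this]
    exact F.mul_mem (F.inv_mem (pw_mem F_t _)) hy'
  rcases S.isA1_of_comm4 hg (F_comm _ gF _ F_b).eq (F_comm _ gF _ F_2).eq (F_comm _ gF _ F_3).eq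
    (F_comm _ gF _ F_5).eq with hA | hA
  · obtain ⟨v, hv, d, h1⟩ := hA.form
    rw [hcg, h1]
    exact S.em_mem hv c d
  · exfalso
    obtain ⟨v, hv, d, h1⟩ := hA.form
    -- `a = g * T e2` commutes with `T e2`
    have hTT := S.T_sq e2
    have hgg := F_sq _ gF
    set a := g * S.T e2 with ha
    have haE : a ∈ S.E1 := by rw [h1]; rw [← one_mul (S.Z e1 v * pw d S.b)]; exact S.em_mem hv false d
    have haa := S.E1_sq haE
    have hcomm : a * S.T e2 = S.T e2 * a := by
      have hg2 : g = a * S.T e2 := by rw [ha, mul_assoc, hTT, mul_one]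
      rw [hg2] at hgg
      have h2 : a * S.T e2 = (a * S.T e2)⁻¹ := eq_inv_of_mul_eq_one_left hgg
      rw [h2, mul_inv_rev, S.T_inv, S.E1_inv haE]
    have hve : form v e2 = false := by
      have h2 := S.act_of_T_comm (S.L.mul_mem hg (S.T_mem e2)) hcomm
      rw [← ha, h1, S.act_mul _ (S.Z_mem _ _) _ (pw_mem S.b_mem _), S.act_pw] at h2
      have h3 : (bif d then S.act S.b e2 else e2) = e2 := by
        rw [b, S.act_T]
        cases d
        · rfl
        · decide
      rw [h3, S.act_Z hv.perp] at h2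
      clear * - h2 hv
      revert v
      decide +kernel
    obtain ⟨k1, k2, k3, hv3⟩ := dec_e2 v hv hve
    have iu1 : InU (sm k1 e2) := inU_sm i2 _
    have iu2 : InU (sm k2 e3) := inU_sm i3 _
    have iu3 : InU (sm k3 f3) := inU_sm i5 _
    have iu : InU (sm k2 e3 + sm k3 f3) := iu2.add iu3
    have haF : a ∈ F := by
      rw [h1]
      refine F.mul_mem ?_ (pw_mem F_b _)
      rw [hv3]
      exact S.Y_mem_of F_b iu1 iu (S.sm_mem F_2 _) (S.Y_mem_of F_b iu2 iu3 (S.sm_mem F_3 _) (S.sm_mem F_5 _))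
    have hTF : S.T e2 ∈ F := by
      have : S.T e2 = g⁻¹ * a := by rw [ha]; group
      rw [this]
      exact F.mul_mem (F.inv_mem gF) haF
    rw [memF, mul_assoc, ← hT2.eq, inv_mul_cancel_left] at hTF
    exact S.T2_notin hTF

end Std

end Cfsg.Agent.StdSpSix.PatTwo
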