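import Cfsg.Agent.StdSpSix.PatTwoCodes

/-!
A subgroup `L` of a group acting as `Sp_6(2)` on codes: transvections, short root elements,
Witt's lemma for isotropic triples.
-/

set_option autoImplicit false

namespace Cfsg.Agent.StdSpSix.PatTwo

open V

/-- A subgroup `L` of `G` acting faithfully by isometries on `F_2^6`, containing all
transvections. -/
structure Six (G : Type*) [Group G] where
  L : Subgroup G
  act : G → V → V
  act_one : ∀ x, act 1 x = x
  act_mul : ∀ g ∈ L, ∀ h ∈ L, ∀ x, act (g * h) x = act g (act h x)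
  act_add : ∀ g ∈ L, ∀ x y, act g (x + y) = act g x + act g y
  act_form : ∀ g ∈ L, ∀ x y, form (act g x) (act g y) = form x y
  act_inj : ∀ g ∈ L, ∀ h ∈ L, (∀ x, act g x = act h x) → g = h
  T : V → G
  T_mem : ∀ v, T v ∈ L
  act_T : ∀ v x, act (T v) x = trf v x

namespace Six

variable {G : Type*} [Group G] (S : Six G)

theorem act_inv_act {g : G} (hg : g ∈ S.L) (x : V) : S.act g⁻¹ (S.act g x) = x := by
  rw [← S.act_mul _ (S.L.inv_mem hg) _ hg, inv_mul_cancel, S.act_one]

theorem act_act_inv {g : G} (hg : g ∈ S.L) (x : V) : S.act g (S.act g⁻¹ x) = x := by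
  rw [← S.act_mul _ hg _ (S.L.inv_mem hg), mul_inv_cancel, S.act_one]

theorem act_injective {g : G} (hg : g ∈ S.L) {x y : V} (h : S.act g x = S.act g y) : x = y := by
  rw [← S.act_inv_act hg x, h, S.act_inv_act hg]

theorem act_zero {g : G} (hg : g ∈ S.L) : S.act g 0 = 0 := by
  have := S.act_add g hg 0 0
  rw [aa] at this
  rw [this, aa]

theorem act_eq_zero {g : G} (hg : g ∈ S.L) {x : V} (h : S.act g x = 0) : x = 0 :=
  S.act_injective hg (by rw [h, S.act_zero hg])

theorem act_sm {g : G} (hg : g ∈ S.L) (c : Bool) (x : V) : S.act g (sm c x) = sm c (S.act g x) := by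
  cases c
  · exact S.act_zero hg
  · rfl

theorem act_form' {g : G} (hg : g ∈ S.L) (x y : V) :
    form (S.act g x) y = form x (S.act g⁻¹ y) := by
  rw [← S.act_form g hg x, S.act_act_inv hg]

theorem ext_basis {g h : G} (hg : g ∈ S.L) (hh : h ∈ S.L)
    (h1 : S.act g e1 = S.act h e1) (h2 : S.act g e2 = S.act h e2) (h3 : S.act g e3 = S.act h e3)
    (h4 : S.act g f1 = S.act h f1) (h5 : S.act g f2 = S.act h f2) (h6 : S.act g f3 = S.act h f3) :
    g = h := by
  refine S.act_inj g hg h hh fun x => ?_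
  rw [map_lin (S.act_add g hg) x, map_lin (S.act_add h hh) x, h1, h2, h3, h4, h5, h6]

/-- The elementary form of a transvection. -/
theorem act_T' (v x : V) : S.act (S.T v) x = x + sm (form x v) v := by
  rw [S.act_T, trf_eq]

theorem T_sq (v : V) : S.T v * S.T v = 1 := by
  refine S.act_inj _ (S.L.mul_mem (S.T_mem v) (S.T_mem v)) _ S.L.one_mem fun x => ?_
  rw [S.act_mul _ (S.T_mem v) _ (S.T_mem v), S.act_one, S.act_T', S.act_T', form_add_left]
  cases h : form x v
  · simp [sm_false, h, form_zero_left]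
  · simp [sm_true, form_self, aba]

theorem T_inv (v : V) : (S.T v)⁻¹ = S.T v := inv_eq_of_mul_eq_one_right (S.T_sq v)

theorem T_zero : S.T 0 = 1 := by
  refine S.act_inj _ (S.T_mem 0) _ S.L.one_mem fun x => ?_
  rw [S.act_T', S.act_one, sm_zero, add_zero]

theorem conj_T {g : G} (hg : g ∈ S.L) (v : V) : g * S.T v * g⁻¹ = S.T (S.act g v) := by
  have hgT := S.L.mul_mem hg (S.T_mem v)
  have hgi := S.L.inv_mem hg
  refine S.act_inj _ (S.L.mul_mem hgT hgi) _ (S.T_mem _) fun x => ?_
  rw [S.act_mul _ hgT _ hgi, S.act_mul _ hg _ (S.T_mem v), S.act_T', S.act_T', S.act_add _ hg,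
    S.act_act_inv hg, S.act_sm hg, S.act_form' hgi, inv_inv]

theorem mul_T {g : G} (hg : g ∈ S.L) (v : V) : g * S.T v = S.T (S.act g v) * g := by
  rw [← S.conj_T hg v, inv_mul_cancel_right]

theorem exists_form' : ∀ x : V, x ≠ 0 → ∃ v : V, form v x = true := by decide +kernel

theorem exists_form (x y : V) (h : x ≠ y) : ∃ v : V, form v x ≠ form v y := by
  obtain ⟨v, hv⟩ := exists_form' (x + y) fun h0 => h (eq_of_add h0)
  refine ⟨v, fun h1 => ?_⟩
  rw [form_add_right, h1, Bool.xor_self] at hv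
  cases hv

theorem T_injective {v w : V} (h : S.T v = S.T w) : v = w := by
  by_contra hvw
  obtain ⟨x, hx⟩ := exists_form v w hvw
  have h1 := S.act_T' v x
  rw [h, S.act_T'] at h1
  have h2 := add_left_cancel h1
  cases hv : form x v <;> cases hw : form x w
  · exact hx (by rw [hv, hw])
  · rw [hv, hw, sm_true, sm_false] at h2
    rw [h2, form_zero_right] at hw
    cases hw
  · rw [hv, hw, sm_true, sm_false] at h2
    rw [← h2, form_zero_right] at hv
    cases hv
  · exact hx (by rw [hv, hw])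

theorem act_of_T_comm {g : G} (hg : g ∈ S.L) {v : V} (h : g * S.T v = S.T v * g) :
    S.act g v = v := by
  apply S.T_injective
  rw [← S.conj_T hg, h, mul_inv_cancel_right]

theorem T_comm_of_act {g : G} (hg : g ∈ S.L) {v : V} (h : S.act g v = v) :
    g * S.T v = S.T v * g := by
  rw [S.mul_T hg, h]

theorem T_comm {v w : V} (h : form v w = false) : S.T v * S.T w = S.T w * S.T v := by
  refine S.T_comm_of_act (S.T_mem v) ?_
  rw [S.act_T', form_comm, h, sm_false, add_zero]

/-- Normalisation in an elementary abelian 2-group. -/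
macro "vnorm" : tactic => `(tactic| simp only [add_comm, add_left_comm, add_assoc, aa, aab, add_zero, zero_add])

/-- The short root element attached to an isotropic line. -/
def Z (a c : V) : G := S.T a * S.T c * S.T (a + c)

theorem Z_mem (a c : V) : S.Z a c ∈ S.L :=
  S.L.mul_mem (S.L.mul_mem (S.T_mem a) (S.T_mem c)) (S.T_mem _)

theorem act_Z {a c : V} (h : form a c = false) (x : V) : S.act (S.Z a c) x = zf a c x := by
  unfold Z
  have h' : form c a = false := by rw [form_comm, h]
  rw [S.act_mul _ (S.L.mul_mem (S.T_mem a) (S.T_mem c)) _ (S.T_mem _),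
    S.act_mul _ (S.T_mem a) _ (S.T_mem c), S.act_T', S.act_T', S.act_T']
  unfold zf
  cases h1 : form x a <;> cases h2 : form x c <;>
    simp [form_add_left, form_add_right, h1, h2, h, h', sm_true, sm_false, form_self]
  · vnorm
  · vnorm
  · vnorm

theorem Z_comm' {a c : V} (h : form a c = false) : S.Z a c = S.Z c a := by
  unfold Z
  rw [S.T_comm h, add_comm]

theorem Z_sq {a c : V} (h : form a c = false) : S.Z a c * S.Z a c = 1 := by
  refine S.act_inj _ (S.L.mul_mem (S.Z_mem a c) (S.Z_mem a c)) _ S.L.one_mem fun x => ?_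
  have h' : form c a = false := by rw [form_comm, h]
  rw [S.act_mul _ (S.Z_mem a c) _ (S.Z_mem a c), S.act_one, S.act_Z h, S.act_Z h]
  unfold zf
  cases h1 : form x a <;> cases h2 : form x c <;>
    simp [form_add_left, h1, h2, h, h', sm_true, sm_false, form_self]
  · vnorm
  · vnorm
  · vnorm

theorem Z_inv {a c : V} (h : form a c = false) : (S.Z a c)⁻¹ = S.Z a c :=
  inv_eq_of_mul_eq_one_right (S.Z_sq h)

theorem Z_add_right {a c : V} (h : form a c = false) : S.Z a (a + c) = S.Z a c := by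
  have h' : form a (a + c) = false := by rw [form_add_right, form_self, h]; rfl
  refine S.act_inj _ (S.Z_mem _ _) _ (S.Z_mem _ _) fun x => ?_
  rw [S.act_Z h, S.act_Z h']
  unfold zf
  cases h1 : form x a <;> cases h2 : form x c <;>
    simp [form_add_right, h1, h2, sm_true, sm_false]
  · vnorm
  · vnorm

theorem Z_zero (a : V) : S.Z a 0 = 1 := by
  unfold Z
  rw [S.T_zero, mul_one, add_zero, S.T_sq]

theorem Z_self (a : V) : S.Z a a = 1 := by
  unfold Z
  rw [aa, S.T_zero, mul_one, S.T_sq]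

theorem conj_Z {g : G} (hg : g ∈ S.L) (a c : V) :
    g * S.Z a c * g⁻¹ = S.Z (S.act g a) (S.act g c) := by
  unfold Z
  have : g * (S.T a * S.T c * S.T (a + c)) * g⁻¹ =
      (g * S.T a * g⁻¹) * (g * S.T c * g⁻¹) * (g * S.T (a + c) * g⁻¹) := by group
  rw [this, S.conj_T hg, S.conj_T hg, S.conj_T hg, S.act_add g hg]

theorem mul_Z {g : G} (hg : g ∈ S.L) (a c : V) :
    g * S.Z a c = S.Z (S.act g a) (S.act g c) * g := by
  rw [← S.conj_Z hg a c, inv_mul_cancel_right]

theorem T_comm_Z {v a c : V} (h1 : form v a = false) (h2 : form v c = false) :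
    S.T v * S.Z a c = S.Z a c * S.T v := by
  rw [S.mul_Z (S.T_mem v), S.act_T', S.act_T', form_comm, h1, form_comm c, h2, sm_false, add_zero,
    add_zero]

/-- An isotropic line with two chosen points. -/
def Line (a c : V) : Prop := form a c = false ∧ a ≠ 0 ∧ c ≠ 0 ∧ a ≠ c

instance (a c : V) : Decidable (Line a c) := by unfold Line; infer_instance

theorem Line.act {g : G} (hg : g ∈ S.L) {a c : V} (h : Line a c) :
    Line (S.act g a) (S.act g c) :=
  ⟨by rw [S.act_form g hg, h.1], fun h0 => h.2.1 (S.act_eq_zero hg h0),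
    fun h0 => h.2.2.1 (S.act_eq_zero hg h0), fun h0 => h.2.2.2 (S.act_injective hg h0)⟩

/-- The element is a short root involution. -/
def IsA2 (g : G) : Prop := ∃ a c, Line a c ∧ g = S.Z a c

theorem IsA2.mem {g : G} (h : S.IsA2 g) : g ∈ S.L := by
  obtain ⟨a, c, -, rfl⟩ := h
  exact S.Z_mem a c

theorem IsA2.conj {g x : G} (hx : x ∈ S.L) (h : S.IsA2 g) : S.IsA2 (x * g * x⁻¹) := by
  obtain ⟨a, c, h1, rfl⟩ := h
  exact ⟨_, _, Line.act S hx h1, S.conj_Z hx a c⟩

theorem form_zf : ∀ a c x : V, form x (zf a c x) = false := by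
  intro a c x
  unfold zf
  have h1 : form a x = form x a := form_comm _ _
  have h2 : form c x = form x c := form_comm _ _
  cases h3 : form x a <;> cases h4 : form x c <;>
    simp [form_add_right, form_self, h3, h4, sm_true, sm_false, form_zero_right]

theorem IsA2.form {g : G} (h : S.IsA2 g) (x : V) : V.form x (S.act g x) = false := by
  obtain ⟨a, c, h1, rfl⟩ := h
  rw [S.act_Z h1.1]
  exact form_zf a c x

/-! ### Witt's lemma -/

theorem act_T_add {x a : V} (h : form x a = true) : S.act (S.T (x + a)) x = a := by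
  rw [S.act_T', form_add_right, form_self, h]
  change x + (x + a) = a
  exact aab x a

theorem act_T_fix {v x : V} (h : form x v = false) : S.act (S.T v) x = x := by
  rw [S.act_T', h, sm_false, add_zero]

theorem exists_move (P : V → Prop) (hP : ∀ v w, P v → P w → P (v + w)) {x a : V} (hx : P x)
    (ha : P a) (hc : form x a = false → ∃ c, P c ∧ form x c = true ∧ form c a = true) :
    ∃ g ∈ S.L, S.act g x = a ∧ ∀ y, (∀ v, P v → form y v = false) → S.act g y = y := by
  cases h : form x a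
  · obtain ⟨c, hPc, h1, h2⟩ := hc h
    refine ⟨S.T (c + a) * S.T (x + c), S.L.mul_mem (S.T_mem _) (S.T_mem _), ?_, fun y hy => ?_⟩
    · rw [S.act_mul _ (S.T_mem _) _ (S.T_mem _), S.act_T_add h1, S.act_T_add h2]
    · rw [S.act_mul _ (S.T_mem _) _ (S.T_mem _), S.act_T_fix (hy _ (hP _ _ hx hPc)),
        S.act_T_fix (hy _ (hP _ _ hPc ha))]
  · exact ⟨S.T (x + a), S.T_mem _, S.act_T_add h, fun y hy => S.act_T_fix (hy _ (hP _ _ hx ha))⟩

theorem dec1 : ∀ a : V, a ≠ 0 → form e1 a = false → ∃ c, form e1 c = true ∧ form c a = true := by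
  decide +kernel

theorem dec2 : ∀ a : V, form e1 a = false → a ≠ 0 → a ≠ e1 → form e2 a = false →
    ∃ c, form e1 c = false ∧ form e2 c = true ∧ form c a = true := by
  decide +kernel

theorem dec3 : ∀ a : V, form e1 a = false → form e2 a = false → a ≠ 0 → a ≠ e1 → a ≠ e2 →
    a ≠ e1 + e2 → form e3 a = false →
    ∃ c, (form e1 c = false ∧ form e2 c = false) ∧ form e3 c = true ∧ form c a = true := by
  decide +kernel

theorem witt1 {a : V} (ha : a ≠ 0) : ∃ g ∈ S.L, S.act g e1 = a := by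
  obtain ⟨g, hg, h, -⟩ := S.exists_move (fun _ => True) (fun _ _ _ _ => trivial) (x := e1) (a := a)
    trivial trivial fun h => by
      obtain ⟨c, h1, h2⟩ := dec1 a ha h
      exact ⟨c, trivial, h1, h2⟩
  exact ⟨g, hg, h⟩

theorem witt2 {a c : V} (h : Line a c) : ∃ g ∈ S.L, S.act g e1 = a ∧ S.act g e2 = c := by
  obtain ⟨g, hg, h1⟩ := S.witt1 h.2.1
  have hgi := S.L.inv_mem hg
  obtain ⟨k, hk, h2, h3⟩ := S.exists_move (fun v => form e1 v = false)
    (fun v w hv hw => by rw [form_add_right, hv, hw]; rfl) (x := e2) (a := S.act g⁻¹ c)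
    (by decide) (by rw [← S.act_form g hg, h1, S.act_act_inv hg, h.1]) fun h2 =>
      dec2 _ (by rw [← S.act_form g hg, h1, S.act_act_inv hg, h.1])
        (fun h0 => h.2.2.1 (S.act_eq_zero hgi h0))
        (fun h0 => h.2.2.2 (by rw [← h1, ← h0, S.act_act_inv hg])) h2
  refine ⟨g * k, S.L.mul_mem hg hk, ?_, ?_⟩
  · rw [S.act_mul _ hg _ hk, h3 e1 (fun v hv => hv), h1]
  · rw [S.act_mul _ hg _ hk, h2, S.act_act_inv hg]

/-- Three independent pairwise orthogonal vectors. -/
def Plane (a c d : V) : Prop :=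
  Line a c ∧ form a d = false ∧ form c d = false ∧ d ≠ 0 ∧ d ≠ a ∧ d ≠ c ∧ d ≠ a + c

theorem witt3 {a c d : V} (h : Plane a c d) :
    ∃ g ∈ S.L, S.act g e1 = a ∧ S.act g e2 = c ∧ S.act g e3 = d := by
  obtain ⟨h0, hd1, hd2, hd3, hd4, hd5, hd6⟩ := h
  obtain ⟨g, hg, h1, h2⟩ := S.witt2 h0
  have hgi := S.L.inv_mem hg
  have k1 : form e1 (S.act g⁻¹ d) = false := by rw [← S.act_form g hg, h1, S.act_act_inv hg, hd1]
  have k2 : form e2 (S.act g⁻¹ d) = false := by rw [← S.act_form g hg, h2, S.act_act_inv hg, hd2]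
  obtain ⟨k, hk, h3, h4⟩ := S.exists_move (fun v => form e1 v = false ∧ form e2 v = false)
    (fun v w hv hw => by rw [form_add_right, form_add_right, hv.1, hv.2, hw.1, hw.2]; exact ⟨rfl, rfl⟩)
    (x := e3) (a := S.act g⁻¹ d) (by decide) ⟨k1, k2⟩ fun h3 =>
      dec3 _ k1 k2 (fun h0 => hd3 (S.act_eq_zero hgi h0))
        (fun h0 => hd4 (by rw [← h1, ← h0, S.act_act_inv hg]))
        (fun h0 => hd5 (by rw [← h2, ← h0, S.act_act_inv hg]))
        (fun h0 => hd6 (by rw [← h1, ← h2, ← S.act_add g hg, ← h0, S.act_act_inv hg])) h3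
  refine ⟨g * k, S.L.mul_mem hg hk, ?_, ?_, ?_⟩
  · rw [S.act_mul _ hg _ hk, h4 e1 (fun v hv => hv.1), h1]
  · rw [S.act_mul _ hg _ hk, h4 e2 (fun v hv => hv.2), h2]
  · rw [S.act_mul _ hg _ hk, h3, S.act_act_inv hg]

end Six

end Cfsg.Agent.StdSpSix.PatTwo
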