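import Cfsg.Agent.StdSpSix.PatTwoFacts

/-!
Transitivity of `Sp_6(2)` on triples of short root involutions generating a
short-root-pure elementary abelian subgroup of order eight.
-/

set_option autoImplicit false

namespace Cfsg.Agent.StdSpSix.PatTwo

open V

namespace Six

variable {G : Type*} [Group G] (S : Six G)

theorem IsA2.ne_one {g : G} (h : S.IsA2 g) : g ≠ 1 := by
  obtain ⟨a, c, h1, rfl⟩ := h
  intro h0
  have key : ∀ x, zf a c x = x := fun x => by rw [← S.act_Z h1.1, h0, S.act_one]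
  have : ∃ x, V.form x a = false ∧ V.form x c = true := by
    by_contra hn
    have h2 : ∀ x, V.form x c = true → V.form x a = true := by
      intro x hx
      cases h3 : V.form x a
      · exact absurd ⟨x, h3, hx⟩ hn
      · rfl
    obtain ⟨y, hy⟩ := exists_form' c h1.2.2.1
    have h5 : a = c := by
      by_contra hac
      obtain ⟨v, hv⟩ := exists_form' (a + c) fun h0 => hac (eq_of_add h0)
      rw [form_add_right] at hv
      cases h6 : V.form v c
      · rw [h6, Bool.xor_false] at hv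
        have h7 := h2 (v + y) (by rw [form_add_left, h6, hy]; rfl)
        rw [form_add_left, hv, h2 y hy] at h7
        cases h7
      · rw [h6, h2 v h6] at hv
        cases hv
    exact h1.2.2.2 h5
  obtain ⟨x, hx1, hx2⟩ := this
  have h3 := key x
  unfold zf at h3
  rw [hx1, hx2, sm_true, sm_false, add_zero] at h3
  have h4 : a = 0 := by
    have := congrArg (fun z => x + z) h3
    simpa only [aab, aa] using this
  exact h1.2.1 h4

theorem IsA2.sq {g : G} (h : S.IsA2 g) : g * g = 1 := by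
  obtain ⟨a, c, h1, rfl⟩ := h
  exact S.Z_sq h1.1

/-- The three points of a line. -/
def pts (a c : V) : List V := [a, c, a + c]

theorem mem_pts {a c x : V} : x ∈ pts a c ↔ x = a ∨ x = c ∨ x = a + c := by
  unfold pts
  simp

theorem Z_line {a c p q : V} (h : Line a c) (hp : p ∈ pts a c) (hq : q ∈ pts a c) (hpq : p ≠ q) :
    S.Z p q = S.Z a c := by
  have h1 := h.1
  have h1' : V.form c a = false := by rw [form_comm, h1]
  have h2 : V.form a (a + c) = false := by rw [form_add_right, form_self, h1]; rfl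
  have h3 : V.form c (a + c) = false := by rw [form_add_right, form_self, h1']; rfl
  rw [mem_pts] at hp hq
  rcases hp with rfl | rfl | rfl <;> rcases hq with rfl | rfl | rfl
  · exact absurd rfl hpq
  · rfl
  · exact S.Z_add_right h1
  · exact S.Z_comm' h1'
  · exact absurd rfl hpq
  · rw [add_comm, S.Z_add_right h1', S.Z_comm' h1']
  · rw [← S.Z_comm' h2, S.Z_add_right h1]
  · rw [← S.Z_comm' h3, add_comm, S.Z_add_right h1', S.Z_comm' h1']
  · exact absurd rfl hpq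

instance (a c d : V) : Decidable (Plane a c d) := by unfold Plane; infer_instance

/-- Test vectors for the first product. -/
def tst1 (a c : V) : Prop :=
  form (V.mk 8 (by decide)) (zf e1 e2 (zf a c (V.mk 8 (by decide)))) = false ∧
  form (V.mk 16 (by decide)) (zf e1 e2 (zf a c (V.mk 16 (by decide)))) = false ∧
  form (V.mk 25 (by decide)) (zf e1 e2 (zf a c (V.mk 25 (by decide)))) = false ∧
  form (V.mk 12 (by decide)) (zf e1 e2 (zf a c (V.mk 12 (by decide)))) = false ∧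
  form (V.mk 48 (by decide)) (zf e1 e2 (zf a c (V.mk 48 (by decide)))) = false ∧
  form (V.mk 60 (by decide)) (zf e1 e2 (zf a c (V.mk 60 (by decide)))) = false

instance (a c : V) : Decidable (tst1 a c) := by unfold tst1; infer_instance

theorem dec_meet : ∀ a c : V, Line a c → tst1 a c →
    (a ∈ pts e1 e2 ∧ c ∈ pts e1 e2) ∨
    ∃ p ∈ pts e1 e2, ∃ p' ∈ pts e1 e2, ∃ q ∈ pts a c, p ∈ pts a c ∧ Plane p p' q := by
  decide +kernel

/-- Test vectors for the third element. -/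
def tst2 (a c : V) : Prop :=
  form (V.mk 8 (by decide)) (zf e1 e2 (zf a c (V.mk 8 (by decide)))) = false ∧
  form (V.mk 9 (by decide)) (zf e1 e3 (zf a c (V.mk 9 (by decide)))) = false ∧
  form (V.mk 56 (by decide)) (zf e1 e2 (zf e1 e3 (zf a c (V.mk 56 (by decide))))) = false ∧
  form (V.mk 16 (by decide)) (zf e1 e2 (zf a c (V.mk 16 (by decide)))) = false ∧
  form (V.mk 40 (by decide)) (zf e1 e3 (zf a c (V.mk 40 (by decide)))) = false ∧
  form (V.mk 22 (by decide)) (zf e1 e2 (zf a c (V.mk 22 (by decide)))) = false ∧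
  form (V.mk 12 (by decide)) (zf e1 e2 (zf a c (V.mk 12 (by decide)))) = false

instance (a c : V) : Decidable (tst2 a c) := by unfold tst2; infer_instance

theorem dec_third : ∀ a c : V, Line a c → tst2 a c →
    (a ∈ pts e1 e2 ∧ c ∈ pts e1 e2) ∨ (a ∈ pts e1 e3 ∧ c ∈ pts e1 e3) ∨
    (a ∈ pts e1 (e2 + e3) ∧ c ∈ pts e1 (e2 + e3)) ∨
    ∃ r ∈ [e2, e1 + e2], ∃ s ∈ [e3, e1 + e3], r ∈ pts a c ∧ s ∈ pts a c ∧ r ≠ s ∧
      Plane e1 r s := by
  decide +kernel

theorem IsA2.mul_form {a c p q : V} (h0 : Line p q) (h : Line a c) (h1 : S.IsA2 (S.Z p q * S.Z a c))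
    (x : V) : V.form x (zf p q (zf a c x)) = false := by
  rw [← S.act_Z h.1, ← S.act_Z h0.1, ← S.act_mul _ (S.Z_mem _ _) _ (S.Z_mem _ _)]
  exact h1.form S x

theorem line12 : Line e1 e2 := by decide
theorem line13 : Line e1 e3 := by decide
theorem line23 : Line e2 e3 := by decide

theorem Line.symm {a c : V} (h : Line a c) : Line c a :=
  ⟨by rw [form_comm, h.1], h.2.2.1, h.2.1, h.2.2.2.symm⟩

theorem conj_mul' (g a c : G) : g * (a * c) * g⁻¹ = (g * a * g⁻¹) * (g * c * g⁻¹) := by group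

/-- Two short root involutions whose product is one. -/
theorem pair {y1 y2 : G} (h1 : S.IsA2 y1) (h2 : S.IsA2 y2) (h12 : S.IsA2 (y1 * y2)) :
    ∃ k ∈ S.L, k * S.Z e1 e2 * k⁻¹ = y1 ∧ k * S.Z e1 e3 * k⁻¹ = y2 := by
  obtain ⟨a0, c0, hl, rfl⟩ := h1
  obtain ⟨g, hg, hga, hgc⟩ := S.witt2 hl
  have hgi := S.L.inv_mem hg
  have e0 : g⁻¹ * S.Z a0 c0 * g = S.Z e1 e2 := by
    rw [← hga, ← hgc, ← S.conj_Z hg]; group
  -- move `y2`
  have h2' := h2.conj S hgi
  rw [inv_inv] at h2'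
  have h12' := h12.conj S hgi
  rw [inv_inv] at h12'
  have e1' : g⁻¹ * (S.Z a0 c0 * y2) * g = S.Z e1 e2 * (g⁻¹ * y2 * g) := by
    rw [← e0]; group
  rw [e1'] at h12'
  obtain ⟨a, c, hac, hy⟩ := h2'
  rw [hy] at h12'
  have ht := h12'.mul_form S line12 hac
  rcases dec_meet a c hac ⟨ht _, ht _, ht _, ht _, ht _, ht _⟩ with ⟨ha, hc⟩ | ⟨p, hp, p', hp', q, hq, hpq, hpl⟩
  · exfalso
    rw [S.Z_line line12 ha hc hac.2.2.2, S.Z_sq line12.1] at h12'
    exact h12'.ne_one S rfl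
  · obtain ⟨k, hk, hk1, hk2, hk3⟩ := S.witt3 hpl
    refine ⟨g * k, S.L.mul_mem hg hk, ?_, ?_⟩
    · have : g * k * S.Z e1 e2 * (g * k)⁻¹ = g * (k * S.Z e1 e2 * k⁻¹) * g⁻¹ := by group
      rw [this, S.conj_Z hk, hk1, hk2, S.Z_line line12 hp hp' hpl.1.2.2.2, S.conj_Z hg, hga, hgc]
    · have : g * k * S.Z e1 e3 * (g * k)⁻¹ = g * (k * S.Z e1 e3 * k⁻¹) * g⁻¹ := by group
      rw [this, S.conj_Z hk, hk1, hk3, S.Z_line hac hpq hq (Ne.symm hpl.2.2.2.2.1), ← hy]
      group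

/-- Triples generating a pure subgroup of order eight are conjugate to the standard one. -/
theorem triple {y1 y2 y3 : G} (h1 : S.IsA2 y1) (h2 : S.IsA2 y2) (h3 : S.IsA2 y3)
    (h12 : S.IsA2 (y1 * y2)) (h13 : S.IsA2 (y1 * y3)) (h23 : S.IsA2 (y2 * y3))
    (h123 : S.IsA2 (y1 * (y2 * y3))) :
    ∃ k ∈ S.L, k * S.Z e1 e2 * k⁻¹ = y1 ∧ k * S.Z e1 e3 * k⁻¹ = y2 ∧ k * S.Z e2 e3 * k⁻¹ = y3 := by
  obtain ⟨g, hg, hg1, hg2⟩ := S.pair h1 h2 h12
  have hgi := S.L.inv_mem hg
  subst hg1 hg2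
  have h3' := h3.conj S hgi
  have h13' := h13.conj S hgi
  have h23' := h23.conj S hgi
  have h123' := h123.conj S hgi
  rw [inv_inv] at h3' h13' h23' h123'
  obtain ⟨a, c, hac, hy⟩ := h3'
  have q13 : g⁻¹ * (g * S.Z e1 e2 * g⁻¹ * y3) * g = S.Z e1 e2 * (g⁻¹ * y3 * g) := by group
  have q23 : g⁻¹ * (g * S.Z e1 e3 * g⁻¹ * y3) * g = S.Z e1 e3 * (g⁻¹ * y3 * g) := by group
  have q123 : g⁻¹ * (g * S.Z e1 e2 * g⁻¹ * (g * S.Z e1 e3 * g⁻¹ * y3)) * g =
      S.Z e1 e2 * (S.Z e1 e3 * (g⁻¹ * y3 * g)) := by group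
  rw [q13, hy] at h13'
  rw [q23, hy] at h23'
  rw [q123, hy] at h123'
  have t13 := h13'.mul_form S line12 hac
  have t23 := h23'.mul_form S line13 hac
  have t123 : ∀ x, V.form x (zf e1 e2 (zf e1 e3 (zf a c x))) = false := by
    intro x
    have := h123'.form S x
    rw [S.act_mul _ (S.Z_mem _ _) _ (S.L.mul_mem (S.Z_mem _ _) (S.Z_mem _ _)),
      S.act_mul _ (S.Z_mem _ _) _ (S.Z_mem _ _), S.act_Z hac.1, S.act_Z line13.1,
      S.act_Z line12.1] at this
    exact this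
  rcases dec_third a c hac ⟨t13 _, t23 _, t123 _, t13 _, t23 _, t13 _, t13 _⟩ with
    ⟨ha, hc⟩ | ⟨ha, hc⟩ | ⟨ha, hc⟩ | ⟨r, hr, s, hs, hra, hsa, hrs, hpl⟩
  · exfalso
    rw [S.Z_line line12 ha hc hac.2.2.2, S.Z_sq line12.1] at h13'
    exact h13'.ne_one S rfl
  · exfalso
    rw [S.Z_line line13 ha hc hac.2.2.2, S.Z_sq line13.1] at h23'
    exact h23'.ne_one S rfl
  · exfalso
    have l1 : Line e1 (e2 + e3) := by decide
    rw [S.Z_line l1 ha hc hac.2.2.2, ← mul_assoc, S.Y_mul (by decide) (by decide)] at h123'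
    have : V.form e2 e3 = false := by decide
    rw [this, pw_false, mul_one, S.Z_sq l1.1] at h123'
    exact h123'.ne_one S rfl
  · obtain ⟨k, hk, hk1, hk2, hk3⟩ := S.witt3 (a := e1) (c := r) (d := s) hpl
    have hr' : r ∈ pts e1 e2 := by
      rw [mem_pts]
      simp only [List.mem_cons, List.not_mem_nil, or_false] at hr
      rcases hr with h | h
      · exact Or.inr (Or.inl h)
      · exact Or.inr (Or.inr h)
    have hs' : s ∈ pts e1 e3 := by
      rw [mem_pts]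
      simp only [List.mem_cons, List.not_mem_nil, or_false] at hs
      rcases hs with h | h
      · exact Or.inr (Or.inl h)
      · exact Or.inr (Or.inr h)
    have he2 : e1 ∈ pts e1 e2 := by decide
    have he3 : e1 ∈ pts e1 e3 := by decide
    refine ⟨g * k, S.L.mul_mem hg hk, ?_, ?_, ?_⟩
    · have : g * k * S.Z e1 e2 * (g * k)⁻¹ = g * (k * S.Z e1 e2 * k⁻¹) * g⁻¹ := by group
      rw [this, S.conj_Z hk, hk1, hk2, S.Z_line line12 he2 hr' hpl.1.2.2.2]
    · have : g * k * S.Z e1 e3 * (g * k)⁻¹ = g * (k * S.Z e1 e3 * k⁻¹) * g⁻¹ := by group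
      rw [this, S.conj_Z hk, hk1, hk3, S.Z_line line13 he3 hs' (Ne.symm hpl.2.2.2.2.1)]
    · have : g * k * S.Z e2 e3 * (g * k)⁻¹ = g * (k * S.Z e2 e3 * k⁻¹) * g⁻¹ := by group
      rw [this, S.conj_Z hk, hk2, hk3, S.Z_line hac hra hsa hrs, ← hy]
      group

end Six

end Cfsg.Agent.StdSpSix.PatTwo
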