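import Cfsg.Agent.StdSpSix.PatTwoTriple

/-!
Pattern `{a2}`: elements moving `t` to `t z`, `z` in the pure subgroup `Λ² W`, and
centralising `Λ² W`; they centralise the whole radical `Sym² W`.
-/

set_option autoImplicit false

namespace Cfsg.Agent.StdSpSix.PatTwo

open V

/-- `C_G(t) = ⟨t⟩ × L`, and the conjugates of `t` in it are `t` and the `t z`, `z` a short root
involution of `L`. -/
structure Std (G : Type*) [Group G] extends Six G where
  t : G
  tt : t * t = 1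
  tL : t ∉ L
  cent : ∀ g, Commute g t → g ∈ L ∨ t * g ∈ L
  comm : ∀ g ∈ L, Commute g t
  D1 : ∀ a c, Six.Line a c → ∃ g, g * t * g⁻¹ = t * toSix.Z a c
  D2 : ∀ g, Commute (g * t * g⁻¹) t → g * t * g⁻¹ = t ∨ ∃ z, toSix.IsA2 z ∧ g * t * g⁻¹ = t * z

namespace Std

open Six

variable {G : Type*} [Group G] (S : Std G)

theorem t_inv : S.t⁻¹ = S.t := inv_eq_of_mul_eq_one_right S.tt

theorem cent' {g : G} (h : Commute g S.t) : ∃ c, ∃ a ∈ S.L, g = pw c S.t * a := by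
  rcases S.cent g h with h | h
  · exact ⟨false, g, h, by rw [pw_false, one_mul]⟩
  · exact ⟨true, S.t * g, h, by rw [pw_true, ← mul_assoc, S.tt, one_mul]⟩

/-! ### The pure subgroup -/

/-- Plücker coordinates. -/
def pl12 (i j : Fin 8) : Bool := (i.val.testBit 0 && j.val.testBit 1) ^^ (i.val.testBit 1 && j.val.testBit 0)
def pl13 (i j : Fin 8) : Bool := (i.val.testBit 0 && j.val.testBit 2) ^^ (i.val.testBit 2 && j.val.testBit 0)
def pl23 (i j : Fin 8) : Bool := (i.val.testBit 1 && j.val.testBit 2) ^^ (i.val.testBit 2 && j.val.testBit 1)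

/-- The element of the pure subgroup with given coordinates. -/
def zw (c1 c2 c3 : Bool) : G :=
  pw c1 (S.Z e1 e2) * (pw c2 (S.Z e1 e3) * pw c3 (S.Z e2 e3))

theorem form_wv : ∀ i j : Fin 8, form (wv i) (wv j) = false := by decide +kernel

theorem dec_pl : ∀ i j : Fin 8, ∀ x ∈ [e1, e2, e3, f1, f2, f3],
    zf (wv i) (wv j) x = (bif pl12 i j then zf e1 e2 else id)
      ((bif pl13 i j then zf e1 e3 else id) ((bif pl23 i j then zf e2 e3 else id) x)) := by
  decide +kernel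

theorem Z_wv (i j : Fin 8) : S.Z (wv i) (wv j) = S.zw (pl12 i j) (pl13 i j) (pl23 i j) := by
  have m1 := pw_mem (S.Z_mem e1 e2) (pl12 i j)
  have m2 := pw_mem (S.Z_mem e1 e3) (pl13 i j)
  have m3 := pw_mem (S.Z_mem e2 e3) (pl23 i j)
  have key : ∀ x ∈ [e1, e2, e3, f1, f2, f3],
      S.act (S.Z (wv i) (wv j)) x = S.act (S.zw (pl12 i j) (pl13 i j) (pl23 i j)) x := by
    intro x hx
    rw [S.act_Z (form_wv i j), dec_pl i j x hx]
    unfold zw
    rw [S.act_mul _ m1 _ (S.L.mul_mem m2 m3), S.act_mul _ m2 _ m3, S.act_pw, S.act_pw, S.act_pw,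
      S.act_Z (by decide), S.act_Z (by decide), S.act_Z (by decide)]
    cases pl12 i j <;> cases pl13 i j <;> cases pl23 i j <;> rfl
  refine S.ext_basis (S.Z_mem _ _) (S.L.mul_mem m1 (S.L.mul_mem m2 m3)) (key _ ?_) (key _ ?_)
    (key _ ?_) (key _ ?_) (key _ ?_) (key _ ?_) <;> simp

/-- `x` centralises the pure subgroup. -/
structure CZ (x : G) : Prop where
  h1 : Commute x (S.Z e1 e2)
  h2 : Commute x (S.Z e1 e3)
  h3 : Commute x (S.Z e2 e3)

theorem commute_pw {x g : G} (h : Commute x g) (c : Bool) : Commute x (pw c g) := by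
  cases c
  · exact Commute.one_right x
  · exact h

theorem CZ.zw {x : G} (h : S.CZ x) (c1 c2 c3 : Bool) : Commute x (S.zw c1 c2 c3) :=
  (commute_pw h.h1 _).mul_right ((commute_pw h.h2 _).mul_right (commute_pw h.h3 _))

theorem CZ.all {x : G} (h : S.CZ x) (i j : Fin 8) : Commute x (S.Z (wv i) (wv j)) := by
  rw [S.Z_wv]
  exact h.zw S _ _ _

theorem CZ.mul {x y : G} (hx : S.CZ x) (hy : S.CZ y) : S.CZ (x * y) :=
  ⟨hx.h1.mul_left hy.h1, hx.h2.mul_left hy.h2, hx.h3.mul_left hy.h3⟩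

theorem CZ.inv {x : G} (hx : S.CZ x) : S.CZ x⁻¹ :=
  ⟨hx.h1.inv_left, hx.h2.inv_left, hx.h3.inv_left⟩

theorem CZ_t : S.CZ S.t :=
  ⟨(S.comm _ (S.Z_mem _ _)).symm, (S.comm _ (S.Z_mem _ _)).symm, (S.comm _ (S.Z_mem _ _)).symm⟩

theorem CZ.aw {g : G} (h : S.CZ g) (hg : g ∈ S.L) : S.IsAW g :=
  S.isAW_of_comm hg h.h1.eq h.h2.eq h.h3.eq

theorem aw_of {g : G} (h : S.CZ g) (ht : Commute g S.t) : ∃ c, ∃ a, S.IsAW a ∧ g = pw c S.t * a := by
  obtain ⟨c, a, ha, rfl⟩ := S.cent' ht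
  refine ⟨c, a, ?_, rfl⟩
  have h1 : S.CZ (pw c S.t) := by
    cases c
    · exact ⟨Commute.one_left _, Commute.one_left _, Commute.one_left _⟩
    · exact S.CZ_t
  have h2 := (h1.inv S).mul S h
  rw [inv_mul_cancel_left] at h2
  exact h2.aw S ha

theorem CZ_T (i : Fin 8) : S.CZ (S.T (wv i)) := by
  have h : ∀ j k : Fin 8, Commute (S.T (wv i)) (S.Z (wv j) (wv k)) := fun j k =>
    S.T_comm_Z (form_wv i j) (form_wv i k)
  have w1 : e1 = wv 1 := by decide
  have w2 : e2 = wv 2 := by decide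
  have w3 : e3 = wv 4 := by decide
  refine ⟨?_, ?_, ?_⟩
  · rw [w1, w2]; exact h _ _
  · rw [w1, w3]; exact h _ _
  · rw [w2, w3]; exact h _ _

/-- Elements of `L` stabilising the plane. -/
structure StW (k : G) : Prop where
  mem : k ∈ S.L
  h : ∀ i : Fin 8, ∃ j : Fin 8, S.act k (wv i) = wv j

theorem wv_injective : Function.Injective wv := by
  intro i j
  revert i j
  decide +kernel

theorem StW.inv {k : G} (hk : S.StW k) : S.StW k⁻¹ := by
  refine ⟨S.L.inv_mem hk.mem, ?_⟩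
  choose φ hφ using hk.h
  have hinj : Function.Injective φ := by
    intro i j hij
    apply wv_injective
    apply S.act_injective hk.mem
    rw [hφ, hφ, hij]
  have hsurj := Finite.injective_iff_surjective.1 hinj
  intro i
  obtain ⟨j, rfl⟩ := hsurj i
  exact ⟨j, by rw [← hφ, S.act_inv_act hk.mem]⟩

theorem StW.conj_CZ {k : G} (hk : S.StW k) {x : G} (hx : S.CZ x) : S.CZ (k * x * k⁻¹) := by
  have key : ∀ i j : Fin 8, Commute (k * x * k⁻¹) (S.Z (wv i) (wv j)) := by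
    intro i j
    obtain ⟨i', hi⟩ := (hk.inv S).h i
    obtain ⟨j', hj⟩ := (hk.inv S).h j
    have h1 : S.Z (wv i) (wv j) = k * S.Z (wv i') (wv j') * k⁻¹ := by
      rw [S.conj_Z hk.mem, ← hi, ← hj, S.act_act_inv hk.mem, S.act_act_inv hk.mem]
    rw [h1]
    have h2 := hx.all S i' j'
    have : k * x * k⁻¹ * (k * S.Z (wv i') (wv j') * k⁻¹) = k * (x * S.Z (wv i') (wv j')) * k⁻¹ := by
      group
    unfold Commute SemiconjBy
    rw [this, h2.eq]
    group
  have w1 : e1 = wv 1 := by decide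
  have w2 : e2 = wv 2 := by decide
  have w3 : e3 = wv 4 := by decide
  refine ⟨?_, ?_, ?_⟩
  · rw [w1, w2]; exact key _ _
  · rw [w1, w3]; exact key _ _
  · rw [w2, w3]; exact key _ _

/-- Elements centralising the pure subgroup and moving `t` to `t z`. -/
structure XW (z x : G) : Prop where
  cz : S.CZ x
  ht : x * S.t * x⁻¹ = S.t * z

theorem dec_line : ∀ c1 c2 c3 : Bool, (c1 = false ∧ c2 = false ∧ c3 = false) ∨
    ∃ i j : Fin 8, Line (wv i) (wv j) ∧ pl12 i j = c1 ∧ pl13 i j = c2 ∧ pl23 i j = c3 := by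
  decide +kernel

theorem zw_zero : S.zw false false false = 1 := by
  unfold zw
  simp only [pw_false, mul_one]

theorem zw_line (c1 c2 c3 : Bool) : S.zw c1 c2 c3 = 1 ∨
    ∃ i j : Fin 8, Line (wv i) (wv j) ∧ S.zw c1 c2 c3 = S.Z (wv i) (wv j) := by
  rcases dec_line c1 c2 c3 with ⟨rfl, rfl, rfl⟩ | ⟨i, j, h, rfl, rfl, rfl⟩
  · exact Or.inl S.zw_zero
  · exact Or.inr ⟨i, j, h, (S.Z_wv i j).symm⟩

theorem zw_D (c1 c2 c3 : Bool) : ∃ h, h * S.t * h⁻¹ = S.t * S.zw c1 c2 c3 := by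
  rcases S.zw_line c1 c2 c3 with h | ⟨i, j, h, h1⟩
  · exact ⟨1, by rw [h]; group⟩
  · rw [h1]
    exact S.D1 _ _ h

theorem Z12_comm13 : Commute (S.Z e1 e2) (S.Z e1 e3) := S.Y_comm (by decide) (by decide)

theorem CZ_Z (i j : Fin 8) : S.CZ (S.Z (wv i) (wv j)) := by
  unfold Six.Z
  exact (((S.CZ_T i).mul S (S.CZ_T j)).mul S (by
    have : ∃ k, wv i + wv j = wv k := by
      revert i j
      decide +kernel
    obtain ⟨k, hk⟩ := this
    rw [hk]
    exact S.CZ_T k))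

theorem CZ_12 : S.CZ (S.Z e1 e2) := by
  have w1 : e1 = wv 1 := by decide
  have w2 : e2 = wv 2 := by decide
  rw [w1, w2]
  exact S.CZ_Z _ _

theorem CZ_13 : S.CZ (S.Z e1 e3) := by
  have w1 : e1 = wv 1 := by decide
  have w2 : e3 = wv 4 := by decide
  rw [w1, w2]
  exact S.CZ_Z _ _

theorem CZ_23 : S.CZ (S.Z e2 e3) := by
  have w1 : e2 = wv 2 := by decide
  have w2 : e3 = wv 4 := by decide
  rw [w1, w2]
  exact S.CZ_Z _ _

theorem Z12_mul (c1 c2 c3 : Bool) : S.Z e1 e2 * S.zw c1 c2 c3 = S.zw (!c1) c2 c3 := by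
  unfold zw
  cases c1
  · rw [pw_false, one_mul]; rfl
  · change S.Z e1 e2 * (S.Z e1 e2 * _) = 1 * _
    rw [← mul_assoc, S.Z_sq line12.1]

theorem exists_x12 : ∃ x, S.XW (S.Z e1 e2) x := by
  obtain ⟨g, hg⟩ := S.D1 e1 e2 (by decide)
  -- conjugates of elements of the pure subgroup
  have conj2 : ∀ y, Commute y (S.t * S.Z e1 e2) → (∃ h, h * S.t * h⁻¹ = S.t * S.Z e1 e2 * y) →
      y ≠ 1 → S.IsA2 (g⁻¹ * y * g) := by
    intro y hy ⟨h, hh⟩ hy1
    have e : (g⁻¹ * h) * S.t * (g⁻¹ * h)⁻¹ = S.t * (g⁻¹ * y * g) := by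
      have : (g⁻¹ * h) * S.t * (g⁻¹ * h)⁻¹ = g⁻¹ * (h * S.t * h⁻¹) * g := by group
      rw [this, hh, ← hg]
      group
    have hc : Commute ((g⁻¹ * h) * S.t * (g⁻¹ * h)⁻¹) S.t := by
      rw [e]
      have h2 : Commute (g⁻¹ * y * g) S.t := by
        rw [← hg] at hy
        unfold Commute SemiconjBy at hy ⊢
        calc g⁻¹ * y * g * S.t = g⁻¹ * (y * (g * S.t * g⁻¹)) * g := by group
          _ = g⁻¹ * (g * S.t * g⁻¹ * y) * g := by rw [hy]
          _ = S.t * (g⁻¹ * y * g) := by group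
      exact (Commute.refl S.t).mul_left h2
    rcases S.D2 _ hc with h3 | ⟨z, hz, h3⟩
    · exfalso
      rw [e] at h3
      have h4 : g⁻¹ * y * g = 1 := mul_left_cancel (h3.trans (mul_one S.t).symm)
      apply hy1
      calc y = g * (g⁻¹ * y * g) * g⁻¹ := by group
        _ = 1 := by rw [h4]; group
    · rw [e] at h3
      have h4 := mul_left_cancel h3
      rw [h4]
      exact hz
  have conj3 : ∀ c1 c2 c3 : Bool, S.zw c1 c2 c3 ≠ 1 → S.IsA2 (g⁻¹ * S.zw c1 c2 c3 * g) := by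
    intro c1 c2 c3 h
    refine conj2 _ (((S.CZ_t.mul S S.CZ_12).zw S c1 c2 c3).symm) ?_ h
    rw [mul_assoc, S.Z12_mul]
    exact S.zw_D _ _ _
  have n1 := (show S.IsA2 (S.Z e1 e2) from ⟨_, _, line12, rfl⟩)
  have n2 := (show S.IsA2 (S.Z e1 e3) from ⟨_, _, line13, rfl⟩)
  have n3 := (show S.IsA2 (S.Z e2 e3) from ⟨_, _, line23, rfl⟩)
  have hne : ∀ i j : Fin 8, Line (wv i) (wv j) → S.zw (pl12 i j) (pl13 i j) (pl23 i j) ≠ 1 := by
    intro i j hl
    rw [← S.Z_wv]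
    exact (show S.IsA2 (S.Z (wv i) (wv j)) from ⟨_, _, hl, rfl⟩).ne_one S.toSix
  have r1 : S.zw true false false = S.Z e1 e2 := by
    change S.Z e1 e2 * (1 * 1) = _
    rw [mul_one, mul_one]
  have r2 : S.zw false true false = S.Z e1 e3 := by
    change 1 * (S.Z e1 e3 * 1) = _
    rw [mul_one, one_mul]
  have r3 : S.zw false false true = S.Z e2 e3 := by
    change 1 * (1 * S.Z e2 e3) = _
    rw [one_mul, one_mul]
  have r4 : S.zw true true false = S.Z e1 e2 * S.Z e1 e3 := by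
    change S.Z e1 e2 * (S.Z e1 e3 * 1) = _
    rw [mul_one]
  have r5 : S.zw true false true = S.Z e1 e2 * S.Z e2 e3 := by
    change S.Z e1 e2 * (1 * S.Z e2 e3) = _
    rw [one_mul]
  have r6 : S.zw false true true = S.Z e1 e3 * S.Z e2 e3 := by
    change 1 * (S.Z e1 e3 * S.Z e2 e3) = _
    rw [one_mul]
  have r7 : S.zw true true true = S.Z e1 e2 * (S.Z e1 e3 * S.Z e2 e3) := rfl
  have a1 := conj3 true false false (hne 1 2 (by decide))
  have a2 := conj3 false true false (hne 1 4 (by decide))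
  have a3 := conj3 false false true (hne 2 4 (by decide))
  have a4 := conj3 true true false (hne 1 6 (by decide))
  have a5 := conj3 true false true (hne 2 5 (by decide))
  have a6 := conj3 false true true (hne 3 4 (by decide))
  have a7 := conj3 true true true (hne 3 5 (by decide))
  rw [r1] at a1
  rw [r2] at a2
  rw [r3] at a3
  rw [r4] at a4
  rw [r5] at a5
  rw [r6] at a6
  rw [r7] at a7
  have s4 : g⁻¹ * (S.Z e1 e2 * S.Z e1 e3) * g = (g⁻¹ * S.Z e1 e2 * g) * (g⁻¹ * S.Z e1 e3 * g) := by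
    group
  have s5 : g⁻¹ * (S.Z e1 e2 * S.Z e2 e3) * g = (g⁻¹ * S.Z e1 e2 * g) * (g⁻¹ * S.Z e2 e3 * g) := by
    group
  have s6 : g⁻¹ * (S.Z e1 e3 * S.Z e2 e3) * g = (g⁻¹ * S.Z e1 e3 * g) * (g⁻¹ * S.Z e2 e3 * g) := by
    group
  have s7 : g⁻¹ * (S.Z e1 e2 * (S.Z e1 e3 * S.Z e2 e3)) * g =
      (g⁻¹ * S.Z e1 e2 * g) * ((g⁻¹ * S.Z e1 e3 * g) * (g⁻¹ * S.Z e2 e3 * g)) := by
    group
  rw [s4] at a4
  rw [s5] at a5
  rw [s6] at a6
  rw [s7] at a7
  obtain ⟨k, hk, k1, k2, k3⟩ := S.triple a1 a2 a3 a4 a5 a6 a7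
  have hx : ∀ y, k * y * k⁻¹ = g⁻¹ * y * g → Commute (g * k) y := by
    intro y hy
    unfold Commute SemiconjBy
    calc g * k * y = g * (k * y * k⁻¹) * k := by group
      _ = y * (g * k) := by rw [hy]; group
  refine ⟨g * k, ⟨hx _ k1, hx _ k2, hx _ k3⟩, ?_⟩
  have : g * k * S.t * (g * k)⁻¹ = g * (k * S.t * k⁻¹) * g⁻¹ := by group
  rw [this, (S.comm k hk).eq, mul_inv_cancel_right, hg]

end Std

end Cfsg.Agent.StdSpSix.PatTwo
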