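import Mathlib

/-!
# Kernel checks on `3 × 3` matrices over the field with two elements (for `Sp₆(2)`, the subgroup `2⁶`)
-/

set_option autoImplicit false

namespace Cfsg.Agent.StdSpSix.QLevelModel

open Matrix

/-- `3 × 3` matrices. -/
abbrev M3 := Matrix (Fin 3) (Fin 3) (ZMod 2)

/-- the symmetric matrix -/
def sy (x : Fin 6 → ZMod 2) : M3 := !![x 0, x 3, x 4; x 3, x 1, x 5; x 4, x 5, x 2]

theorem sy_symm (x : Fin 6 → ZMod 2) : (sy x)ᵀ = sy x := by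
  ext i j
  fin_cases i <;> fin_cases j <;> rfl

theorem sy_add (x y : Fin 6 → ZMod 2) : sy (x + y) = sy x + sy y := by
  ext i j
  fin_cases i <;> fin_cases j <;> rfl

theorem sy_inj {x y : Fin 6 → ZMod 2} (h : sy x = sy y) : x = y := by
  funext i
  fin_cases i
  · exact congrFun (congrFun h 0) 0
  · exact congrFun (congrFun h 1) 1
  · exact congrFun (congrFun h 2) 2
  · exact congrFun (congrFun h 0) 1
  · exact congrFun (congrFun h 0) 2
  · exact congrFun (congrFun h 1) 2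

theorem exists_sy {S : M3} (h : Sᵀ = S) : ∃ x, S = sy x := by
  refine ⟨![S 0 0, S 1 1, S 2 2, S 0 1, S 0 2, S 1 2], ?_⟩
  have h' : ∀ i j, S j i = S i j := fun i j => congrFun (congrFun h i) j
  ext i j
  fin_cases i <;> fin_cases j
  · rfl
  · rfl
  · rfl
  · exact h' 0 1
  · rfl
  · rfl
  · exact h' 0 2
  · exact h' 1 2
  · rfl

set_option maxRecDepth 100000 in
theorem r1 : ∀ M : M3, M * M = 1 → M = 1 ∨ ∃ w φ : Fin 3 → ZMod 2, (w ≠ 0 ∧ φ ≠ 0 ∧ w ⬝ᵥ φ = 0) ∧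
    M = 1 + vecMulVec w φ := by decide +kernel

set_option maxRecDepth 100000 in
theorem r2 : ∀ w s : Fin 3 → ZMod 2, vecMulVec w s = vecMulVec s w → w = 0 ∨ s = 0 ∨ s = w := by decide +kernel

/-- a nontrivial involution of `GL₃(2)` -/
def Inv (w φ : Fin 3 → ZMod 2) : Prop := w ≠ 0 ∧ φ ≠ 0 ∧ w ⬝ᵥ φ = 0

instance (w φ : Fin 3 → ZMod 2) : Decidable (Inv w φ) := by unfold Inv; infer_instance

/-- commuting pairs -/
def Com (w φ w' φ' : Fin 3 → ZMod 2) : Prop := w ⬝ᵥ φ' = 0 ∧ w' ⬝ᵥ φ = 0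

instance (w φ w' φ' : Fin 3 → ZMod 2) : Decidable (Com w φ w' φ') := by unfold Com; infer_instance

set_option maxRecDepth 100000 in
theorem r3 : ∀ w φ : Fin 3 → ZMod 2, Inv w φ → ∀ w' φ' : Fin 3 → ZMod 2, Inv w' φ' →
    (1 + vecMulVec w φ) * (1 + vecMulVec w' φ') = (1 + vecMulVec w' φ') * (1 + vecMulVec w φ) →
    Com w φ w' φ' := by decide +kernel

set_option maxRecDepth 100000 in
theorem r4 : ∀ w φ : Fin 3 → ZMod 2, Inv w φ →
    (Finset.univ.filter fun x : Fin 6 → ZMod 2 => sy x *ᵥ φ = 0 ∨ sy x *ᵥ φ = w).card ≤ 16 := by decide +kernel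

/-- commuting and distinct -/
def ComD (w φ w' φ' : Fin 3 → ZMod 2) : Prop := Inv w' φ' ∧ (w ⬝ᵥ φ' = 0 ∧ w' ⬝ᵥ φ = 0) ∧ (w ≠ w' ∨ φ ≠ φ')

instance (w φ w' φ' : Fin 3 → ZMod 2) : Decidable (ComD w φ w' φ') := by unfold ComD; infer_instance

/-- the count of fixed symmetric matrices -/
def cnt (w φ w' φ' : Fin 3 → ZMod 2) : Prop :=
  (Finset.univ.filter fun x : Fin 6 → ZMod 2 => (sy x *ᵥ φ = 0 ∨ sy x *ᵥ φ = w) ∧
      (sy x *ᵥ φ' = 0 ∨ sy x *ᵥ φ' = w')).card ≤ 8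

instance (w φ w' φ' : Fin 3 → ZMod 2) : Decidable (cnt w φ w' φ') := by unfold cnt; infer_instance

set_option maxRecDepth 100000 in
theorem r5 : ∀ w φ : Fin 3 → ZMod 2, Inv w φ → ∀ w' φ' : Fin 3 → ZMod 2, ComD w φ w' φ' →
    cnt w φ w' φ' := by decide +kernel

/-- the third involution -/
def third (w φ w' φ' : Fin 3 → ZMod 2) : Prop :=
  ∀ u ψ : Fin 3 → ZMod 2, (Inv u ψ ∧ Com w φ u ψ ∧ Com w' φ' u ψ) →
    1 + vecMulVec u ψ = 1 + vecMulVec w φ ∨ 1 + vecMulVec u ψ = 1 + vecMulVec w' φ' ∨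
    1 + vecMulVec u ψ = (1 + vecMulVec w φ) * (1 + vecMulVec w' φ')

instance (w φ w' φ' : Fin 3 → ZMod 2) : Decidable (third w φ w' φ') := by unfold third; infer_instance

set_option maxRecDepth 100000 in
theorem r6 : ∀ w φ : Fin 3 → ZMod 2, Inv w φ → ∀ w' φ' : Fin 3 → ZMod 2, ComD w φ w' φ' →
    third w φ w' φ' := by decide +kernel

set_option maxRecDepth 100000 in
theorem r7 : ∀ M : M3, M * !![0,1,0;1,0,0;0,0,0] = !![0,1,0;1,0,0;0,0,0] * M →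
    M * !![1,0,0;0,0,0;0,0,0] = !![1,0,0;0,0,0;0,0,0] * M →
    M * !![0,0,0;0,0,1;0,1,0] = !![0,0,0;0,0,1;0,1,0] * M → M = 0 ∨ M = 1 := by decide +kernel

end Cfsg.Agent.StdSpSix.QLevelModel
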