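import Cfsg.Agent.StdSpSix.QLevel
import Cfsg.Agent.StdSpSix.QLevelCheck
import Cfsg.Agent.SporRec.TwoSp6.Sp
import Mathlib.LinearAlgebra.Matrix.GeneralLinearGroup.Card

/-!
# The facts about `Sp₆(2)` and its subgroup `A = 2⁶` used at the level `N_G(Q)`
-/

set_option autoImplicit false

namespace Cfsg.Agent.StdSpSix.QLevelModel

open Subgroup Matrix Cfsg.Agent.SporRec.TwoSp6

/-- `GL₃(2)`. -/
abbrev K3 := GL (Fin 3) (ZMod 2)

/-- The facts. -/
structure Facts {X : Type*} [Group X] (A : Subgroup X) : Prop where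
  sq : ∀ x ∈ A, x * x = 1
  card : Nat.card A = 64
  sat : ∀ B : Subgroup X, (∀ x ∈ B, x * x = 1) → 64 ≤ Nat.card B → ∃ l : X, ∀ x, x ∈ B ↔ l⁻¹ * x * l ∈ A
  CA : ∀ l, (∀ a ∈ A, l * a = a * l) → l ∈ A
  odd : Odd (normalizer (A : Set X)).index
  lift : ∀ n ∈ normalizer (A : Set X), n * n ∈ A → ∃ a ∈ A, (n * a) * (n * a) = 1
  quo : ∃ θ : normalizer (A : Set X) →* K3, Function.Surjective θ ∧ ∀ n, θ n = 1 ↔ (n : X) ∈ A

/-! ### blocks -/

/-- `6 × 6` matrices. -/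
abbrev M6 := Matrix (Fin 3 ⊕ Fin 3) (Fin 3 ⊕ Fin 3) (ZMod 2)

theorem mul11 (g h : M6) : (g * h).toBlocks₁₁ = g.toBlocks₁₁ * h.toBlocks₁₁ + g.toBlocks₁₂ * h.toBlocks₂₁ := by
  conv_lhs => rw [← fromBlocks_toBlocks g, ← fromBlocks_toBlocks h, fromBlocks_multiply]
  rw [toBlocks_fromBlocks₁₁]

theorem mul12 (g h : M6) : (g * h).toBlocks₁₂ = g.toBlocks₁₁ * h.toBlocks₁₂ + g.toBlocks₁₂ * h.toBlocks₂₂ := by
  conv_lhs => rw [← fromBlocks_toBlocks g, ← fromBlocks_toBlocks h, fromBlocks_multiply]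
  rw [toBlocks_fromBlocks₁₂]

theorem mul21 (g h : M6) : (g * h).toBlocks₂₁ = g.toBlocks₂₁ * h.toBlocks₁₁ + g.toBlocks₂₂ * h.toBlocks₂₁ := by
  conv_lhs => rw [← fromBlocks_toBlocks g, ← fromBlocks_toBlocks h, fromBlocks_multiply]
  rw [toBlocks_fromBlocks₂₁]

theorem mul22 (g h : M6) : (g * h).toBlocks₂₂ = g.toBlocks₂₁ * h.toBlocks₁₂ + g.toBlocks₂₂ * h.toBlocks₂₂ := by
  conv_lhs => rw [← fromBlocks_toBlocks g, ← fromBlocks_toBlocks h, fromBlocks_multiply]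
  rw [toBlocks_fromBlocks₂₂]

theorem one11 : (1 : M6).toBlocks₁₁ = 1 := by rw [← fromBlocks_one, toBlocks_fromBlocks₁₁]
theorem one12 : (1 : M6).toBlocks₁₂ = 0 := by rw [← fromBlocks_one, toBlocks_fromBlocks₁₂]
theorem one21 : (1 : M6).toBlocks₂₁ = 0 := by rw [← fromBlocks_one, toBlocks_fromBlocks₂₁]
theorem one22 : (1 : M6).toBlocks₂₂ = 1 := by rw [← fromBlocks_one, toBlocks_fromBlocks₂₂]

theorem ext_blocks {g h : M6} (h1 : g.toBlocks₁₁ = h.toBlocks₁₁) (h2 : g.toBlocks₁₂ = h.toBlocks₁₂)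
    (h3 : g.toBlocks₂₁ = h.toBlocks₂₁) (h4 : g.toBlocks₂₂ = h.toBlocks₂₂) : g = h := by
  rw [← fromBlocks_toBlocks g, ← fromBlocks_toBlocks h, h1, h2, h3, h4]

theorem symp (g : Sp.S) : (g : M6).toBlocks₁₁ᵀ * (g : M6).toBlocks₂₁ = (g : M6).toBlocks₂₁ᵀ * (g : M6).toBlocks₁₁ ∧
    (g : M6).toBlocks₁₂ᵀ * (g : M6).toBlocks₂₂ = (g : M6).toBlocks₂₂ᵀ * (g : M6).toBlocks₁₂ ∧
    (g : M6).toBlocks₁₁ᵀ * (g : M6).toBlocks₂₂ - (g : M6).toBlocks₂₁ᵀ * (g : M6).toBlocks₁₂ = 1 := by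
  have h := g.2
  rw [← fromBlocks_toBlocks (g : M6)] at h
  exact SymplecticGroup.fromBlocks_mem_iff.1 h

/-- the parabolic subgroup -/
def P0 : Subgroup Sp.S where
  carrier := {g | (g : M6).toBlocks₂₁ = 0}
  mul_mem' {g h} hg hh := by
    have hg' : (g : M6).toBlocks₂₁ = 0 := hg
    have hh' : (h : M6).toBlocks₂₁ = 0 := hh
    change ((g : M6) * (h : M6)).toBlocks₂₁ = 0
    rw [mul21, hg', hh', Matrix.zero_mul, Matrix.mul_zero, add_zero]
  one_mem' := one21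
  inv_mem' {g} hg := by
    have hg' : (g : M6).toBlocks₂₁ = 0 := hg
    have h1 : ((g⁻¹ : Sp.S) : M6) * (g : M6) = 1 := congrArg Subtype.val (inv_mul_cancel g)
    have h2 : ((g : Sp.S) : M6) * ((g⁻¹ : Sp.S) : M6) = 1 := congrArg Subtype.val (mul_inv_cancel g)
    have h3 : ((g⁻¹ : Sp.S) : M6).toBlocks₂₁ * (g : M6).toBlocks₁₁ = 0 := by
      have h4 := congrArg Matrix.toBlocks₂₁ h1
      rw [mul21, hg', Matrix.mul_zero, add_zero, one21] at h4
      exact h4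
    -- `g₁₁` is invertible
    have h5 := (symp g).2.2
    rw [hg', transpose_zero, Matrix.zero_mul, sub_zero] at h5
    have h6 : (g : M6).toBlocks₁₁ * (g : M6).toBlocks₂₂ᵀ = 1 := by
      have h7 := congrArg Matrix.transpose h5
      rw [transpose_mul, transpose_transpose, transpose_one] at h7
      exact mul_eq_one_comm.1 h7
    change ((g⁻¹ : Sp.S) : M6).toBlocks₂₁ = 0
    calc ((g⁻¹ : Sp.S) : M6).toBlocks₂₁ = ((g⁻¹ : Sp.S) : M6).toBlocks₂₁ * ((g : M6).toBlocks₁₁ * (g : M6).toBlocks₂₂ᵀ) := by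
          rw [h6, Matrix.mul_one]
      _ = 0 := by rw [← Matrix.mul_assoc, h3, Matrix.zero_mul]

theorem mem_P0 {g : Sp.S} : g ∈ P0 ↔ (g : M6).toBlocks₂₁ = 0 := Iff.rfl

/-- the diagonal block -/
def blk : P0 →* M3 where
  toFun g := ((g : Sp.S) : M6).toBlocks₁₁
  map_one' := one11
  map_mul' g h := by
    have hh : ((h : Sp.S) : M6).toBlocks₂₁ = 0 := h.2
    change (((g : Sp.S) : M6) * ((h : Sp.S) : M6)).toBlocks₁₁ = _
    rw [mul11, hh, Matrix.mul_zero, add_zero]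

/-- `A = 2⁶` -/
def A0 : Subgroup Sp.S := blk.ker.map P0.subtype

theorem mem_A0 {g : Sp.S} : g ∈ A0 ↔ (g : M6).toBlocks₂₁ = 0 ∧ (g : M6).toBlocks₁₁ = 1 := by
  constructor
  · rintro ⟨x, hx, rfl⟩
    exact ⟨x.2, hx⟩
  · rintro ⟨h1, h2⟩
    exact ⟨⟨g, h1⟩, h2, rfl⟩

theorem A0_le : A0 ≤ P0 := fun _ hg => (mem_A0.1 hg).1

theorem blk22 {g : Sp.S} (hg : g ∈ P0) : (g : M6).toBlocks₁₁ᵀ * (g : M6).toBlocks₂₂ = 1 := by
  have h5 := (symp g).2.2
  rw [mem_P0.1 hg, transpose_zero, Matrix.zero_mul, sub_zero] at h5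
  exact h5

theorem A0_22 {g : Sp.S} (hg : g ∈ A0) : (g : M6).toBlocks₂₂ = 1 := by
  have h := blk22 (A0_le hg)
  rwa [(mem_A0.1 hg).2, transpose_one, Matrix.one_mul] at h

theorem A0_12 {g : Sp.S} (hg : g ∈ A0) : (g : M6).toBlocks₁₂ᵀ = (g : M6).toBlocks₁₂ := by
  have h := (symp g).2.1
  rwa [A0_22 hg, Matrix.mul_one, transpose_one, Matrix.one_mul] at h

/-- the element of `A` with given symmetric matrix -/
def ua (x : Fin 6 → ZMod 2) : Sp.S :=
  ⟨fromBlocks 1 (sy x) 0 1, SymplecticGroup.fromBlocks_mem_iff.2 (by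
    rw [sy_symm]; simp)⟩

theorem ua11 (x : Fin 6 → ZMod 2) : (ua x : M6).toBlocks₁₁ = 1 := toBlocks_fromBlocks₁₁ _ _ _ _
theorem ua12 (x : Fin 6 → ZMod 2) : (ua x : M6).toBlocks₁₂ = sy x := toBlocks_fromBlocks₁₂ _ _ _ _
theorem ua21 (x : Fin 6 → ZMod 2) : (ua x : M6).toBlocks₂₁ = 0 := toBlocks_fromBlocks₂₁ _ _ _ _
theorem ua22 (x : Fin 6 → ZMod 2) : (ua x : M6).toBlocks₂₂ = 1 := toBlocks_fromBlocks₂₂ _ _ _ _

theorem ua_mem (x : Fin 6 → ZMod 2) : ua x ∈ A0 := mem_A0.2 ⟨ua21 x, ua11 x⟩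

theorem ua_inj {x y : Fin 6 → ZMod 2} (h : ua x = ua y) : x = y := by
  apply sy_inj
  rw [← ua12, ← ua12, h]

theorem exists_ua {g : Sp.S} (hg : g ∈ A0) : ∃ x, g = ua x := by
  obtain ⟨x, hx⟩ := exists_sy (A0_12 hg)
  refine ⟨x, Subtype.ext (ext_blocks ?_ ?_ ?_ ?_)⟩
  · rw [ua11]; exact (mem_A0.1 hg).2
  · rw [ua12]; exact hx
  · rw [ua21]; exact (mem_A0.1 hg).1
  · rw [ua22]; exact A0_22 hg

theorem ua_mul (x y : Fin 6 → ZMod 2) : ua x * ua y = ua (x + y) := by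
  apply Subtype.ext
  change (ua x : M6) * (ua y : M6) = _
  apply ext_blocks
  · rw [mul11, ua11, ua12, ua11, ua21, ua11]; simp
  · rw [mul12, ua11, ua12, ua12, ua22, ua12, sy_add]; simp [add_comm]
  · rw [mul21, ua21, ua22, ua11, ua21, ua21]; simp
  · rw [mul22, ua21, ua22, ua12, ua22, ua22]; simp

theorem ua_zero : ua 0 = 1 := by
  have h : ua 0 * ua 0 = ua 0 := by rw [ua_mul, add_zero]
  exact mul_eq_left.1 h

theorem A0_sq {g : Sp.S} (hg : g ∈ A0) : g * g = 1 := by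
  obtain ⟨x, rfl⟩ := exists_ua hg
  have : x + x = 0 := by
    funext i
    exact CharTwo.add_self_eq_zero _
  rw [ua_mul, this, ua_zero]

theorem card_A0 : Nat.card A0 = 64 := by
  have h : Nat.card A0 = Nat.card (Fin 6 → ZMod 2) := by
    symm
    refine Nat.card_congr (Equiv.ofBijective (fun x => (⟨ua x, ua_mem x⟩ : A0)) ⟨?_, ?_⟩)
    · intro x y hxy
      exact ua_inj (congrArg Subtype.val hxy)
    · rintro ⟨g, hg⟩
      obtain ⟨x, rfl⟩ := exists_ua hg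
      exact ⟨x, rfl⟩
  rw [h, Nat.card_eq_fintype_card, Fintype.card_fun, ZMod.card, Fintype.card_fin]
  norm_num

/-- commuting with `A` -/
theorem A0_CA (l : Sp.S) (h : ∀ a ∈ A0, l * a = a * l) : l ∈ A0 := by
  have key : ∀ x, (l : M6) * (ua x : M6) = (ua x : M6) * (l : M6) := fun x => congrArg Subtype.val (h _ (ua_mem x))
  have h22 : ∀ x, (l : M6).toBlocks₂₁ * sy x = 0 := by
    intro x
    have h1 := congrArg Matrix.toBlocks₂₂ (key x)
    rw [mul22, mul22, ua12, ua22, ua21, Matrix.mul_one, Matrix.zero_mul, zero_add, Matrix.one_mul] at h1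
    exact add_eq_right.1 h1
  have hone : sy ![1, 1, 1, 0, 0, 0] = 1 := by
    ext i j
    fin_cases i <;> fin_cases j <;> rfl
  have h21 : (l : M6).toBlocks₂₁ = 0 := by
    have := h22 ![1, 1, 1, 0, 0, 0]
    rwa [hone, Matrix.mul_one] at this
  have h12 : ∀ x, (l : M6).toBlocks₁₁ * sy x = sy x * (l : M6).toBlocks₂₂ := by
    intro x
    have h1 := congrArg Matrix.toBlocks₁₂ (key x)
    rw [mul12, mul12, ua12, ua22, ua11, Matrix.mul_one, Matrix.one_mul, add_comm ((l : M6).toBlocks₁₂)] at h1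
    exact add_right_cancel h1
  have heq : (l : M6).toBlocks₁₁ = (l : M6).toBlocks₂₂ := by
    have := h12 ![1, 1, 1, 0, 0, 0]
    rwa [hone, Matrix.mul_one, Matrix.one_mul] at this
  rw [← heq] at h12
  have e1 : sy ![0, 0, 0, 1, 0, 0] = !![0,1,0;1,0,0;0,0,0] := by
    ext i j
    fin_cases i <;> fin_cases j <;> rfl
  have e2 : sy ![1, 0, 0, 0, 0, 0] = !![1,0,0;0,0,0;0,0,0] := by
    ext i j
    fin_cases i <;> fin_cases j <;> rfl
  have e3 : sy ![0, 0, 0, 0, 0, 1] = !![0,0,0;0,0,1;0,1,0] := by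
    ext i j
    fin_cases i <;> fin_cases j <;> rfl
  have h1 := h12 ![0, 0, 0, 1, 0, 0]
  have h2 := h12 ![1, 0, 0, 0, 0, 0]
  have h3 := h12 ![0, 0, 0, 0, 0, 1]
  rw [e1] at h1
  rw [e2] at h2
  rw [e3] at h3
  rw [mem_A0]
  refine ⟨h21, ?_⟩
  rcases r7 _ h1 h2 h3 with h4 | h4
  · exfalso
    have h5 := blk22 (g := l) h21
    rw [h4, transpose_zero, Matrix.zero_mul] at h5
    exact zero_ne_one h5
  · exact h4

theorem P0_normal {n a : Sp.S} (hn : n ∈ P0) (ha : a ∈ A0) : n * a * n⁻¹ ∈ A0 := by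
  obtain ⟨x, hx, rfl⟩ := ha
  have : (⟨n, hn⟩ : P0) * x * (⟨n, hn⟩ : P0)⁻¹ ∈ blk.ker := (MonoidHom.normal_ker blk).conj_mem x hx _
  exact ⟨_, this, rfl⟩

theorem normalizer_A0 : normalizer (A0 : Set Sp.S) = P0 := by
  ext n
  constructor
  · intro hn
    have h1 : ∀ x, (n : M6).toBlocks₂₁ * sy x = 0 := by
      intro x
      have h2 : n * ua x * n⁻¹ ∈ A0 := (mem_normalizer_iff.1 hn _).1 (ua_mem x)
      have h3 : (n : M6) * (ua x : M6) = ((n * ua x * n⁻¹ : Sp.S) : M6) * (n : M6) := by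
        have : n * ua x = (n * ua x * n⁻¹) * n := by group
        exact congrArg Subtype.val this
      have h4 := congrArg Matrix.toBlocks₂₂ h3
      rw [mul22, mul22, ua12, ua22, Matrix.mul_one, (mem_A0.1 h2).1, A0_22 h2, Matrix.zero_mul, zero_add,
        Matrix.one_mul] at h4
      exact add_eq_right.1 h4
    have hone : sy ![1, 1, 1, 0, 0, 0] = 1 := by
      ext i j
      fin_cases i <;> fin_cases j <;> rfl
    have := h1 ![1, 1, 1, 0, 0, 0]
    rwa [hone, Matrix.mul_one] at this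
  · intro hn
    rw [mem_normalizer_iff]
    intro a
    refine ⟨fun ha => P0_normal hn ha, fun ha => ?_⟩
    have h1 := P0_normal (inv_mem hn) ha
    have h2 : n⁻¹ * (n * a * n⁻¹) * n⁻¹⁻¹ = a := by group
    rwa [h2] at h1

/-- the section -/
def sec (U : K3) : Sp.S :=
  ⟨fromBlocks (U : M3) 0 0 ((U⁻¹ : K3) : M3)ᵀ, SymplecticGroup.fromBlocks_mem_iff.2 (by
    refine ⟨by simp, by simp, ?_⟩
    rw [← transpose_mul, ← Units.val_mul, inv_mul_cancel, Units.val_one]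
    simp)⟩

theorem sec11 (U : K3) : (sec U : M6).toBlocks₁₁ = U := toBlocks_fromBlocks₁₁ _ _ _ _
theorem sec12 (U : K3) : (sec U : M6).toBlocks₁₂ = 0 := toBlocks_fromBlocks₁₂ _ _ _ _
theorem sec21 (U : K3) : (sec U : M6).toBlocks₂₁ = 0 := toBlocks_fromBlocks₂₁ _ _ _ _
theorem sec22 (U : K3) : (sec U : M6).toBlocks₂₂ = ((U⁻¹ : K3) : M3)ᵀ := toBlocks_fromBlocks₂₂ _ _ _ _

theorem sec_mem (U : K3) : sec U ∈ P0 := sec21 U

theorem sec_mul (U V : K3) : sec U * sec V = sec (U * V) := by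
  apply Subtype.ext
  change (sec U : M6) * (sec V : M6) = _
  apply ext_blocks
  · rw [mul11, sec11, sec12, sec11, sec21, sec11]; simp
  · rw [mul12, sec11, sec12, sec12, sec22, sec12]; simp
  · rw [mul21, sec21, sec22, sec11, sec21, sec21]; simp
  · rw [mul22, sec21, sec22, sec12, sec22, sec22, _root_.mul_inv_rev, Units.val_mul, transpose_mul]; simp

theorem sec_one : sec 1 = 1 := by
  have h : sec 1 * sec 1 = sec 1 := by rw [sec_mul, mul_one]
  exact mul_eq_left.1 h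

/-- the hom onto `GL₃(2)` -/
def th : P0 →* K3 := blk.toHomUnits

theorem th_coe (g : P0) : ((th g : K3) : M3) = ((g : Sp.S) : M6).toBlocks₁₁ := rfl

theorem th_sec (U : K3) : th ⟨sec U, sec_mem U⟩ = U := Units.ext (by rw [th_coe]; exact sec11 U)

theorem th_eq_one (g : P0) : th g = 1 ↔ (g : Sp.S) ∈ A0 := by
  rw [mem_A0, ← th_coe]
  constructor
  · intro h
    exact ⟨g.2, by rw [h]; rfl⟩
  · rintro ⟨-, h⟩
    exact Units.ext h

theorem card_P0 : Nat.card P0 = 10752 := by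
  have h1 : Nat.card th.ker = 64 := by
    rw [← card_A0]
    refine Nat.card_congr ⟨fun g => ⟨(g : P0), (th_eq_one _).1 g.2⟩, fun a => ⟨⟨a, A0_le a.2⟩, (th_eq_one _).2 a.2⟩,
      fun g => rfl, fun a => rfl⟩
  have h2 : Nat.card th.range = 168 := by
    have h3 : th.range = ⊤ := by
      rw [MonoidHom.range_eq_top]
      exact fun U => ⟨_, th_sec U⟩
    rw [h3, card_top, Matrix.card_GL_field]
    simp [Fin.prod_univ_three, ZMod.card]
  have h3 := th.ker.card_mul_index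
  rw [index_ker, h1, h2] at h3
  rw [← h3]

theorem index_P0 : P0.index = 135 := by
  have h := P0.card_mul_index
  rw [card_P0, Sp.card_S] at h
  omega

/-- lifting of involutions -/
theorem A0_lift {n : Sp.S} (hn : n ∈ P0) (hnn : n * n ∈ A0) : ∃ a ∈ A0, (n * a) * (n * a) = 1 := by
  set U : K3 := th ⟨n, hn⟩ with hU
  have hUU : U * U = 1 := by
    rw [hU, ← map_mul, th_eq_one]
    exact hnn
  refine ⟨n⁻¹ * sec U, ?_, ?_⟩
  · have h1 : th (⟨n, hn⟩⁻¹ * ⟨sec U, sec_mem U⟩) = 1 := by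
      rw [map_mul, map_inv, th_sec, ← hU, inv_mul_cancel]
    exact (th_eq_one _).1 h1
  · rw [mul_inv_cancel_left, sec_mul, hUU, sec_one]

/-- elementary abelian subgroups of `P0` -/
theorem eq_A0 {B : Subgroup Sp.S} (hB : B ≤ P0) (hsq : ∀ x ∈ B, x * x = 1) (hcard : 64 ≤ Nat.card B) : B = A0 := by
  classical
  have hcomm : ∀ x ∈ B, ∀ y ∈ B, x * y = y * x := fun x hx y hy => QLevel.comm_of_sq hsq hx hy
  by_cases hle : B ≤ A0
  · apply eq_of_le_of_card_ge hle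
    rw [card_A0]; exact hcard
  exfalso
  rw [SetLike.not_le_iff_exists] at hle
  obtain ⟨b, hb, hbA⟩ := hle
  -- the matrix of `b`
  have hform : ∀ c ∈ B, (c : M6).toBlocks₁₁ ≠ 1 → ∃ w φ, Inv w φ ∧ (c : M6).toBlocks₁₁ = 1 + vecMulVec w φ := by
    intro c hc hc1
    have h1 : (c : M6).toBlocks₁₁ * (c : M6).toBlocks₁₁ = 1 := by
      have h2 := congrArg (fun g : Sp.S => (g : M6).toBlocks₁₁) (hsq c hc)
      change ((c : M6) * (c : M6)).toBlocks₁₁ = (1 : M6).toBlocks₁₁ at h2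
      rw [mul11, mem_P0.1 (hB hc), Matrix.mul_zero, add_zero, one11] at h2
      exact h2
    rcases r1 _ h1 with h2 | ⟨w, φ, h2, h3⟩
    · exact absurd h2 hc1
    · exact ⟨w, φ, h2, h3⟩
  have hb1 : (b : M6).toBlocks₁₁ ≠ 1 := fun h => hbA (mem_A0.2 ⟨hB hb, h⟩)
  obtain ⟨w, φ, hwφ, hbM⟩ := hform b hb hb1
  -- elements of `A` commuting with `c`
  have hfix : ∀ c ∈ B, ∀ w φ, Inv w φ → (c : M6).toBlocks₁₁ = 1 + vecMulVec w φ → ∀ x, ua x ∈ B →
      sy x *ᵥ φ = 0 ∨ sy x *ᵥ φ = w := by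
    intro c hc w φ hi hM x hx
    have h1 : (c : M6) * (ua x : M6) = (ua x : M6) * (c : M6) := congrArg Subtype.val (hcomm c hc _ hx)
    have h2 := congrArg Matrix.toBlocks₁₂ h1
    rw [mul12, mul12, ua12, ua22, ua11, Matrix.mul_one, Matrix.one_mul, add_comm ((c : M6).toBlocks₁₂)] at h2
    have h3 := add_right_cancel h2
    have h4 : (c : M6).toBlocks₂₂ = (c : M6).toBlocks₁₁ᵀ := by
      have h5 := blk22 (hB hc)
      have h6 : (c : M6).toBlocks₁₁ᵀ * (c : M6).toBlocks₁₁ᵀ = 1 := by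
        rw [← transpose_mul]
        have h2 := congrArg (fun g : Sp.S => (g : M6).toBlocks₁₁) (hsq c hc)
        change ((c : M6) * (c : M6)).toBlocks₁₁ = (1 : M6).toBlocks₁₁ at h2
        rw [mul11, mem_P0.1 (hB hc), Matrix.mul_zero, add_zero, one11] at h2
        rw [h2, transpose_one]
      calc (c : M6).toBlocks₂₂ = ((c : M6).toBlocks₁₁ᵀ * (c : M6).toBlocks₁₁ᵀ) * (c : M6).toBlocks₂₂ := by
            rw [h6, Matrix.one_mul]
        _ = (c : M6).toBlocks₁₁ᵀ := by rw [Matrix.mul_assoc, h5, Matrix.mul_one]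
    rw [h4, hM, transpose_add, transpose_one, transpose_vecMulVec, Matrix.add_mul, Matrix.mul_add, Matrix.one_mul,
      Matrix.mul_one, vecMulVec_mul, mul_vecMulVec] at h3
    have h5 := add_left_cancel h3
    have h6 : φ ᵥ* sy x = sy x *ᵥ φ := by
      rw [← sy_symm x, vecMul_transpose, sy_symm]
    rw [h6] at h5
    rcases r2 _ _ h5 with h7 | h7 | h7
    · exact absurd h7 hi.1
    · exact Or.inl h7
    · exact Or.inr h7
  -- the number of elements of `B ∩ A`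
  have hcount : ∀ F : Finset (Fin 6 → ZMod 2), (∀ x, ua x ∈ B → x ∈ F) → Nat.card (B ⊓ A0 : Subgroup Sp.S) ≤ F.card := by
    intro F hF
    have h1 : ∀ g : (B ⊓ A0 : Subgroup Sp.S), ∃ x, (g : Sp.S) = ua x := fun g => exists_ua (mem_inf.1 g.2).2
    choose f hf using h1
    have h2 : Nat.card (B ⊓ A0 : Subgroup Sp.S) ≤ Nat.card F := by
      refine Nat.card_le_card_of_injective (fun g => (⟨f g, hF _ ?_⟩ : F)) ?_
      · rw [← hf]; exact (mem_inf.1 g.2).1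
      · intro g g' h
        have h3 := congrArg (Subtype.val : F → _) h
        apply Subtype.ext
        rw [hf, hf]
        exact congrArg ua h3
    have h5 : Nat.card F = F.card := by rw [Nat.card_eq_fintype_card, Fintype.card_coe]
    rwa [h5] at h2
  -- the image of `B` in `GL₃(2)`
  let ψ : B →* K3 := th.comp (inclusion hB)
  have hker : Nat.card ψ.ker = Nat.card (B ⊓ A0 : Subgroup Sp.S) := by
    refine Nat.card_congr ⟨fun g => ⟨(g : B), mem_inf.2 ⟨(g : B).2, (th_eq_one _).1 g.2⟩⟩,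
      fun a => ⟨⟨a, (mem_inf.1 a.2).1⟩, (th_eq_one _).2 (mem_inf.1 a.2).2⟩, fun g => rfl, fun a => rfl⟩
  have hB2 : Nat.card B = Nat.card (B ⊓ A0 : Subgroup Sp.S) * Nat.card ψ.range := by
    rw [← hker, ← index_ker, card_mul_index]
  have hrange : ∀ F : Finset K3, (∀ c : B, ψ c ∈ F) → Nat.card ψ.range ≤ F.card := by
    intro F hF
    have h2 : Nat.card ψ.range ≤ Nat.card F := by
      refine Nat.card_le_card_of_injective (fun g => (⟨g, ?_⟩ : F)) ?_
      · obtain ⟨g, c, rfl⟩ := g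
        exact hF c
      · intro g g' h
        exact Subtype.ext (congrArg (Subtype.val : F → _) h)
    have h5 : Nat.card F = F.card := by rw [Nat.card_eq_fintype_card, Fintype.card_coe]
    rwa [h5] at h2
  have hψ : ∀ c : B, ((ψ c : K3) : M3) = ((c : Sp.S) : M6).toBlocks₁₁ := fun c => rfl
  by_cases h2 : ∀ c ∈ B, (c : M6).toBlocks₁₁ = 1 ∨ (c : M6).toBlocks₁₁ = (b : M6).toBlocks₁₁
  · have h3 := hrange {1, ψ ⟨b, hb⟩} (by
      intro c
      rw [Finset.mem_insert, Finset.mem_singleton]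
      rcases h2 c c.2 with h | h
      · exact Or.inl (Units.ext (by rw [hψ, h]; rfl))
      · exact Or.inr (Units.ext (by rw [hψ, hψ, h])))
    have h4 := hcount _ (fun x hx => Finset.mem_filter.2 ⟨Finset.mem_univ x, hfix b hb w φ hwφ hbM x hx⟩)
    have h5 := h4.trans (r4 w φ hwφ)
    have h6 : ({1, ψ ⟨b, hb⟩} : Finset K3).card ≤ 2 := Finset.card_le_two
    nlinarith
  · push Not at h2
    obtain ⟨c, hc, hc1, hcb⟩ := h2
    obtain ⟨w', φ', hi', hcM⟩ := hform c hc hc1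
    have hmulM : ∀ x ∈ B, ∀ y ∈ B, ((x * y : Sp.S) : M6).toBlocks₁₁ = (x : M6).toBlocks₁₁ * (y : M6).toBlocks₁₁ := by
      intro x hx y hy
      change ((x : M6) * (y : M6)).toBlocks₁₁ = _
      rw [mul11, mem_P0.1 (hB hy), Matrix.mul_zero, add_zero]
    have hcommM : ∀ x ∈ B, ∀ y ∈ B, (x : M6).toBlocks₁₁ * (y : M6).toBlocks₁₁ =
        (y : M6).toBlocks₁₁ * (x : M6).toBlocks₁₁ := by
      intro x hx y hy
      rw [← hmulM x hx y hy, ← hmulM y hy x hx, hcomm x hx y hy]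
    have hcom : ∀ x ∈ B, ∀ y ∈ B, ∀ u ψ v χ, Inv u ψ → Inv v χ → (x : M6).toBlocks₁₁ = 1 + vecMulVec u ψ →
        (y : M6).toBlocks₁₁ = 1 + vecMulVec v χ → Com u ψ v χ := by
      intro x hx y hy u ψ v χ h1 h2 h3 h4
      apply r3 u ψ h1 v χ h2
      rw [← h3, ← h4]
      exact hcommM x hx y hy
    have hD : ComD w φ w' φ' := by
      refine ⟨hi', hcom b hb c hc _ _ _ _ hwφ hi' hbM hcM, ?_⟩
      by_contra hne
      push Not at hne
      apply hcb
      rw [hbM, hcM, hne.1, hne.2]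
    have h3 := hrange {1, ψ ⟨b, hb⟩, ψ ⟨c, hc⟩, ψ ⟨b, hb⟩ * ψ ⟨c, hc⟩} (by
      intro d
      rw [Finset.mem_insert, Finset.mem_insert, Finset.mem_insert, Finset.mem_singleton]
      by_cases hd1 : ((d : Sp.S) : M6).toBlocks₁₁ = 1
      · exact Or.inl (Units.ext (by rw [hψ, hd1]; rfl))
      · right
        obtain ⟨u, χ, hi, hdM⟩ := hform d d.2 hd1
        have h4 := r6 w φ hwφ w' φ' hD u χ ⟨hi, hcom b hb d d.2 _ _ _ _ hwφ hi hbM hdM,
          hcom c hc d d.2 _ _ _ _ hi' hi hcM hdM⟩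
        rw [← hbM, ← hcM, ← hdM] at h4
        rcases h4 with h4 | h4 | h4
        · exact Or.inl (Units.ext (by rw [hψ, hψ, h4]))
        · exact Or.inr (Or.inl (Units.ext (by rw [hψ, hψ, h4])))
        · exact Or.inr (Or.inr (Units.ext (by rw [Units.val_mul, hψ, hψ, hψ, h4]))))
    have h4 := hcount (Finset.univ.filter fun x : Fin 6 → ZMod 2 => (sy x *ᵥ φ = 0 ∨ sy x *ᵥ φ = w) ∧
      (sy x *ᵥ φ' = 0 ∨ sy x *ᵥ φ' = w')) (fun x hx => Finset.mem_filter.2 ⟨Finset.mem_univ x,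
      hfix b hb w φ hwφ hbM x hx, hfix c hc w' φ' hi' hcM x hx⟩)
    have h5 := h4.trans (r5 w φ hwφ w' φ' hD)
    have h6 : ({1, ψ ⟨b, hb⟩, ψ ⟨c, hc⟩, ψ ⟨b, hb⟩ * ψ ⟨c, hc⟩} : Finset K3).card ≤ 4 := Finset.card_le_four
    nlinarith

/-- a `2`-subgroup is conjugate into a subgroup of odd index -/
theorem exists_conj_le {X : Type*} [Group X] [Finite X] (P B : Subgroup X) (hodd : Odd P.index)
    (hB : IsPGroup 2 B) : ∃ l : X, ∀ b ∈ B, l⁻¹ * b * l ∈ P := by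
  have : Fact (Nat.Prime 2) := ⟨Nat.prime_two⟩
  have h1 := hB.card_modEq_card_fixedPoints (X ⧸ P)
  have h2 : (MulAction.fixedPoints B (X ⧸ P)).Nonempty := by
    by_contra hne
    rw [Set.not_nonempty_iff_eq_empty] at hne
    rw [hne] at h1
    have h3 : Nat.card (∅ : Set (X ⧸ P)) = 0 := by simp
    rw [h3] at h1
    have h4 : Nat.card (X ⧸ P) = P.index := rfl
    rw [h4] at h1
    have h5 : P.index % 2 = 0 := h1
    rw [Nat.odd_iff] at hodd
    omega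
  obtain ⟨q, hq⟩ := h2
  obtain ⟨l, rfl⟩ := QuotientGroup.mk_surjective q
  refine ⟨l, fun b hb => ?_⟩
  have h3 : ((b * l : X) : X ⧸ P) = (l : X ⧸ P) := hq ⟨b, hb⟩
  rw [eq_comm, QuotientGroup.eq, ← mul_assoc] at h3
  exact h3

theorem facts_A0 : Facts A0 where
  sq _ hx := A0_sq hx
  card := card_A0
  sat := by
    intro B hsq hcard
    have hp : IsPGroup 2 B := by
      intro x
      refine ⟨1, Subtype.ext ?_⟩
      rw [pow_one, pow_two]
      exact hsq x x.2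
    obtain ⟨l, hl⟩ := exists_conj_le P0 B (by rw [index_P0]; decide) hp
    refine ⟨l, ?_⟩
    set B' : Subgroup Sp.S := B.map (MulAut.conj l⁻¹).toMonoidHom with hB'
    have hmem : ∀ x, x ∈ B' ↔ l * x * l⁻¹ ∈ B := by
      intro x
      rw [hB', QLevel.Data.mem_map_conj, inv_inv]
    have hB'P : B' ≤ P0 := by
      intro x hx
      have := hl _ ((hmem x).1 hx)
      have h2 : l⁻¹ * (l * x * l⁻¹) * l = x := by group
      rwa [h2] at this
    have hsq' : ∀ x ∈ B', x * x = 1 := by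
      intro x hx
      have h1 := hsq _ ((hmem x).1 hx)
      have h3 : x * x = l⁻¹ * (l * x * l⁻¹ * (l * x * l⁻¹)) * l := by group
      rw [h3, h1]; group
    have hcard' : 64 ≤ Nat.card B' := by
      rw [QLevel.Data.card_conj_of_iff (l := l⁻¹) (A := B) (fun x => by rw [inv_inv]; exact hmem x)]
      exact hcard
    have := eq_A0 hB'P hsq' hcard'
    intro x
    rw [← this, hmem]
    have h2 : l * (l⁻¹ * x * l) * l⁻¹ = x := by group
    rw [h2]
  CA := A0_CA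
  odd := by rw [normalizer_A0, index_P0]; decide
  lift n hn hnn := by
    rw [normalizer_A0] at hn
    exact A0_lift hn hnn
  quo := by
    refine ⟨th.comp (MulEquiv.subgroupCongr normalizer_A0).toMonoidHom, ?_, ?_⟩
    · intro U
      refine ⟨⟨sec U, by rw [normalizer_A0]; exact sec_mem U⟩, ?_⟩
      exact th_sec U
    · intro n
      exact th_eq_one _

end Cfsg.Agent.StdSpSix.QLevelModel
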