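import Cfsg.Agent.StdSpSix.QLevel
import Cfsg.Agent.StdSpSix.LThreeModel

/-!
# The level of `N_G(R)`, `R` a 2-group doubling `Q = A_W`

`C_G(t) = ⟨t⟩ × L`, every `t l`, `l² = 1`, is conjugate to `t`, no element of `L` is.  `Q ≤ L` is
elementary abelian of order `64`, `R` is a 2-group normalised by `t` and `N_L(Q)` with
`C_R(t) = Q`, `Z = Z(R)` is elementary abelian of order `512`, `D ∩ tR = t ^ R`.  Then
`D ∩ N_G(R) = t ^ N_G(R)`, `X = N_G(R) / R` has `C_X(t) = ⟨t⟩ × N_L(Q)/Q` with the same pattern,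
and a sign on `X` gives one on `G`.
-/

set_option autoImplicit false

namespace Cfsg.Agent.StdSpSix.RLevel

open Subgroup
open Cfsg.Agent.StdSpSix.QLevel (card_le_two_mul card_sub_eq inv_of_sq comm_of_sq mem_inf_cent card_le_sq)
open Cfsg.Agent.StdSpSix.QLevel.Data (card_conj_of_iff mem_map_conj conj_mem_iff_of_le)

/-- a self-normalizing 2-subgroup is Sylow -/
theorem exists_conj_le {G : Type*} [Group G] [Finite G] {M S T : Subgroup G} (hSM : S ≤ M) (hS : IsPGroup 2 S)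
    (hT : IsPGroup 2 T) (hTM : T ≤ M)
    (hself : ∀ m ∈ M, (∀ s ∈ S, m * s * m⁻¹ ∈ S) → m ∈ S) : ∃ c ∈ M, ∀ x ∈ T, c⁻¹ * x * c ∈ S := by
  have : Fact (Nat.Prime 2) := ⟨Nat.prime_two⟩
  obtain ⟨P, hP⟩ := (hS.comap_subtype (K := M)).exists_le_sylow
  obtain ⟨P2, hP2⟩ := (hT.comap_subtype (K := M)).exists_le_sylow
  obtain ⟨c, hc⟩ := MulAction.exists_smul_eq M P P2
  have hPS : (P : Subgroup M) ≤ S.subgroupOf M := by
    by_contra hne
    have : Group.IsNilpotent P := P.isPGroup'.isNilpotent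
    have h1 : (S.subgroupOf M).subgroupOf (P : Subgroup M) < ⊤ := by
      rw [lt_top_iff_ne_top]
      intro h
      exact hne (subgroupOf_eq_top.1 h)
    have h2 := Group.normalizerCondition_of_isNilpotent _ h1
    obtain ⟨m, hm, hmK⟩ := SetLike.exists_of_lt h2
    apply hmK
    rw [mem_subgroupOf, mem_subgroupOf]
    apply hself _ (m : M).2
    intro s hs
    have h3 := (mem_normalizer_iff.1 hm ⟨⟨s, hSM hs⟩, hP hs⟩).1 hs
    exact h3
  refine ⟨c, c.2, fun x hx => ?_⟩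
  have h1 : (⟨x, hTM hx⟩ : M) ∈ (P2 : Subgroup M) := hP2 hx
  rw [← hc, Sylow.coe_subgroup_smul, mem_pointwise_smul_iff_inv_smul_mem] at h1
  have h2 := hPS h1
  rw [← map_inv, MulAut.smul_def, MulAut.conj_apply, inv_inv, mem_subgroupOf] at h2
  exact h2

section Count

variable {G : Type*} [Group G] {R Z : Subgroup G} {x : G}

/-- the preimage of `C_{R/Z}(x)` -/
def N1 (hZc : ∀ z ∈ Z, ∀ r ∈ R, z * r = r * z) (xx : x * x = 1) (hx : ∀ r ∈ R, x * r * x ∈ R) : Subgroup G where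
  carrier := {r | r ∈ R ∧ x * r * x * r⁻¹ ∈ Z}
  one_mem' := ⟨one_mem _, by rw [mul_one, xx, inv_one, mul_one]; exact one_mem _⟩
  mul_mem' := by
    rintro r s ⟨hr, hr1⟩ ⟨hs, hs1⟩
    refine ⟨mul_mem hr hs, ?_⟩
    have h1 := hZc _ hs1 _ (hx r hr)
    have h2 : x * (r * s) * x * (r * s)⁻¹ = (x * s * x * s⁻¹) * (x * r * x * r⁻¹) := by
      calc x * (r * s) * x * (r * s)⁻¹ = x * r * (1 : G) * s * x * s⁻¹ * r⁻¹ := by group
        _ = x * r * (x * x) * s * x * s⁻¹ * r⁻¹ := by rw [xx]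
        _ = (x * r * x) * (x * s * x * s⁻¹) * r⁻¹ := by group
        _ = (x * s * x * s⁻¹) * (x * r * x * r⁻¹) := by rw [← h1]; group
    rw [h2]
    exact mul_mem hs1 hr1
  inv_mem' := by
    rintro r ⟨hr, hr1⟩
    refine ⟨inv_mem hr, ?_⟩
    have h1 := hZc _ (inv_mem hr1) _ hr
    have h2 : x * r⁻¹ * x * r⁻¹⁻¹ = (x * r * x * r⁻¹)⁻¹ := by
      have h3 : x⁻¹ = x := inv_of_sq xx
      calc x * r⁻¹ * x * r⁻¹⁻¹ = (x⁻¹ * r * x⁻¹)⁻¹ * r := by group
        _ = (x * r * x)⁻¹ * r := by rw [h3]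
        _ = r⁻¹ * ((x * r * x * r⁻¹)⁻¹ * r) := by group
        _ = (x * r * x * r⁻¹)⁻¹ := by rw [h1]; group
    rw [h2]
    exact inv_mem hr1

theorem mem_N1 {hZc : ∀ z ∈ Z, ∀ r ∈ R, z * r = r * z} {xx : x * x = 1} {hx : ∀ r ∈ R, x * r * x ∈ R} {r : G} :
    r ∈ N1 hZc xx hx ↔ r ∈ R ∧ x * r * x * r⁻¹ ∈ Z := Iff.rfl

variable [Finite G]

theorem card_N1 (hZR : Z ≤ R) (hsq : ∀ r ∈ R, r * r ∈ Z) (hZc : ∀ z ∈ Z, ∀ r ∈ R, z * r = r * z)
    (xx : x * x = 1) (hx : ∀ r ∈ R, x * r * x ∈ R) (hxZ : ∀ z ∈ Z, x * z * x ∈ Z) :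
    Nat.card R * Nat.card Z ≤ Nat.card (N1 hZc xx hx) * Nat.card (N1 hZc xx hx) := by
  set Z' : Subgroup R := Z.subgroupOf R with hZ'
  have : Z'.Normal := ⟨fun z hz r => by
    rw [hZ', mem_subgroupOf] at hz ⊢
    have h1 := hZc _ hz r r.2
    change (r : G) * z * (r : G)⁻¹ ∈ Z
    rw [← h1, mul_inv_cancel_right]
    exact hz⟩
  set π : R →* R ⧸ Z' := QuotientGroup.mk' Z' with hπ
  have hπ1 : ∀ r, π r = 1 ↔ (r : G) ∈ Z := by
    intro r
    rw [hπ, QuotientGroup.mk'_apply, QuotientGroup.eq_one_iff, hZ', mem_subgroupOf]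
  have hcomm : ∀ a b : R ⧸ Z', a * b = b * a := by
    intro a b
    refine comm_of_sq (Q := (⊤ : Subgroup (R ⧸ Z'))) (fun c _ => ?_) (mem_top a) (mem_top b)
    obtain ⟨r, rfl⟩ := QuotientGroup.mk'_surjective Z' c
    change π r * π r = 1
    rw [← map_mul, hπ1]
    exact hsq r r.2
  let φ : R →* R ⧸ Z' := MonoidHom.mk' (fun r => π ⟨x * r * x, hx r r.2⟩ * (π r)⁻¹) (by
    intro r s
    have h1 : (⟨x * (r * s : R) * x, hx _ (r * s).2⟩ : R) = ⟨x * r * x, hx r r.2⟩ * ⟨x * s * x, hx s s.2⟩ := by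
      apply Subtype.ext
      change x * ((r : G) * s) * x = x * r * x * (x * s * x)
      calc x * ((r : G) * s) * x = x * r * 1 * s * x := by group
        _ = x * r * (x * x) * s * x := by rw [xx]
        _ = x * r * x * (x * s * x) := by group
    rw [h1, map_mul, map_mul, mul_inv_rev]
    have h2 := hcomm (π s)⁻¹ (π r)⁻¹
    have h3 := hcomm (π ⟨x * s * x, hx s s.2⟩) (π r)⁻¹
    calc π ⟨x * r * x, hx r r.2⟩ * π ⟨x * s * x, hx s s.2⟩ * ((π s)⁻¹ * (π r)⁻¹) =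
        π ⟨x * r * x, hx r r.2⟩ * (π ⟨x * s * x, hx s s.2⟩ * (π r)⁻¹) * (π s)⁻¹ := by rw [h2]; group
      _ = _ := by rw [h3]; group)
  have hφ : ∀ r, φ r = π (⟨x * r * x, hx r r.2⟩ * r⁻¹) := by
    intro r
    rw [map_mul, map_inv]; rfl
  set N := N1 hZc xx hx with hN
  have hNR : N ≤ R := fun r hr => hr.1
  have hker : φ.ker = N.subgroupOf R := by
    ext r
    rw [MonoidHom.mem_ker, hφ, hπ1, mem_subgroupOf, hN, mem_N1]
    constructor
    · intro h; exact ⟨r.2, h⟩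
    · rintro ⟨-, h⟩; exact h
  have hcker : Nat.card φ.ker = Nat.card N := by rw [hker, card_sub_eq hNR]
  set N' : Subgroup R := N.subgroupOf R with hN'
  have hrange : φ.range ≤ N'.map π := by
    rintro _ ⟨r, rfl⟩
    rw [hφ]
    refine ⟨_, ?_, rfl⟩
    rw [SetLike.mem_coe, hN', mem_subgroupOf, hN, mem_N1]
    refine ⟨Subtype.property _, ?_⟩
    change x * (x * (r : G) * x * (r : G)⁻¹) * x * (x * (r : G) * x * (r : G)⁻¹)⁻¹ ∈ Z
    have h0 : x⁻¹ = x := inv_of_sq xx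
    have h1 : x * (x * (r : G) * x * (r : G)⁻¹) * x * (x * (r : G) * x * (r : G)⁻¹)⁻¹ =
        ((x * (r : G) * x * (r : G)⁻¹) * (x * (r : G) * x * (r : G)⁻¹))⁻¹ := by
      calc x * (x * (r : G) * x * (r : G)⁻¹) * x * (x * (r : G) * x * (r : G)⁻¹)⁻¹ =
          (x * x) * r * x * (r : G)⁻¹ * x * (x * (r : G) * x * (r : G)⁻¹)⁻¹ := by group
        _ = r * x * (r : G)⁻¹ * x * (x * (r : G) * x * (r : G)⁻¹)⁻¹ := by rw [xx, one_mul]
        _ = r * x⁻¹ * (r : G)⁻¹ * x⁻¹ * (x * (r : G) * x * (r : G)⁻¹)⁻¹ := by rw [h0]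
        _ = _ := by group
    rw [h1]
    exact inv_mem (hsq _ (mul_mem (hx r r.2) (inv_mem r.2)))
  have hmap : Nat.card (N'.map π) * Nat.card Z = Nat.card N := by
    have hZN : Z' ≤ N' := by
      intro z hz
      rw [hZ', mem_subgroupOf] at hz
      rw [hN', mem_subgroupOf, hN, mem_N1]
      exact ⟨z.2, mul_mem (hxZ _ hz) (inv_mem hz)⟩
    have h1 : (π.comp N'.subtype).ker = Z'.subgroupOf N' := by
      ext r
      rw [MonoidHom.mem_ker, mem_subgroupOf]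
      change π (r : R) = 1 ↔ _
      rw [hπ1, hZ', mem_subgroupOf]
    have h2 : (π.comp N'.subtype).range = N'.map π := by
      rw [MonoidHom.range_comp, range_subtype]
    have h3 : Nat.card (π.comp N'.subtype).ker * Nat.card (π.comp N'.subtype).range = Nat.card N' := by
      rw [← index_ker, card_mul_index]
    have h4 : Nat.card N' = Nat.card N := card_sub_eq hNR
    have h5 : Nat.card Z' = Nat.card Z := card_sub_eq hZR
    rw [h1, h2, card_sub_eq hZN, h4, h5] at h3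
    rw [mul_comm]; exact h3
  have h1 : Nat.card φ.ker * Nat.card φ.range = Nat.card R := by
    rw [← index_ker, card_mul_index]
  have h2 : Nat.card φ.range ≤ Nat.card (N'.map π) :=
    Nat.card_le_card_of_injective _ (Subgroup.inclusion_injective hrange)
  rw [hcker] at h1
  calc Nat.card R * Nat.card Z = Nat.card N * (Nat.card φ.range * Nat.card Z) := by rw [← h1]; ring
    _ ≤ Nat.card N * (Nat.card (N'.map π) * Nat.card Z) :=
      Nat.mul_le_mul_left _ (Nat.mul_le_mul_right _ h2)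
    _ = Nat.card N * Nat.card N := by rw [hmap]

theorem card_N1_le (hZZ : ∀ z ∈ Z, z * z = 1) (hZc : ∀ z ∈ Z, ∀ r ∈ R, z * r = r * z)
    (xx : x * x = 1) (hx : ∀ r ∈ R, x * r * x ∈ R) :
    Nat.card (N1 hZc xx hx) ≤ Nat.card (R ⊓ centralizer ({x} : Set G) : Subgroup G) *
      Nat.card (Z ⊓ centralizer ({x} : Set G) : Subgroup G) := by
  set N := N1 hZc xx hx with hN
  let f : N →* G := MonoidHom.mk' (fun r => x * r * x * (r : G)⁻¹) (by
    intro r s
    have h1 := hZc _ s.2.2 _ (hx r r.2.1)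
    have h2 := hZc _ s.2.2 _ (inv_mem r.2.1)
    change x * ((r : G) * s) * x * ((r : G) * s)⁻¹ = (x * r * x * (r : G)⁻¹) * (x * s * x * (s : G)⁻¹)
    calc x * ((r : G) * s) * x * ((r : G) * s)⁻¹ = x * r * (1 : G) * s * x * (s : G)⁻¹ * (r : G)⁻¹ := by group
      _ = x * r * (x * x) * s * x * (s : G)⁻¹ * (r : G)⁻¹ := by rw [xx]
      _ = (x * r * x) * ((x * s * x * (s : G)⁻¹) * (r : G)⁻¹) := by group
      _ = (x * r * x * (r : G)⁻¹) * (x * s * x * (s : G)⁻¹) := by rw [h2]; group)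
  have hf : ∀ r, f r = x * r * x * (r : G)⁻¹ := fun r => rfl
  have h1 : f.range ≤ Z ⊓ centralizer ({x} : Set G) := by
    rintro _ ⟨r, rfl⟩
    rw [mem_inf_cent, hf]
    have h2 := r.2.2
    refine ⟨h2, ?_⟩
    have h3 := inv_of_sq (hZZ _ h2)
    have h0 : x⁻¹ = x := inv_of_sq xx
    calc x * r * x * (r : G)⁻¹ * x = x * (r * x * (r : G)⁻¹ * x) := by group
      _ = x * (r * x⁻¹ * (r : G)⁻¹ * x⁻¹) := by rw [h0]
      _ = x * (x * r * x * (r : G)⁻¹)⁻¹ := by group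
      _ = x * (x * r * x * (r : G)⁻¹) := by rw [h3]
  have h2 : Nat.card f.ker ≤ Nat.card (R ⊓ centralizer ({x} : Set G) : Subgroup G) := by
    refine Nat.card_le_card_of_injective (fun y : f.ker => (⟨((y : N) : G), ?_⟩ :
      (R ⊓ centralizer ({x} : Set G) : Subgroup G))) ?_
    · rw [mem_inf_cent]
      refine ⟨(y : N).2.1, ?_⟩
      have h3 := y.2
      rw [MonoidHom.mem_ker, hf, mul_inv_eq_one] at h3
      calc ((y : N) : G) * x = x * ((y : N) : G) * x * x := by rw [h3]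
        _ = x * ((y : N) : G) * (x * x) := by group
        _ = x * ((y : N) : G) := by rw [xx, mul_one]
    · intro a b h
      have h' := congrArg (Subtype.val : (R ⊓ centralizer ({x} : Set G) : Subgroup G) → G) h
      apply Subtype.ext
      apply Subtype.ext
      exact h'
  have h3 : Nat.card f.ker * Nat.card f.range = Nat.card N := by
    rw [← index_ker, card_mul_index]
  rw [← h3]
  exact Nat.mul_le_mul h2 (Nat.card_le_card_of_injective _ (Subgroup.inclusion_injective h1))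

end Count

/-- The group `G` with `C_G(t) = ⟨t⟩ × L`, pattern ALL, and the elementary abelian subgroup `Q` of `L`. -/
structure Core (G : Type*) [Group G] where
  t : G
  L : Subgroup G
  Q : Subgroup G
  tt : t * t = 1
  cent : ∀ g, Commute g t ↔ g ∈ L ∨ t * g ∈ L
  DL : ∀ g, g * t * g⁻¹ ∉ L
  all : ∀ l ∈ L, l * l = 1 → ∃ g, t * l = g * t * g⁻¹
  QL : Q ≤ L
  cardQ : Nat.card Q = 64
  sat : ∀ B : Subgroup G, B ≤ L → (∀ x ∈ B, x * x = 1) → 64 ≤ Nat.card B →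
    ∃ l ∈ L, ∀ x, x ∈ B ↔ l⁻¹ * x * l ∈ Q
  CQ : ∀ l ∈ L, (∀ a ∈ Q, l * a = a * l) → l ∈ Q
  ord4 : ∀ c ∈ L, ∀ B : Subgroup G, B ≤ L → (∀ x ∈ B, x * x = 1) → 32 ≤ Nat.card B →
    (∀ x ∈ B, c * x = x * c) → c * c * (c * c) = 1 → c * c = 1
  odd : Odd ((normalizer (Q : Set G)).relIndex L)
  lift : ∀ n ∈ L, n ∈ normalizer (Q : Set G) → n * n ∈ Q → ∃ a ∈ Q, (n * a) * (n * a) = 1

/-- The doubled 2-group `R` and its centre `Z`. -/
structure RData (G : Type*) [Group G] extends Core G where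
  Z : Subgroup G
  R : Subgroup G
  QZ : Q ≤ Z
  ZR : Z ≤ R
  ZZ : ∀ x ∈ Z, x * x = 1
  cardZ : Nat.card Z = 512
  Zc : ∀ z ∈ Z, ∀ r ∈ R, z * r = r * z
  tR : ∀ r ∈ R, t * r * t ∈ R
  NR : ∀ n ∈ L, n ∈ normalizer (Q : Set G) → n ∈ normalizer (R : Set G)
  RQ : ∀ r ∈ R, r * t = t * r → r ∈ Q
  conjR : ∀ n ∈ R, (∃ g, t * n = g * t * g⁻¹) → ∃ r ∈ R, t * n = r * t * r⁻¹
  cen2 : ∀ e ∈ R, ∀ M : Subgroup G, M ≤ R → Nat.card R ≤ 2 * Nat.card M →
    (∀ m ∈ M, e * m = m * e) → e ∈ Z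
  sqR : ∀ r ∈ R, r * r ∈ Z
  size : Nat.card R = 2 ^ 15 ∨ (Nat.card R = 2 ^ 12 ∧ ∀ r ∈ R, r * r = 1 → r ∈ Z)

namespace Core

variable {G : Type*} [Group G] (D : Core G)

theorem t_inv : D.t⁻¹ = D.t := inv_of_sq D.tt

theorem tL : D.t ∉ D.L := by
  have := D.DL 1
  rwa [one_mul, inv_one, mul_one] at this

theorem Lt {l : G} (hl : l ∈ D.L) : l * D.t = D.t * l := (D.cent l).2 (Or.inl hl)

theorem Qt {a : G} (ha : a ∈ D.Q) : a * D.t = D.t * a := D.Lt (D.QL ha)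

theorem conj_inv_t (g : G) : g * D.t * g⁻¹ * (g * D.t * g⁻¹) = 1 := by
  calc g * D.t * g⁻¹ * (g * D.t * g⁻¹) = g * (D.t * D.t) * g⁻¹ := by group
    _ = 1 := by rw [D.tt]; group

/-- Lemma A -/
theorem mem_L_of {g b : G} (hb : b * b = 1) (hbx : b * (g * D.t * g⁻¹) = (g * D.t * g⁻¹) * b)
    (hn : ∀ k, b ≠ k * D.t * k⁻¹) : g⁻¹ * b * g ∈ D.L := by
  have h1 : (g⁻¹ * b * g) * D.t = D.t * (g⁻¹ * b * g) := by
    calc (g⁻¹ * b * g) * D.t = g⁻¹ * (b * (g * D.t * g⁻¹)) * g := by group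
      _ = D.t * (g⁻¹ * b * g) := by rw [hbx]; group
  rcases (D.cent _).1 h1 with h2 | h2
  · exact h2
  · exfalso
    have h3 : (D.t * (g⁻¹ * b * g)) * (D.t * (g⁻¹ * b * g)) = 1 := by
      calc (D.t * (g⁻¹ * b * g)) * (D.t * (g⁻¹ * b * g)) = D.t * ((g⁻¹ * b * g) * D.t) * (g⁻¹ * b * g) := by group
        _ = (D.t * D.t) * (g⁻¹ * (b * b) * g) := by rw [h1]; group
        _ = 1 := by rw [D.tt, hb]; group
    obtain ⟨k, hk⟩ := D.all _ h2 h3
    apply hn (g * k)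
    calc b = g * ((D.t * D.t) * (g⁻¹ * b * g)) * g⁻¹ := by rw [D.tt]; group
      _ = g * (D.t * (D.t * (g⁻¹ * b * g))) * g⁻¹ := by group
      _ = g * (k * D.t * k⁻¹) * g⁻¹ := by rw [hk]
      _ = g * k * D.t * (g * k)⁻¹ := by group

/-- Lemma B -/
theorem small [Finite G] {g : G} {B : Subgroup G} (hB : ∀ b ∈ B, b * b = 1)
    (hBx : ∀ b ∈ B, b * (g * D.t * g⁻¹) = (g * D.t * g⁻¹) * b) (hn : ∀ b ∈ B, ∀ k, b ≠ k * D.t * k⁻¹) :
    Nat.card B ≤ 64 ∧ (64 ≤ Nat.card B →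
      ∃ k, k * D.t * k⁻¹ = g * D.t * g⁻¹ ∧ ∀ y, y ∈ B ↔ k⁻¹ * y * k ∈ D.Q) := by
  set B' : Subgroup G := B.map (MulAut.conj g⁻¹).toMonoidHom with hB'
  have hmem : ∀ x, x ∈ B' ↔ g * x * g⁻¹ ∈ B := by
    intro x
    rw [hB', mem_map_conj, inv_inv]
  have hcard : Nat.card B' = Nat.card B := card_conj_of_iff (l := g⁻¹) (fun x => by rw [inv_inv]; exact hmem x)
  have hL : B' ≤ D.L := by
    intro x hx
    have h1 := (hmem x).1 hx
    have h2 := D.mem_L_of (hB _ h1) (hBx _ h1) (hn _ h1)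
    have h3 : g⁻¹ * (g * x * g⁻¹) * g = x := by group
    rwa [h3] at h2
  have hsq : ∀ x ∈ B', x * x = 1 := by
    intro x hx
    have h1 := hB _ ((hmem x).1 hx)
    calc x * x = g⁻¹ * (g * x * g⁻¹ * (g * x * g⁻¹)) * g := by group
      _ = 1 := by rw [h1]; group
  have key : 64 ≤ Nat.card B → ∃ k, k * D.t * k⁻¹ = g * D.t * g⁻¹ ∧ ∀ y, y ∈ B ↔ k⁻¹ * y * k ∈ D.Q := by
    intro h
    obtain ⟨l, hl, h1⟩ := D.sat B' hL hsq (by rw [hcard]; exact h)
    refine ⟨g * l, ?_, ?_⟩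
    · calc g * l * D.t * (g * l)⁻¹ = g * (l * D.t) * l⁻¹ * g⁻¹ := by group
        _ = g * D.t * g⁻¹ := by rw [D.Lt hl]; group
    · intro y
      have h2 := h1 (g⁻¹ * y * g)
      rw [hmem] at h2
      have h3 : g * (g⁻¹ * y * g) * g⁻¹ = y := by group
      have h4 : l⁻¹ * (g⁻¹ * y * g) * l = (g * l)⁻¹ * y * (g * l) := by group
      rw [h3, h4] at h2
      exact h2
  refine ⟨?_, key⟩
  by_contra h
  push Not at h
  obtain ⟨k, -, hk⟩ := key h.le
  have := card_conj_of_iff (l := k) hk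
  rw [D.cardQ] at this
  omega

/-- Lemma C -/
theorem false_of_cent [Finite G] {Z : Subgroup G} (ZZ : ∀ z ∈ Z, z * z = 1) (cardZ : Nat.card Z = 512) (g : G)
    (hx : ∀ z ∈ Z, z * (g * D.t * g⁻¹) = (g * D.t * g⁻¹) * z) : False := by
  set B : Subgroup G := Z ⊓ D.L.map (MulAut.conj g).toMonoidHom with hB
  have hmem : ∀ z, z ∈ B ↔ z ∈ Z ∧ g⁻¹ * z * g ∈ D.L := by
    intro z
    rw [hB, mem_inf, mem_map_conj]
  have h1 : Nat.card B ≤ 64 := by
    refine (D.small (g := g) (B := B) (fun b hb => ZZ b ((hmem b).1 hb).1)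
      (fun b hb => hx b ((hmem b).1 hb).1) ?_).1
    intro b hb k hk
    apply D.DL (g⁻¹ * k)
    have h2 := ((hmem b).1 hb).2
    rw [hk] at h2
    have h3 : g⁻¹ * k * D.t * (g⁻¹ * k)⁻¹ = g⁻¹ * (k * D.t * k⁻¹) * g := by group
    rw [h3]
    exact h2
  have h2 : ∀ z ∈ Z, g⁻¹ * z * g ∈ D.L ∨ D.t * (g⁻¹ * z * g) ∈ D.L := by
    intro z hz
    apply (D.cent _).1
    change (g⁻¹ * z * g) * D.t = D.t * (g⁻¹ * z * g)
    calc (g⁻¹ * z * g) * D.t = g⁻¹ * (z * (g * D.t * g⁻¹)) * g := by group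
      _ = D.t * (g⁻¹ * z * g) := by rw [hx z hz]; group
  have h3 : Nat.card Z ≤ 2 * Nat.card B := by
    by_cases hex : ∃ z0 ∈ Z, z0 ∉ B
    · obtain ⟨z0, hz0, hz0B⟩ := hex
      have h0 : D.t * (g⁻¹ * z0 * g) ∈ D.L := by
        rcases h2 z0 hz0 with h | h
        · exact absurd ((hmem _).2 ⟨hz0, h⟩) hz0B
        · exact h
      apply card_le_two_mul z0
      intro z hz hzB
      have h4 : D.t * (g⁻¹ * z * g) ∈ D.L := by
        rcases h2 z hz with h | h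
        · exact absurd ((hmem _).2 ⟨hz, h⟩) hzB
        · exact h
      rw [hmem]
      refine ⟨mul_mem (inv_mem hz0) hz, ?_⟩
      have h5 := mul_mem (inv_mem h0) h4
      have h6 : (D.t * (g⁻¹ * z0 * g))⁻¹ * (D.t * (g⁻¹ * z * g)) = g⁻¹ * (z0⁻¹ * z) * g := by group
      rwa [h6] at h5
    · push Not at hex
      have h4 : Z ≤ B := hex
      have := Nat.card_le_card_of_injective _ (Subgroup.inclusion_injective h4)
      omega
  rw [cardZ] at h3
  omega

theorem t_mem_cent : D.t ∈ centralizer (D.Q : Set G) := by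
  rw [mem_centralizer_iff]
  intro q hq
  exact D.Qt hq

/-- the elements of `C_G(Q)` commuting with `t` -/
theorem mem_Q_of_comm {k : G} (hk : k ∈ centralizer (D.Q : Set G)) (hkt : k * D.t = D.t * k) :
    k ∈ D.Q ∨ D.t * k ∈ D.Q := by
  rw [mem_centralizer_iff] at hk
  rcases (D.cent k).1 hkt with h | h
  · exact Or.inl (D.CQ k h fun a ha => (hk a ha).symm)
  · refine Or.inr (D.CQ _ h fun a ha => ?_)
    rw [mul_assoc, ← hk a ha, ← mul_assoc, ← D.Qt ha, mul_assoc]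

end Core

namespace RData

variable {G : Type*} [Group G] (D : RData G)

theorem QR : D.Q ≤ D.R := D.QZ.trans D.ZR

theorem card_R_pos : 2 ^ 12 ≤ Nat.card D.R := by
  rcases D.size with h | ⟨h, -⟩
  · rw [h]; norm_num
  · rw [h]

theorem notMem_R [Finite G] (g : G) : g * D.t * g⁻¹ ∉ D.R :=
  fun hg => D.false_of_cent D.ZZ D.cardZ g fun z hz => D.Zc z hz _ hg

/-! ### the group `R⟨x⟩` -/

/-- `R ∪ x R` -/
def ext (R : Subgroup G) {x : G} (xx : x * x = 1) (hx : ∀ r ∈ R, x * r * x ∈ R) : Subgroup G where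
  carrier := {y | y ∈ R ∨ x * y ∈ R}
  one_mem' := Or.inl (one_mem _)
  mul_mem' := by
    rintro a b (ha | ha) (hb | hb)
    · exact Or.inl (mul_mem ha hb)
    · right
      have := mul_mem (hx a ha) hb
      have h2 : x * a * x * (x * b) = x * a * (x * x) * b := by group
      rw [h2, xx, mul_one] at this
      rwa [← mul_assoc]
    · right
      rw [← mul_assoc]
      exact mul_mem ha hb
    · left
      have := mul_mem (hx _ ha) hb
      have h2 : x * (x * a) * x * (x * b) = (x * x) * a * (x * x) * b := by group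
      rwa [h2, xx, one_mul, mul_one] at this
  inv_mem' := by
    rintro a (ha | ha)
    · exact Or.inl (inv_mem ha)
    · right
      have h1 := hx _ (inv_mem ha)
      have h2 : x * (x * a)⁻¹ * x = x * a⁻¹ := by
        rw [mul_inv_rev]; group
      rwa [h2] at h1

theorem mem_ext {R : Subgroup G} {x : G} {xx : x * x = 1} {hx : ∀ r ∈ R, x * r * x ∈ R} {y : G} :
    y ∈ ext R xx hx ↔ y ∈ R ∨ x * y ∈ R := Iff.rfl

theorem card_ext [Finite G] {R : Subgroup G} {x : G} (xx : x * x = 1) (hx : ∀ r ∈ R, x * r * x ∈ R)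
    (hxR : x ∉ R) : Nat.card (ext R xx hx) = 2 * Nat.card R := by
  have h1 : Nat.card (R × Bool) = 2 * Nat.card R := by
    rw [Nat.card_prod]
    have : Nat.card Bool = 2 := by simp
    rw [this, mul_comm]
  rw [← h1]
  symm
  refine Nat.card_congr (Equiv.ofBijective
    (fun p : R × Bool => (⟨if p.2 then (p.1 : G) else x * p.1, ?_⟩ : ext R xx hx)) ⟨?_, ?_⟩)
  · rw [mem_ext]
    split_ifs with h
    · exact Or.inl p.1.2
    · right
      rw [← mul_assoc, xx, one_mul]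
      exact p.1.2
  · rintro ⟨a, i⟩ ⟨b, j⟩ h
    have h2 := congrArg (Subtype.val : ext R xx hx → G) h
    cases i <;> cases j
    · simp only [Bool.false_eq_true, if_false] at h2
      rw [Subtype.ext (mul_left_cancel h2)]
    · simp only [Bool.false_eq_true, if_false, if_true] at h2
      exfalso
      apply hxR
      rw [eq_mul_inv_of_mul_eq h2]
      exact mul_mem b.2 (inv_mem a.2)
    · simp only [Bool.false_eq_true, if_false, if_true] at h2
      exfalso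
      apply hxR
      rw [eq_mul_inv_of_mul_eq h2.symm]
      exact mul_mem a.2 (inv_mem b.2)
    · simp only [if_true] at h2
      rw [Subtype.ext h2]
  · rintro ⟨y, hy⟩
    rcases hy with h | h
    · exact ⟨(⟨y, h⟩, true), Subtype.ext (by simp)⟩
    · refine ⟨(⟨x * y, h⟩, false), Subtype.ext ?_⟩
      simp only [Bool.false_eq_true, if_false]
      rw [← mul_assoc, xx, one_mul]

theorem isPGroup_ext [Finite G] {x : G} (xx : x * x = 1) (hx : ∀ r ∈ D.R, x * r * x ∈ D.R)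
    (hxR : x ∉ D.R) : IsPGroup 2 (ext D.R xx hx) := by
  have h := card_ext xx hx hxR
  rcases D.size with h1 | ⟨h1, -⟩
  · exact IsPGroup.of_card (n := 16) (by rw [h, h1]; norm_num)
  · exact IsPGroup.of_card (n := 13) (by rw [h, h1]; norm_num)

theorem t_notMem_R [Finite G] : D.t ∉ D.R := by
  have := D.notMem_R 1
  rwa [one_mul, inv_one, mul_one] at this

/-- `R⟨t⟩` -/
def S0 : Subgroup G := ext D.R D.tt D.tR

theorem R_le_cent : D.R ≤ centralizer (D.Q : Set G) := by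
  intro r hr
  rw [mem_centralizer_iff]
  intro q hq
  exact D.Zc q (D.QZ hq) r hr

theorem S0_le_cent : D.S0 ≤ centralizer (D.Q : Set G) := by
  intro y hy
  rcases hy with h | h
  · exact D.R_le_cent h
  · have h1 := mul_mem D.t_mem_cent (D.R_le_cent h)
    rwa [← mul_assoc, D.tt, one_mul] at h1

/-- `S0` is self-normalizing in `C_G(Q)` -/
theorem self_norm [Finite G] {m : G} (hm : m ∈ centralizer (D.Q : Set G))
    (h : ∀ s ∈ D.S0, m * s * m⁻¹ ∈ D.S0) : m ∈ D.S0 := by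
  have htS : D.t ∈ D.S0 := by
    right
    rw [D.tt]; exact one_mem _
  have h1 := (h _ htS).resolve_left (D.notMem_R m)
  obtain ⟨r, hr, h2⟩ := D.conjR _ h1 ⟨m, by rw [← mul_assoc, D.tt, one_mul]⟩
  rw [← mul_assoc, D.tt, one_mul] at h2
  have h3 : (r⁻¹ * m) * D.t = D.t * (r⁻¹ * m) := by
    calc (r⁻¹ * m) * D.t = r⁻¹ * (m * D.t * m⁻¹) * m := by group
      _ = r⁻¹ * (r * D.t * r⁻¹) * m := by rw [h2]
      _ = D.t * (r⁻¹ * m) := by group
  rcases D.mem_Q_of_comm (mul_mem (inv_mem (D.R_le_cent hr)) hm) h3 with h4 | h4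
  · left
    have := mul_mem hr (D.QR h4)
    rwa [mul_inv_cancel_left] at this
  · right
    have h5 := mul_mem (D.tR r hr) (D.QR h4)
    have h6 : D.t * r * D.t * (D.t * (r⁻¹ * m)) = D.t * r * (D.t * D.t) * r⁻¹ * m := by group
    rw [h6, D.tt, mul_one] at h5
    have h7 : D.t * r * r⁻¹ * m = D.t * m := by group
    rwa [h7] at h5

/-- **E** -/
theorem exists_conj [Finite G] {g : G} (hx : ∀ r ∈ D.R, (g * D.t * g⁻¹) * r * (g * D.t * g⁻¹) ∈ D.R)
    (h64 : 64 ≤ Nat.card (D.Z ⊓ centralizer ({g * D.t * g⁻¹} : Set G) : Subgroup G)) :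
    ∃ h ∈ normalizer (D.R : Set G), h * D.t * h⁻¹ = g * D.t * g⁻¹ := by
  set x : G := g * D.t * g⁻¹ with hxdef
  have xx : x * x = 1 := D.conj_inv_t g
  have hxR : x ∉ D.R := D.notMem_R g
  set B : Subgroup G := D.Z ⊓ centralizer ({x} : Set G) with hB
  have hBm : ∀ b, b ∈ B ↔ b ∈ D.Z ∧ b * x = x * b := fun b => mem_inf_cent
  have hsm := D.small (g := g) (B := B) (fun b hb => D.ZZ b ((hBm b).1 hb).1)
    (fun b hb => ((hBm b).1 hb).2) (fun b hb k hk => D.notMem_R k (hk ▸ D.ZR ((hBm b).1 hb).1))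
  obtain ⟨k, hkx, hkB⟩ := hsm.2 h64
  have hBc := hsm.1
  rw [← hxdef] at hkx
  set T : Subgroup G := ext D.R xx hx with hT
  have hcT : Nat.card T = 2 * Nat.card D.R := card_ext xx hx hxR
  have hcS : Nat.card D.S0 = 2 * Nat.card D.R := card_ext D.tt D.tR D.t_notMem_R
  set T' : Subgroup G := T.map (MulAut.conj k⁻¹).toMonoidHom with hT'
  have hT'm : ∀ y, y ∈ T' ↔ k * y * k⁻¹ ∈ T := by
    intro y
    rw [hT', mem_map_conj, inv_inv]
  have hT'p : IsPGroup 2 T' := (D.isPGroup_ext xx hx hxR).map _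
  have hBT : ∀ b ∈ B, ∀ y ∈ T, b * y = y * b := by
    intro b hb y hy
    have h1 := (hBm b).1 hb
    rcases hy with h | h
    · exact D.Zc b h1.1 y h
    · have h2 := D.Zc b h1.1 _ h
      calc b * y = (x * x) * b * y := by rw [xx, one_mul]
        _ = x * (x * b) * y := by group
        _ = x * (b * (x * y)) := by rw [← h1.2]; group
        _ = (x * x) * y * b := by rw [h2]; group
        _ = y * b := by rw [xx, one_mul]
  have hT'M : T' ≤ centralizer (D.Q : Set G) := by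
    intro y hy
    rw [mem_centralizer_iff]
    intro q hq
    have h1 : k * q * k⁻¹ ∈ B := by
      rw [hkB]
      have : k⁻¹ * (k * q * k⁻¹) * k = q := by group
      rw [this]; exact hq
    have h2 := hBT _ h1 _ ((hT'm y).1 hy)
    calc q * y = k⁻¹ * (k * q * k⁻¹ * (k * y * k⁻¹)) * k := by group
      _ = y * q := by rw [h2]; group
  obtain ⟨c, -, hc⟩ := exists_conj_le D.S0_le_cent (D.isPGroup_ext D.tt D.tR D.t_notMem_R) hT'p hT'M
    (fun m hm h => D.self_norm hm h)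
  -- `h = k c`
  set h : G := k * c with hh
  have hTS : ∀ y, y ∈ T ↔ h⁻¹ * y * h ∈ D.S0 := by
    have h1 : ∀ y ∈ T, h⁻¹ * y * h ∈ D.S0 := by
      intro y hy
      have h2 := hc (k⁻¹ * y * k) ((hT'm _).2 (by
        have : k * (k⁻¹ * y * k) * k⁻¹ = y := by group
        rw [this]; exact hy))
      have h3 : c⁻¹ * (k⁻¹ * y * k) * c = h⁻¹ * y * h := by rw [hh]; group
      rwa [h3] at h2
    have h2 : T ≤ D.S0.map (MulAut.conj h).toMonoidHom := fun y hy => mem_map_conj.2 (h1 y hy)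
    have h3 : T = D.S0.map (MulAut.conj h).toMonoidHom := by
      apply eq_of_le_of_card_ge h2
      rw [hcT, ← hcS]
      exact (card_conj_of_iff (l := h) (fun x => mem_map_conj)).le
    intro y
    rw [h3, mem_map_conj]
  set R' : Subgroup G := D.R.map (MulAut.conj h).toMonoidHom with hR'
  have hR'm : ∀ y, y ∈ R' ↔ h⁻¹ * y * h ∈ D.R := fun y => mem_map_conj
  have hcR' : Nat.card R' = Nat.card D.R := card_conj_of_iff (l := h) hR'm
  have hR'T : R' ≤ T := fun y hy => (hTS y).2 (Or.inl ((hR'm y).1 hy))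
  have hRT : D.R ≤ T := fun y hy => Or.inl hy
  have hRR' : R' = D.R := by
    by_contra hne
    have hn1 : ¬ D.R ≤ R' := fun h1 => hne (eq_of_le_of_card_ge h1 hcR'.le).symm
    have hn2 : ¬ R' ≤ D.R := fun h1 => hne (eq_of_le_of_card_ge h1 hcR'.ge)
    obtain ⟨r0, hr0, hr0'⟩ := SetLike.not_le_iff_exists.1 hn1
    obtain ⟨s0, hs0, hs0'⟩ := SetLike.not_le_iff_exists.1 hn2
    have hout : ∀ y ∈ T, y ∉ R' → D.t * (h⁻¹ * y * h) ∈ D.R := by
      intro y hy hy'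
      rcases (hTS y).1 hy with h1 | h1
      · exact absurd ((hR'm y).2 h1) hy'
      · exact h1
    have hM : Nat.card D.R ≤ 2 * Nat.card (D.R ⊓ R' : Subgroup G) := by
      apply card_le_two_mul r0
      intro y hy hyM
      have hy' : y ∉ R' := fun h1 => hyM (mem_inf.2 ⟨hy, h1⟩)
      refine mem_inf.2 ⟨mul_mem (inv_mem hr0) hy, ?_⟩
      rw [hR'm]
      have h1 := mul_mem (inv_mem (hout r0 (hRT hr0) hr0')) (hout y (hRT hy) hy')
      have h2 : (D.t * (h⁻¹ * r0 * h))⁻¹ * (D.t * (h⁻¹ * y * h)) = h⁻¹ * (r0⁻¹ * y) * h := by group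
      rwa [h2] at h1
    set Z' : Subgroup G := D.Z.map (MulAut.conj h).toMonoidHom with hZ'
    have hZ'm : ∀ y, y ∈ Z' ↔ h⁻¹ * y * h ∈ D.Z := fun y => mem_map_conj
    have hcZ' : Nat.card Z' = 512 := by
      rw [← D.cardZ]
      exact card_conj_of_iff (l := h) hZ'm
    have hZ'T : Z' ≤ T := fun y hy => hR'T ((hR'm y).2 (D.ZR ((hZ'm y).1 hy)))
    have hZc : ∀ e ∈ Z', ∀ m ∈ R', e * m = m * e := by
      intro e he m hm
      have h1 := D.Zc _ ((hZ'm e).1 he) _ ((hR'm m).1 hm)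
      calc e * m = h * (h⁻¹ * e * h * (h⁻¹ * m * h)) * h⁻¹ := by group
        _ = m * e := by rw [h1]; group
    have hZZ : ∀ e ∈ Z' ⊓ D.R, e ∈ D.Z := by
      intro e he
      rw [mem_inf] at he
      exact D.cen2 e he.2 (D.R ⊓ R') inf_le_left hM fun m hm => hZc e he.1 m (mem_inf.1 hm).2
    have hcount : Nat.card Z' ≤ 2 * Nat.card (Z' ⊓ D.R : Subgroup G) := by
      by_cases hex : ∃ z0 ∈ Z', z0 ∉ D.R
      · obtain ⟨z0, hz0, hz0'⟩ := hex
        apply card_le_two_mul z0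
        intro y hy hyM
        have hy' : y ∉ D.R := fun h1 => hyM (mem_inf.2 ⟨hy, h1⟩)
        have h1 : x * z0 ∈ D.R := (hZ'T hz0).resolve_left hz0'
        have h2 : x * y ∈ D.R := (hZ'T hy).resolve_left hy'
        refine mem_inf.2 ⟨mul_mem (inv_mem hz0) hy, ?_⟩
        have h3 := mul_mem (inv_mem h1) h2
        have h4 : (x * z0)⁻¹ * (x * y) = z0⁻¹ * y := by group
        rwa [h4] at h3
      · push Not at hex
        apply card_le_two_mul 1
        intro y hy hyM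
        exact absurd (mem_inf.2 ⟨hy, hex y hy⟩) hyM
    have hle : Z' ⊓ D.R ≤ B := by
      intro e he
      rw [hBm]
      have he' := hZZ e he
      refine ⟨he', ?_⟩
      have h1 : x * s0 ∈ D.R := (hR'T hs0).resolve_left hs0'
      have h2 := D.Zc e he' _ h1
      have h3 := hZc e (mem_inf.1 he).1 s0 hs0
      calc e * x = e * (x * s0) * s0⁻¹ := by group
        _ = x * (s0 * e) * s0⁻¹ := by rw [h2]; group
        _ = x * e := by rw [← h3]; group
    have := Nat.card_le_card_of_injective _ (Subgroup.inclusion_injective hle)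
    rw [hcZ'] at hcount
    omega
  have hhN : h ∈ normalizer (D.R : Set G) := by
    rw [mem_normalizer_iff'']
    intro y
    rw [← hR'm, hRR']
  have hxT : x ∈ T := by
    right
    rw [xx]; exact one_mem _
  have hconj : h⁻¹ * x * h = (h⁻¹ * g) * D.t * (h⁻¹ * g)⁻¹ := by rw [hxdef]; group
  have h1 : D.t * (h⁻¹ * x * h) ∈ D.R := ((hTS x).1 hxT).resolve_left (by
    rw [hconj]
    exact D.notMem_R _)
  obtain ⟨r, hr, h2⟩ := D.conjR _ h1 ⟨h⁻¹ * g, by rw [← mul_assoc, D.tt, one_mul, hconj]⟩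
  rw [← mul_assoc, D.tt, one_mul] at h2
  refine ⟨h * r, mul_mem hhN (le_normalizer hr), ?_⟩
  calc h * r * D.t * (h * r)⁻¹ = h * (r * D.t * r⁻¹) * h⁻¹ := by group
    _ = x := by rw [← h2]; group

/-- `Z = Z(R)` -/
theorem mem_Z_iff [Finite G] {e : G} : e ∈ D.Z ↔ e ∈ D.R ∧ ∀ r ∈ D.R, e * r = r * e := by
  constructor
  · intro h
    exact ⟨D.ZR h, fun r hr => D.Zc e h r hr⟩
  · rintro ⟨h1, h2⟩
    refine D.cen2 e h1 D.R le_rfl ?_ h2
    omega

theorem conj_Z [Finite G] {x : G} (xx : x * x = 1) (hx : ∀ r ∈ D.R, x * r * x ∈ D.R) :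
    ∀ z ∈ D.Z, x * z * x ∈ D.Z := by
  intro z hz
  rw [mem_Z_iff] at hz ⊢
  refine ⟨hx z hz.1, fun r hr => ?_⟩
  have h1 := hz.2 _ (hx r hr)
  calc x * z * x * r = x * (z * (x * r * 1)) := by group
    _ = x * (z * (x * r * (x * x))) := by rw [xx]
    _ = x * (z * (x * r * x)) * x := by group
    _ = (x * x) * r * x * z * x := by rw [h1]; group
    _ = r * (x * z * x) := by rw [xx]; group

/-- **F** -/
theorem fix_ge [Finite G] {g : G} (hx : ∀ r ∈ D.R, (g * D.t * g⁻¹) * r * (g * D.t * g⁻¹) ∈ D.R) :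
    64 ≤ Nat.card (D.Z ⊓ centralizer ({g * D.t * g⁻¹} : Set G) : Subgroup G) := by
  set x : G := g * D.t * g⁻¹ with hxdef
  have xx : x * x = 1 := D.conj_inv_t g
  have hxZ := D.conj_Z xx hx
  set C1 : Subgroup G := D.Z ⊓ centralizer ({x} : Set G) with hC1
  set C0 : Subgroup G := D.R ⊓ centralizer ({x} : Set G) with hC0
  have hC1m : ∀ b, b ∈ C1 ↔ b ∈ D.Z ∧ b * x = x * b := fun b => mem_inf_cent
  have hC0m : ∀ b, b ∈ C0 ↔ b ∈ D.R ∧ b * x = x * b := fun b => mem_inf_cent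
  by_contra hcon
  push Not at hcon
  -- `|C1| = 32`
  have h1 : 512 ≤ Nat.card C1 * Nat.card C1 := by
    have := (card_le_sq D.ZZ xx hxZ).1
    rwa [D.cardZ] at this
  have h2 : Nat.card C1 ∣ 512 := by
    have h3 : C1 ≤ D.Z := inf_le_left
    have := card_subgroup_dvd_card (C1.subgroupOf D.Z)
    rwa [card_sub_eq h3, D.cardZ] at this
  have h32 : Nat.card C1 = 32 := by
    have h3 : (512 : ℕ) = 2 ^ 9 := by norm_num
    rw [h3, Nat.dvd_prime_pow Nat.prime_two] at h2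
    obtain ⟨k, hk, h4⟩ := h2
    rw [h4] at h1 hcon ⊢
    interval_cases k <;> omega
  -- `C0` is elementary abelian
  set B : Subgroup G := C1.map (MulAut.conj g⁻¹).toMonoidHom with hB
  have hBm : ∀ y, y ∈ B ↔ g * y * g⁻¹ ∈ C1 := by
    intro y
    rw [hB, mem_map_conj, inv_inv]
  have hcB : Nat.card B = 32 := by
    rw [← h32]
    exact card_conj_of_iff (l := g⁻¹) (fun x => by rw [inv_inv]; exact hBm x)
  have hBL : B ≤ D.L := by
    intro y hy
    have h3 := (hC1m _).1 ((hBm y).1 hy)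
    have h4 := D.mem_L_of (g := g) (D.ZZ _ h3.1) h3.2 (fun k hk => D.notMem_R k (hk ▸ D.ZR h3.1))
    have h5 : g⁻¹ * (g * y * g⁻¹) * g = y := by group
    rwa [h5] at h4
  have hBB : ∀ y ∈ B, y * y = 1 := by
    intro y hy
    have h3 := D.ZZ _ ((hC1m _).1 ((hBm y).1 hy)).1
    calc y * y = g⁻¹ * (g * y * g⁻¹ * (g * y * g⁻¹)) * g := by group
      _ = 1 := by rw [h3]; group
  have hC0sq : ∀ c ∈ C0, c * c = 1 := by
    intro c hc
    rw [hC0m] at hc
    have h3 : (g⁻¹ * c * g) * D.t = D.t * (g⁻¹ * c * g) := by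
      have := hc.2
      rw [hxdef] at this
      calc (g⁻¹ * c * g) * D.t = g⁻¹ * (c * (g * D.t * g⁻¹)) * g := by group
        _ = D.t * (g⁻¹ * c * g) := by rw [this]; group
    have h4 : c * c * (c * c) = 1 := D.ZZ _ (D.sqR c hc.1)
    have h5 : ∀ y ∈ B, (g⁻¹ * c * g) * y = y * (g⁻¹ * c * g) := by
      intro y hy
      have h6 := D.Zc _ ((hC1m _).1 ((hBm y).1 hy)).1 c hc.1
      calc (g⁻¹ * c * g) * y = g⁻¹ * (c * (g * y * g⁻¹)) * g := by group
        _ = y * (g⁻¹ * c * g) := by rw [← h6]; group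
    have key : (g⁻¹ * c * g) * (g⁻¹ * c * g) = 1 := by
      rcases (D.cent _).1 h3 with h6 | h6
      · refine D.ord4 _ h6 B hBL hBB (by rw [hcB]) h5 ?_
        calc g⁻¹ * c * g * (g⁻¹ * c * g) * (g⁻¹ * c * g * (g⁻¹ * c * g)) = g⁻¹ * (c * c * (c * c)) * g := by group
          _ = 1 := by rw [h4]; group
      · have h7 : D.t * (g⁻¹ * c * g) * (D.t * (g⁻¹ * c * g)) = (g⁻¹ * c * g) * (g⁻¹ * c * g) := by
          calc D.t * (g⁻¹ * c * g) * (D.t * (g⁻¹ * c * g)) = D.t * ((g⁻¹ * c * g) * D.t) * (g⁻¹ * c * g) := by group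
            _ = (D.t * D.t) * ((g⁻¹ * c * g) * (g⁻¹ * c * g)) := by rw [h3]; group
            _ = _ := by rw [D.tt, one_mul]
        rw [← h7]
        refine D.ord4 _ h6 B hBL hBB (by rw [hcB]) ?_ ?_
        · intro y hy
          rw [mul_assoc, h5 y hy, ← mul_assoc, ← D.Lt (hBL hy), mul_assoc]
        · rw [h7]
          calc g⁻¹ * c * g * (g⁻¹ * c * g) * (g⁻¹ * c * g * (g⁻¹ * c * g)) = g⁻¹ * (c * c * (c * c)) * g := by group
            _ = 1 := by rw [h4]; group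
    calc c * c = g * ((g⁻¹ * c * g) * (g⁻¹ * c * g)) * g⁻¹ := by group
      _ = 1 := by rw [key]; group
  have hC0le : Nat.card C0 ≤ 64 := by
    refine (D.small (g := g) hC0sq (fun b hb => ((hC0m b).1 hb).2) ?_).1
    intro b hb k hk
    exact D.notMem_R k (hk ▸ ((hC0m b).1 hb).1)
  have h3 := card_N1 D.ZR D.sqR D.Zc xx hx hxZ
  have h4 := card_N1_le (R := D.R) D.ZZ D.Zc xx hx
  rw [← hC0, ← hC1, h32] at h4
  rw [D.cardZ] at h3
  rcases D.size with h5 | ⟨h5, h6⟩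
  · rw [h5] at h3
    nlinarith
  · have h7 : C0 ≤ C1 := by
      intro c hc
      exact (hC1m c).2 ⟨h6 c ((hC0m c).1 hc).1 (hC0sq c hc), ((hC0m c).1 hc).2⟩
    have h8 := Nat.card_le_card_of_injective _ (Subgroup.inclusion_injective h7)
    rw [h5] at h3
    rw [h32] at h8
    nlinarith

/-- `D ∩ N(R) = t ^ N(R)` -/
theorem exists_conj_H [Finite G] {g : G} (h : g * D.t * g⁻¹ ∈ normalizer (D.R : Set G)) :
    ∃ k ∈ normalizer (D.R : Set G), k * D.t * k⁻¹ = g * D.t * g⁻¹ := by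
  have xx : (g * D.t * g⁻¹)⁻¹ = g * D.t * g⁻¹ := inv_of_sq (D.conj_inv_t g)
  have hx : ∀ r ∈ D.R, (g * D.t * g⁻¹) * r * (g * D.t * g⁻¹) ∈ D.R := by
    intro r hr
    have h4 := (mem_normalizer_iff.1 h r).1 hr
    rwa [xx] at h4
  exact D.exists_conj hx (D.fix_ge hx)

theorem t_mem_H : D.t ∈ normalizer (D.R : Set G) := by
  rw [mem_normalizer_iff]
  intro q
  rw [D.t_inv]
  refine ⟨fun h => D.tR q h, fun h => ?_⟩
  have h1 := D.tR _ h
  have h2 : D.t * (D.t * q * D.t) * D.t = (D.t * D.t) * q * (D.t * D.t) := by group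
  rwa [h2, D.tt, one_mul, mul_one] at h1

/-- `N_L(R) = N_L(Q)` -/
theorem mem_H_iff [Finite G] {n : G} (hn : n ∈ D.L) :
    n ∈ normalizer (D.R : Set G) ↔ n ∈ normalizer (D.Q : Set G) := by
  refine ⟨fun h => ?_, D.NR n hn⟩
  rw [mem_normalizer_iff]
  apply conj_mem_iff_of_le
  intro a ha
  have hnt := D.Lt hn
  have hnt' : n⁻¹ * D.t = D.t * n⁻¹ := D.Lt (inv_mem hn)
  apply D.RQ _ ((mem_normalizer_iff.1 h a).1 (D.QR ha))
  calc n * a * n⁻¹ * D.t = n * a * (n⁻¹ * D.t) := by group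
    _ = n * (a * D.t) * n⁻¹ := by rw [hnt']; group
    _ = (n * D.t) * a * n⁻¹ := by rw [D.Qt ha]; group
    _ = D.t * (n * a * n⁻¹) := by rw [hnt]; group

theorem card_eq_two_mul [Finite G] {K : Subgroup G} (ht : D.t ∈ K) (hK : ∀ x ∈ K, x * D.t = D.t * x) :
    Nat.card K = 2 * Nat.card (K ⊓ D.L : Subgroup G) := by
  apply le_antisymm
  · apply card_le_two_mul D.t
    intro x hx hxL
    rcases (D.cent x).1 (hK x hx) with h | h
    · exact absurd (mem_inf.2 ⟨hx, h⟩) hxL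
    · rw [D.t_inv]
      exact mem_inf.2 ⟨mul_mem ht hx, h⟩
  · have h1 : Nat.card ((K ⊓ D.L : Subgroup G) × Bool) ≤ Nat.card K := by
      refine Nat.card_le_card_of_injective
        (fun p : (K ⊓ D.L : Subgroup G) × Bool => (⟨(if p.2 then (p.1 : G) else D.t * p.1), ?_⟩ : K)) ?_
      · split_ifs
        · exact (mem_inf.1 p.1.2).1
        · exact mul_mem ht (mem_inf.1 p.1.2).1
      · rintro ⟨x, b⟩ ⟨y, c⟩ h
        have h2 := congrArg (Subtype.val : K → G) h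
        have hx := (mem_inf.1 x.2).2
        have hy := (mem_inf.1 y.2).2
        cases b <;> cases c <;> simp only [Bool.false_eq_true, if_true, if_false] at h2
        · rw [Subtype.ext (mul_left_cancel h2)]
        · exfalso
          apply D.tL
          have : D.t = y * (x : G)⁻¹ := by rw [← h2, mul_inv_cancel_right]
          rw [this]
          exact mul_mem hy (inv_mem hx)
        · exfalso
          apply D.tL
          have : D.t = x * (y : G)⁻¹ := by rw [h2, mul_inv_cancel_right]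
          rw [this]
          exact mul_mem hx (inv_mem hy)
        · rw [Subtype.ext h2]
    rw [Nat.card_prod] at h1
    have h2 : Nat.card Bool = 2 := by simp
    rw [h2] at h1
    omega

theorem odd_relIndex [Finite G] :
    Odd ((normalizer (D.R : Set G)).relIndex (centralizer ({D.t} : Set G))) := by
  set H := normalizer (D.R : Set G) with hH
  set C := centralizer ({D.t} : Set G) with hC
  have hCm : ∀ x, x ∈ C ↔ x * D.t = D.t * x := fun x => mem_centralizer_singleton_iff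
  have hLC : C ⊓ D.L = D.L := inf_eq_right.2 fun x hx => (hCm x).2 (D.Lt hx)
  have h1 := D.card_eq_two_mul (K := C) ((hCm _).2 rfl) (fun x hx => (hCm x).1 hx)
  have h2 := D.card_eq_two_mul (K := H ⊓ C) (mem_inf.2 ⟨D.t_mem_H, (hCm _).2 rfl⟩)
    (fun x hx => (hCm x).1 (mem_inf.1 hx).2)
  have h3 : H ⊓ C ⊓ D.L = normalizer (D.Q : Set G) ⊓ D.L := by
    ext x
    rw [mem_inf, mem_inf, mem_inf]
    constructor
    · rintro ⟨⟨h, -⟩, hx⟩
      exact ⟨(D.mem_H_iff hx).1 h, hx⟩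
    · rintro ⟨h, hx⟩
      exact ⟨⟨(D.mem_H_iff hx).2 h, (hCm x).2 (D.Lt hx)⟩, hx⟩
  rw [hLC] at h1
  rw [h3] at h2
  have h4 : Nat.card (H ⊓ C : Subgroup G) * H.relIndex C = Nat.card C := by
    rw [← inf_relIndex_right H C, relIndex, ← card_sub_eq (inf_le_right : H ⊓ C ≤ C), card_mul_index]
  have h5 : Nat.card (normalizer (D.Q : Set G) ⊓ D.L : Subgroup G) * (normalizer (D.Q : Set G)).relIndex D.L =
      Nat.card D.L := by
    rw [← inf_relIndex_right (normalizer (D.Q : Set G)) D.L, relIndex,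
      ← card_sub_eq (inf_le_right : normalizer (D.Q : Set G) ⊓ D.L ≤ D.L), card_mul_index]
  rw [h1, h2, ← h5] at h4
  have hpos : 0 < 2 * Nat.card (normalizer (D.Q : Set G) ⊓ D.L : Subgroup G) :=
    Nat.mul_pos two_pos Nat.card_pos
  have h6 : H.relIndex C = (normalizer (D.Q : Set G)).relIndex D.L := by
    apply Nat.eq_of_mul_eq_mul_left hpos
    rw [h4]; ring
  rw [h6]
  exact D.odd

section Quot

variable [Finite G] {X : Type*} [Group X] (π : normalizer (D.R : Set G) →* X)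
  (hker : ∀ h, π h = 1 ↔ (h : G) ∈ D.R)

/-- the image of `N_L(R)` -/
def Y : Subgroup X := (D.L.subgroupOf (normalizer (D.R : Set G))).map π

/-- the image of `t` -/
def tb : X := π ⟨D.t, D.t_mem_H⟩

include hker

omit [Finite G] in
theorem π_eq_iff {g h : normalizer (D.R : Set G)} : π g = π h ↔ (g : G)⁻¹ * h ∈ D.R := by
  rw [← inv_mul_eq_one, ← map_inv, ← map_mul, hker]
  rfl

omit [Finite G] hker in
theorem tb_sq : tb D π * tb D π = 1 := by
  rw [tb, ← map_mul]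
  have : (⟨D.t, D.t_mem_H⟩ * ⟨D.t, D.t_mem_H⟩ : normalizer (D.R : Set G)) = 1 := Subtype.ext D.tt
  rw [this, map_one]

theorem tb_ne : tb D π ≠ 1 := by
  intro h
  exact D.t_notMem_R ((hker _).1 h)

omit [Finite G] hker in
theorem quot_comm (y : X) (hy : y ∈ Y D π) : tb D π * y = y * tb D π := by
  obtain ⟨n, hn, rfl⟩ := hy
  have h1 : ⟨D.t, D.t_mem_H⟩ * n = n * ⟨D.t, D.t_mem_H⟩ := Subtype.ext (D.Lt hn).symm
  change π ⟨D.t, D.t_mem_H⟩ * π n = π n * π ⟨D.t, D.t_mem_H⟩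
  rw [← map_mul, ← map_mul, h1]

omit [Finite G] in
theorem quot_cent (hsurj : Function.Surjective π) (y : X) (hy : y * tb D π = tb D π * y) :
    y ∈ Y D π ∨ tb D π * y ∈ Y D π := by
  obtain ⟨h, rfl⟩ := hsurj y
  have h1 : π ⟨D.t, D.t_mem_H⟩ = π (h * ⟨D.t, D.t_mem_H⟩ * h⁻¹) := by
    rw [map_mul, map_mul, map_inv]
    change tb D π = π h * tb D π * (π h)⁻¹
    rw [hy]; group
  have h2 := (D.π_eq_iff π hker).1 h1
  have h3 : (((⟨D.t, D.t_mem_H⟩ : normalizer (D.R : Set G)) : G)⁻¹ *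
      ((h * ⟨D.t, D.t_mem_H⟩ * h⁻¹ : normalizer (D.R : Set G)) : G)) = D.t * ((h : G) * D.t * (h : G)⁻¹) := by
    change D.t⁻¹ * ((h : G) * D.t * (h : G)⁻¹) = _
    rw [D.t_inv]
  rw [h3] at h2
  obtain ⟨r, hr, hct⟩ := D.conjR _ h2 ⟨h, by rw [← mul_assoc, D.tt, one_mul]⟩
  rw [← mul_assoc, D.tt, one_mul] at hct
  have h5 : (r⁻¹ * h) * D.t = D.t * (r⁻¹ * h) := by
    calc (r⁻¹ * h) * D.t = r⁻¹ * ((h : G) * D.t * (h : G)⁻¹) * h := by group
      _ = r⁻¹ * (r * D.t * r⁻¹) * h := by rw [hct]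
      _ = D.t * (r⁻¹ * h) := by group
  have hrH : r ∈ normalizer (D.R : Set G) := le_normalizer hr
  set h' : normalizer (D.R : Set G) := ⟨r, hrH⟩⁻¹ * h with hh'
  have hπ : π h' = π h := by
    rw [hh', map_mul, map_inv, (hker ⟨r, hrH⟩).2 hr, inv_one, one_mul]
  rw [← hπ]
  rcases (D.cent _).1 h5 with h6 | h6
  · left
    exact ⟨h', h6, rfl⟩
  · right
    exact ⟨⟨D.t, D.t_mem_H⟩ * h', h6, by rw [map_mul]; rfl⟩

/-- involutions of `Y` lift -/
theorem lift_Y {y : X} (hy : y ∈ Y D π) (hyy : y * y = 1) :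
    ∃ n : normalizer (D.R : Set G), (n : G) ∈ D.L ∧ (n : G) * n = 1 ∧ π n = y := by
  obtain ⟨n, hn, rfl⟩ := hy
  have hn' : (n : G) ∈ D.L := hn
  have h1 : (n : G) * n ∈ D.Q := by
    have h2 : π (n * n) = 1 := by rw [map_mul, hyy]
    have h3 := (hker _).1 h2
    exact D.RQ _ h3 (D.Lt (mul_mem hn' hn'))
  obtain ⟨a, ha, h2⟩ := D.lift n hn' ((D.mem_H_iff hn').1 n.2) h1
  have haH : a ∈ normalizer (D.R : Set G) := le_normalizer (D.QR ha)
  refine ⟨n * ⟨a, haH⟩, mul_mem hn' (D.QL ha), h2, ?_⟩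
  rw [map_mul, (hker ⟨a, haH⟩).2 (D.QR ha), mul_one]

theorem quot_all (y : X) (hy : y ∈ Y D π) (hyy : y * y = 1) : IsConj (tb D π) (tb D π * y) := by
  obtain ⟨n, hn, hnn, rfl⟩ := D.lift_Y π hker hy hyy
  obtain ⟨g, hg⟩ := D.all n hn hnn
  have hmem : g * D.t * g⁻¹ ∈ normalizer (D.R : Set G) := by
    rw [← hg]
    exact mul_mem D.t_mem_H n.2
  obtain ⟨k, hk, hk1⟩ := D.exists_conj_H hmem
  rw [isConj_iff]
  refine ⟨π ⟨k, hk⟩, ?_⟩
  rw [← hg] at hk1
  change π ⟨k, hk⟩ * π ⟨D.t, D.t_mem_H⟩ * (π ⟨k, hk⟩)⁻¹ = π ⟨D.t, D.t_mem_H⟩ * π n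
  rw [← map_mul, ← map_mul, ← map_inv, ← map_mul]
  congr 1
  exact Subtype.ext hk1

theorem quot_DY (nofix : ∀ n ∈ D.R, (D.t * n) * (D.t * n) = 1 → ∃ r ∈ D.R, D.t * n = r * D.t * r⁻¹)
    (hsurj : Function.Surjective π) (y : X) (hy : y ∈ Y D π) : ¬ IsConj (tb D π) y := by
  intro hc
  obtain ⟨c, hc⟩ := isConj_iff.1 hc
  have h1 : y * y = 1 := by
    rw [← hc]
    calc (c * tb D π * c⁻¹) * (c * tb D π * c⁻¹) = c * (tb D π * tb D π) * c⁻¹ := by group
      _ = 1 := by rw [D.tb_sq π]; group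
  obtain ⟨n, hn, hnn, hπ⟩ := D.lift_Y π hker hy h1
  obtain ⟨h, rfl⟩ := hsurj c
  have hnR : (n : G) ∉ D.R := by
    intro h2
    have h3 := (hker n).2 h2
    rw [hπ, ← hc] at h3
    apply D.tb_ne π hker
    calc tb D π = (π h)⁻¹ * (π h * tb D π * (π h)⁻¹) * π h := by group
      _ = 1 := by rw [h3]; group
  -- `h⁻¹ n h = t m`
  have h2 : π ⟨D.t, D.t_mem_H⟩ = π (h⁻¹ * n * h) := by
    rw [map_mul, map_mul, map_inv, hπ, ← hc]
    change tb D π = _
    group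
  have h3 := (D.π_eq_iff π hker).1 h2
  have h4 : (((⟨D.t, D.t_mem_H⟩ : normalizer (D.R : Set G)) : G)⁻¹ *
      ((h⁻¹ * n * h : normalizer (D.R : Set G)) : G)) = D.t * ((h : G)⁻¹ * n * h) := by
    change D.t⁻¹ * ((h : G)⁻¹ * n * h) = _
    rw [D.t_inv]
  rw [h4] at h3
  obtain ⟨r, -, h6⟩ := nofix _ h3 (by
    have h7 : D.t * (D.t * ((h : G)⁻¹ * n * h)) = (h : G)⁻¹ * n * h := by
      rw [← mul_assoc, D.tt, one_mul]
    rw [h7]
    calc (h : G)⁻¹ * n * h * ((h : G)⁻¹ * n * h) = (h : G)⁻¹ * (n * n) * h := by group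
      _ = 1 := by rw [hnn]; group)
  rw [← mul_assoc, D.tt, one_mul] at h6
  apply D.DL (h * r)
  have h7 : (h : G) * r * D.t * (h * r)⁻¹ = h * (r * D.t * r⁻¹) * (h : G)⁻¹ := by group
  rw [h7, ← h6]
  have h8 : (h : G) * ((h : G)⁻¹ * n * h) * (h : G)⁻¹ = n := by group
  rw [h8]
  exact hn

/-- `Y ≃ N_L(Q) / Q` -/
theorem exists_equiv {Γ : Type*} [Group Γ] (θ : (D.L ⊓ normalizer (D.Q : Set G) : Subgroup G) →* Γ)
    (hθ : Function.Surjective θ) (hθk : ∀ n, θ n = 1 ↔ (n : G) ∈ D.Q) : Nonempty (Y D π ≃* Γ) := by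
  have hNH : D.L ⊓ normalizer (D.Q : Set G) ≤ normalizer (D.R : Set G) := by
    intro n hn
    rw [mem_inf] at hn
    exact (D.mem_H_iff hn.1).2 hn.2
  let ψ : (D.L ⊓ normalizer (D.Q : Set G) : Subgroup G) →* X := π.comp (inclusion hNH)
  have hrange : ψ.range = Y D π := by
    ext y
    constructor
    · rintro ⟨n, rfl⟩
      exact ⟨inclusion hNH n, (mem_inf.1 n.2).1, rfl⟩
    · rintro ⟨n, hn, rfl⟩
      exact ⟨⟨n, mem_inf.2 ⟨hn, (D.mem_H_iff hn).1 n.2⟩⟩, rfl⟩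
  have hker' : ψ.ker = θ.ker := by
    ext n
    rw [MonoidHom.mem_ker, MonoidHom.mem_ker, hθk]
    change π (inclusion hNH n) = 1 ↔ _
    rw [hker]
    constructor
    · intro h
      exact D.RQ _ h (D.Lt (mem_inf.1 n.2).1)
    · intro h
      exact D.QR h
  exact ⟨(MulEquiv.subgroupCongr hrange.symm).trans ((QuotientGroup.quotientKerEquivRange ψ).symm.trans
    ((QuotientGroup.quotientMulEquivOfEq hker').trans (QuotientGroup.quotientKerEquivOfSurjective θ hθ)))⟩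

omit hker in
/-- a sign on the quotient gives one on `G` -/
theorem exists_hom_of_quot (m : X →* ℤˣ) (hm : m (tb D π) = -1) : ∃ m : G →* ℤˣ, m D.t = -1 := by
  refine TR.exists_hom_of_class (H := normalizer (D.R : Set G)) (m.comp π) D.tt D.t_mem_H hm ?_ D.odd_relIndex
  intro g h _
  obtain ⟨k, hk, hk1⟩ := D.exists_conj_H (g := g⁻¹) (by rw [inv_inv]; exact h)
  rw [inv_inv] at hk1
  exact ⟨k, hk, hk1.symm⟩

end Quot

/-- The reduction to `N_G(R) / R`. -/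
theorem main [Finite G] (nofix : ∀ n ∈ D.R, (D.t * n) * (D.t * n) = 1 → ∃ r ∈ D.R, D.t * n = r * D.t * r⁻¹)
    (θ : (D.L ⊓ normalizer (D.Q : Set G) : Subgroup G) →* Matrix.GeneralLinearGroup (Fin 3) (ZMod 2))
    (hθ : Function.Surjective θ) (hθk : ∀ n, θ n = 1 ↔ (n : G) ∈ D.Q) : ∃ m : G →* ℤˣ, m D.t = -1 := by
  have hn : (D.R.subgroupOf (normalizer (D.R : Set G))).Normal := normal_in_normalizer
  set π := QuotientGroup.mk' (D.R.subgroupOf (normalizer (D.R : Set G))) with hπ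
  have hker : ∀ h, π h = 1 ↔ (h : G) ∈ D.R := by
    intro h
    rw [← MonoidHom.mem_ker, hπ, QuotientGroup.ker_mk', mem_subgroupOf]
  have hsurj : Function.Surjective π := QuotientGroup.mk'_surjective _
  obtain ⟨e⟩ := D.exists_equiv π hker θ hθ hθk
  obtain ⟨m, hm⟩ := LThreeModel.exists_hom (t := tb D π) (Y := Y D π)
    ⟨D.tb_sq π, D.quot_comm π, D.quot_cent π hker hsurj, D.quot_all π hker, D.quot_DY π hker nofix hsurj⟩ e
  exact D.exists_hom_of_quot π m hm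

/-- `t` cannot act trivially on `R / Z` if an involution of `N_L(Q)` does not. -/
theorem false_of_triv [Finite G] (ht : ∀ r ∈ D.R, D.t * r * D.t * r⁻¹ ∈ D.Z) {y : G} (hy : y ∈ D.L)
    (hyN : y ∈ normalizer (D.Q : Set G)) (yy : y * y = 1) {r : G} (hr : r ∈ D.R)
    (hyr : y * r * y⁻¹ * r⁻¹ ∉ D.Z) : False := by
  obtain ⟨g, hg⟩ := D.all y hy yy
  have hyR := D.NR y hy hyN
  obtain ⟨k, hk, hk1⟩ := D.exists_conj_H (g := g) (by rw [← hg]; exact mul_mem D.t_mem_H hyR)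
  rw [← hg] at hk1
  have kZ : ∀ k ∈ normalizer (D.R : Set G), ∀ z ∈ D.Z, k * z * k⁻¹ ∈ D.Z := by
    intro k hk z hz
    rw [D.mem_Z_iff] at hz ⊢
    refine ⟨(mem_normalizer_iff.1 hk z).1 hz.1, fun r hr => ?_⟩
    have h6 := hz.2 _ ((mem_normalizer_iff''.1 hk r).1 hr)
    calc k * z * k⁻¹ * r = k * (z * (k⁻¹ * r * k)) * k⁻¹ := by group
      _ = r * (k * z * k⁻¹) := by rw [h6]; group
  -- `t y` acts trivially on `R / Z`
  have h1 : ∀ r ∈ D.R, (D.t * y) * r * (D.t * y)⁻¹ * r⁻¹ ∈ D.Z := by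
    intro r hr
    rw [← hk1]
    have h2 := kZ k hk _ (ht _ ((mem_normalizer_iff''.1 hk r).1 hr))
    have h3 : k * (D.t * (k⁻¹ * r * k) * D.t * (k⁻¹ * r * k)⁻¹) * k⁻¹ =
        (k * D.t * k⁻¹) * r * (k * D.t⁻¹ * k⁻¹) * r⁻¹ := by
      rw [D.t_inv]; group
    rw [h3] at h2
    have h4 : (k * D.t * k⁻¹) * r * (k * D.t * k⁻¹)⁻¹ * r⁻¹ = (k * D.t * k⁻¹) * r * (k * D.t⁻¹ * k⁻¹) * r⁻¹ := by
      group
    rw [h4]
    exact h2
  apply hyr
  have hyr' : y * r * y⁻¹ ∈ D.R := (mem_normalizer_iff.1 hyR r).1 hr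
  have h2 := h1 r hr
  have h3 := ht _ hyr'
  have h4 : y * r * y⁻¹ * r⁻¹ = (D.t * (y * r * y⁻¹) * D.t * (y * r * y⁻¹)⁻¹)⁻¹ *
      ((D.t * y) * r * (D.t * y)⁻¹ * r⁻¹) := by
    have h5 : (D.t * y)⁻¹ = y⁻¹ * D.t := by rw [mul_inv_rev, D.t_inv]
    rw [h5]
    group
  rw [h4]
  exact mul_mem (inv_mem h3) h2

end RData

end Cfsg.Agent.StdSpSix.RLevel
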