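import Cfsg.Agent.StdSpSix.Counts

/-!
# The contradiction in `C_G(b_v)/⟨b_v⟩`
-/

set_option autoImplicit false

namespace Cfsg.Agent.StdSpSix.Sw

open Cfsg.Agent.SporRec.TwoSp6
open Cfsg.Agent.StdSpSix.Words

/-- codes orthogonal to `v` -/
def ok (k : ℕ) : Prop := k < 64 ∧ Sp.fN k 1 = false

/-- the six codes -/
def six : List ℕ := [2, 16, 22, 18, 20, 6]

/-- codes of transvections -/
def gen : List ℕ := [2, 16, 18, 6, 4, 32]

instance (k : ℕ) : Decidable (ok k) := by unfold ok; infer_instance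

theorem ok_six : ∀ q ∈ six, ok q := by decide

theorem ok_xor_tab : ∀ k l : Fin 64, Sp.fN k 1 = false → Sp.fN l 1 = false → (k.1 ^^^ l.1 < 64 ∧ Sp.fN (k.1 ^^^ l.1) 1 = false) := by
  decide +kernel

theorem ok_xor {k l : ℕ} (hk : ok k) (hl : ok l) : ok (k ^^^ l) := ok_xor_tab ⟨k, hk.1⟩ ⟨l, hl.1⟩ hk.2 hl.2

theorem tab_triple : ∀ q ∈ six, ∀ q' ∈ six, Sp.fN q q' = true → ∃ p ∈ six, Sp.fN p q = true ∧ Sp.fN p q' = true ∧
    Sp.fN p (q ^^^ q') = false ∧ p ≠ q ^^^ q' := by decide +kernel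

theorem tab_six : ∀ q ∈ six, ∀ q' ∈ six, Sp.fN q q' = true → q ^^^ q' ∈ six := by decide +kernel

theorem tab_ind : ∀ p ∈ six, ∀ q ∈ six, ∀ q' ∈ six, Sp.fN q q' = true → Sp.fN p q = true → Sp.fN p q' = true →
    Sp.fN p (q ^^^ q') = false → p ≠ q ^^^ q' → ∀ e e1 e2 : Bool,
    ((if e then p else 0) ^^^ ((if e1 then p ^^^ q else 0) ^^^ (if e2 then p ^^^ q' else 0)) = 0 ∨
     (if e then p else 0) ^^^ ((if e1 then p ^^^ q else 0) ^^^ (if e2 then p ^^^ q' else 0)) = 1) →
    e = false ∧ e1 = false ∧ e2 = false := by decide +kernel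

theorem tab_zero : ∀ k : Fin 64, Sp.fN k 1 = false → Sp.fN k 2 = false → Sp.fN k 16 = false → Sp.fN k 4 = false →
    Sp.fN k 32 = false → k.1 = 0 ∨ k.1 = 1 := by decide +kernel

section Abs

variable {M : Type*} [Group M]

theorem abs_T1 {p q s cp cq cs z : M} (h : p * q * s = z) (zs : z * s = s * z) (zz : z * z = 1)
    (sp : p * p = cp) (sq : q * q = cq) (ss : s * s = cs) (hc : cp * cq = cs) (hcs : cs * cs = 1) :
    q * p = p * q := by
  have h1 : p * q = z * s⁻¹ := by rw [← h]; group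
  have h2 : p * q * (p * q) = cs := by
    have zs' : s⁻¹ * z = z * s⁻¹ := by
      calc s⁻¹ * z = s⁻¹ * (z * s) * s⁻¹ := by group
        _ = z * s⁻¹ := by rw [zs]; group
    calc p * q * (p * q) = z * (s⁻¹ * z) * s⁻¹ := by rw [h1]; group
      _ = z * z * (s * s)⁻¹ := by rw [zs']; group
      _ = cs⁻¹ := by rw [zz, ss, one_mul]
      _ = cs := inv_eq_of_mul_eq_one_left hcs
  have h3 : p * (p * q) * q = cs := by
    rw [← hc, ← sp, ← sq]; group
  calc q * p = p⁻¹ * (p * q * (p * q)) * q⁻¹ := by group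
    _ = p⁻¹ * (p * (p * q) * q) * q⁻¹ := by rw [h2, h3]
    _ = p * q := by group

theorem abs_T2 {t p q s cp cq cs z : M} (h : p * q * s = t * z) (tt : t * t = 1) (st : s * t = t * s * cs)
    (tz : t * z = z * t) (zs : z * s = s * z)
    (zz : z * z = 1) (sp : p * p = cp) (sq : q * q = cq) (ss : s * s = cs) (hc : cp * cq = cs) (hcs : cs * cs = 1)
    (hcp : cp * q = q * cp) : q * p = p * q * cs := by
  have h1 : p * q = t * z * s⁻¹ := by rw [← h]; group
  have zs' : s⁻¹ * z = z * s⁻¹ := by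
    calc s⁻¹ * z = s⁻¹ * (z * s) * s⁻¹ := by group
      _ = z * s⁻¹ := by rw [zs]; group
  have h4 : t * s⁻¹ * t = cs⁻¹ * s⁻¹ := by
    have h5 : t * s * t = s * cs := by
      calc t * s * t = t * (s * t) := by group
        _ = t * t * s * cs := by rw [st]; group
        _ = s * cs := by rw [tt, one_mul]
    have ti : t⁻¹ = t := inv_eq_of_mul_eq_one_left tt
    calc t * s⁻¹ * t = (t * s * t)⁻¹ := by rw [mul_inv_rev, mul_inv_rev, ti]; group
      _ = cs⁻¹ * s⁻¹ := by rw [h5, mul_inv_rev]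
  have h2 : p * q * (p * q) = 1 := by
    calc p * q * (p * q) = t * z * s⁻¹ * (t * z) * s⁻¹ := by rw [h1]; group
      _ = t * (z * s⁻¹) * (t * z) * s⁻¹ := by group
      _ = t * (z * s⁻¹) * (z * t) * s⁻¹ := by rw [tz]
      _ = t * (s⁻¹ * z) * (z * t) * s⁻¹ := by rw [zs']
      _ = t * s⁻¹ * (z * z) * t * s⁻¹ := by group
      _ = (t * s⁻¹ * t) * s⁻¹ := by rw [zz]; group
      _ = cs⁻¹ * (s * s)⁻¹ := by rw [h4]; group
      _ = (cs * cs)⁻¹ := by rw [ss, mul_inv_rev]
      _ = 1 := by rw [hcs, inv_one]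
  have h3 : p * q * cs = p⁻¹ * q⁻¹ := by
    have h6 : q * p * (p * q * cs) = 1 := by
      calc q * p * (p * q * cs) = q * (p * p) * q * cs := by group
        _ = q * (q * cp) * cs := by rw [sp, mul_assoc q cp q, hcp]
        _ = (q * q) * cp * cs := by group
        _ = (cp * cq)⁻¹ * cs * (cp * cq) * cs := by
            rw [sq]
            have hcc : cq * cp = cp * cq := by
              rw [← sq]
              calc q * q * cp = q * (q * cp) := by group
                _ = q * (cp * q) := by rw [hcp]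
                _ = (q * cp) * q := by group
                _ = (cp * q) * q := by rw [hcp]
                _ = cp * (q * q) := by group
            rw [hcc, hc]; group
        _ = 1 := by rw [hc]; simp [hcs]
    calc p * q * cs = (q * p)⁻¹ * (q * p * (p * q * cs)) := by group
      _ = p⁻¹ * q⁻¹ := by rw [h6]; group
  rw [h3]
  calc q * p = p⁻¹ * (p * q * (p * q)) * q⁻¹ := by group
    _ = p⁻¹ * q⁻¹ := by rw [h2]; group

end Abs

theorem absKill {M : Type*} [Group M] (t w : M) (C r b : ℕ → M)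
    (tt : t * t = 1) (ww : w * w = 1) (tw : t * w = w * t)
    (CC : ∀ k l, ok k → ok l → C k * C l = C (k ^^^ l))
    (Ct : ∀ k, ok k → C k * t = t * C k) (Cw : ∀ k, ok k → C k * w = w * C k)
    (C0 : ∀ k, ok k → (C k = 1 ↔ k = 0 ∨ k = 1))
    (Cr : ∀ k, ok k → ∀ q ∈ six, C k * r q = r q * C k)
    (sq : ∀ q ∈ six, r q * r q = C q)
    (rt : ∀ q ∈ six, r q * t = t * r q * C q)
    (wr : ∀ q ∈ six, w * r q = r q * w)
    (dis : ∀ p ∈ six, ∀ q ∈ six, Sp.fN p q = false → r p * r q = r q * r p)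
    (nf : ∀ p ∈ six, ∀ q ∈ six, Sp.fN p q = true → ∃ j k, ok k ∧
      (r p * r q * r (p ^^^ q) = w ^ j * C k ∨ r p * r q * r (p ^^^ q) = t * (w ^ (j : ℕ) * C k)))
    (br : ∀ p ∈ gen, ∀ q ∈ six, tc p q ∈ six → b p * r q = r (tc p q) * b p)
    (bw : ∀ p ∈ gen, b p * w = w * b p)
    (bC : ∀ p ∈ gen, ∀ k, ok k → b p * C k = C k * b p → Sp.fN k p = false) : False := by
  have c0 : C 0 = 1 := (C0 0 (by decide)).2 (Or.inl rfl)
  have CCs : ∀ k, ok k → C k * C k = 1 := by
    intro k hk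
    rw [CC k k hk hk, Nat.xor_self, c0]
  have CCc : ∀ k l, ok k → ok l → C k * C l = C l * C k := by
    intro k l hk hl
    rw [CC k l hk hl, CC l k hl hk, Nat.xor_comm]
  -- the elements `w ^ j * C k`
  have wjr : ∀ (j : ℕ) q, q ∈ six → w ^ j * r q = r q * w ^ j := fun j q hq => (Commute.pow_left (wr q hq) j : _)
  have wjC : ∀ (j : ℕ) k, ok k → w ^ j * C k = C k * w ^ j := fun j k hk => (Commute.pow_left (Cw k hk).symm j : _)
  have wjt : ∀ (j : ℕ), w ^ j * t = t * w ^ j := fun j => (Commute.pow_left tw.symm j : _)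
  have wjj : ∀ (j : ℕ), w ^ j * w ^ j = 1 := by
    intro j
    rw [← (Commute.refl w).mul_pow j, ww, one_pow]
  have zr : ∀ (j : ℕ) k, ok k → ∀ q ∈ six, w ^ j * C k * r q = r q * (w ^ j * C k) := by
    intro j k hk q hq
    rw [mul_assoc, Cr k hk q hq, ← mul_assoc, wjr j q hq, mul_assoc]
  have zt : ∀ (j : ℕ) k, ok k → t * (w ^ j * C k) = w ^ j * C k * t := by
    intro j k hk
    rw [← mul_assoc, ← wjt, mul_assoc, ← Ct k hk, ← mul_assoc]
  have zz : ∀ (j : ℕ) k, ok k → w ^ j * C k * (w ^ j * C k) = 1 := by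
    intro j k hk
    calc w ^ j * C k * (w ^ j * C k) = w ^ j * (C k * w ^ j) * C k := by group
      _ = w ^ j * w ^ j * (C k * C k) := by rw [← wjC j k hk]; group
      _ = 1 := by rw [wjj, CCs k hk, one_mul]
  -- normal forms with exponents
  have nf' : ∀ p ∈ six, ∀ q ∈ six, Sp.fN p q = true → ∃ (e : Bool) (j k : ℕ), ok k ∧
      r p * r q * r (p ^^^ q) = (if e then t else 1) * (w ^ j * C k) ∧
      r p * r q = r q * r p * C (if e then p ^^^ q else 0) := by
    intro p hp q hq hpq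
    obtain ⟨j, k, hk, h⟩ := nf p hp q hq hpq
    have hs := tab_six p hp q hq hpq
    have hcs := CCs _ (ok_six _ hs)
    have hc := CC p q (ok_six p hp) (ok_six q hq)
    rcases h with h | h
    · refine ⟨false, j, k, hk, ?_, ?_⟩
      · rw [h]; simp
      · have h1 := abs_T1 h (zr j k hk _ hs) (zz j k hk) (sq p hp) (sq q hq) (sq _ hs) hc hcs
        rw [h1]; simp [c0]
    · refine ⟨true, j, k, hk, ?_, ?_⟩
      · rw [h]; simp
      · have h1 := abs_T2 h tt (rt _ hs) (zt j k hk) (zr j k hk _ hs) (zz j k hk) (sq p hp) (sq q hq) (sq _ hs) hc hcs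
          (Cr p (ok_six p hp) q hq)
        rw [h1]
        have : (if true = true then p ^^^ q else 0) = p ^^^ q := rfl
        rw [this, mul_assoc, hcs, mul_one]
  -- all exponents vanish
  have hall : ∀ q ∈ six, ∀ q' ∈ six, Sp.fN q q' = true →
      (∃ j k : ℕ, ok k ∧ r q * r q' * r (q ^^^ q') = w ^ j * C k) ∧ r q * r q' = r q' * r q := by
    intro q hq q' hq' hqq
    obtain ⟨p, hp, hpq, hpq', hps, hpn⟩ := tab_triple q hq q' hq' hqq
    obtain ⟨e, j, k, hk, h1, h2⟩ := nf' q hq q' hq' hqq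
    obtain ⟨e1, -, -, -, -, h3⟩ := nf' p hp q hq hpq
    obtain ⟨e2, -, -, -, -, h4⟩ := nf' p hp q' hq' hpq'
    have hs := tab_six q hq q' hq' hqq
    have h5 := dis p hp _ hs hps
    have ok1 : ok (if e1 then p ^^^ q else 0) := by
      cases e1
      · exact (by decide : ok 0)
      · exact ok_xor (ok_six p hp) (ok_six q hq)
    have ok2 : ok (if e2 then p ^^^ q' else 0) := by
      cases e2
      · exact (by decide : ok 0)
      · exact ok_xor (ok_six p hp) (ok_six q' hq')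
    have okp : ok (if e then p else 0) := by
      cases e
      · exact (by decide : ok 0)
      · exact ok_six p hp
    set x1 := (if e1 then p ^^^ q else 0)
    set x2 := (if e2 then p ^^^ q' else 0)
    have h6 : r p * (r q * r q' * r (q ^^^ q')) = r q * r q' * r (q ^^^ q') * r p * (C x1 * C x2) := by
      calc r p * (r q * r q' * r (q ^^^ q')) = r p * r q * r q' * r (q ^^^ q') := by group
        _ = r q * r p * (C x1 * r q') * r (q ^^^ q') := by rw [h3]; group
        _ = r q * (r p * r q') * C x1 * r (q ^^^ q') := by rw [Cr x1 ok1 q' hq']; group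
        _ = r q * r q' * r p * (C x2 * C x1 * r (q ^^^ q')) := by rw [h4]; group
        _ = r q * r q' * (r p * r (q ^^^ q')) * (C x2 * C x1) := by
          rw [mul_assoc (C x2), Cr x1 ok1 _ hs, ← mul_assoc (C x2), Cr x2 ok2 _ hs]; group
        _ = _ := by rw [h5, CCc x1 x2 ok1 ok2]; group
    rw [h1] at h6
    have h7 : r p * ((if e then t else 1) * (w ^ j * C k)) =
        (if e then t else 1) * (w ^ j * C k) * r p * C (if e then p else 0) := by
      cases e
      · change r p * (1 * (w ^ j * C k)) = 1 * (w ^ j * C k) * r p * C 0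
        rw [one_mul, c0, mul_one, zr j k hk p hp]
      · change r p * (t * (w ^ j * C k)) = t * (w ^ j * C k) * r p * C p
        calc r p * (t * (w ^ j * C k)) = (r p * t) * (w ^ j * C k) := by group
          _ = t * r p * (C p * w ^ j) * C k := by rw [rt p hp]; group
          _ = t * r p * w ^ j * (C p * C k) := by rw [← wjC j p (ok_six p hp)]; group
          _ = t * r p * (w ^ j * C k) * C p := by rw [CCc p k (ok_six p hp) hk]; group
          _ = t * (r p * (w ^ j * C k)) * C p := by group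
          _ = _ := by rw [← zr j k hk p hp]; group
    rw [h7] at h6
    have h8 := mul_left_cancel h6
    have h9 : C (if e then p else 0) * (C x1 * C x2) = 1 := by
      rw [h8]
      calc C x1 * C x2 * (C x1 * C x2) = C x1 * (C x2 * C x1) * C x2 := by group
        _ = C x1 * C x1 * (C x2 * C x2) := by rw [← CCc x1 x2 ok1 ok2]; group
        _ = 1 := by rw [CCs x1 ok1, CCs x2 ok2, one_mul]
    rw [CC x1 x2 ok1 ok2, CC _ _ okp (ok_xor ok1 ok2)] at h9
    have h10 := (C0 _ (ok_xor okp (ok_xor ok1 ok2))).1 h9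
    obtain ⟨rfl, -, -⟩ := tab_ind p hp q hq q' hq' hqq hpq hpq' hps hpn e e1 e2 h10
    refine ⟨⟨j, k, hk, ?_⟩, ?_⟩
    · rw [h1]; simp
    · rw [h2]; simp [c0]
  have m2 : 2 ∈ six := by decide
  have m16 : 16 ∈ six := by decide
  have m18 : 18 ∈ six := by decide
  have m22 : 22 ∈ six := by decide
  have m20 : 20 ∈ six := by decide
  have m6 : 6 ∈ six := by decide
  obtain ⟨⟨j, k, hk, h0⟩, c2_16⟩ := hall 2 m2 16 m16 (by decide)
  have e18 : (2 ^^^ 16 : ℕ) = 18 := by decide
  rw [e18] at h0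
  have c2_18 := (hall 2 m2 18 m18 (by decide)).2
  have c16_18 := (hall 16 m16 18 m18 (by decide)).2
  have c2_22 := (hall 2 m2 22 m22 (by decide)).2
  have c16_22 := (hall 16 m16 22 m22 (by decide)).2
  have br' : ∀ p q q', p ∈ gen → q ∈ six → q' ∈ six → tc p q = q' → b p * r q = r q' * b p := by
    intro p q q' hp hq hq' h
    rw [← h] at hq' ⊢
    exact br p hp q hq hq'
  have b3 : ∀ p q1 q2 q3 q1' q2' q3', b p * r q1 = r q1' * b p → b p * r q2 = r q2' * b p →
      b p * r q3 = r q3' * b p → b p * (r q1 * r q2 * r q3) = r q1' * r q2' * r q3' * b p := by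
    intro p q1 q2 q3 q1' q2' q3' h1 h2 h3
    calc b p * (r q1 * r q2 * r q3) = (b p * r q1) * r q2 * r q3 := by group
      _ = r q1' * (b p * r q2) * r q3 := by rw [h1]; group
      _ = r q1' * r q2' * (b p * r q3) := by rw [h2]; group
      _ = _ := by rw [h3]; group
  have bwj : ∀ p ∈ gen, b p * w ^ j = w ^ j * b p := fun p hp => (Commute.pow_right (bw p hp) j : _)
  -- `k` is trivial
  have hbk : ∀ p ∈ gen, b p * (r 2 * r 16 * r 18) = r 2 * r 16 * r 18 * b p → Sp.fN k p = false := by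
    intro p hp h
    apply bC p hp k hk
    rw [h0] at h
    have h1 : w ^ j * (b p * C k) = w ^ j * (C k * b p) := by
      calc w ^ j * (b p * C k) = (w ^ j * b p) * C k := by group
        _ = b p * (w ^ j * C k) := by rw [← bwj p hp]; group
        _ = _ := by rw [h]; group
    exact mul_left_cancel h1
  have k1 := hbk 2 (by decide) (by
    rw [b3 2 2 16 18 2 18 16 (br' 2 2 2 (by decide) m2 m2 (by decide)) (br' 2 16 18 (by decide) m16 m18 (by decide))
      (br' 2 18 16 (by decide) m18 m16 (by decide)), mul_assoc (r 2), ← c16_18, ← mul_assoc (r 2)])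
  have k2 := hbk 16 (by decide) (by
    rw [b3 16 2 16 18 18 16 2 (br' 16 2 18 (by decide) m2 m18 (by decide)) (br' 16 16 16 (by decide) m16 m16 (by decide))
      (br' 16 18 2 (by decide) m18 m2 (by decide))]
    congr 1
    calc r 18 * r 16 * r 2 = r 18 * (r 16 * r 2) := by group
      _ = (r 18 * r 2) * r 16 := by rw [← c2_16]; group
      _ = r 2 * (r 18 * r 16) := by rw [← c2_18]; group
      _ = r 2 * r 16 * r 18 := by rw [← c16_18]; group)
  have k3 := hbk 4 (by decide)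
    (b3 4 2 16 18 2 16 18 (br' 4 2 2 (by decide) m2 m2 (by decide)) (br' 4 16 16 (by decide) m16 m16 (by decide))
      (br' 4 18 18 (by decide) m18 m18 (by decide)))
  have k4 := hbk 32 (by decide)
    (b3 32 2 16 18 2 16 18 (br' 32 2 2 (by decide) m2 m2 (by decide)) (br' 32 16 16 (by decide) m16 m16 (by decide))
      (br' 32 18 18 (by decide) m18 m18 (by decide)))
  have hk0 := tab_zero ⟨k, hk.1⟩ hk.2 k1 k2 k3 k4
  have hCk := (C0 k hk).2 hk0
  rw [hCk, mul_one] at h0
  -- the four triangles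
  have step : ∀ p ∈ gen, ∀ q1 q2 q3 q1' q2' q3', b p * (r q1 * r q2 * r q3) = r q1' * r q2' * r q3' * b p →
      r q1 * r q2 * r q3 = w ^ j → r q1' * r q2' * r q3' = w ^ j := by
    intro p hp q1 q2 q3 q1' q2' q3' h h'
    rw [h', bwj p hp] at h
    exact (mul_right_cancel h).symm
  have g2 := step 6 (by decide) _ _ _ _ _ _ (b3 6 2 16 18 2 22 20 (br' 6 2 2 (by decide) m2 m2 (by decide))
    (br' 6 16 22 (by decide) m16 m22 (by decide)) (br' 6 18 20 (by decide) m18 m20 (by decide))) h0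
  have g3 := step 18 (by decide) _ _ _ _ _ _ (b3 18 2 22 20 16 22 6 (br' 18 2 16 (by decide) m2 m16 (by decide))
    (br' 18 22 22 (by decide) m22 m22 (by decide)) (br' 18 20 6 (by decide) m20 m6 (by decide))) g2
  have g4 := step 2 (by decide) _ _ _ _ _ _ (b3 2 16 22 6 18 20 6 (br' 2 16 18 (by decide) m16 m18 (by decide))
    (br' 2 22 20 (by decide) m22 m20 (by decide)) (br' 2 6 6 (by decide) m6 m6 (by decide))) g3
  -- the product
  have f18 : r 18 = (r 2 * r 16)⁻¹ * w ^ j := by rw [← h0]; group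
  have f20 : r 20 = (r 2 * r 22)⁻¹ * w ^ j := by rw [← g2]; group
  have f6 : r 6 = (r 16 * r 22)⁻¹ * w ^ j := by rw [← g3]; group
  have hw2 : w ^ j * (r 2 * r 22)⁻¹ = (r 2 * r 22)⁻¹ * w ^ j := by
    have c : Commute (w ^ j) (r 2 * r 22) := Commute.mul_right (wjr j 2 m2) (wjr j 22 m22)
    exact c.inv_right
  have hw3 : w ^ j * (r 16 * r 22)⁻¹ = (r 16 * r 22)⁻¹ * w ^ j := by
    have c : Commute (w ^ j) (r 16 * r 22) := Commute.mul_right (wjr j 16 m16) (wjr j 22 m22)
    exact c.inv_right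
  have h11 : (r 2 * r 16)⁻¹ * (r 2 * r 22)⁻¹ * (r 16 * r 22)⁻¹ = 1 := by
    rw [f18, f20, f6] at g4
    have h12 : (r 2 * r 16)⁻¹ * w ^ j * ((r 2 * r 22)⁻¹ * w ^ j) * ((r 16 * r 22)⁻¹ * w ^ j) =
        (r 2 * r 16)⁻¹ * (r 2 * r 22)⁻¹ * (r 16 * r 22)⁻¹ * w ^ j := by
      calc (r 2 * r 16)⁻¹ * w ^ j * ((r 2 * r 22)⁻¹ * w ^ j) * ((r 16 * r 22)⁻¹ * w ^ j)
          = (r 2 * r 16)⁻¹ * (w ^ j * (r 2 * r 22)⁻¹) * w ^ j * ((r 16 * r 22)⁻¹ * w ^ j) := by group
        _ = (r 2 * r 16)⁻¹ * (r 2 * r 22)⁻¹ * (w ^ j * w ^ j) * ((r 16 * r 22)⁻¹ * w ^ j) := by rw [hw2]; group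
        _ = _ := by rw [wjj, mul_one]; group
    rw [h12] at g4
    exact mul_eq_right.1 g4
  have h13 : r 16 * r 22 * (r 2 * r 22) * (r 2 * r 16) = 1 := by
    rw [← inv_inj, inv_one, ← h11]; group
  have h14 : r 16 * r 22 * (r 2 * r 22) * (r 2 * r 16) = C 4 := by
    calc r 16 * r 22 * (r 2 * r 22) * (r 2 * r 16) = r 16 * r 22 * r 2 * (r 22 * r 2) * r 16 := by group
      _ = r 16 * r 22 * (r 2 * r 2) * (r 22 * r 16) := by rw [← c2_22]; group
      _ = r 16 * (r 22 * C 2) * (r 22 * r 16) := by rw [sq 2 m2]; group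
      _ = r 16 * C 2 * (r 22 * r 22) * r 16 := by rw [← Cr 2 (by decide) 22 m22]; group
      _ = r 16 * (C 2 * C 22 * r 16) := by rw [sq 22 m22]; group
      _ = r 16 * r 16 * (C 2 * C 22) := by rw [CC 2 22 (by decide) (by decide), Cr _ (by decide) 16 m16]; group
      _ = C 4 := by
        rw [sq 16 m16, CC 2 22 (by decide) (by decide), CC 16 _ (by decide) (by decide)]
        congr 1
  rw [h14] at h13
  have h15 := (C0 4 (by decide)).1 h13
  omega

end Cfsg.Agent.StdSpSix.Sw
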