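import Cfsg.Agent.StdSpSix.SwDefs
import Cfsg.Agent.StdSpSix.Counts

/-!
# The elements `y_u` in coordinates: uniqueness, and the commutator of two of them
-/

set_option autoImplicit false

namespace Cfsg.Agent.StdSpSix.Sw

open Cfsg.Agent.StandardComponent.SpTwo
open Cfsg.Agent.SporRec.TwoSp6
open Cfsg.Agent.StdSpSix.Words
open Cfsg.Agent.StdSpSix.Counts

/-! ### facts about `Sp₆(2)` -/

theorem tr_inj {u w : Sp.V} (h : Sp.tr u = Sp.tr w) : u = w := by
  have key : ∀ {u w : Sp.V}, Sp.tr u = Sp.tr w → u ≠ 0 → u = w := by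
    intro u w h hu
    by_contra hne
    obtain ⟨a, h1, h2⟩ := Sp.exists_om_one_zero hu hne
    have h3 : Sp.act (Sp.tr u) a = Sp.act (Sp.tr w) a := by rw [h]
    rw [Sp.act_tr, Sp.act_tr, Sp.om_symm a u, Sp.om_symm a w, h1, h2, one_smul, zero_smul, add_zero] at h3
    exact hu (add_eq_left.1 h3)
  by_cases hu : u = 0
  · by_cases hw : w = 0
    · rw [hu, hw]
    · exact (key h.symm hw).symm
  · exact key h hu

theorem comm_iff {s : Sp.S} {u : Sp.V} : s * Sp.tr u = Sp.tr u * s ↔ Sp.act s u = u := by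
  constructor
  · intro h
    apply tr_inj
    rw [← Sp.conj_tr, h]; group
  · intro h
    have h1 := Sp.conj_tr s u
    rw [h] at h1
    calc s * Sp.tr u = s * Sp.tr u * s⁻¹ * s := by group
      _ = Sp.tr u * s := by rw [h1]

theorem om_tr_comm {u w : Sp.V} (h : Sp.om u w = 0) : Sp.tr w * Sp.tr u = Sp.tr u * Sp.tr w :=
  (Sp.tr_comm h).symm

theorem dc1 {s : Sp.S} {u : Sp.V} (hu : u ≠ 0) (h : ∀ r, r * Sp.tr u = Sp.tr u * r → s * r = r * s) :
    s = 1 ∨ s = Sp.tr u := by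
  have hfix : ∀ w, Sp.om u w = 0 → Sp.act s w = w := fun w hw => comm_iff.1 (h _ (om_tr_comm hw))
  obtain ⟨x, hx⟩ := Sp.exists_om_one hu
  have h1 : ∀ w, Sp.om u w = 0 → Sp.om (Sp.act s x + x) w = 0 := by
    intro w hw
    have h2 : Sp.om (Sp.act s x) w = Sp.om x w := by
      conv_lhs => rw [← hfix w hw]
      exact Sp.act_om _ _ _
    rw [Sp.om_add', h2, CharTwo.add_self_eq_zero]
  have h2 : Sp.act s x = x ∨ Sp.act s x = x + u := by
    by_cases h0 : Sp.act s x + x = 0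
    · left
      exact Invol.eq_of_add_eq_zero h0
    · by_cases h3 : Sp.act s x + x = u
      · right
        rw [← h3, add_comm (Sp.act s x) x, ← add_assoc, Sp.add_self, zero_add]
      · obtain ⟨a, ha, hb⟩ := Sp.exists_om_one_zero h0 h3
        rw [h1 a hb] at ha
        exact absurd ha (by decide)
  have h3 : ∀ y, Sp.om u y = 1 → Sp.act s y = y + (Sp.act s x + x) := by
    intro y hy
    have h4 := hfix (y + x) (by rw [Sp.om_add, hx, hy]; decide)
    rw [Sp.act_add] at h4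
    have h5 : Sp.act s y = Sp.act s y + Sp.act s x + Sp.act s x := by
      rw [add_assoc, Sp.add_self, add_zero]
    rw [h5, h4, add_assoc, add_comm x]
  rcases h2 with h2 | h2
  · left
    apply Sp.act_ext
    intro y
    rw [Sp.act_one]
    rcases Sp.om_cases u y with h4 | h4
    · exact hfix y h4
    · rw [h3 y h4, h2, Sp.add_self, add_zero]
  · right
    apply Sp.act_ext
    intro y
    rw [Sp.act_tr, Sp.om_symm]
    rcases Sp.om_cases u y with h4 | h4
    · rw [hfix y h4, h4, zero_smul, add_zero]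
    · rw [h3 y h4, h2, h4, one_smul, add_comm x u, add_assoc, Sp.add_self, add_zero]

theorem enc_split : ∀ c : Fin 64, Sp.enc c = ((if c.1.testBit 0 then Sp.enc 1 else 0) + (if c.1.testBit 1 then Sp.enc 2 else 0) +
    (if c.1.testBit 2 then Sp.enc 4 else 0)) + ((if c.1.testBit 3 then Sp.enc 8 else 0) +
    (if c.1.testBit 4 then Sp.enc 16 else 0) + (if c.1.testBit 5 then Sp.enc 32 else 0)) := by decide +kernel

theorem ext6 {s r : Sp.S} (h1 : Sp.act s (Sp.enc 1) = Sp.act r (Sp.enc 1)) (h2 : Sp.act s (Sp.enc 2) = Sp.act r (Sp.enc 2))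
    (h4 : Sp.act s (Sp.enc 4) = Sp.act r (Sp.enc 4)) (h8 : Sp.act s (Sp.enc 8) = Sp.act r (Sp.enc 8))
    (h16 : Sp.act s (Sp.enc 16) = Sp.act r (Sp.enc 16)) (h32 : Sp.act s (Sp.enc 32) = Sp.act r (Sp.enc 32)) : s = r := by
  apply Sp.act_ext
  intro x
  obtain ⟨c, hc, rfl⟩ := Sp.exists_enc x
  have hif : ∀ (b : Bool) (k : ℕ), Sp.act s (Sp.enc k) = Sp.act r (Sp.enc k) →
      Sp.act s (if b then Sp.enc k else 0) = Sp.act r (if b then Sp.enc k else 0) := by
    intro b k hk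
    cases b
    · exact (Invol.act_zero s).trans (Invol.act_zero r).symm
    · exact hk
  rw [enc_split ⟨c, hc⟩]
  simp only [Sp.act_add]
  rw [hif _ _ h1, hif _ _ h2, hif _ _ h4, hif _ _ h8, hif _ _ h16, hif _ _ h32]

/-- the eight words -/
def list8 : List (List ℕ) := [[], [1], [2], [3], [1, 2], [1, 3], [2, 3], [1, 2, 3]]

theorem tab8 : ∀ a b : Fin 64, (Sp.fN a 1 = true ∧ Sp.fN a 2 = false ∧ Sp.fN a 4 = false ∧ Sp.fN a 32 = false ∧
    Sp.fN b 1 = false ∧ Sp.fN b 2 = true ∧ Sp.fN b 4 = false ∧ Sp.fN b 32 = false ∧ Sp.fN a b = false) →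
    ∃ ks ∈ list8, wc ks 1 = 1 ∧ wc ks 2 = 2 ∧ wc ks 4 = 4 ∧ wc ks 8 = a ∧ wc ks 16 = b ∧ wc ks 32 = 32 := by decide +kernel

theorem fN_of_om {a b : ℕ} (h : Sp.om (Sp.enc a) (Sp.enc b) = 0) : Sp.fN a b = false := (om_enc_zero a b).1 h

theorem fN_of_om' {a b : ℕ} (h : Sp.om (Sp.enc a) (Sp.enc b) = 1) : Sp.fN a b = true := by
  cases hf : Sp.fN a b
  · rw [(om_enc_zero a b).2 hf] at h
    exact absurd h (by decide)
  · rfl

theorem om_of_fN {a b : ℕ} (h : Sp.fN a b = true) : Sp.om (Sp.enc a) (Sp.enc b) = 1 := by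
  rw [Sp.om_enc, h]; rfl

theorem om_of_fN' {a b : ℕ} (h : Sp.fN a b = false) : Sp.om (Sp.enc a) (Sp.enc b) = 0 := (om_enc_zero a b).2 h

theorem dc2 {s : Sp.S} (h : ∀ r, r * Sp.tr (Sp.enc 1) = Sp.tr (Sp.enc 1) * r → r * Sp.tr (Sp.enc 2) = Sp.tr (Sp.enc 2) * r →
    s * r = r * s) : ∃ ks ∈ list8, s = W ks := by
  have hfix : ∀ k, Sp.fN 1 k = false → Sp.fN 2 k = false → Sp.act s (Sp.enc k) = Sp.enc k := by
    intro k h1 h2
    exact comm_iff.1 (h _ (om_tr_comm (om_of_fN' h1)) (om_tr_comm (om_of_fN' h2)))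
  have f1 := hfix 1 (by decide) (by decide)
  have f2 := hfix 2 (by decide) (by decide)
  have f4 := hfix 4 (by decide) (by decide)
  have f32 := hfix 32 (by decide) (by decide)
  obtain ⟨a, ha, ea⟩ := Sp.exists_enc (Sp.act s (Sp.enc 8))
  obtain ⟨b, hb, eb⟩ := Sp.exists_enc (Sp.act s (Sp.enc 16))
  have ha' : ∀ k, Sp.act s (Sp.enc k) = Sp.enc k → Sp.om (Sp.enc a) (Sp.enc k) = Sp.om (Sp.enc 8) (Sp.enc k) := by
    intro k hk
    rw [← ea]
    conv_lhs => rw [← hk]
    exact Sp.act_om _ _ _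
  have hb' : ∀ k, Sp.act s (Sp.enc k) = Sp.enc k → Sp.om (Sp.enc b) (Sp.enc k) = Sp.om (Sp.enc 16) (Sp.enc k) := by
    intro k hk
    rw [← eb]
    conv_lhs => rw [← hk]
    exact Sp.act_om _ _ _
  have hab : Sp.om (Sp.enc a) (Sp.enc b) = Sp.om (Sp.enc 8) (Sp.enc 16) := by
    rw [← ea, ← eb]; exact Sp.act_om _ _ _
  obtain ⟨ks, hks, k1, k2, k4, k8, k16, k32⟩ := tab8 ⟨a, ha⟩ ⟨b, hb⟩
    ⟨fN_of_om' ((ha' 1 f1).trans (om_of_fN (by decide))), fN_of_om ((ha' 2 f2).trans (om_of_fN' (by decide))),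
    fN_of_om ((ha' 4 f4).trans (om_of_fN' (by decide))), fN_of_om ((ha' 32 f32).trans (om_of_fN' (by decide))),
    fN_of_om ((hb' 1 f1).trans (om_of_fN' (by decide))), fN_of_om' ((hb' 2 f2).trans (om_of_fN (by decide))),
    fN_of_om ((hb' 4 f4).trans (om_of_fN' (by decide))), fN_of_om ((hb' 32 f32).trans (om_of_fN' (by decide))),
    fN_of_om (hab.trans (om_of_fN' (by decide)))⟩
  refine ⟨ks, hks, ext6 ?_ ?_ ?_ ?_ ?_ ?_⟩
  · rw [act_W, k1, f1]
  · rw [act_W, k2, f2]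
  · rw [act_W, k4, f4]
  · rw [act_W, k8, ea]
  · rw [act_W, k16, eb]
  · rw [act_W, k32, f32]

/-! ### the setting -/

/-- `C_G(t) = ⟨t⟩ × Sp₆(2)`, given by an injective homomorphism. -/
structure Dat (G : Type*) [Group G] where
  t : G
  φ : Sp.S →* G
  tt : t * t = 1
  inj : Function.Injective φ
  comm : ∀ s, φ s * t = t * φ s
  cent : ∀ g, g * t = t * g → ∃ s, g = φ s ∨ g = t * φ s
  tφ : ∀ s, φ s ≠ t

variable {G : Type*} [Group G] (D : Dat G)

/-- `g` is a `y_u`. -/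
structure Y (u : Sp.V) (g : G) : Prop where
  sq : g * g = 1
  conj : g * D.t * g = D.t * D.φ (Sp.tr u)
  comm : ∀ s, Sp.act s u = u → D.φ s * g = g * D.φ s

variable {D}

theorem Y.map {u : Sp.V} {g : G} (h : Y D u g) (s : Sp.S) : Y D (Sp.act s u) (D.φ s * g * (D.φ s)⁻¹) := by
  refine ⟨?_, ?_, fun r hr => ?_⟩
  · calc D.φ s * g * (D.φ s)⁻¹ * (D.φ s * g * (D.φ s)⁻¹) = D.φ s * (g * g) * (D.φ s)⁻¹ := by group
      _ = 1 := by rw [h.sq]; group
  · have h1 : (D.φ s)⁻¹ * D.t * D.φ s = D.t := by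
      rw [mul_assoc, ← D.comm]; group
    calc D.φ s * g * (D.φ s)⁻¹ * D.t * (D.φ s * g * (D.φ s)⁻¹)
        = D.φ s * (g * ((D.φ s)⁻¹ * D.t * D.φ s) * g) * (D.φ s)⁻¹ := by group
      _ = D.φ s * D.t * D.φ (Sp.tr u) * (D.φ s)⁻¹ := by rw [h1, h.conj]; group
      _ = D.t * (D.φ s * D.φ (Sp.tr u) * (D.φ s)⁻¹) := by rw [D.comm]; group
      _ = D.t * D.φ (Sp.tr (Sp.act s u)) := by rw [← Sp.conj_tr, map_mul, map_mul, map_inv]
  · have h1 : Sp.act (s⁻¹ * r * s) u = u := by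
      rw [Sp.act_mul, Sp.act_mul, hr, ← Sp.act_mul, inv_mul_cancel, Sp.act_one]
    have h2 := h.comm _ h1
    rw [map_mul, map_mul, map_inv] at h2
    calc D.φ r * (D.φ s * g * (D.φ s)⁻¹) = D.φ s * ((D.φ s)⁻¹ * D.φ r * D.φ s * g) * (D.φ s)⁻¹ := by group
      _ = D.φ s * g * (D.φ s)⁻¹ * D.φ r := by rw [h2]; group

theorem Y.comm' {u w : Sp.V} {g : G} (h : Y D u g) (hw : Sp.om u w = 0) :
    D.φ (Sp.tr w) * g = g * D.φ (Sp.tr w) :=
  h.comm _ (by rw [Sp.act_tr, hw, zero_smul, add_zero])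

theorem φ_tr_sq (u : Sp.V) : D.φ (Sp.tr u) * D.φ (Sp.tr u) = 1 := by
  rw [← map_mul, Sp.tr_sq, map_one]

/-- uniqueness -/
theorem Y.uniq {u : Sp.V} (hu : u ≠ 0) {g g' : G} (h : Y D u g) (h' : Y D u g') :
    g' = g ∨ g' = g * D.φ (Sp.tr u) := by
  have hself : D.φ (Sp.tr u) * g = g * D.φ (Sp.tr u) := h.comm' (Sp.om_self u)
  have h1 : g * g' * D.t = D.t * (g * g') := by
    calc g * g' * D.t = g * (g' * D.t * g') * g' := by
          have e : g * (g' * D.t * g') * g' = g * g' * D.t * (g' * g') := by group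
          rw [e, h'.sq, mul_one]
      _ = g * D.t * (D.φ (Sp.tr u) * g) * g * g' := by
          rw [h'.conj]
          calc g * (D.t * D.φ (Sp.tr u)) * g' = g * D.t * D.φ (Sp.tr u) * (g * g) * g' := by rw [h.sq]; group
            _ = _ := by group
      _ = (g * D.t * g) * D.φ (Sp.tr u) * g * g' := by rw [hself]; group
      _ = D.t * (g * g') := by
          rw [h.conj, mul_assoc D.t, φ_tr_sq]; group
  obtain ⟨s, hs⟩ := D.cent _ h1
  have hs1 : s = 1 ∨ s = Sp.tr u := by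
    apply dc1 hu
    intro r hr
    have hr' := comm_iff.1 hr
    apply D.inj
    have h3 := h.comm r hr'
    have h4 := h'.comm r hr'
    rw [map_mul, map_mul]
    have h5 : D.φ r * (g * g') = g * g' * D.φ r := by
      calc D.φ r * (g * g') = D.φ r * g * g' := by group
        _ = g * g' * D.φ r := by rw [h3, mul_assoc, h4]; group
    rcases hs with hs | hs
    · rw [← hs]; exact h5.symm
    · have h6 : D.φ s = D.t * (g * g') := by
        rw [hs, ← mul_assoc, D.tt, one_mul]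
      rw [h6]
      calc D.t * (g * g') * D.φ r = D.t * (D.φ r * (g * g')) := by rw [h5]; group
        _ = D.φ r * (D.t * (g * g')) := by rw [← mul_assoc, ← D.comm]; group
  have hsg : D.φ s * g = g * D.φ s := by
    rcases hs1 with rfl | rfl
    · rw [map_one]; group
    · exact hself
  have hss : D.φ s * D.φ s = 1 := by
    rcases hs1 with rfl | rfl
    · rw [map_one, mul_one]
    · exact φ_tr_sq u
  rcases hs with hs | hs
  · have h2 : g' = g * D.φ s := by rw [← hs, ← mul_assoc, h.sq, one_mul]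
    rcases hs1 with rfl | rfl
    · left; rw [h2, map_one, mul_one]
    · right; exact h2
  · exfalso
    have h2 : g' = g * (D.t * D.φ s) := by rw [← hs, ← mul_assoc, h.sq, one_mul]
    have h3 := h'.sq
    rw [h2] at h3
    have h4 : g * (D.t * D.φ s) * (g * (D.t * D.φ s)) = D.φ (Sp.tr u) := by
      calc g * (D.t * D.φ s) * (g * (D.t * D.φ s)) = g * D.t * (D.φ s * g) * (D.t * D.φ s) := by group
        _ = g * D.t * g * (D.φ s * D.t) * D.φ s := by rw [hsg]; group
        _ = D.t * D.φ (Sp.tr u) * D.t * (D.φ s * D.φ s) := by rw [h.conj, D.comm]; group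
        _ = D.φ (Sp.tr u) := by rw [hss, mul_one, mul_assoc, D.comm, ← mul_assoc, D.tt, one_mul]
    rw [h4, ← map_one D.φ] at h3
    have h5 := D.inj h3
    apply hu
    apply tr_inj
    rw [h5, Sp.tr_zero]

/-- the commutator of two `y`'s -/
theorem pair_comm_t {u w : Sp.V} (huw : Sp.om u w = 0) {g h : G} (hg : Y D u g) (hh : Y D w h) :
    g * h * g * h * D.t = D.t * (g * h * g * h) := by
  have huw' : Sp.om w u = 0 := by rw [Sp.om_symm]; exact huw
  have g1 : g * D.t = D.t * D.φ (Sp.tr u) * g := by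
    rw [← hg.conj, mul_assoc, hg.sq, mul_one]
  have h1 : h * D.t = D.t * D.φ (Sp.tr w) * h := by
    rw [← hh.conj, mul_assoc, hh.sq, mul_one]
  have g2 : g * D.φ (Sp.tr u) = D.φ (Sp.tr u) * g := (hg.comm' (Sp.om_self u)).symm
  have g3 : g * D.φ (Sp.tr w) = D.φ (Sp.tr w) * g := (hg.comm' huw).symm
  have h2 : h * D.φ (Sp.tr u) = D.φ (Sp.tr u) * h := (hh.comm' huw').symm
  have h3 : h * D.φ (Sp.tr w) = D.φ (Sp.tr w) * h := (hh.comm' (Sp.om_self w)).symm
  have hc : D.φ (Sp.tr u) * D.φ (Sp.tr w) = D.φ (Sp.tr w) * D.φ (Sp.tr u) := by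
    rw [← map_mul, ← map_mul, Sp.tr_comm huw]
  set U := D.φ (Sp.tr u)
  set X := D.φ (Sp.tr w)
  have hU : U * U = 1 := φ_tr_sq u
  have hX : X * X = 1 := φ_tr_sq w
  have e1 : g * h * D.t = D.t * (U * X) * (g * h) := by
    calc g * h * D.t = g * (h * D.t) := by group
      _ = (g * D.t) * X * h := by rw [h1]; group
      _ = D.t * U * (g * X) * h := by rw [g1]; group
      _ = D.t * (U * X) * (g * h) := by rw [g3]; group
  have e2 : g * h * (U * X) = U * X * (g * h) := by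
    calc g * h * (U * X) = g * (h * U) * X := by group
      _ = g * U * (h * X) := by rw [h2]; group
      _ = U * (g * X) * h := by rw [g2, h3]; group
      _ = U * X * (g * h) := by rw [g3]; group
  have e3 : U * X * (U * X) = 1 := by
    calc U * X * (U * X) = U * (X * U) * X := by group
      _ = U * U * (X * X) := by rw [← hc]; group
      _ = 1 := by rw [hU, hX, one_mul]
  set p := g * h
  calc p * g * h * D.t = p * (g * h * D.t) := by group
    _ = p * (D.t * (U * X) * (g * h)) := by rw [e1]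
    _ = p * D.t * (U * X) * (g * h) := by group
    _ = D.t * (U * X) * p * (U * X) * (g * h) := by rw [e1]
    _ = D.t * (U * X) * (p * (U * X)) * (g * h) := by group
    _ = D.t * (U * X) * (U * X * p) * (g * h) := by rw [e2]
    _ = D.t * (U * X * (U * X)) * p * (g * h) := by group
    _ = D.t * (p * g * h) := by rw [e3]; group

end Cfsg.Agent.StdSpSix.Sw
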