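import Cfsg.Agent.StdSpSix.SwQuot

/-!
# The types `b_u b_w` and `b_u b_w b_{u+w}` are impossible
-/

set_option autoImplicit false

namespace Cfsg.Agent.StdSpSix.Sw

open Subgroup
open Cfsg.Agent.StandardComponent.SpTwo
open Cfsg.Agent.SporRec.TwoSp6
open Cfsg.Agent.StdSpSix.Words
open Cfsg.Agent.StdSpSix.Counts

section Abs
variable {M : Type*} [Group M]

theorem abs_orth {g g' h h' b b' E1 E2 E3 E4 : M} (k1 : g * h = E1 * (h * g)) (k2 : g * h' = E2 * (h' * g))
    (k3 : g' * h = E3 * (h * g')) (k4 : g' * h' = E4 * (h' * g')) (b1 : b * h = h * b) (b2 : b * h' = h' * b)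
    (b3 : b' * g = g * b') (b4 : b' * g' = g' * b') (bb : b * b' = b' * b) (e3 : E3 * g = g * E3)
    (e4 : E4 * g = g * E4) (e4' : E4 * h = h * E4) (e2 : E2 * h = h * E2) (hE : E3 * E4 * E1 * E2 = 1) :
    g * g' * b * (h * h' * b') = h * h' * b' * (g * g' * b) := by
  have key : g * g' * (h * h') = h * h' * (g * g') := by
    calc g * g' * (h * h') = g * (g' * h) * h' := by group
      _ = (g * E3) * h * g' * h' := by rw [k3]; group
      _ = E3 * g * h * (g' * h') := by rw [← e3]; group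
      _ = E3 * g * (h * E4) * (h' * g') := by rw [k4]; group
      _ = E3 * (g * E4) * h * (h' * g') := by rw [← e4']; group
      _ = E3 * E4 * (g * h) * (h' * g') := by rw [← e4]; group
      _ = E3 * E4 * E1 * h * (g * h') * g' := by rw [k1]; group
      _ = E3 * E4 * E1 * (h * E2) * h' * g * g' := by rw [k2]; group
      _ = (E3 * E4 * E1 * E2) * h * h' * g * g' := by rw [← e2]; group
      _ = h * h' * (g * g') := by rw [hE]; group
  calc g * g' * b * (h * h' * b') = g * g' * (b * h) * h' * b' := by group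
    _ = g * g' * h * (b * h') * b' := by rw [b1]; group
    _ = g * g' * (h * h') * (b * b') := by rw [b2]; group
    _ = h * h' * g * (g' * b') * b := by rw [key, bb]; group
    _ = h * h' * (g * b') * g' * b := by rw [← b4]; group
    _ = h * h' * b' * (g * g' * b) := by rw [← b3]; group

end Abs

variable {G : Type*} [Group G] {D : Dat G}

/-- the product of the four commutators -/
theorem E_prod (δ : Bool) (a b : ℕ) (h : (a, b) ∈ [(2, 6), (6, 2), (16, 20), (20, 16), (22, 18), (18, 22)]) :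
    Sp.tr (Sp.enc a + Sp.enc 1) * Sp.tr (Sp.enc b) * dl δ (Sp.enc a + Sp.enc 1 + Sp.enc b) *
    (Sp.tr (Sp.enc a + Sp.enc 1) * Sp.tr (Sp.enc b + Sp.enc 1) * dl δ (Sp.enc a + Sp.enc 1 + (Sp.enc b + Sp.enc 1))) *
    (Sp.tr (Sp.enc a) * Sp.tr (Sp.enc b) * dl δ (Sp.enc a + Sp.enc b)) *
    (Sp.tr (Sp.enc a) * Sp.tr (Sp.enc b + Sp.enc 1) * dl δ (Sp.enc a + (Sp.enc b + Sp.enc 1))) = 1 := by
  have key : ∀ x y : ℕ, Sp.tr (Sp.enc x) * Sp.tr (Sp.enc y) * dl δ (Sp.enc x + Sp.enc y) =
      W ([x, y] ++ if δ then [x ^^^ y] else []) := by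
    intro x y
    cases δ
    · rw [dl]; simp [W_cons, W_nil]
    · rw [dl]; simp [W_cons, W_nil, Sp.enc_xor, mul_assoc]
  rw [← Sp.enc_xor a 1, ← Sp.enc_xor b 1, key, key, key, key, ← W_append, ← W_append, ← W_append, ← W_nil]
  apply W_eq
  clear key
  revert δ a b
  simp only [List.mem_cons, List.not_mem_nil, or_false, Prod.mk.injEq]
  rintro δ a b (⟨rfl, rfl⟩ | ⟨rfl, rfl⟩ | ⟨rfl, rfl⟩ | ⟨rfl, rfl⟩ | ⟨rfl, rfl⟩ | ⟨rfl, rfl⟩) <;> cases δ <;> decide +kernel

theorem act_E (δ : Bool) {x a b : Sp.V} (ha : Sp.om x a = 0) (hb : Sp.om x b = 0) :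
    Sp.act (Sp.tr a * Sp.tr b * dl δ (a + b)) x = x := by
  rw [Sp.act_mul, act_dl δ (by rw [Sp.om_add, ha, hb, add_zero]), Sp.act_mul, Sp.act_tr b, hb, zero_smul, add_zero,
    Sp.act_tr, ha, zero_smul, add_zero]

/-- orthogonal `r`'s commute -/
theorem IsR.orth {δ : Bool} (hT : TyD D δ) {v a b : Sp.V} (hv : v ≠ 0) (ha : a ≠ 0) (hb : b ≠ 0) (hav : a ≠ v) (hbv : b ≠ v)
    (hab : b ≠ a) (habv : b ≠ a + v) (a0 : Sp.om a v = 0) (b0 : Sp.om b v = 0) (ab : Sp.om a b = 0)
    (hE : Sp.tr (a + v) * Sp.tr b * dl δ (a + v + b) * (Sp.tr (a + v) * Sp.tr (b + v) * dl δ (a + v + (b + v))) *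
      (Sp.tr a * Sp.tr b * dl δ (a + b)) * (Sp.tr a * Sp.tr (b + v) * dl δ (a + (b + v))) = 1)
    {r s : G} (hr : IsR D v a r) (hs : IsR D v b s) : r * s = s * r := by
  obtain ⟨g, g', hg, hg', -, rfl⟩ := hr
  obtain ⟨h, h', hh, hh', -, rfl⟩ := hs
  have hav0 : a + v ≠ 0 := fun h => hav (Invol.eq_of_add_eq_zero h)
  have hbv0 : b + v ≠ 0 := fun h => hbv (Invol.eq_of_add_eq_zero h)
  have va : Sp.om v a = 0 := by rw [Sp.om_symm]; exact a0
  have vb : Sp.om v b = 0 := by rw [Sp.om_symm]; exact b0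
  have ba : Sp.om b a = 0 := by rw [Sp.om_symm]; exact ab
  have o1 : Sp.om a (b + v) = 0 := by rw [Sp.om_add, ab, a0, add_zero]
  have o2 : Sp.om (a + v) b = 0 := by rw [Sp.om_add', ab, vb, add_zero]
  have o3 : Sp.om (a + v) (b + v) = 0 := by rw [Sp.om_add', o1, Sp.om_add, vb, Sp.om_self, add_zero, add_zero]
  have o4 : Sp.om b (a + v) = 0 := by rw [Sp.om_symm]; exact o2
  have o5 : Sp.om (b + v) (a + v) = 0 := by rw [Sp.om_symm]; exact o3
  have o6 : Sp.om (b + v) a = 0 := by rw [Sp.om_symm]; exact o1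
  have n1 : b + v ≠ a := fun h => habv (by rw [← h, add_assoc, Sp.add_self, add_zero])
  have n2 : b + v ≠ a + v := fun h => hab (add_right_cancel h)
  have t1 := hT a b g h ha hb hab ab hg hh
  have t2 := hT a (b + v) g h' ha hbv0 n1 o1 hg hh'
  have t3 := hT (a + v) b g' h hav0 hb habv o2 hg' hh
  have t4 := hT (a + v) (b + v) g' h' hav0 hbv0 n2 o3 hg' hh'
  refine abs_orth (abs_comm hg.sq hh.sq t1) (abs_comm hg.sq hh'.sq t2) (abs_comm hg'.sq hh.sq t3)
    (abs_comm hg'.sq hh'.sq t4) (hh.comm' ba) (hh'.comm' o6) (hg.comm' ab) (hg'.comm' o2) ?_ ?_ ?_ ?_ ?_ ?_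
  · rw [← map_mul, ← map_mul, Sp.tr_comm ab]
  · exact hg.comm _ (act_E δ (uv' a0) ab)
  · exact hg.comm _ (act_E δ (uv' a0) o1)
  · exact hh.comm _ (act_E δ o4 (uv' b0))
  · exact hh.comm _ (act_E δ ba (uv' b0))
  · rw [← map_mul, ← map_mul, ← map_mul, hE, map_one]

/-! ### the six elements -/

/-- the words of `S₄` -/
def sw (q : ℕ) : List ℕ := if q = 16 then [18] else if q = 18 then [2, 18] else if q = 22 then [6, 18] else
  if q = 20 then [2, 6, 18] else if q = 6 then [18, 2, 6, 18] else []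

theorem tab_sw : ∀ q ∈ six, wc (sw q) 2 = q ∧ wc (sw q) 1 = 1 := by decide +kernel

theorem tab_gen : ∀ p ∈ gen, ∀ q ∈ six, tc p q ∈ six → wc ((sw (tc p q)).reverse ++ ([p] ++ sw q)) 2 = 2 ∧
    wc ((sw (tc p q)).reverse ++ ([p] ++ sw q)) 1 = 1 := by decide +kernel

theorem gen_ok : ∀ p ∈ gen, ok p ∧ p ≠ 0 ∧ p ≠ 1 := by decide

theorem six_ne : ∀ p ∈ six, ok p ∧ p ≠ 0 ∧ p ≠ 1 := by decide

theorem tab_dis : ∀ p ∈ six, ∀ q ∈ six, Sp.fN p q = false → p = q ∨
    ((p, q) ∈ [(2, 6), (6, 2), (16, 20), (20, 16), (22, 18), (18, 22)] ∧ q ≠ p ∧ q ≠ p ^^^ 1) := by decide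

theorem enc_ne0 {k : ℕ} (hk : k < 64) (h : k ≠ 0) : Sp.enc k ≠ 0 := by
  rw [← enc_zero]; exact ne_of_enc hk (by decide) h

theorem kill {δ : Bool} (hT : TyD D δ) (hex : ∀ u : Sp.V, u ≠ 0 → ∃ g, Y D u g) : False := by
  set v := Sp.enc 1 with hv
  have v0 : v ≠ 0 := enc_ne0 (by decide) (by decide)
  set z := D.φ (Sp.tr v) with hz
  have zz : z * z = 1 := φ_tr_sq v
  obtain ⟨y, hy⟩ := hex v v0
  obtain ⟨g0, hg0⟩ := hex (Sp.enc 2) (enc_ne0 (by decide) (by decide))
  have ok_om : ∀ k, ok k → Sp.om v (Sp.enc k) = 0 := fun k hk => by rw [Sp.om_symm]; exact om_of_fN' hk.2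
  have ok_om' : ∀ k, ok k → Sp.om (Sp.enc k) v = 0 := fun k hk => om_of_fN' hk.2
  obtain ⟨r0, hr0⟩ := exists_R v0 (enc_ne0 (by decide) (by decide)) (ne_of_enc (by decide) (by decide) (by decide))
    (ok_om' 2 (by decide)) hg0
  -- membership in the centraliser of `z`
  have Hφ : ∀ s, Sp.act s v = v → D.φ s * z = z * D.φ s := by
    intro s hs
    rw [hz, ← map_mul, ← map_mul, comm_iff.2 hs]
  have Hφ' : ∀ s, D.φ s * z = z * D.φ s → Sp.act s v = v := by
    intro s hs
    rw [hz, ← map_mul, ← map_mul] at hs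
    exact comm_iff.1 (D.inj hs)
  have Ht : D.t * z = z * D.t := (D.comm _).symm
  have Hy : y * z = z * y := (hy.comm' (Sp.om_self v)).symm
  have yt : y * D.t = D.t * z * y := by rw [hz, ← hy.conj, mul_assoc, hy.sq, mul_one]
  -- the projection
  set P := PZ z zz with hP
  have Pm : ∀ {a b : G}, a * z = z * a → b * z = z * b → P (a * b) = P a * P b := fun ha hb => PZ_mul z zz ha hb
  have Pe : ∀ {a b : G}, a * z = z * a → b * z = z * b → (P a = P b ↔ b = a ∨ b = a * z) :=
    fun ha hb => PZ_eq z zz ha hb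
  have Pz : P z = 1 := PZ_z z zz
  have P1 : P 1 = 1 := PZ_one z zz
  have Hm : ∀ {a b : G}, a * z = z * a → b * z = z * b → a * b * z = z * (a * b) := by
    intro a b ha hb
    rw [mul_assoc, hb, ← mul_assoc, ha, mul_assoc]
  have Pdl : P (D.φ (dl δ v)) = 1 := by
    cases δ
    · change P (D.φ 1) = 1
      rw [map_one, P1]
    · exact Pz
  have Hdl : D.φ (dl δ v) * z = z * D.φ (dl δ v) := Hφ _ (act_dl δ (Sp.om_self v))
  -- the elements
  set w : G := if δ then y else y * D.t with hw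
  have Hw : w * z = z * w := by
    rw [hw]
    cases δ
    · exact Hm Hy Ht
    · exact Hy
  set c : ℕ → G := fun k => D.φ (cc v (Sp.enc k)) with hc
  have Hc : ∀ k, ok k → c k * z = z * c k := fun k hk => Hφ _ (act_cc_v (ok_om k hk))
  set rr : ℕ → G := fun q => D.φ (W (sw q)) * r0 * (D.φ (W (sw q)))⁻¹ with hrr
  have hR : ∀ q ∈ six, IsR D v (Sp.enc q) (rr q) := by
    intro q hq
    have h1 : Sp.act (W (sw q)) v = v := by rw [hv, act_W, (tab_sw q hq).2]
    have h2 := hr0.map h1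
    rwa [act_W, (tab_sw q hq).1] at h2
  have q0 : ∀ q ∈ six, Sp.enc q ≠ 0 := fun q hq => enc_ne0 (six_ne q hq).1.1 (six_ne q hq).2.1
  have q1 : ∀ q ∈ six, Sp.enc q ≠ v := fun q hq => ne_of_enc (six_ne q hq).1.1 (by decide) (six_ne q hq).2.2
  have qv : ∀ q ∈ six, Sp.om (Sp.enc q) v = 0 := fun q hq => ok_om' q (six_ne q hq).1
  have Hr : ∀ q ∈ six, rr q * z = z * rr q := by
    intro q hq
    refine ((hR q hq).comm (s := Sp.tr v) ?_ ?_).symm
    · rw [Sp.act_tr, Sp.om_self, zero_smul, add_zero]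
    · rw [Sp.act_tr, qv q hq, zero_smul, add_zero]
  have hcy : ∀ k, ok k → c k * y = y * c k := fun k hk => hy.comm _ (act_cc_v (ok_om k hk))
  have hcw : ∀ k, ok k → c k * w = w * c k := by
    intro k hk
    rw [hw]
    cases δ
    · change c k * (y * D.t) = y * D.t * c k
      rw [← mul_assoc, hcy k hk, mul_assoc, D.comm, ← mul_assoc]
    · exact hcy k hk
  have hcc : ∀ k, ok k → c k * c k = 1 := by
    intro k hk
    rw [hc]
    change D.φ (cc v (Sp.enc k)) * D.φ (cc v (Sp.enc k)) = 1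
    rw [← map_mul, cc]
    have h1 : Sp.tr (Sp.enc k) * Sp.tr (Sp.enc k + v) = Sp.tr (Sp.enc k + v) * Sp.tr (Sp.enc k) :=
      Sp.tr_comm (uv' (ok_om' k hk))
    have h2 := Sp.tr_sq (Sp.enc k)
    have h3 := Sp.tr_sq (Sp.enc k + v)
    rw [mul_assoc, ← mul_assoc (Sp.tr (Sp.enc k + v)), ← h1, mul_assoc, h3, mul_one, h2, map_one]
  have PCC : ∀ k l, ok k → ok l → P (c k) * P (c l) = P (c (k ^^^ l)) := by
    intro k l hk hl
    rw [← Pm (Hc k hk) (Hc l hl), eq_comm, Pe (Hc _ (ok_xor hk hl)) (Hm (Hc k hk) (Hc l hl))]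
    rw [hc]
    change D.φ (cc v (Sp.enc k)) * D.φ (cc v (Sp.enc l)) = D.φ (cc v (Sp.enc (k ^^^ l))) ∨
      D.φ (cc v (Sp.enc k)) * D.φ (cc v (Sp.enc l)) = D.φ (cc v (Sp.enc (k ^^^ l))) * z
    rw [hz, ← map_mul, ← map_mul, Sp.enc_xor]
    rcases cc_mul (ok_om k hk) (ok_om l hl) with h | h
    · left; rw [h]
    · right; rw [h]
  have PCr : ∀ k, ok k → ∀ q ∈ six, P (c k) * P (rr q) = P (rr q) * P (c k) := by
    intro k hk q hq
    rw [← Pm (Hc k hk) (Hr q hq)]
    rcases (hR q hq).cc (qv q hq) hT (q0 q hq) (q1 q hq) v0 (ok_om k hk) with h | h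
    · have h' : c k * rr q = rr q * c k := h
      rw [h', Pm (Hr q hq) (Hc k hk)]
    · have h' : c k * rr q = rr q * D.φ (dl δ v) * c k := h
      rw [h', Pm (Hm (Hr q hq) Hdl) (Hc k hk), Pm (Hr q hq) Hdl, Pdl, mul_one]
  have Prt : ∀ q ∈ six, P (rr q) * P D.t = P D.t * P (rr q) * P (c q) := by
    intro q hq
    have h1 : rr q * D.t = D.t * rr q * c q := (hR q hq).t (qv q hq)
    rw [← Pm (Hr q hq) Ht, h1, Pm (Hm Ht (Hr q hq)) (Hc q (six_ne q hq).1), Pm Ht (Hr q hq)]
  have Ptt : P D.t * P D.t = 1 := by rw [← Pm Ht Ht, D.tt, P1]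
  have Pc0 : P (c 0) = 1 := by
    have : c 0 = z := by
      rw [hc]
      change D.φ (Sp.tr (Sp.enc 0) * Sp.tr (Sp.enc 0 + v)) = z
      rw [enc_zero, Sp.tr_zero, one_mul, zero_add]
    rw [this, Pz]
  refine absKill (P D.t) (P w) (fun k => P (c k)) (fun q => P (rr q)) (fun p => P (D.φ (Sp.tr (Sp.enc p)))) Ptt ?_ ?_ PCC
    ?_ ?_ ?_ PCr ?_ Prt ?_ ?_ ?_ ?_ ?_ ?_
  · -- `w² = 1`
    rw [← Pm Hw Hw, hw]
    cases δ
    · change P (y * D.t * (y * D.t)) = 1
      have h1 : y * D.t * (y * D.t) = z := by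
        calc y * D.t * (y * D.t) = (y * D.t) * y * D.t := by group
          _ = D.t * z * (y * y) * D.t := by rw [yt]; group
          _ = D.t * D.t * z := by rw [hy.sq, mul_one, mul_assoc, ← Ht, ← mul_assoc]
          _ = z := by rw [D.tt, one_mul]
      rw [h1, Pz]
    · change P (y * y) = 1
      rw [hy.sq, P1]
  · -- `t w = w t`
    rw [← Pm Ht Hw, ← Pm Hw Ht, Pe (Hm Ht Hw) (Hm Hw Ht), hw]
    right
    cases δ
    · change y * D.t * D.t = D.t * (y * D.t) * z
      rw [yt]
      calc D.t * z * y * D.t = (D.t * z) * (y * D.t) := by group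
        _ = D.t * (z * D.t) * z * y := by rw [yt]; group
        _ = D.t * D.t * (z * z) * y := by rw [← Ht]; group
        _ = D.t * (D.t * (z * z) * y) := by group
        _ = D.t * (D.t * z * y) * z := by rw [← mul_assoc D.t z z, mul_assoc (D.t * z) z y, ← Hy]; group
    · change y * D.t = D.t * y * z
      rw [yt, mul_assoc, ← Hy, mul_assoc]
  · intro k hk
    change P (c k) * P D.t = P D.t * P (c k)
    rw [← Pm (Hc k hk) Ht, ← Pm Ht (Hc k hk)]
    exact congrArg P (D.comm _)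
  · intro k hk
    change P (c k) * P w = P w * P (c k)
    rw [← Pm (Hc k hk) Hw, ← Pm Hw (Hc k hk), hcw k hk]
  · intro k hk
    change P (c k) = 1 ↔ k = 0 ∨ k = 1
    constructor
    · intro h
      by_contra hne
      push Not at hne
      obtain ⟨h1, h2⟩ := cc_ne v0 (ok_om k hk) (enc_ne0 hk.1 hne.1) (ne_of_enc hk.1 (by decide) hne.2)
      rw [← P1, eq_comm, Pe (by group) (Hc k hk), one_mul] at h
      rcases h with h | h
      · rw [← map_one D.φ] at h
        exact h1 (D.inj h)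
      · exact h2 (D.inj h)
    · rintro (rfl | rfl)
      · exact Pc0
      · have : c 1 = z := by
          rw [hc]
          change D.φ (Sp.tr (Sp.enc 1) * Sp.tr (Sp.enc 1 + v)) = z
          rw [← hv, Sp.add_self, Sp.tr_zero, mul_one]
        rw [this, Pz]
  · intro q hq
    change P (rr q) * P (rr q) = P (c q)
    have h1 : rr q * rr q = c q * D.φ (dl δ v) := (hR q hq).sq (qv q hq) hT (q0 q hq) (q1 q hq) v0
    rw [← Pm (Hr q hq) (Hr q hq), h1, Pm (Hc q (six_ne q hq).1) Hdl, Pdl, mul_one]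
  · intro q hq
    change P w * P (rr q) = P (rr q) * P w
    have h1 : y * rr q = (if δ then 1 else c q) * rr q * y := (hR q hq).y (qv q hq) hT (q0 q hq) (q1 q hq) v0 hy
    have h2 : rr q * D.t = D.t * rr q * c q := (hR q hq).t (qv q hq)
    have h3 : c q * rr q = rr q * c q := by
      refine (hR q hq).comm (act_cc_v (ok_om q (six_ne q hq).1)) ?_
      rw [act_cc_perp (ok_om q (six_ne q hq).1) (qv q hq), Sp.om_self, zero_smul, add_zero]
    have h4 := hcy q (six_ne q hq).1
    have h5 : c q * D.t = D.t * c q := D.comm _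
    have h6 := hcc q (six_ne q hq).1
    rw [← Pm Hw (Hr q hq), ← Pm (Hr q hq) Hw]
    congr 1
    rw [hw]
    cases δ
    · change y * D.t * rr q = rr q * (y * D.t)
      have h1' : y * rr q = c q * rr q * y := h1
      have h7 : D.t * rr q = rr q * D.t * c q := by
        rw [h2, mul_assoc _ (c q), h6, mul_one]
      calc y * D.t * rr q = y * (D.t * rr q) := by group
        _ = (y * rr q) * D.t * c q := by rw [h7]; group
        _ = c q * rr q * y * (D.t * c q) := by rw [h1']; group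
        _ = c q * rr q * (y * c q) * D.t := by rw [← h5]; group
        _ = (c q * rr q) * c q * y * D.t := by rw [← h4]; group
        _ = rr q * (c q * c q) * y * D.t := by rw [h3]; group
        _ = rr q * (y * D.t) := by rw [h6]; group
    · change y * rr q = rr q * y
      have h1' : y * rr q = 1 * rr q * y := h1
      rw [h1', one_mul]
  · -- orthogonal pairs
    intro p hp q hq hpq
    change P (rr p) * P (rr q) = P (rr q) * P (rr p)
    rcases tab_dis p hp q hq hpq with rfl | ⟨h1, h2, h3⟩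
    · rfl
    rw [← Pm (Hr p hp) (Hr q hq), ← Pm (Hr q hq) (Hr p hp)]
    congr 1
    refine IsR.orth hT v0 (q0 p hp) (q0 q hq) (q1 p hp) (q1 q hq) (ne_of_enc (six_ne q hq).1.1 (six_ne p hp).1.1 h2) ?_
      (qv p hp) (qv q hq) (om_of_fN' hpq) (E_prod δ p q h1) (hR p hp) (hR q hq)
    rw [hv, ← Sp.enc_xor]
    exact ne_of_enc (six_ne q hq).1.1 (ok_xor (six_ne p hp).1 (by decide)).1 h3
  · -- normal forms
    intro p hp q hq hpq
    change ∃ j k, ok k ∧ (P (rr p) * P (rr q) * P (rr (p ^^^ q)) = P w ^ j * P (c k) ∨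
      P (rr p) * P (rr q) * P (rr (p ^^^ q)) = P D.t * (P w ^ j * P (c k)))
    have hs := tab_six p hp q hq hpq
    set s := p ^^^ q with hsdef
    have okp := (six_ne p hp).1
    have okq := (six_ne q hq).1
    have oks := (six_ne s hs).1
    set g := rr p * rr q * rr s with hg
    have Hg : g * z = z * g := Hm (Hm (Hr p hp) (Hr q hq)) (Hr s hs)
    have Pg : P g = P (rr p) * P (rr q) * P (rr s) := by
      rw [hg, Pm (Hm (Hr p hp) (Hr q hq)) (Hr s hs), Pm (Hr p hp) (Hr q hq)]
    rw [← Pg]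
    have hgt : P g * P D.t = P D.t * P g := by
      have e1 := Prt p hp
      have e2 := Prt q hq
      have e3 := Prt s hs
      have c1 := PCr p okp q hq
      have c2 := PCr p okp s hs
      have c3 := PCr q okq s hs
      have c4 : P (c p) * P (c q) * P (c s) = 1 := by
        rw [PCC p q okp okq, ← hsdef, PCC s s oks oks, Nat.xor_self, Pc0]
      rw [Pg]
      revert e1 e2 e3 c1 c2 c3 c4
      generalize P (rr p) = a
      generalize P (rr q) = b
      generalize P (rr s) = d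
      generalize P (c p) = x
      generalize P (c q) = y'
      generalize P (c s) = x'
      generalize P D.t = t
      intro e1 e2 e3 c1 c2 c3 c4
      calc a * b * d * t = a * b * (d * t) := by group
        _ = a * (b * t) * d * x' := by rw [e3]; group
        _ = (a * t) * b * (y' * d) * x' := by rw [e2]; group
        _ = t * a * (x * b) * (y' * d) * x' := by rw [e1]; group
        _ = t * a * b * x * (d * y') * x' := by rw [c1, c3]; group
        _ = t * a * b * (x * d) * y' * x' := by group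
        _ = t * (a * b * d) * (x * y' * x') := by rw [c2]; group
        _ = t * (a * b * d) := by rw [c4, mul_one]
    have Pgc : ∀ k, ok k → P g * P (c k) = P (c k) * P g := by
      intro k hk
      have c1 := PCr k hk p hp
      have c2 := PCr k hk q hq
      have c3 := PCr k hk s hs
      rw [Pg]
      revert c1 c2 c3
      generalize P (rr p) = a
      generalize P (rr q) = b
      generalize P (rr s) = d
      generalize P (c k) = x
      intro c1 c2 c3
      calc a * b * d * x = a * b * (x * d) := by rw [c3]; group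
        _ = a * (b * x) * d := by group
        _ = (a * x) * b * d := by rw [← c2]; group
        _ = x * (a * b * d) := by rw [← c1]; group
    -- `P (φ s') = P (c k)` for the component in `L`
    have hfin : ∀ s', D.φ s' * z = z * D.φ s' → (∀ k, ok k → P (D.φ s') * P (c k) = P (c k) * P (D.φ s')) →
        ∃ k, ok k ∧ P (D.φ s') = P (c k) := by
      intro s' hs' hcom
      obtain ⟨k, hk, h⟩ := dcU (Hφ' s' hs') (by
        intro k hk
        have h1 := hcom k hk
        rw [← Pm hs' (Hc k hk), ← Pm (Hc k hk) hs', eq_comm, Pe (Hm (Hc k hk) hs') (Hm hs' (Hc k hk))] at h1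
        rcases h1 with h1 | h1
        · left
          apply D.inj
          rw [map_mul, map_mul]
          exact h1
        · right
          apply D.inj
          rw [map_mul, map_mul, map_mul]
          exact h1)
      refine ⟨k, hk, ?_⟩
      rcases h with h | h
      · rw [h]
      · rw [h, map_mul]
        have := Pm (Hc k hk) (b := z) rfl
        rw [Pz, mul_one] at this
        exact this
    rw [← Pm Hg Ht, ← Pm Ht Hg, eq_comm, Pe (Hm Ht Hg) (Hm Hg Ht)] at hgt
    rcases hgt with hgt | hgt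
    · -- `g` commutes with `t`
      obtain ⟨s', hs'⟩ := D.cent g hgt
      have hs'z : D.φ s' * z = z * D.φ s' := by
        rcases hs' with h | h
        · rw [← h]; exact Hg
        · have h1 : D.φ s' = D.t * g := by rw [h, ← mul_assoc, D.tt, one_mul]
          rw [h1]; exact Hm Ht Hg
      have hcom : ∀ k, ok k → P (D.φ s') * P (c k) = P (c k) * P (D.φ s') := by
        intro k hk
        rcases hs' with h | h
        · rw [← h]; exact Pgc k hk
        · have h1 : D.φ s' = D.t * g := by rw [h, ← mul_assoc, D.tt, one_mul]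
          have h2 : P (c k) * P D.t = P D.t * P (c k) := by
            rw [← Pm (Hc k hk) Ht, ← Pm Ht (Hc k hk)]; exact congrArg P (D.comm _)
          rw [h1, Pm Ht Hg, mul_assoc, Pgc k hk, ← mul_assoc, ← h2, mul_assoc]
      obtain ⟨k, hk, hPk⟩ := hfin s' hs'z hcom
      refine ⟨0, k, hk, ?_⟩
      rcases hs' with h | h
      · left; rw [h, hPk, pow_zero, one_mul]
      · right; rw [h, Pm Ht hs'z, hPk, pow_zero, one_mul]
    · -- `g y` commutes with `t`
      have h1 : g * y * D.t = D.t * (g * y) := by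
        calc g * y * D.t = g * (y * D.t) := by group
          _ = (g * D.t) * z * y := by rw [yt]; group
          _ = D.t * g * (z * z) * y := by rw [hgt]; group
          _ = D.t * (g * y) := by rw [zz]; group
      obtain ⟨s', hs'⟩ := D.cent _ h1
      have hPyc : ∀ k, ok k → P y * P (c k) = P (c k) * P y := by
        intro k hk
        rw [← Pm Hy (Hc k hk), ← Pm (Hc k hk) Hy, hcy k hk]
      have hgy : ∀ k, ok k → P (g * y) * P (c k) = P (c k) * P (g * y) := by
        intro k hk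
        rw [Pm Hg Hy, mul_assoc, hPyc k hk, ← mul_assoc, Pgc k hk, mul_assoc]
      have hs'z : D.φ s' * z = z * D.φ s' := by
        rcases hs' with h | h
        · rw [← h]; exact Hm Hg Hy
        · have h1 : D.φ s' = D.t * (g * y) := by rw [h, ← mul_assoc, D.tt, one_mul]
          rw [h1]; exact Hm Ht (Hm Hg Hy)
      have hcom : ∀ k, ok k → P (D.φ s') * P (c k) = P (c k) * P (D.φ s') := by
        intro k hk
        rcases hs' with h | h
        · rw [← h]; exact hgy k hk
        · have h1 : D.φ s' = D.t * (g * y) := by rw [h, ← mul_assoc, D.tt, one_mul]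
          have h2 : P (c k) * P D.t = P D.t * P (c k) := by
            rw [← Pm (Hc k hk) Ht, ← Pm Ht (Hc k hk)]; exact congrArg P (D.comm _)
          rw [h1, Pm Ht (Hm Hg Hy), mul_assoc, hgy k hk, ← mul_assoc, ← h2, mul_assoc]
      obtain ⟨k, hk, hPk⟩ := hfin s' hs'z hcom
      have hyy : P y * P y = 1 := by rw [← Pm Hy Hy, hy.sq, P1]
      have hPyt : P y * P D.t = P D.t * P y := by
        rw [← Pm Hy Ht, yt, Pm (Hm Ht rfl) Hy, Pm Ht rfl, Pz, mul_one]
      have hg' : P g = P (g * y) * P y := by rw [Pm Hg Hy, mul_assoc, hyy, mul_one]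
      have h2 : P g = P (c k) * P y ∨ P g = P D.t * (P (c k) * P y) := by
        rcases hs' with h | h
        · left; rw [hg', h, hPk]
        · right; rw [hg', h, Pm Ht hs'z, hPk, mul_assoc]
      have h3 : P (c k) * P y = P y * P (c k) := (hPyc k hk).symm
      cases δ
      · have hPw : P w = P y * P D.t := Pm Hy Ht
        have h4 : P y = P w * P D.t := by rw [hPw, mul_assoc, Ptt, mul_one]
        have h5 : P y * P (c k) = P D.t * (P w * P (c k)) := by
          rw [hPw, ← mul_assoc, ← mul_assoc, ← hPyt, mul_assoc (P y), Ptt, mul_one]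
        refine ⟨1, k, hk, ?_⟩
        rw [pow_one]
        rcases h2 with h2 | h2
        · right; rw [h2, h3, h5]
        · left
          rw [h2, h3, h5, ← mul_assoc, Ptt, one_mul]
      · have hPw : P w = P y := rfl
        refine ⟨1, k, hk, ?_⟩
        rw [pow_one, hPw]
        rcases h2 with h2 | h2
        · left; rw [h2, h3]
        · right; rw [h2, h3]
  · -- equivariance
    intro p hp q hq hpq
    change P (D.φ (Sp.tr (Sp.enc p))) * P (rr q) = P (rr (tc p q)) * P (D.φ (Sp.tr (Sp.enc p)))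
    have Hp : D.φ (Sp.tr (Sp.enc p)) * z = z * D.φ (Sp.tr (Sp.enc p)) := by
      apply Hφ
      rw [Sp.act_tr, ok_om p (gen_ok p hp).1, zero_smul, add_zero]
    rw [← Pm Hp (Hr q hq), ← Pm (Hr _ hpq) Hp]
    congr 1
    have hW : Sp.tr (Sp.enc p) = W [p] := by rw [W_cons, W_nil, mul_one]
    set s' := (W (sw (tc p q)))⁻¹ * (W [p] * W (sw q)) with hs'
    have hs'W : s' = W ((sw (tc p q)).reverse ++ ([p] ++ sw q)) := by
      rw [W_append, W_append, hs', W_inv]
    obtain ⟨h1, h2⟩ := tab_gen p hp q hq hpq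
    have h3 : D.φ s' * r0 = r0 * D.φ s' := by
      apply hr0.comm
      · rw [hs'W, hv, act_W, h2]
      · rw [hs'W, act_W, h1]
    have h4 : D.φ (Sp.tr (Sp.enc p)) * D.φ (W (sw q)) = D.φ (W (sw (tc p q))) * D.φ s' := by
      rw [hs', ← map_mul, ← map_mul, hW, mul_inv_cancel_left]
    rw [hrr]
    change D.φ (Sp.tr (Sp.enc p)) * (D.φ (W (sw q)) * r0 * (D.φ (W (sw q)))⁻¹) =
      D.φ (W (sw (tc p q))) * r0 * (D.φ (W (sw (tc p q))))⁻¹ * D.φ (Sp.tr (Sp.enc p))
    revert h3 h4
    generalize D.φ (Sp.tr (Sp.enc p)) = A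
    generalize D.φ (W (sw q)) = B
    generalize D.φ (W (sw (tc p q))) = E
    generalize D.φ s' = F
    intro h3 h4
    have h5 : E⁻¹ * A = F * B⁻¹ := by
      calc E⁻¹ * A = E⁻¹ * (A * B) * B⁻¹ := by group
        _ = F * B⁻¹ := by rw [h4]; group
    calc A * (B * r0 * B⁻¹) = (A * B) * r0 * B⁻¹ := by group
      _ = E * (F * r0) * B⁻¹ := by rw [h4]; group
      _ = E * r0 * (F * B⁻¹) := by rw [h3]; group
      _ = E * r0 * E⁻¹ * A := by rw [← h5]; group
  · intro p hp
    change P (D.φ (Sp.tr (Sp.enc p))) * P w = P w * P (D.φ (Sp.tr (Sp.enc p)))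
    have h0 : Sp.act (Sp.tr (Sp.enc p)) v = v := by
      rw [Sp.act_tr, ok_om p (gen_ok p hp).1, zero_smul, add_zero]
    have Hp := Hφ _ h0
    have h1 := hy.comm _ h0
    rw [← Pm Hp Hw, ← Pm Hw Hp]
    congr 1
    rw [hw]
    cases δ
    · change D.φ (Sp.tr (Sp.enc p)) * (y * D.t) = y * D.t * D.φ (Sp.tr (Sp.enc p))
      rw [← mul_assoc, h1, mul_assoc, D.comm, ← mul_assoc]
    · exact h1
  · intro p hp k hk h
    have h' : P (D.φ (Sp.tr (Sp.enc p))) * P (c k) = P (c k) * P (D.φ (Sp.tr (Sp.enc p))) := h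
    have h0 : Sp.act (Sp.tr (Sp.enc p)) v = v := by
      rw [Sp.act_tr, ok_om p (gen_ok p hp).1, zero_smul, add_zero]
    have Hp := Hφ _ h0
    rw [← Pm Hp (Hc k hk), ← Pm (Hc k hk) Hp, eq_comm, Pe (Hm (Hc k hk) Hp) (Hm Hp (Hc k hk))] at h'
    obtain ⟨g1, g2, g3⟩ := gen_ok p hp
    apply fN_of_om
    refine cc_tr v0 (ok_om k hk) (ok_om p g1) (enc_ne0 g1.1 g2) (ne_of_enc g1.1 (by decide) g3) ?_
    rcases h' with h1 | h1
    · left
      apply D.inj
      rw [map_mul, map_mul]
      exact h1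
    · right
      apply D.inj
      rw [map_mul, map_mul, map_mul]
      exact h1

end Cfsg.Agent.StdSpSix.Sw
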