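import Cfsg.Agent.StdSpSix.SwBase

/-!
# The commutator of two of the elements `y_u`: four types
-/

set_option autoImplicit false

namespace Cfsg.Agent.StdSpSix.Sw

open Cfsg.Agent.StandardComponent.SpTwo
open Cfsg.Agent.SporRec.TwoSp6
open Cfsg.Agent.StdSpSix.Words
open Cfsg.Agent.StdSpSix.Counts

variable {G : Type*} [Group G] {D : Dat G}

theorem pair_comm_φ {u w : Sp.V} {g h : G} (hg : Y D u g) (hh : Y D w h) {s : Sp.S} (h1 : Sp.act s u = u)
    (h2 : Sp.act s w = w) : D.φ s * (g * h * g * h) = g * h * g * h * D.φ s := by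
  have e1 := hg.comm s h1
  have e2 := hh.comm s h2
  calc D.φ s * (g * h * g * h) = D.φ s * g * h * g * h := by group
    _ = g * (D.φ s * h) * g * h := by rw [e1]; group
    _ = g * h * (D.φ s * g) * h := by rw [e2]; group
    _ = g * h * g * (D.φ s * h) := by rw [e1]; group
    _ = g * h * g * h * D.φ s := by rw [e2]; group

/-- replacing `y_u` by `y_u b_u` does not change the commutator -/
theorem pair_indep {u w : Sp.V} (hu : u ≠ 0) (hw : w ≠ 0) (huw : Sp.om u w = 0) {g g' h h' : G} (hg : Y D u g)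
    (hg' : Y D u g') (hh : Y D w h) (hh' : Y D w h') : g' * h' * g' * h' = g * h * g * h := by
  have huw' : Sp.om w u = 0 := by rw [Sp.om_symm]; exact huw
  have g2 : D.φ (Sp.tr u) * g = g * D.φ (Sp.tr u) := hg.comm' (Sp.om_self u)
  have g3 : D.φ (Sp.tr w) * g = g * D.φ (Sp.tr w) := hg.comm' huw
  have h2 : D.φ (Sp.tr u) * h = h * D.φ (Sp.tr u) := hh.comm' huw'
  have h3 : D.φ (Sp.tr w) * h = h * D.φ (Sp.tr w) := hh.comm' (Sp.om_self w)
  have hc : D.φ (Sp.tr u) * D.φ (Sp.tr w) = D.φ (Sp.tr w) * D.φ (Sp.tr u) := by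
    rw [← map_mul, ← map_mul, Sp.tr_comm huw]
  set U := D.φ (Sp.tr u)
  set X := D.φ (Sp.tr w)
  have hU : U * U = 1 := φ_tr_sq u
  have hX : X * X = 1 := φ_tr_sq w
  have k1 : g * U * h * (g * U) * h = g * h * g * h := by
    calc g * U * h * (g * U) * h = g * (U * h) * g * U * h := by group
      _ = g * h * (U * g) * U * h := by rw [h2]; group
      _ = g * h * g * (U * U) * h := by rw [g2]; group
      _ = g * h * g * h := by rw [hU, mul_one]
  have k2 : ∀ g'', X * g'' = g'' * X → g'' * (h * X) * g'' * (h * X) = g'' * h * g'' * h := by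
    intro g'' hg''
    calc g'' * (h * X) * g'' * (h * X) = g'' * h * (X * g'') * h * X := by group
      _ = g'' * h * g'' * (X * h) * X := by rw [hg'']; group
      _ = g'' * h * g'' * h * (X * X) := by rw [h3]; group
      _ = g'' * h * g'' * h := by rw [hX, mul_one]
  rcases hg.uniq hu hg' with rfl | rfl <;> rcases hh.uniq hw hh' with rfl | rfl
  · rfl
  · exact k2 g' g3
  · exact k1
  · rw [k2 _ (by rw [← mul_assoc, g3, mul_assoc, ← hc, ← mul_assoc])]
    exact k1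

theorem tabA : ∀ ks ∈ list8, ∀ c < 64, wc (ks ++ ks) c = wc [] c := by decide +kernel
theorem tabB : ∀ ks ∈ list8, wc ks 1 = 1 := by decide +kernel
theorem tabD : ∀ ks ∈ list8, (∀ k ∈ [24, 27] ++ ks, k < 64) ∧ (∀ k ∈ ks ++ [24, 27], k < 64) := by decide +kernel

/-- the four types -/
def list4 : List (List ℕ) := [[], [3], [1, 2], [1, 2, 3]]

theorem tabC : ∀ ks ∈ list8, (∀ c : Fin 64, wc ([24, 27] ++ ks) c = wc (ks ++ [24, 27]) c) → ks ∈ list4 := by
  decide +kernel

theorem std8 {g h : G} (hg : Y D (Sp.enc 1) g) (hh : Y D (Sp.enc 2) h) :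
    ∃ ks ∈ list8, g * h * g * h = D.φ (W ks) := by
  have h12 : Sp.om (Sp.enc 1) (Sp.enc 2) = 0 := om_of_fN' (by decide)
  obtain ⟨s, hs⟩ := D.cent _ (pair_comm_t h12 hg hh)
  have hsl : ∃ ks ∈ list8, s = W ks := by
    apply dc2
    intro r h1 h2
    have h3 := pair_comm_φ hg hh (comm_iff.1 h1) (comm_iff.1 h2)
    apply D.inj
    rw [map_mul, map_mul]
    rcases hs with hs | hs
    · rw [← hs]; exact h3.symm
    · rw [hs] at h3
      have h4 : D.t * (D.φ s * D.φ r) = D.t * (D.φ r * D.φ s) := by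
        rw [← mul_assoc, ← h3, ← mul_assoc, D.comm, mul_assoc]
      exact mul_left_cancel h4
  obtain ⟨ks, hks, rfl⟩ := hsl
  rcases hs with hs | hs
  · exact ⟨ks, hks, hs⟩
  exfalso
  have hss : D.φ (W ks) * D.φ (W ks) = 1 := by
    rw [← map_mul, ← W_append]
    rw [W_eq (tabA ks hks), W_nil, map_one]
  have hsg : D.φ (W ks) * g = g * D.φ (W ks) := by
    apply hg.comm
    rw [act_W, tabB ks hks]
  set Z := g * h * g * h with hZ
  have hZZ : Z * Z = 1 := by
    rw [hs]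
    calc D.t * D.φ (W ks) * (D.t * D.φ (W ks)) = D.t * (D.φ (W ks) * D.t) * D.φ (W ks) := by group
      _ = D.t * D.t * (D.φ (W ks) * D.φ (W ks)) := by rw [D.comm]; group
      _ = 1 := by rw [D.tt, hss, one_mul]
  have h1 : g * Z * g = Z := by
    have h2 : g * Z * g * Z = 1 := by
      rw [hZ]
      calc g * (g * h * g * h) * g * (g * h * g * h) = (g * g) * h * g * h * (g * g) * h * g * h := by group
        _ = h * g * (h * h) * g * h := by rw [hg.sq]; group
        _ = 1 := by rw [hh.sq, mul_one, mul_assoc h, hg.sq, mul_one, hh.sq]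
    calc g * Z * g = g * Z * g * (Z * Z) := by rw [hZZ, mul_one]
      _ = g * Z * g * Z * Z := by group
      _ = Z := by rw [h2, one_mul]
  rw [hs] at h1
  have h3 : g * (D.t * D.φ (W ks)) * g = D.t * D.φ (Sp.tr (Sp.enc 1)) * D.φ (W ks) := by
    calc g * (D.t * D.φ (W ks)) * g = g * D.t * (D.φ (W ks) * g) := by group
      _ = g * D.t * g * D.φ (W ks) := by rw [hsg]; group
      _ = _ := by rw [hg.conj]
  rw [h3] at h1
  have h4 : D.φ (Sp.tr (Sp.enc 1)) = 1 := by
    have h5 := mul_right_cancel h1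
    exact mul_eq_left.1 h5
  rw [← map_one D.φ] at h4
  have h6 := tr_inj ((D.inj h4).trans Sp.tr_zero.symm)
  rw [← enc_zero] at h6
  exact ne_of_enc (by decide) (by decide) (by decide) h6

theorem std4 {g h : G} (hg : Y D (Sp.enc 1) g) (hh : Y D (Sp.enc 2) h) :
    ∃ ks ∈ list4, g * h * g * h = D.φ (W ks) := by
  obtain ⟨ks, hks, hz⟩ := std8 hg hh
  have h12 : Sp.om (Sp.enc 1) (Sp.enc 2) = 0 := om_of_fN' (by decide)
  have h21 : Sp.om (Sp.enc 2) (Sp.enc 1) = 0 := om_of_fN' (by decide)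
  have n1 : Sp.enc 1 ≠ 0 := by rw [← enc_zero]; exact ne_of_enc (by decide) (by decide) (by decide)
  have n2 : Sp.enc 2 ≠ 0 := by rw [← enc_zero]; exact ne_of_enc (by decide) (by decide) (by decide)
  set r := W [24, 27] with hr
  have r1 : Sp.act r (Sp.enc 1) = Sp.enc 2 := by rw [hr, act_W]; rfl
  have r2 : Sp.act r (Sp.enc 2) = Sp.enc 1 := by rw [hr, act_W]; rfl
  have hg' := hg.map r
  have hh' := hh.map r
  rw [r1] at hg'
  rw [r2] at hh'
  have h1 := pair_indep n2 n1 h21 hh hg' hg hh'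
  -- `h1 : g' * h' * g' * h' = h * g * h * g`
  have h2 : D.φ r * (g * h * g * h) * (D.φ r)⁻¹ = h * g * h * g := by
    rw [← h1]; group
  have hks2 : W ks * W ks = 1 := by
    rw [← W_append]
    rw [W_eq (tabA ks hks), W_nil]
  have h3 : h * g * h * g = g * h * g * h := by
    have h4 : (g * h * g * h) * (h * g * h * g) = 1 := by
      calc (g * h * g * h) * (h * g * h * g) = g * h * g * (h * h) * g * h * g := by group
        _ = g * h * (g * g) * h * g := by rw [hh.sq]; group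
        _ = 1 := by rw [hg.sq, mul_one, mul_assoc g, hh.sq, mul_one, hg.sq]
    have h5 : (g * h * g * h) * (g * h * g * h) = 1 := by
      rw [hz, ← map_mul, hks2, map_one]
    exact mul_left_cancel (h4.trans h5.symm)
  rw [h3, hz, ← map_inv, ← map_mul, ← map_mul] at h2
  have h6 := D.inj h2
  have h7 : W ([24, 27] ++ ks) = W (ks ++ [24, 27]) := by
    rw [W_append, W_append, ← hr]
    calc r * W ks = r * W ks * r⁻¹ * r := by group
      _ = W ks * r := by rw [h6]
  exact ⟨ks, tabC ks hks ((W_eq_iff (tabD ks hks).1 (tabD ks hks).2).1 h7), hz⟩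

/-- `[y_u, y_w] = f u w` for all orthogonal pairs -/
def Ty (D : Dat G) (f : Sp.V → Sp.V → Sp.S) : Prop := ∀ u w g h, u ≠ 0 → w ≠ 0 → w ≠ u → Sp.om u w = 0 →
  Y D u g → Y D w h → g * h * g * h = D.φ (f u w)

theorem types (hex : ∀ u : Sp.V, u ≠ 0 → ∃ g, Y D u g) : Ty D (fun _ _ => 1) ∨ Ty D (fun u w => Sp.tr (u + w)) ∨
    Ty D (fun u w => Sp.tr u * Sp.tr w) ∨ Ty D (fun u w => Sp.tr u * Sp.tr w * Sp.tr (u + w)) := by
  have n1 : Sp.enc 1 ≠ 0 := by rw [← enc_zero]; exact ne_of_enc (by decide) (by decide) (by decide)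
  have n2 : Sp.enc 2 ≠ 0 := by rw [← enc_zero]; exact ne_of_enc (by decide) (by decide) (by decide)
  have n12 : Sp.enc 2 ≠ Sp.enc 1 := ne_of_enc (by decide) (by decide) (by decide)
  have h12 : Sp.om (Sp.enc 1) (Sp.enc 2) = 0 := om_of_fN' (by decide)
  obtain ⟨g0, hg0⟩ := hex _ n1
  obtain ⟨h0, hh0⟩ := hex _ n2
  obtain ⟨ks, hks, hz⟩ := std4 hg0 hh0
  have key : ∀ u w g h, u ≠ 0 → w ≠ 0 → w ≠ u → Sp.om u w = 0 → Y D u g → Y D w h →
      ∃ r, Sp.act r (Sp.enc 1) = u ∧ Sp.act r (Sp.enc 2) = w ∧ g * h * g * h = D.φ (r * W ks * r⁻¹) := by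
    intro u w g h hu hw hwu huw hg hh
    obtain ⟨r, r1, r2⟩ := Sp.exists_pair n1 n2 n12 h12 hu hw hwu huw
    refine ⟨r, r1, r2, ?_⟩
    have hg' := hg0.map r
    have hh' := hh0.map r
    rw [r1] at hg'
    rw [r2] at hh'
    rw [← pair_indep hu hw huw hg hg' hh hh', map_mul, map_mul, map_inv, ← hz]
    group
  have e3 : Sp.enc 3 = Sp.enc 1 + Sp.enc 2 := Sp.enc_xor 1 2
  simp only [list4, List.mem_cons, List.not_mem_nil, or_false] at hks
  rcases hks with rfl | rfl | rfl | rfl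
  · left
    intro u w g h hu hw hwu huw hg hh
    obtain ⟨r, r1, r2, h1⟩ := key u w g h hu hw hwu huw hg hh
    rw [h1, W_nil, mul_one, mul_inv_cancel]
  · right; left
    intro u w g h hu hw hwu huw hg hh
    obtain ⟨r, r1, r2, h1⟩ := key u w g h hu hw hwu huw hg hh
    rw [h1, W_cons, W_nil, mul_one, Sp.conj_tr, e3, Sp.act_add, r1, r2]
  · right; right; left
    intro u w g h hu hw hwu huw hg hh
    obtain ⟨r, r1, r2, h1⟩ := key u w g h hu hw hwu huw hg hh
    rw [h1, W_cons, W_cons, W_nil, mul_one]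
    have : r * (Sp.tr (Sp.enc 1) * Sp.tr (Sp.enc 2)) * r⁻¹ =
        (r * Sp.tr (Sp.enc 1) * r⁻¹) * (r * Sp.tr (Sp.enc 2) * r⁻¹) := by group
    rw [this, Sp.conj_tr, Sp.conj_tr, r1, r2]
  · right; right; right
    intro u w g h hu hw hwu huw hg hh
    obtain ⟨r, r1, r2, h1⟩ := key u w g h hu hw hwu huw hg hh
    rw [h1, W_cons, W_cons, W_cons, W_nil, mul_one]
    have : r * (Sp.tr (Sp.enc 1) * (Sp.tr (Sp.enc 2) * Sp.tr (Sp.enc 3))) * r⁻¹ =
        (r * Sp.tr (Sp.enc 1) * r⁻¹) * (r * Sp.tr (Sp.enc 2) * r⁻¹) * (r * Sp.tr (Sp.enc 3) * r⁻¹) := by group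
    rw [this, Sp.conj_tr, Sp.conj_tr, Sp.conj_tr, e3, Sp.act_add, r1, r2]

end Cfsg.Agent.StdSpSix.Sw
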