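import Cfsg.Agent.StdSpSix.SwR
import Cfsg.Agent.StdSpSix.SwAbs

/-!
# `C_G(z)/⟨z⟩`, and facts about the elements `c_a` of `Sp₆(2)`
-/

set_option autoImplicit false

namespace Cfsg.Agent.StdSpSix.Sw

open Subgroup
open Cfsg.Agent.StandardComponent.SpTwo
open Cfsg.Agent.SporRec.TwoSp6
open Cfsg.Agent.StdSpSix.Words
open Cfsg.Agent.StdSpSix.Counts

section Quot

variable {G : Type*} [Group G] (z : G) (hz : z * z = 1)

/-- `⟨z⟩` in `C_G(z)` -/
def NZ : Subgroup (centralizer ({z} : Set G)) where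
  carrier := {x | (x : G) = 1 ∨ (x : G) = z}
  one_mem' := Or.inl rfl
  mul_mem' := by
    rintro ⟨x, hx⟩ ⟨y, hy⟩ (h1 | h1) (h2 | h2)
    · exact Or.inl (by change x * y = 1; rw [show x = 1 from h1, show y = 1 from h2, one_mul])
    · exact Or.inr (by change x * y = z; rw [show x = 1 from h1, show y = z from h2, one_mul])
    · exact Or.inr (by change x * y = z; rw [show x = z from h1, show y = 1 from h2, mul_one])
    · exact Or.inl (by change x * y = 1; rw [show x = z from h1, show y = z from h2, hz])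
  inv_mem' := by
    rintro ⟨x, hx⟩ (h1 | h1)
    · exact Or.inl (by change x⁻¹ = 1; rw [show x = 1 from h1, inv_one])
    · exact Or.inr (by change x⁻¹ = z; rw [show x = z from h1]; exact inv_eq_of_mul_eq_one_left hz)

theorem mem_NZ {x : centralizer ({z} : Set G)} : x ∈ NZ z hz ↔ (x : G) = 1 ∨ (x : G) = z := Iff.rfl

instance : (NZ z hz).Normal := by
  constructor
  rintro n hn g
  rw [mem_NZ] at hn ⊢
  rcases hn with h | h
  · left
    change (g : G) * n * (g : G)⁻¹ = 1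
    rw [h]; group
  · right
    change (g : G) * n * (g : G)⁻¹ = z
    have hg := mem_centralizer_singleton_iff.1 g.2
    rw [h, hg]; group

open Classical in
/-- the projection, extended by 1 -/
noncomputable def PZ (x : G) : centralizer ({z} : Set G) ⧸ NZ z hz :=
  if h : x ∈ centralizer ({z} : Set G) then QuotientGroup.mk ⟨x, h⟩ else 1

theorem PZ_mul {x y : G} (hx : x * z = z * x) (hy : y * z = z * y) : PZ z hz (x * y) = PZ z hz x * PZ z hz y := by
  have h1 : x ∈ centralizer ({z} : Set G) := mem_centralizer_singleton_iff.2 hx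
  have h2 : y ∈ centralizer ({z} : Set G) := mem_centralizer_singleton_iff.2 hy
  unfold PZ
  rw [dif_pos h1, dif_pos h2, dif_pos (mul_mem h1 h2)]
  rfl

theorem PZ_one : PZ z hz 1 = 1 := by
  have h1 : (1 : G) ∈ centralizer ({z} : Set G) := one_mem _
  unfold PZ
  rw [dif_pos h1]
  rfl

theorem PZ_eq {x y : G} (hx : x * z = z * x) (hy : y * z = z * y) : PZ z hz x = PZ z hz y ↔ y = x ∨ y = x * z := by
  have h1 : x ∈ centralizer ({z} : Set G) := mem_centralizer_singleton_iff.2 hx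
  have h2 : y ∈ centralizer ({z} : Set G) := mem_centralizer_singleton_iff.2 hy
  unfold PZ
  rw [dif_pos h1, dif_pos h2, QuotientGroup.eq, mem_NZ]
  change x⁻¹ * y = 1 ∨ x⁻¹ * y = z ↔ _
  rw [inv_mul_eq_one, inv_mul_eq_iff_eq_mul, eq_comm]

theorem PZ_z : PZ z hz z = 1 := by
  rw [← PZ_one z hz, eq_comm, PZ_eq z hz (by group) rfl]
  right
  rw [one_mul]

end Quot

/-! ### facts about the `c_a` -/

theorem cc_mul {v a b : Sp.V} (ha : Sp.om v a = 0) (hb : Sp.om v b = 0) :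
    cc v a * cc v b = cc v (a + b) ∨ cc v a * cc v b = cc v (a + b) * Sp.tr v := by
  have hab : Sp.om v (a + b) = 0 := by rw [Sp.om_add, ha, hb, add_zero]
  have hlin : ∀ y, Sp.act (cc v a * cc v b) y = y + (Sp.om y b • v + Sp.om y v • (b + v)) +
      (Sp.om y a + Sp.om y v * Sp.om b a) • v + Sp.om y v • (a + v) := by
    intro y
    have h1 : Sp.om (y + Sp.om y b • v + Sp.om y v • (b + v)) a = Sp.om y a + Sp.om y v * Sp.om b a := by
      rw [Sp.om_add', Sp.om_add', Invol.om_smul', Invol.om_smul', ha, mul_zero, add_zero, Sp.om_add', ha, add_zero]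
    have h2 : Sp.om (y + Sp.om y b • v + Sp.om y v • (b + v)) v = Sp.om y v := by
      have h3 : Sp.om b v = 0 := by rw [Sp.om_symm]; exact hb
      rw [Sp.om_add', Sp.om_add', Invol.om_smul', Invol.om_smul', Sp.om_self, mul_zero, add_zero, Sp.om_add', h3,
        Sp.om_self, add_zero, mul_zero, add_zero]
    rw [Sp.act_mul, act_cc hb, act_cc ha, h1, h2, ← add_assoc]
  rcases Sp.om_cases b a with h | h
  · right
    apply Sp.act_ext
    intro y
    have h2 : Sp.om (y + Sp.om y v • v) (a + b) = Sp.om y (a + b) := by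
      rw [Sp.om_add', Invol.om_smul', hab, mul_zero, add_zero]
    have h3 : Sp.om (y + Sp.om y v • v) v = Sp.om y v := by
      rw [Sp.om_add', Invol.om_smul', Sp.om_self, mul_zero, add_zero]
    rw [hlin, Sp.act_mul, Sp.act_tr v, act_cc hab, h2, h3, h, Sp.om_add]
    funext i
    change y i + (Sp.om y b * v i + Sp.om y v * (b i + v i)) + (Sp.om y a + Sp.om y v * 0) * v i +
      Sp.om y v * (a i + v i) = y i + Sp.om y v * v i + (Sp.om y a + Sp.om y b) * v i + Sp.om y v * ((a i + b i) + v i)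
    generalize Sp.om y b = β
    generalize Sp.om y a = α
    generalize Sp.om y v = γ
    generalize y i = y'
    generalize v i = v'
    generalize a i = a'
    generalize b i = b'
    revert β α γ y' v' a' b'
    decide
  · left
    apply Sp.act_ext
    intro y
    rw [hlin, act_cc hab, h, Sp.om_add]
    funext i
    change y i + (Sp.om y b * v i + Sp.om y v * (b i + v i)) + (Sp.om y a + Sp.om y v * 1) * v i +
      Sp.om y v * (a i + v i) = y i + (Sp.om y a + Sp.om y b) * v i + Sp.om y v * ((a i + b i) + v i)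
    generalize Sp.om y b = β
    generalize Sp.om y a = α
    generalize Sp.om y v = γ
    generalize y i = y'
    generalize v i = v'
    generalize a i = a'
    generalize b i = b'
    revert β α γ y' v' a' b'
    decide

theorem cc_ne {v a : Sp.V} (hv : v ≠ 0) (ha : Sp.om v a = 0) (h0 : a ≠ 0) (h1 : a ≠ v) :
    cc v a ≠ 1 ∧ cc v a ≠ Sp.tr v := by
  obtain ⟨y, hy1, hy0⟩ := Sp.exists_om_one_zero h0 h1
  have e1 : Sp.act (cc v a) y = y + v := by
    rw [act_cc ha, Sp.om_symm y a, hy1, Sp.om_symm y v, hy0, one_smul, zero_smul, add_zero]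
  constructor
  · intro h
    rw [h, Sp.act_one] at e1
    exact hv (add_eq_left.1 e1.symm)
  · intro h
    rw [h, Sp.act_tr, Sp.om_symm y v, hy0, zero_smul, add_zero] at e1
    exact hv (add_eq_left.1 e1.symm)

theorem cc_tr {v a p : Sp.V} (hv : v ≠ 0) (ha : Sp.om v a = 0) (hp : Sp.om v p = 0) (hp0 : p ≠ 0) (hpv : p ≠ v)
    (h : Sp.tr p * cc v a = cc v a * Sp.tr p ∨ Sp.tr p * cc v a = cc v a * Sp.tr p * Sp.tr v) : Sp.om a p = 0 := by
  rcases Sp.om_cases a p with h1 | h1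
  · exact h1
  exfalso
  have hpv0 : Sp.om p v = 0 := by rw [Sp.om_symm]; exact hp
  have e1 : Sp.act (cc v a) p = p + v := by
    rw [act_cc_perp ha hpv0, Sp.om_symm, h1, one_smul]
  rcases h with h | h
  · have h2 := comm_iff.1 h.symm
    rw [e1] at h2
    exact hv (add_eq_left.1 h2)
  · have h3 := Sp.conj_tr (cc v a) p
    rw [e1] at h3
    have h4 : cc v a * Sp.tr v = Sp.tr v * cc v a := comm_iff.2 (act_cc_v ha)
    have h5 : Sp.tr p * cc v a = Sp.tr (p + v) * Sp.tr v * cc v a := by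
      rw [h]
      have h6 : Sp.tr p * Sp.tr v = Sp.tr v * Sp.tr p := Sp.tr_comm hpv0
      have h7 : Sp.tr (p + v) * Sp.tr v = Sp.tr v * Sp.tr (p + v) :=
        Sp.tr_comm (by rw [Sp.om_add', hpv0, Sp.om_self, add_zero])
      rw [h7, ← h3, mul_assoc (cc v a), h6, ← mul_assoc, h4]
      generalize cc v a = c
      generalize Sp.tr v = t
      generalize Sp.tr p = q
      group
    have h6 := mul_right_cancel h5
    obtain ⟨y, hy1, hy0⟩ := Sp.exists_om_one_zero hp0 hpv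
    have h7 : Sp.act (Sp.tr p) y = Sp.act (Sp.tr (p + v) * Sp.tr v) y := by rw [h6]
    have hyv : Sp.om y v = 0 := by rw [Sp.om_symm]; exact hy0
    have hyp : Sp.om y p = 1 := by rw [Sp.om_symm]; exact hy1
    rw [Sp.act_mul, Sp.act_tr p, Sp.act_tr v, hyv, zero_smul, add_zero, Sp.act_tr, Sp.om_add, hyv, hyp, add_zero, one_smul,
      one_smul, ← add_assoc] at h7
    exact hv (add_eq_left.1 h7.symm)

/-- the table for `O₂(C_L(b_v))` -/
def kU (α β γ ε : Bool) : ℕ := (if α then 16 else 0) ^^^ ((if γ then 2 else 0) ^^^ ((if β then 32 else 0) ^^^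
  (if ε then 4 else 0)))

theorem tabU : ∀ α β γ ε : Bool, ∀ x : Fin 64, (Sp.fN x 1 = true ∧ Sp.fN x (if α then 3 else 2) = false ∧
    Sp.fN x (if β then 5 else 4) = false ∧ Sp.fN x (if γ then 17 else 16) = false ∧
    Sp.fN x (if ε then 33 else 32) = false) →
    (kU α β γ ε < 64 ∧ Sp.fN (kU α β γ ε) 1 = false) ∧
    ∃ ks ∈ [[kU α β γ ε, kU α β γ ε ^^^ 1], [kU α β γ ε, kU α β γ ε ^^^ 1, 1]],
      wc ks 1 = 1 ∧ wc ks 2 = (if α then 3 else 2) ∧ wc ks 4 = (if β then 5 else 4) ∧ wc ks 8 = x ∧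
      wc ks 16 = (if γ then 17 else 16) ∧ wc ks 32 = (if ε then 33 else 32) := by decide +kernel

theorem cc_enc (k : ℕ) : cc (Sp.enc 1) (Sp.enc k) = W [k, k ^^^ 1] := by
  rw [W_cons, W_cons, W_nil, mul_one, Sp.enc_xor]
  rfl

theorem dcU {s : Sp.S} (hv : Sp.act s (Sp.enc 1) = Sp.enc 1)
    (h : ∀ k, ok k → s * cc (Sp.enc 1) (Sp.enc k) = cc (Sp.enc 1) (Sp.enc k) * s ∨
      s * cc (Sp.enc 1) (Sp.enc k) = cc (Sp.enc 1) (Sp.enc k) * s * Sp.tr (Sp.enc 1)) :
    ∃ k, ok k ∧ (s = cc (Sp.enc 1) (Sp.enc k) ∨ s = cc (Sp.enc 1) (Sp.enc k) * Sp.tr (Sp.enc 1)) := by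
  have hsv : s * Sp.tr (Sp.enc 1) = Sp.tr (Sp.enc 1) * s := comm_iff.2 hv
  have h81 : Sp.om (Sp.enc 8) (Sp.enc 1) = 1 := om_of_fN (by decide)
  have hmove : ∀ k, ok k → ∃ e : Bool, Sp.act s (Sp.enc k) = Sp.enc (if e then k ^^^ 1 else k) := by
    intro k hk
    have hk0 : Sp.om (Sp.enc 1) (Sp.enc k) = 0 := by rw [Sp.om_symm]; exact om_of_fN' hk.2
    have hk1 : Sp.om (Sp.enc 1) (Sp.act s (Sp.enc k)) = 0 := by
      rw [← hk0]
      conv_lhs => rw [← hv]
      exact Sp.act_om _ _ _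
    have h1 := cc_conj s (a := Sp.enc k) hv
    have h2 : cc (Sp.enc 1) (Sp.act s (Sp.enc k)) = cc (Sp.enc 1) (Sp.enc k) ∨
        cc (Sp.enc 1) (Sp.act s (Sp.enc k)) = cc (Sp.enc 1) (Sp.enc k) * Sp.tr (Sp.enc 1) := by
      rw [← h1]
      rcases h k hk with h3 | h3
      · left; rw [h3, mul_inv_cancel_right]
      · right; rw [h3, mul_assoc _ s, hsv, ← mul_assoc, mul_inv_cancel_right]
    have h3 : ∃ c : ZMod 2, Sp.act s (Sp.enc k) = Sp.enc k + c • Sp.enc 1 := by
      rcases h2 with h2 | h2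
      · have h4 : Sp.act (cc (Sp.enc 1) (Sp.act s (Sp.enc k))) (Sp.enc 8) =
            Sp.act (cc (Sp.enc 1) (Sp.enc k)) (Sp.enc 8) := by rw [h2]
        rw [act_cc hk1, act_cc hk0, h81, one_smul, one_smul] at h4
        refine ⟨Sp.om (Sp.enc 8) (Sp.act s (Sp.enc k)) + Sp.om (Sp.enc 8) (Sp.enc k), ?_⟩
        funext i
        have h5 := congrFun h4 i
        change Sp.enc 8 i + Sp.om (Sp.enc 8) (Sp.act s (Sp.enc k)) * Sp.enc 1 i + (Sp.act s (Sp.enc k) i + Sp.enc 1 i) =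
          Sp.enc 8 i + Sp.om (Sp.enc 8) (Sp.enc k) * Sp.enc 1 i + (Sp.enc k i + Sp.enc 1 i) at h5
        change Sp.act s (Sp.enc k) i = Sp.enc k i + (Sp.om (Sp.enc 8) (Sp.act s (Sp.enc k)) +
          Sp.om (Sp.enc 8) (Sp.enc k)) * Sp.enc 1 i
        revert h5
        generalize Sp.om (Sp.enc 8) (Sp.act s (Sp.enc k)) = α
        generalize Sp.om (Sp.enc 8) (Sp.enc k) = β
        generalize Sp.act s (Sp.enc k) i = x
        generalize Sp.enc k i = y
        generalize Sp.enc 1 i = z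
        generalize Sp.enc 8 i = u
        revert α β x y z u
        decide
      · have h4 : Sp.act (cc (Sp.enc 1) (Sp.act s (Sp.enc k))) (Sp.enc 8) =
            Sp.act (cc (Sp.enc 1) (Sp.enc k) * Sp.tr (Sp.enc 1)) (Sp.enc 8) := by rw [h2]
        have h5 : Sp.om (Sp.enc 8 + Sp.enc 1) (Sp.enc k) = Sp.om (Sp.enc 8) (Sp.enc k) := by
          rw [Sp.om_add', hk0, add_zero]
        have h6 : Sp.om (Sp.enc 8 + Sp.enc 1) (Sp.enc 1) = 1 := by
          rw [Sp.om_add', h81, Sp.om_self, add_zero]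
        rw [act_cc hk1, Sp.act_mul, Sp.act_tr, h81, one_smul, one_smul, act_cc hk0, h5, h6, one_smul] at h4
        refine ⟨Sp.om (Sp.enc 8) (Sp.act s (Sp.enc k)) + Sp.om (Sp.enc 8) (Sp.enc k) + 1, ?_⟩
        funext i
        have h5 := congrFun h4 i
        change Sp.enc 8 i + Sp.om (Sp.enc 8) (Sp.act s (Sp.enc k)) * Sp.enc 1 i + (Sp.act s (Sp.enc k) i + Sp.enc 1 i) =
          Sp.enc 8 i + Sp.enc 1 i + Sp.om (Sp.enc 8) (Sp.enc k) * Sp.enc 1 i + (Sp.enc k i + Sp.enc 1 i) at h5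
        change Sp.act s (Sp.enc k) i = Sp.enc k i + (Sp.om (Sp.enc 8) (Sp.act s (Sp.enc k)) +
          Sp.om (Sp.enc 8) (Sp.enc k) + 1) * Sp.enc 1 i
        revert h5
        generalize Sp.om (Sp.enc 8) (Sp.act s (Sp.enc k)) = α
        generalize Sp.om (Sp.enc 8) (Sp.enc k) = β
        generalize Sp.act s (Sp.enc k) i = x
        generalize Sp.enc k i = y
        generalize Sp.enc 1 i = z
        generalize Sp.enc 8 i = u
        revert α β x y z u
        decide
    obtain ⟨c, hc⟩ := h3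
    have hc2 : ∀ c : ZMod 2, c = 0 ∨ c = 1 := by decide
    rcases hc2 c with rfl | rfl
    · exact ⟨false, by rw [hc, zero_smul, add_zero]; rfl⟩
    · exact ⟨true, by rw [hc, one_smul, ← Sp.enc_xor]; rfl⟩
  obtain ⟨α, hα⟩ := hmove 2 (by decide)
  obtain ⟨β, hβ⟩ := hmove 4 (by decide)
  obtain ⟨γ, hγ⟩ := hmove 16 (by decide)
  obtain ⟨ε, hε⟩ := hmove 32 (by decide)
  obtain ⟨x, hx, ex⟩ := Sp.exists_enc (Sp.act s (Sp.enc 8))
  have hom : ∀ k l, Sp.act s (Sp.enc k) = Sp.enc l → Sp.om (Sp.enc x) (Sp.enc l) = Sp.om (Sp.enc 8) (Sp.enc k) := by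
    intro k l hkl
    rw [← ex, ← hkl]
    exact Sp.act_om _ _ _
  have e2 : (2 ^^^ 1 : ℕ) = 3 := by decide
  have e4 : (4 ^^^ 1 : ℕ) = 5 := by decide
  have e16 : (16 ^^^ 1 : ℕ) = 17 := by decide
  have e32 : (32 ^^^ 1 : ℕ) = 33 := by decide
  rw [e2] at hα
  rw [e4] at hβ
  rw [e16] at hγ
  rw [e32] at hε
  obtain ⟨hk, ks, hks, k1, k2, k4, k8, k16, k32⟩ := tabU α β γ ε ⟨x, hx⟩
    ⟨fN_of_om' ((hom 1 1 hv).trans h81), fN_of_om ((hom _ _ hα).trans (om_of_fN' (by decide))),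
     fN_of_om ((hom _ _ hβ).trans (om_of_fN' (by decide))), fN_of_om ((hom _ _ hγ).trans (om_of_fN' (by decide))),
     fN_of_om ((hom _ _ hε).trans (om_of_fN' (by decide)))⟩
  have hs : s = W ks := by
    apply ext6
    · rw [act_W, k1, hv]
    · rw [act_W, k2, hα]
    · rw [act_W, k4, hβ]
    · rw [act_W, k8, ex]
    · rw [act_W, k16, hγ]
    · rw [act_W, k32, hε]
  refine ⟨kU α β γ ε, hk, ?_⟩
  rw [List.mem_cons, List.mem_singleton] at hks
  rcases hks with rfl | rfl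
  · left; rw [hs, cc_enc]
  · right
    rw [hs, cc_enc, W_cons, W_cons, W_cons, W_nil, W_cons, W_cons, W_nil, mul_one, mul_one, mul_assoc]

end Cfsg.Agent.StdSpSix.Sw
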