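import Cfsg.Agent.StdSpSix.SwPair

/-!
# The elements `r_u = y_u y_{u+v} b_u` (`v` fixed, `u ⊥ v`)
-/

set_option autoImplicit false

namespace Cfsg.Agent.StdSpSix.Sw

open Cfsg.Agent.StandardComponent.SpTwo
open Cfsg.Agent.SporRec.TwoSp6
open Cfsg.Agent.StdSpSix.Words
open Cfsg.Agent.StdSpSix.Counts

/-! ### the elements `c_a = b_a b_{a+v}` -/

/-- `c_a` -/
def cc (v a : Sp.V) : Sp.S := Sp.tr a * Sp.tr (a + v)

theorem act_cc {v a : Sp.V} (h : Sp.om v a = 0) (y : Sp.V) :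
    Sp.act (cc v a) y = y + Sp.om y a • v + Sp.om y v • (a + v) := by
  have h1 : Sp.om (a + v) a = 0 := by rw [Sp.om_add', Sp.om_self, h, add_zero]
  have h2 : Sp.om (y + Sp.om y (a + v) • (a + v)) a = Sp.om y a := by
    rw [Sp.om_add', Invol.om_smul', h1, mul_zero, add_zero]
  rw [cc, Sp.act_mul, Sp.act_tr (a + v), Sp.act_tr, h2, Sp.om_add]
  rcases Sp.om_cases y a with e1 | e1 <;> rcases Sp.om_cases y v with e2 | e2
  · rw [e1, e2]; simp
  · rw [e1, e2]; simp
  · rw [e1, e2, add_zero, one_smul, one_smul, zero_smul, add_zero, one_smul]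
    have : y + (a + v) + a = y + v + (a + a) := by abel
    rw [this, Sp.add_self, add_zero]
  · rw [e1, e2]
    have h3 : (1 : ZMod 2) + 1 = 0 := by decide
    rw [h3, zero_smul, one_smul, one_smul, one_smul, add_zero]
    have : y + v + (a + v) = y + a + (v + v) := by abel
    rw [this, Sp.add_self, add_zero]

theorem act_cc_perp {v a : Sp.V} (h : Sp.om v a = 0) {u : Sp.V} (hu : Sp.om u v = 0) :
    Sp.act (cc v a) u = u + Sp.om u a • v := by
  rw [act_cc h, hu, zero_smul, add_zero]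

theorem act_cc_v {v a : Sp.V} (h : Sp.om v a = 0) : Sp.act (cc v a) v = v := by
  rw [act_cc_perp h (Sp.om_self v), h, zero_smul, add_zero]

theorem cc_conj (s : Sp.S) {v a : Sp.V} (hv : Sp.act s v = v) : s * cc v a * s⁻¹ = cc v (Sp.act s a) := by
  unfold cc
  have : s * (Sp.tr a * Sp.tr (a + v)) * s⁻¹ = s * Sp.tr a * s⁻¹ * (s * Sp.tr (a + v) * s⁻¹) := by group
  rw [this, Sp.conj_tr, Sp.conj_tr, Sp.act_add, hv]

/-- `b` or `1` -/
def dl (δ : Bool) (x : Sp.V) : Sp.S := if δ then Sp.tr x else 1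

theorem dl_sq (δ : Bool) (x : Sp.V) : dl δ x * dl δ x = 1 := by
  cases δ
  · exact one_mul 1
  · exact Sp.tr_sq x

theorem act_dl (δ : Bool) {x y : Sp.V} (h : Sp.om y x = 0) : Sp.act (dl δ x) y = y := by
  cases δ
  · exact Sp.act_one y
  · change Sp.act (Sp.tr x) y = y
    rw [Sp.act_tr, h, zero_smul, add_zero]

theorem tr_dl (δ : Bool) {x y : Sp.V} (h : Sp.om x y = 0) : Sp.tr x * dl δ y = dl δ y * Sp.tr x := by
  cases δ
  · exact (mul_one _).trans (one_mul _).symm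
  · exact Sp.tr_comm h

/-! ### identities in groups -/

section Abs
variable {M : Type*} [Group M]

theorem abs_t {g g' t U X : M} (e1 : U * t = t * U) (g1 : g * t = t * U * g) (g2 : g' * t = t * X * g')
    (k1 : X * g = g * X) (k2 : X * g' = g' * X) (k3 : U * g = g * U) (k4 : U * g' = g' * U) (k5 : U * X = X * U) :
    g * g' * U * t = t * (g * g' * U) * (U * X) := by
  calc g * g' * U * t = g * g' * (U * t) := by group
    _ = g * (g' * t) * U := by rw [e1]; group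
    _ = (g * t) * X * g' * U := by rw [g2]; group
    _ = t * U * (g * X) * g' * U := by rw [g1]; group
    _ = t * (U * X) * g * g' * U := by rw [← k1]; group
    _ = t * X * (U * g) * g' * U := by rw [k5]; group
    _ = t * X * g * (U * g') * U := by rw [k3]; group
    _ = t * (X * g) * g' * U * U := by rw [k4]; group
    _ = t * g * (X * g') * U * U := by rw [k1]; group
    _ = t * g * g' * (X * U) * U := by rw [k2]; group
    _ = t * g * g' * (U * X) * U := by rw [k5]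
    _ = t * g * g' * U * (X * U) := by group
    _ = t * (g * g' * U) * (U * X) := by rw [← k5]; group

theorem abs_E {a b d : M} (e1 : a * d = d * a) (e2 : b * d = d * b) (e3 : a * b = b * a) (s1 : a * a = 1)
    (s2 : b * b = 1) (s3 : d * d = 1) : a * b * d * (a * b * d) = 1 := by
  calc a * b * d * (a * b * d) = a * b * (d * a) * b * d := by group
    _ = a * (b * a) * (d * b) * d := by rw [← e1]; group
    _ = a * a * (b * b) * (d * d) := by rw [← e3, ← e2]; group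
    _ = 1 := by rw [s1, s2, s3, mul_one, mul_one]

theorem abs_sq {g g' b : M} (k3 : b * g = g * b) (k4 : b * g' = g' * b) (k6 : b * b = 1) :
    g * g' * b * (g * g' * b) = g * g' * g * g' := by
  calc g * g' * b * (g * g' * b) = g * g' * (b * g) * g' * b := by group
    _ = g * g' * g * (b * g') * b := by rw [k3]; group
    _ = g * g' * g * g' * (b * b) := by rw [k4]; group
    _ = g * g' * g * g' := by rw [k6, mul_one]

theorem abs_cc {g g' b x c E d : M} (c1 : c * g = g' * c) (c2 : c * g' = g * c) (h3 : g' * g = E * (g * g'))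
    (h5 : c * b = x * c) (kE : E * (g * g') = g * g' * E) (k7 : E * x = b * d) :
    c * (g * g' * b) = g * g' * b * d * c := by
  calc c * (g * g' * b) = (c * g) * g' * b := by group
    _ = g' * (c * g') * b := by rw [c1]; group
    _ = g' * g * (c * b) := by rw [c2]; group
    _ = E * (g * g') * (x * c) := by rw [h5, h3]
    _ = g * g' * (E * x) * c := by rw [kE]; group
    _ = g * g' * b * d * c := by rw [k7]; group

theorem abs_inv {g g' E : M} (hg : g * g = 1) (hg' : g' * g' = 1) (hE : E * E = 1) (h : g * g' * g * g' = E) :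
    g' * g = E * (g * g') := by
  have h4 : g * g' * g * g' * (g' * g) = g * g' := by
    calc g * g' * g * g' * (g' * g) = g * g' * g * (g' * g') * g := by group
      _ = g * g' * (g * g) := by rw [hg']; group
      _ = g * g' := by rw [hg, mul_one]
  rw [h] at h4
  rw [← h4, ← mul_assoc, hE, one_mul]

theorem abs_comm {g h E : M} (hg : g * g = 1) (hh : h * h = 1) (h1 : g * h * g * h = E) : g * h = E * (h * g) := by
  rw [← h1]
  calc g * h = g * h * (g * (h * h) * g) := by rw [hh, mul_one, hg, mul_one]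
    _ = g * h * g * h * (h * g) := by group

theorem abs_y {y g g' b E F : M} (k1 : y * g = E * (g * y)) (k2 : y * g' = F * (g' * y)) (k3 : b * y = y * b)
    (k4 : F * g = g * F) : y * (g * g' * b) = E * F * (g * g' * b) * y := by
  calc y * (g * g' * b) = (y * g) * g' * b := by group
    _ = E * g * (y * g') * b := by rw [k1]; group
    _ = E * (g * F) * g' * (y * b) := by rw [k2]; group
    _ = E * F * g * g' * (y * b) := by rw [← k4]; group
    _ = E * F * (g * g' * b) * y := by rw [← k3]; group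

theorem abs_y0 {v u w : M} (t1 : v * u = u * v) (s3 : v * v = 1) : v * u * 1 * (v * w * 1) = u * w := by
  calc v * u * 1 * (v * w * 1) = v * (u * v) * w := by group
    _ = v * v * (u * w) := by rw [← t1]; group
    _ = _ := by rw [s3, one_mul]

theorem abs_y1 {v u w : M} (t1 : v * u = u * v) (t2 : v * w = w * v) (s1 : u * u = 1) (s2 : w * w = 1) (s3 : v * v = 1) :
    v * u * w * (v * w * u) = 1 := by
  calc v * u * w * (v * w * u) = v * u * w * (v * w) * u := by group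
    _ = v * u * (w * w) * v * u := by rw [t2]; group
    _ = v * (u * v) * u := by rw [s2]; group
    _ = v * v * (u * u) := by rw [← t1]; group
    _ = 1 := by rw [s1, s3, one_mul]

end Abs

variable {G : Type*} [Group G] {D : Dat G}

/-- the type of the commutator -/
def TyD (D : Dat G) (δ : Bool) : Prop := Ty D (fun u w => Sp.tr u * Sp.tr w * dl δ (u + w))

/-- `r = y_u y_{u+v} b_u` -/
def IsR (D : Dat G) (v u : Sp.V) (r : G) : Prop := ∃ g g', Y D u g ∧ Y D (u + v) g' ∧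
  (∀ a, Sp.om v a = 0 → Sp.om u a = 1 → D.φ (cc v a) * g = g' * D.φ (cc v a) ∧
    D.φ (cc v a) * g' = g * D.φ (cc v a)) ∧ r = g * g' * D.φ (Sp.tr u)

theorem exists_R {v u : Sp.V} (hv : v ≠ 0) (hu : u ≠ 0) (huv : u ≠ v) (h0 : Sp.om u v = 0) {g : G} (hg : Y D u g) :
    ∃ r, IsR D v u r := by
  obtain ⟨a, ha1, ha0⟩ := Sp.exists_om_one_zero hu huv
  have hact : ∀ b, Sp.om v b = 0 → Sp.om u b = 1 → Sp.act (cc v b) u = u + v ∧ Sp.act (cc v b) (u + v) = u := by
    intro b hb0 hb1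
    constructor
    · rw [act_cc_perp hb0 h0, hb1, one_smul]
    · rw [Sp.act_add, act_cc_perp hb0 h0, hb1, one_smul, act_cc_v hb0, add_assoc, Sp.add_self, add_zero]
  set s := cc v a with hs
  have hg' := hg.map s
  rw [(hact a ha0 ha1).1] at hg'
  refine ⟨_, g, D.φ s * g * (D.φ s)⁻¹, hg, hg', fun b hb0 hb1 => ?_, rfl⟩
  obtain ⟨k1, k2⟩ := hact b hb0 hb1
  obtain ⟨l1, l2⟩ := hact a ha0 ha1
  constructor
  · have h1 : Sp.act (s⁻¹ * cc v b) u = u := by
      rw [Sp.act_mul, k1, ← l1, ← Sp.act_mul, hs, inv_mul_cancel, Sp.act_one]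
    have h2 := hg.comm _ h1
    rw [map_mul, map_inv] at h2
    calc D.φ (cc v b) * g = D.φ s * ((D.φ s)⁻¹ * D.φ (cc v b) * g) := by group
      _ = D.φ s * g * (D.φ s)⁻¹ * D.φ (cc v b) := by rw [h2]; group
  · have h1 : Sp.act (cc v b * s) u = u := by
      rw [Sp.act_mul, l1, k2]
    have h2 := hg.comm _ h1
    rw [map_mul] at h2
    calc D.φ (cc v b) * (D.φ s * g * (D.φ s)⁻¹) = D.φ (cc v b) * D.φ s * g * (D.φ s)⁻¹ := by group
      _ = g * D.φ (cc v b) := by rw [h2]; group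

theorem IsR.map {v u : Sp.V} {r : G} (h : IsR D v u r) {s : Sp.S} (hv : Sp.act s v = v) :
    IsR D v (Sp.act s u) (D.φ s * r * (D.φ s)⁻¹) := by
  obtain ⟨g, g', hg, hg', hc, rfl⟩ := h
  refine ⟨D.φ s * g * (D.φ s)⁻¹, D.φ s * g' * (D.φ s)⁻¹, hg.map s, ?_, fun a h0 h1 => ?_, ?_⟩
  · have h1 := hg'.map s
    rwa [Sp.act_add, hv] at h1
  · have e0 : Sp.act s (Sp.act s⁻¹ a) = a := by rw [← Sp.act_mul, mul_inv_cancel, Sp.act_one]
    have hv' : Sp.act s⁻¹ v = v := by
      conv_lhs => rw [← hv]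
      rw [← Sp.act_mul, inv_mul_cancel, Sp.act_one]
    have a0 : Sp.om v (Sp.act s⁻¹ a) = 0 := by
      rw [← Sp.act_om s, hv, e0]; exact h0
    have a1 : Sp.om u (Sp.act s⁻¹ a) = 1 := by
      rw [← Sp.act_om s, e0]; exact h1
    obtain ⟨k1, k2⟩ := hc _ a0 a1
    have e1 : D.φ (cc v a) = D.φ s * D.φ (cc v (Sp.act s⁻¹ a)) * (D.φ s)⁻¹ := by
      rw [← map_mul, ← map_inv, ← map_mul, cc_conj s hv, e0]
    rw [e1]
    constructor
    · calc D.φ s * D.φ (cc v (Sp.act s⁻¹ a)) * (D.φ s)⁻¹ * (D.φ s * g * (D.φ s)⁻¹)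
          = D.φ s * (D.φ (cc v (Sp.act s⁻¹ a)) * g) * (D.φ s)⁻¹ := by group
        _ = _ := by rw [k1]; group
    · calc D.φ s * D.φ (cc v (Sp.act s⁻¹ a)) * (D.φ s)⁻¹ * (D.φ s * g' * (D.φ s)⁻¹)
          = D.φ s * (D.φ (cc v (Sp.act s⁻¹ a)) * g') * (D.φ s)⁻¹ := by group
        _ = _ := by rw [k2]; group
  · rw [← Sp.conj_tr, map_mul, map_mul, map_inv]
    group

/-- `r` commutes with the elements of `L` fixing `u` and `v` -/
theorem IsR.comm {v u : Sp.V} {r : G} (h : IsR D v u r) {s : Sp.S} (hv : Sp.act s v = v) (hu : Sp.act s u = u) :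
    D.φ s * r = r * D.φ s := by
  obtain ⟨g, g', hg, hg', -, rfl⟩ := h
  have e1 := hg.comm s hu
  have e2 := hg'.comm s (by rw [Sp.act_add, hu, hv])
  have e3 : D.φ s * D.φ (Sp.tr u) = D.φ (Sp.tr u) * D.φ s := by
    rw [← map_mul, ← map_mul, comm_iff.2 hu]
  calc D.φ s * (g * g' * D.φ (Sp.tr u)) = (D.φ s * g) * g' * D.φ (Sp.tr u) := by group
    _ = g * (D.φ s * g') * D.φ (Sp.tr u) := by rw [e1]; group
    _ = g * g' * (D.φ s * D.φ (Sp.tr u)) := by rw [e2]; group
    _ = _ := by rw [e3]; group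

section
variable {v u : Sp.V} (huv : Sp.om u v = 0)
include huv

theorem uv' : Sp.om u (u + v) = 0 := by rw [Sp.om_add, Sp.om_self, huv, add_zero]

theorem uv'' : Sp.om (u + v) u = 0 := by rw [Sp.om_symm]; exact uv' huv

/-- `r t = t r c_u` -/
theorem IsR.t {r : G} (h : IsR D v u r) : r * D.t = D.t * r * D.φ (cc v u) := by
  obtain ⟨g, g', hg, hg', -, rfl⟩ := h
  have e1 : D.φ (Sp.tr u) * D.t = D.t * D.φ (Sp.tr u) := D.comm _
  have g1 : g * D.t = D.t * D.φ (Sp.tr u) * g := by rw [← hg.conj, mul_assoc, hg.sq, mul_one]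
  have g2 : g' * D.t = D.t * D.φ (Sp.tr (u + v)) * g' := by rw [← hg'.conj, mul_assoc, hg'.sq, mul_one]
  have k1 : D.φ (Sp.tr (u + v)) * g = g * D.φ (Sp.tr (u + v)) := hg.comm' (uv' huv)
  have k2 : D.φ (Sp.tr (u + v)) * g' = g' * D.φ (Sp.tr (u + v)) := hg'.comm' (Sp.om_self _)
  have k3 : D.φ (Sp.tr u) * g = g * D.φ (Sp.tr u) := hg.comm' (Sp.om_self _)
  have k4 : D.φ (Sp.tr u) * g' = g' * D.φ (Sp.tr u) := hg'.comm' (uv'' huv)
  have k5 : D.φ (Sp.tr u) * D.φ (Sp.tr (u + v)) = D.φ (Sp.tr (u + v)) * D.φ (Sp.tr u) := by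
    rw [← map_mul, ← map_mul, Sp.tr_comm (uv' huv)]
  rw [cc, map_mul]
  exact abs_t e1 g1 g2 k1 k2 k3 k4 k5

omit huv in
theorem E_sq (δ : Bool) (huv : Sp.om u v = 0) :
    Sp.tr u * Sp.tr (u + v) * dl δ v * (Sp.tr u * Sp.tr (u + v) * dl δ v) = 1 := by
  have hvu : Sp.om (u + v) v = 0 := by rw [Sp.om_add', huv, Sp.om_self, add_zero]
  exact abs_E (tr_dl δ huv) (tr_dl δ hvu) (Sp.tr_comm (uv' huv)) (Sp.tr_sq u) (Sp.tr_sq (u + v)) (dl_sq δ v)

variable {δ : Bool} (hT : TyD D δ)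
include hT

/-- `r² = c_u` up to `b_v` -/
theorem IsR.sq (hu : u ≠ 0) (hne : u ≠ v) (hv : v ≠ 0) {r : G} (h : IsR D v u r) :
    r * r = D.φ (cc v u) * D.φ (dl δ v) := by
  obtain ⟨g, g', hg, hg', -, rfl⟩ := h
  have huv0 : u + v ≠ 0 := fun h => hne (Invol.eq_of_add_eq_zero h)
  have huvu : u + v ≠ u := fun h => hv (add_eq_left.1 h)
  have h1 := hT u (u + v) g g' hu huv0 huvu (uv' huv) hg hg'
  have e0 : u + (u + v) = v := by rw [← add_assoc, Sp.add_self, zero_add]
  simp only [e0] at h1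
  have k3 : D.φ (Sp.tr u) * g = g * D.φ (Sp.tr u) := hg.comm' (Sp.om_self _)
  have k4 : D.φ (Sp.tr u) * g' = g' * D.φ (Sp.tr u) := hg'.comm' (uv'' huv)
  have k6 : D.φ (Sp.tr u) * D.φ (Sp.tr u) = 1 := φ_tr_sq u
  rw [cc, ← map_mul, ← h1]
  exact abs_sq k3 k4 k6

/-- `c_a` commutes with `r` up to `b_v` -/
theorem IsR.cc (hu : u ≠ 0) (hne : u ≠ v) (hv : v ≠ 0) {r : G} (h : IsR D v u r) {a : Sp.V} (ha : Sp.om v a = 0) :
    D.φ (cc v a) * r = r * D.φ (cc v a) ∨ D.φ (cc v a) * r = r * D.φ (dl δ v) * D.φ (cc v a) := by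
  rcases Sp.om_cases u a with h1 | h1
  · left
    refine h.comm (act_cc_v ha) ?_
    rw [act_cc_perp ha huv, h1, zero_smul, add_zero]
  right
  obtain ⟨g, g', hg, hg', hc, rfl⟩ := h
  obtain ⟨c1, c2⟩ := hc a ha h1
  have huv0 : u + v ≠ 0 := fun h => hne (Invol.eq_of_add_eq_zero h)
  have huvu : u + v ≠ u := fun h => hv (add_eq_left.1 h)
  have h2 := hT u (u + v) g g' hu huv0 huvu (uv' huv) hg hg'
  have e0 : u + (u + v) = v := by rw [← add_assoc, Sp.add_self, zero_add]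
  simp only [e0] at h2
  have hvu : Sp.om (u + v) v = 0 := by rw [Sp.om_add', huv, Sp.om_self, add_zero]
  have hEE : D.φ (Sp.tr u * Sp.tr (u + v) * dl δ v) * D.φ (Sp.tr u * Sp.tr (u + v) * dl δ v) = 1 := by
    rw [← map_mul, E_sq δ huv, map_one]
  have h3 := abs_inv hg.sq hg'.sq hEE h2
  have h5 : D.φ (Sw.cc v a) * D.φ (Sp.tr u) = D.φ (Sp.tr (u + v)) * D.φ (Sw.cc v a) := by
    have h6 := Sp.conj_tr (Sw.cc v a) u
    rw [act_cc_perp ha huv, h1, one_smul] at h6
    rw [← map_mul, ← map_mul, ← h6, inv_mul_cancel_right]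
  have kE : D.φ (Sp.tr u * Sp.tr (u + v) * dl δ v) * (g * g') = g * g' * D.φ (Sp.tr u * Sp.tr (u + v) * dl δ v) := by
    have k1 : Sp.act (Sp.tr u * Sp.tr (u + v) * dl δ v) u = u := by
      rw [Sp.act_mul, act_dl δ huv, Sp.act_mul, Sp.act_tr (u + v), uv' huv, zero_smul, add_zero, Sp.act_tr, Sp.om_self,
        zero_smul, add_zero]
    have k2 : Sp.act (Sp.tr u * Sp.tr (u + v) * dl δ v) (u + v) = u + v := by
      rw [Sp.act_mul, act_dl δ hvu, Sp.act_mul, Sp.act_tr (u + v), Sp.om_self, zero_smul, add_zero, Sp.act_tr, uv'' huv,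
        zero_smul, add_zero]
    have k3 := hg.comm _ k1
    have k4 := hg'.comm _ k2
    rw [← mul_assoc, k3, mul_assoc, k4, ← mul_assoc]
  have k7 : Sp.tr u * Sp.tr (u + v) * dl δ v * Sp.tr (u + v) = Sp.tr u * dl δ v := by
    rw [mul_assoc, mul_assoc, ← tr_dl δ hvu, ← mul_assoc (Sp.tr (u + v)), Sp.tr_sq, one_mul]
  refine abs_cc c1 c2 h3 h5 kE ?_
  rw [← map_mul, k7, map_mul]

/-- `y_v` and `r` -/
theorem IsR.y (hu : u ≠ 0) (hne : u ≠ v) (hv : v ≠ 0) {r : G} (h : IsR D v u r) {y : G} (hy : Y D v y) :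
    y * r = (if δ then 1 else D.φ (Sw.cc v u)) * r * y := by
  obtain ⟨g, g', hg, hg', -, rfl⟩ := h
  have hvu : Sp.om v u = 0 := by rw [Sp.om_symm]; exact huv
  have hvuv : Sp.om v (u + v) = 0 := by rw [Sp.om_add, hvu, Sp.om_self, add_zero]
  have huv0 : u + v ≠ 0 := fun h => hne (Invol.eq_of_add_eq_zero h)
  have huvv : u + v ≠ v := fun h => hu (add_eq_right.1 h)
  have h1 := hT v u y g hv hu hne hvu hy hg
  have h2 := hT v (u + v) y g' hv huv0 huvv hvuv hy hg'
  have e0 : v + (u + v) = u := by rw [add_comm u v, ← add_assoc, Sp.add_self, zero_add]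
  have e1 : v + u = u + v := add_comm v u
  simp only [e0] at h2
  simp only [e1] at h1
  have k1 := abs_comm hy.sq hg.sq h1
  have k2 := abs_comm hy.sq hg'.sq h2
  have k3 : D.φ (Sp.tr u) * y = y * D.φ (Sp.tr u) := hy.comm' hvu
  have k4 : D.φ (Sp.tr v * Sp.tr (u + v) * dl δ u) * g = g * D.φ (Sp.tr v * Sp.tr (u + v) * dl δ u) := by
    apply hg.comm
    rw [Sp.act_mul, act_dl δ (Sp.om_self u), Sp.act_mul, Sp.act_tr (u + v), uv' huv, zero_smul, add_zero, Sp.act_tr, huv,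
      zero_smul, add_zero]
  have k5 : Sp.tr v * Sp.tr u * dl δ (u + v) * (Sp.tr v * Sp.tr (u + v) * dl δ u) =
      if δ then 1 else Sw.cc v u := by
    have t1 : Sp.tr v * Sp.tr u = Sp.tr u * Sp.tr v := Sp.tr_comm hvu
    have t2 : Sp.tr v * Sp.tr (u + v) = Sp.tr (u + v) * Sp.tr v := Sp.tr_comm hvuv
    have t3 : Sp.tr u * Sp.tr (u + v) = Sp.tr (u + v) * Sp.tr u := Sp.tr_comm (uv' huv)
    have s1 := Sp.tr_sq u
    have s2 := Sp.tr_sq (u + v)
    have s3 := Sp.tr_sq v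
    cases δ
    · exact abs_y0 t1 s3
    · exact abs_y1 t1 t2 s1 s2 s3
  have k6 : (if δ then 1 else D.φ (Sw.cc v u)) = D.φ (if δ then 1 else Sw.cc v u) := by
    cases δ
    · rfl
    · exact (map_one D.φ).symm
  rw [k6, ← k5, map_mul]
  exact abs_y k1 k2 k3 k4

end

end Cfsg.Agent.StdSpSix.Sw
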