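import Mathlib
import Cfsg.Agent.StdSpSix.TR

/-!
# (TR) in class form

`G` finite, `t` an involution, `l : H →* ℤˣ`.  The transfer of `l` at `t` is `(-1) ^ n`, `n` the number of
`H`-classes of conjugates `x` of `t` in `H` with `l x = -1` and `|C_G(x) : C_H(x)|` odd (helper930's TR-ext).
-/

set_option autoImplicit false

namespace Cfsg.Agent.StdSpSix.TRClass

open Subgroup TR

variable {G : Type*} [Group G] {H : Subgroup G} [Finite G]

/-- `x` is a conjugate of `t` in `H` with sign `-1` and `|C_G(x) : C_H(x)|` odd. -/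
def Ext (l : H →* ℤˣ) (t x : G) : Prop :=
  (∃ g : G, x = g⁻¹ * t * g) ∧ (∃ h : x ∈ H, l ⟨x, h⟩ = -1) ∧ Odd (H.relIndex (centralizer ({x} : Set G)))

/-- (TR), class form: `d` a system of representatives for the `H`-classes of the elements `x` with `Ext l t x`. -/
theorem exists_hom_of_reps (l : H →* ℤˣ) {t : G} (ht : t * t = 1) {ι : Type*} [Fintype ι] (d : ι → G)
    (hd : ∀ i, Ext l t (d i))
    (hinj : ∀ i j, ∀ k ∈ H, d i = k * d j * k⁻¹ → i = j)
    (hcov : ∀ x, Ext l t x → ∃ i, ∃ k ∈ H, x = k * d i * k⁻¹)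
    (hodd : Odd (Fintype.card ι)) : ∃ m : G →* ℤˣ, m t = -1 := by
  classical
  apply exists_hom_of_odd l ht
  set C : Subgroup G := centralizer ({t} : Set G) with hC
  have hmem : ∀ g, g ∈ C ↔ g * t = t * g := fun g => mem_centralizer_singleton_iff
  let act : MulAction C {q : G ⧸ H // Bad l t q} :=
    { smul := fun x q => ⟨(x : G) • (q : G ⧸ H), q.2.smul ((hmem x).1 x.2)⟩
      one_smul := fun q => Subtype.ext (one_smul G (q : G ⧸ H))
      mul_smul := fun x y q => Subtype.ext (mul_smul (x : G) (y : G) (q : G ⧸ H)) }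
  have hsmul : ∀ (x : C) (q : {q : G ⧸ H // Bad l t q}), ((x • q : {q : G ⧸ H // Bad l t q}) : G ⧸ H) =
      (x : G) • (q : G ⧸ H) := fun _ _ => rfl
  -- the stabilizer of a coset
  have hstab : ∀ (g : G) (h : Bad l t (g : G ⧸ H)),
      Nat.card (MulAction.orbit C (⟨(g : G ⧸ H), h⟩ : {q : G ⧸ H // Bad l t q})) =
        H.relIndex (centralizer ({g⁻¹ * t * g} : Set G)) := by
    intro g h
    rw [Nat.card_congr (MulAction.orbitEquivQuotientStabilizer C
      (⟨(g : G ⧸ H), h⟩ : {q : G ⧸ H // Bad l t q}))]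
    change (MulAction.stabilizer C (⟨(g : G ⧸ H), h⟩ : {q : G ⧸ H // Bad l t q})).index = _
    have h1 : MulAction.stabilizer C (⟨(g : G ⧸ H), h⟩ : {q : G ⧸ H // Bad l t q}) =
        (H.map (MulAut.conj g).toMonoidHom).subgroupOf C := by
      ext x
      rw [MulAction.mem_stabilizer_iff, mem_subgroupOf, Subtype.ext_iff, hsmul, MulAction.Quotient.smul_mk,
        smul_eq_mul, eq_comm, QuotientGroup.eq]
      constructor
      · intro hx
        exact ⟨_, hx, by simp [mul_assoc]⟩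
      · rintro ⟨y, hy, hyx⟩
        have : g⁻¹ * ((x : G) * g) = y := by
          rw [← hyx]; simp [mul_assoc]
        rw [this]; exact hy
    rw [h1]
    change (H.map (MulAut.conj g).toMonoidHom).relIndex C = _
    have h2 : C = (centralizer ({g⁻¹ * t * g} : Set G)).map (MulAut.conj g).toMonoidHom := by
      ext x
      rw [hmem]
      constructor
      · intro hx
        refine ⟨g⁻¹ * x * g, ?_, by simp [mul_assoc]⟩
        change g⁻¹ * x * g ∈ centralizer ({g⁻¹ * t * g} : Set G)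
        rw [mem_centralizer_singleton_iff]
        calc g⁻¹ * x * g * (g⁻¹ * t * g) = g⁻¹ * (x * t) * g := by group
          _ = g⁻¹ * (t * x) * g := by rw [hx]
          _ = g⁻¹ * t * g * (g⁻¹ * x * g) := by group
      · rintro ⟨y, hy, rfl⟩
        have hy' : y * (g⁻¹ * t * g) = g⁻¹ * t * g * y := mem_centralizer_singleton_iff.1 hy
        change g * y * g⁻¹ * t = t * (g * y * g⁻¹)
        calc g * y * g⁻¹ * t = g * (y * (g⁻¹ * t * g)) * g⁻¹ := by group
          _ = g * (g⁻¹ * t * g * y) * g⁻¹ := by rw [hy']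
          _ = t * (g * y * g⁻¹) := by group
    rw [h2]
    exact relIndex_map_map_of_injective _ _ (MulAut.conj g).injective
  -- bad cosets and their conjugates
  have hbad : ∀ g : G, Bad l t (g : G ⧸ H) ↔ ∃ h : g⁻¹ * t * g ∈ H, l ⟨g⁻¹ * t * g, h⟩ = -1 := by
    intro g
    constructor
    · rintro ⟨g', hg', h, hl⟩
      rw [QuotientGroup.eq] at hg'
      have h1 : g⁻¹ * t * g = (g'⁻¹ * g)⁻¹ * (g'⁻¹ * t * g') * (g'⁻¹ * g) := by group
      have h2 : (g'⁻¹ * g)⁻¹ * (g'⁻¹ * t * g') * (g'⁻¹ * g) ∈ H := mul_mem (mul_mem (inv_mem hg') h) hg'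
      refine ⟨h1 ▸ h2, ?_⟩
      have h3 : (⟨g⁻¹ * t * g, h1 ▸ h2⟩ : H) = (⟨_, hg'⟩ : H)⁻¹ * ⟨_, h⟩ * ⟨_, hg'⟩ := Subtype.ext h1
      rw [h3, map_mul, map_mul, hl, map_inv, mul_comm, ← mul_assoc, mul_inv_cancel, one_mul]
    · rintro ⟨h, hl⟩
      exact ⟨g, rfl, h, hl⟩
  let _ := Fintype.ofFinite (MulAction.orbitRel.Quotient C {q : G ⧸ H // Bad l t q})
  have hcard : Nat.card {q : G ⧸ H // Bad l t q} =
      ∑ ω : MulAction.orbitRel.Quotient C {q : G ⧸ H // Bad l t q}, Nat.card ω.orbit := by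
    rw [Nat.card_congr (MulAction.selfEquivSigmaOrbits' C {q : G ⧸ H // Bad l t q}), Nat.card_sigma]
  rw [hcard, Finset.odd_sum_iff_odd_card_odd]
  have hex : ∀ i, ∃ g : G, d i = g⁻¹ * t * g := fun i => (hd i).1
  choose g hg using hex
  have hgb : ∀ i, Bad l t (g i : G ⧸ H) := by
    intro i
    rw [hbad]
    obtain ⟨-, ⟨h, hl⟩, -⟩ := hd i
    refine ⟨by rw [← hg i]; exact h, ?_⟩
    rw [← hl]
    congr 1
    exact Subtype.ext (hg i).symm
  let F : ι → MulAction.orbitRel.Quotient C {q : G ⧸ H // Bad l t q} := fun i =>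
    Quotient.mk'' ⟨(g i : G ⧸ H), hgb i⟩
  have hF : (Finset.univ.filter (fun ω : MulAction.orbitRel.Quotient C {q : G ⧸ H // Bad l t q} =>
      Odd (Nat.card ω.orbit))).card = Fintype.card ι := by
    symm
    rw [← Finset.card_univ]
    refine Finset.card_bij (fun i _ => F i) ?_ ?_ ?_
    · intro i _
      rw [Finset.mem_filter]
      refine ⟨Finset.mem_univ _, ?_⟩
      have h1 : (F i).orbit = MulAction.orbit C (⟨(g i : G ⧸ H), hgb i⟩ : {q : G ⧸ H // Bad l t q}) :=
        MulAction.orbitRel.Quotient.orbit_mk _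
      rw [h1, hstab, ← hg i]
      exact (hd i).2.2
    · intro i _ j _ hij
      have h1 : MulAction.orbitRel C {q : G ⧸ H // Bad l t q} ⟨(g i : G ⧸ H), hgb i⟩
          ⟨(g j : G ⧸ H), hgb j⟩ := Quotient.exact hij
      rw [MulAction.orbitRel_apply, MulAction.mem_orbit_iff] at h1
      obtain ⟨c, hc⟩ := h1
      have h2 : (c : G) • (g j : G ⧸ H) = (g i : G ⧸ H) := congrArg Subtype.val hc
      rw [MulAction.Quotient.smul_mk, smul_eq_mul, QuotientGroup.eq] at h2
      refine hinj i j ((c * g j)⁻¹ * g i)⁻¹ (inv_mem h2) ?_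
      rw [hg i, hg j]
      have h3 := (hmem c).1 c.2
      calc (g i)⁻¹ * t * g i = (g i)⁻¹ * (t * c) * (c : G)⁻¹ * g i := by group
        _ = (g i)⁻¹ * (c * t) * (c : G)⁻¹ * g i := by rw [h3]
        _ = ((c * g j)⁻¹ * g i)⁻¹ * ((g j)⁻¹ * t * g j) * ((c * g j)⁻¹ * g i)⁻¹⁻¹ := by group
    · intro ω hω
      rw [Finset.mem_filter] at hω
      obtain ⟨⟨q, hq⟩, rfl⟩ := Quotient.exists_rep ω
      obtain ⟨x, rfl⟩ := QuotientGroup.mk_surjective q
      have h1 : MulAction.orbitRel.Quotient.orbit (Quotient.mk (MulAction.orbitRel C {q : G ⧸ H // Bad l t q})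
          ⟨(x : G ⧸ H), hq⟩ : MulAction.orbitRel.Quotient C {q : G ⧸ H // Bad l t q}) =
            MulAction.orbit C (⟨(x : G ⧸ H), hq⟩ : {q : G ⧸ H // Bad l t q}) :=
        MulAction.orbitRel.Quotient.orbit_mk _
      have h2 := hω.2
      rw [h1, hstab] at h2
      obtain ⟨i, k, hk, hik⟩ := hcov (x⁻¹ * t * x) ⟨⟨x, rfl⟩, (hbad x).1 hq, h2⟩
      refine ⟨i, Finset.mem_univ _, ?_⟩
      apply Quotient.sound
      change MulAction.orbitRel C {q : G ⧸ H // Bad l t q} _ _
      rw [MulAction.orbitRel_apply, MulAction.mem_orbit_iff]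
      have hc : g i * k⁻¹ * x⁻¹ ∈ C := by
        rw [hmem]
        have h3 : t = x * (k * ((g i)⁻¹ * t * g i) * k⁻¹) * x⁻¹ := by rw [← hg i, ← hik]; group
        calc g i * k⁻¹ * x⁻¹ * t = g i * k⁻¹ * x⁻¹ * (x * (k * ((g i)⁻¹ * t * g i) * k⁻¹) * x⁻¹) := by
              rw [← h3]
          _ = t * (g i * k⁻¹ * x⁻¹) := by group
      refine ⟨⟨_, hc⟩, Subtype.ext ?_⟩
      change (g i * k⁻¹ * x⁻¹) • (x : G ⧸ H) = (g i : G ⧸ H)
      rw [MulAction.Quotient.smul_mk, smul_eq_mul, QuotientGroup.eq]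
      have : (g i * k⁻¹ * x⁻¹ * x)⁻¹ * g i = k := by group
      rw [this]; exact hk
  rw [hF]
  exact hodd

/-- For a 2-group `H` and a Sylow 2-subgroup `T` of `C_G(t)`: `|C_G(x) : C_H(x)|` is odd iff `|C_H(x)| = |T|`. -/
theorem odd_relIndex_iff {t : G} (hH : IsPGroup 2 H) {T : Subgroup G} (hT : IsPGroup 2 T)
    (hTt : T ≤ centralizer ({t} : Set G)) (hodd : Odd (T.relIndex (centralizer ({t} : Set G)))) (x g : G)
    (hx : x = g⁻¹ * t * g) :
    Odd (H.relIndex (centralizer ({x} : Set G))) ↔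
      Nat.card ↥(H ⊓ centralizer ({x} : Set G)) = Nat.card T := by
  have hcard : Nat.card (centralizer ({x} : Set G)) = Nat.card (centralizer ({t} : Set G)) := by
    have h1 : (centralizer ({x} : Set G)).map (MulAut.conj g).toMonoidHom = centralizer ({t} : Set G) := by
      ext y
      rw [mem_centralizer_singleton_iff]
      constructor
      · rintro ⟨z, hz, rfl⟩
        have hz' : z * x = x * z := mem_centralizer_singleton_iff.1 hz
        have ht : t = g * x * g⁻¹ := by rw [hx]; group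
        change g * z * g⁻¹ * t = t * (g * z * g⁻¹)
        rw [ht]
        calc g * z * g⁻¹ * (g * x * g⁻¹) = g * (z * x) * g⁻¹ := by group
          _ = g * (x * z) * g⁻¹ := by rw [hz']
          _ = g * x * g⁻¹ * (g * z * g⁻¹) := by group
      · intro hy
        refine ⟨g⁻¹ * y * g, ?_, by simp [mul_assoc]⟩
        change g⁻¹ * y * g ∈ centralizer ({x} : Set G)
        rw [mem_centralizer_singleton_iff, hx]
        calc g⁻¹ * y * g * (g⁻¹ * t * g) = g⁻¹ * (y * t) * g := by group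
          _ = g⁻¹ * (t * y) * g := by rw [hy]
          _ = g⁻¹ * t * g * (g⁻¹ * y * g) := by group
    rw [← h1, card_map_of_injective (MulAut.conj g).injective]
  have key : ∀ A B : Subgroup G, A ≤ B → Nat.card A * A.relIndex B = Nat.card B := by
    intro A B hAB
    have := (A.subgroupOf B).card_mul_index
    rwa [Nat.card_congr (subgroupOfEquivOfLe hAB).toEquiv] at this
  have h1 := key _ _ hTt
  have h2 : Nat.card ↥(H ⊓ centralizer ({x} : Set G)) * H.relIndex (centralizer ({x} : Set G)) =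
      Nat.card (centralizer ({x} : Set G)) := by
    have := key (H ⊓ centralizer ({x} : Set G)) _ inf_le_right
    rwa [inf_relIndex_right] at this
  have h3 : Nat.card T * T.relIndex (centralizer ({t} : Set G)) =
      Nat.card (centralizer ({t} : Set G)) := h1
  rw [hcard, ← h3] at h2
  obtain ⟨a, ha⟩ := hT.exists_card_eq
  obtain ⟨b, hb⟩ := (hH.to_le (inf_le_left : H ⊓ centralizer ({x} : Set G) ≤ H)).exists_card_eq
  rw [ha, hb] at h2 ⊢
  constructor
  · intro h4
    congr 1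
    have h5 : ∀ {a b m n : ℕ}, Odd m → 2 ^ b * m = 2 ^ a * n → a ≤ b := by
      intro a b m n hm h
      have h6 : 2 ^ a ∣ 2 ^ b * m := Dvd.intro _ h.symm
      have h7 : Nat.Coprime (2 ^ a) m := Nat.Coprime.pow_left _ (Nat.coprime_two_left.2 hm)
      have h8 := h7.dvd_of_dvd_mul_right h6
      exact (Nat.pow_dvd_pow_iff_le_right (by norm_num)).1 h8
    exact le_antisymm (h5 hodd h2.symm) (h5 h4 h2)
  · intro h4
    rw [h4] at h2
    have h5 := Nat.eq_of_mul_eq_mul_left (by positivity) h2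
    rw [h5]; exact hodd

end Cfsg.Agent.StdSpSix.TRClass
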